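import Cfsg.Agent.Lib.J2.GroupChecks

/-! Kernel computations for the group. -/

namespace Cfsg.Agent.J2

open Cfsg.Agent.PermCert

theorem cert_ok : checkCert 7 100 j2Gens j2Derived j2Levels = true := by decide +kernel

theorem cert_order : certOrder j2Levels = 604800 := by decide +kernel

end Cfsg.Agent.J2
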