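import Cfsg.Agent.Lib.J2.SpecCase0
import Cfsg.Agent.Lib.J2.SpecCase1
import Cfsg.Agent.Lib.J2.SpecCase2
import Cfsg.Agent.Lib.J2.SpecH
import Cfsg.Agent.Lib.J2.SpecH1
import Cfsg.Agent.Lib.J2.CertChain

/-! The point stabiliser of J₂ on 100 points and the element orders of J₂. -/

set_option autoImplicit false
set_option maxRecDepth 8000

namespace Cfsg.Agent.J2

open Cfsg.Agent.PermCert

/-- The stabiliser of the point 0. -/
abbrev H100 : Subgroup (Equiv.Perm (Fin 100)) := genGroup 7 100 hGens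

/-- The permutation group on 100 points, as data. -/
abbrev P100 : Subgroup (Equiv.Perm (Fin 100)) := genGroup 7 100 j2Gens

theorem card_H100 : Nat.card H100 = 6048 := by rw [cert_card h_cert, h_order]

theorem j2Levels_cons : j2Levels = j2Level0 :: hLevels := rfl

theorem mem_H100 (x : Equiv.Perm (Fin 100)) : x ∈ H100 ↔ x ∈ P100 ∧ x 0 = 0 := by
  obtain ⟨hg, -⟩ := cert_good cert_ok
  rw [cert_prodSet h_cert, cert_prodSet cert_ok]
  rw [j2Levels_cons] at hg ⊢
  constructor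
  · intro h
    exact ⟨tail_sub hg h, fix_of_mem_prodSet hg h⟩
  · rintro ⟨h, h0⟩
    exact mem_tail hg h h0

theorem eq_one_of_base {x : Equiv.Perm (Fin 100)} (hx : x ∈ P100)
    (h : ∀ b ∈ j2Base, ((x (Fin.ofNat 100 b) : Fin 100) : ℕ) = b) : x = 1 := by
  obtain ⟨hg, -⟩ := cert_good cert_ok
  refine eq_one_of_fix hg ((cert_prodSet cert_ok x).1 hx) fun l hl => ?_
  simp only [j2Levels, interp, List.mem_cons, List.not_mem_nil, or_false] at hl
  have hb : ∀ b ∈ j2Base, x (Fin.ofNat 100 b) = Fin.ofNat 100 b := fun b hb' => Fin.ext (by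
    rw [h b hb', Fin.val_ofNat, Nat.mod_eq_of_lt]
    simp [j2Base] at hb'
    omega)
  rcases hl with rfl | rfl | rfl | rfl
  · exact hb 0 (by simp [j2Base])
  · exact hb 5 (by simp [j2Base])
  · exact hb 1 (by simp [j2Base])
  · exact hb 2 (by simp [j2Base])

/-- The claim about one element. -/
def GoodElt (g : Equiv.Perm (Fin 100)) : Prop := ∃ m ∈ j2Orders, g ^ m = 1

theorem goodElt_conj {g σ : Equiv.Perm (Fin 100)} (h : GoodElt (σ⁻¹ * g * σ)) : GoodElt g := by
  obtain ⟨m, hm, e⟩ := h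
  refine ⟨m, hm, ?_⟩
  have e' : (σ⁻¹ * g * σ⁻¹⁻¹) ^ m = 1 := by rw [inv_inv]; exact e
  rw [conj_pow, mul_inv_eq_one, mul_eq_left] at e'
  exact e'

theorem iterCodes_pow {g : Equiv.Perm (Fin 100)} {cs : List ℕ}
    (h : ∀ i : Fin 100, applyCodes 7 cs i = (g i : ℕ)) :
    ∀ (m : ℕ) (i : Fin 100), iterCodes 7 cs m i = ((g ^ m) i : ℕ) := by
  intro m
  induction m with
  | zero => intro i; rfl
  | succ m ih =>
    intro i
    rw [iterCodes, h, ih, pow_succ, Equiv.Perm.mul_apply]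

theorem rowOK_spec (pre : List ℕ) : ∀ (css : List (List ℕ)) (ms : List ℕ), rowOK pre css ms = true →
    ∀ cs ∈ css, ∃ m ∈ j2Orders, ∀ b ∈ j2Base, iterCodes 7 (pre ++ cs) m b = b := by
  intro css
  induction css with
  | nil => intro _ _ cs h; simp at h
  | cons c css ih =>
    intro ms h cs hcs
    cases ms with
    | nil => simp [rowOK] at h
    | cons m ms =>
      simp only [rowOK, Bool.and_eq_true, List.any_eq_true, List.all_eq_true, Nat.beq_eq] at h
      obtain ⟨⟨⟨x, hx, rfl⟩, hb⟩, hrest⟩ := h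
      rcases List.mem_cons.1 hcs with rfl | hcs
      · exact ⟨x, hx, hb⟩
      · exact ih ms hrest cs hcs

theorem rep_exists {gens : List Elt} {derived : List (Elt × List ℕ)} {levels : List CLevel}
    (h : checkCert 7 100 gens derived levels = true) {b : ℕ} {S : List Elt}
    {T : List (ℕ × Elt × ℕ × ℕ)} {L : List CLevel} (e : levels = (b, S, T) :: L) :
    ∀ t ∈ T, ∃ σ : Equiv.Perm (Fin 100), Rep 7 t.2.1 σ ∧ σ ∈ genGroup 7 100 gens ∧
      ((σ (Fin.ofNat 100 b) : Fin 100) : ℕ) = t.1 := by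
  intro t ht
  obtain ⟨hg, -⟩ := cert_good h
  have ha := cert_allRep h
  subst e
  have h' := h
  simp only [checkCert, Bool.and_eq_true, List.all_eq_true] at h'
  obtain ⟨σ, hσ⟩ := ha.2.1 t ht
  have hmem : σ ∈ prodSet (interp 7 100 ((b, S, T) :: L)) := by
    refine ⟨σ, List.mem_map.2 ⟨t, ht, epsilon_rep hσ⟩, 1, ?_, mul_one σ⟩
    rw [prodSet_eq _ hg.1]
    exact one_mem _
  refine ⟨σ, hσ, (cert_prodSet h σ).2 hmem, ?_⟩
  rw [← (hσ _).1]
  have hl : checkLevels 7 100 ((b, S, T) :: L) = true := h'.1.2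
  cases T with
  | nil => simp at ht
  | cons t0 T' =>
    obtain ⟨x, e, i0, j0⟩ := t0
    simp only [checkLevels, Bool.and_eq_true, Nat.beq_eq, Nat.blt_eq] at hl
    obtain ⟨⟨⟨⟨⟨-, hb⟩, ⟨⟨⟨he1, he2⟩, hx⟩, htree⟩⟩, -⟩, htopL⟩, -⟩ := hl
    simp only [Fin.val_ofNat, Nat.mod_eq_of_lt hb]
    rcases List.mem_cons.1 ht with h0 | h0
    · subst h0
      show get 7 e.1 b = x
      rw [he1, get_idCode 7 100 b (by norm_num) hb, hx]
    · have hS : ∀ s ∈ S, ∃ σ ∈ (⊤ : Submonoid (Equiv.Perm (Fin 100))), Rep 7 s σ :=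
        fun s hs => let ⟨τ, hτ⟩ := ha.1 s hs; ⟨τ, trivial, hτ⟩
      refine (tree_spec (by norm_num) hS T' [e] (fun y hy => ?_) htree t h0).2
      rw [List.mem_singleton.1 hy]
      obtain ⟨τ, hτ⟩ := ha.2.1 (x, e, i0, j0) List.mem_cons_self
      exact ⟨τ, trivial, hτ⟩

theorem case_spec {p q : ℕ} {L : List CLevel} {gens : List Elt} {derived : List (Elt × List ℕ)}
    {tree : List (ℕ × ℕ × ℕ)} {roots : List (ℕ × ℕ × List ℕ)}
    (hL : checkCert 7 100 gens derived L = true) (hH : genGroup 7 100 gens = H100)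
    (h : caseOK p q L tree roots = true) :
    ∀ g ∈ P100, ((g 0 : Fin 100) : ℕ) = p → GoodElt g := by
  unfold caseOK at h
  split at h
  case h_2 => exact absurd h (by simp)
  rename_i ct b S T L' hct
  simp only [Bool.and_eq_true, Nat.beq_eq, Nat.blt_eq, List.all_eq_true, List.any_eq_true] at h
  obtain ⟨⟨⟨⟨⟨⟨hbq, hp⟩, hq⟩, hfix⟩, htree⟩, hcover⟩, hroots⟩ := h
  subst hbq
  have hctm := List.mem_of_find?_eq_some hct
  have hctp : ct.1 = p := Nat.eq_of_beq_eq_true (List.find?_some hct :)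
  obtain ⟨c, hc, hcP, hc0⟩ := rep_exists cert_ok (b := 0) (S := j2Level0.2.1) (L := hLevels)
    (show j2Levels = (0, j2Level0.2.1, j2Level0.2.2) :: hLevels from rfl) ct hctm
  have ha := cert_allRep hL
  obtain ⟨hgood, -⟩ := cert_good hL
  have hc0' : ((c 0 : Fin 100) : ℕ) = p := hc0.trans hctp
  have htail : ∀ x ∈ prodSet (interp 7 100 L'), x ∈ H100 := fun x hx => by
    rw [← hH]; exact (cert_prodSet hL x).2 (tail_sub hgood hx)
  have hdec : ∀ g ∈ P100, ((g 0 : Fin 100) : ℕ) = p → ∃ t ∈ T, ∃ τ : Equiv.Perm (Fin 100),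
      Rep 7 t.2.1 τ ∧ ∃ k ∈ prodSet (interp 7 100 L'), g = c * (τ * k) ∧
        ((g (Fin.ofNat 100 b) : Fin 100) : ℕ) = get 7 ct.2.1.1 t.1 := by
    intro g hg hg0
    have hcg : c⁻¹ * g ∈ H100 := by
      refine (mem_H100 _).2 ⟨mul_mem (inv_mem hcP) hg, ?_⟩
      rw [Equiv.Perm.mul_apply, Fin.ext (hg0.trans hc0'.symm) (a := g 0) (b := c 0)]
      exact c.symm_apply_apply 0
    rw [← hH] at hcg
    obtain ⟨τ, hτ, k, hk, e, hb⟩ := split_mem hgood ((cert_prodSet hL _).1 hcg)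
    obtain ⟨t, ht, rfl⟩ := List.mem_map.1 hτ
    obtain ⟨σ, hσ, -, hσb⟩ := rep_exists hL rfl t ht
    rw [epsilon_rep hσ] at e hb
    refine ⟨t, ht, σ, hσ, k, hk, by rw [e, mul_inv_cancel_left], ?_⟩
    have hgq : g (Fin.ofNat 100 b) = c (σ (Fin.ofNat 100 b)) := by
      have := congrArg c hb
      simp only [Equiv.Perm.smul_def, Equiv.Perm.mul_apply] at this
      rwa [show c (c⁻¹ (g (Fin.ofNat 100 b))) = g (Fin.ofNat 100 b) from c.apply_symm_apply _] at this
    rw [hgq, ← (hc _).1, hσb]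
  have key : ∀ s ∈ (roots.map fun r => r.1) ++ tree.map (fun t => t.1), s < 100 ∧
      ∀ g ∈ P100, ((g 0 : Fin 100) : ℕ) = p → ((g (Fin.ofNat 100 b) : Fin 100) : ℕ) = s →
        GoodElt g := by
    refine tree_induction htree ?_ ?_
    · intro s hs
      obtain ⟨r, hr, rfl⟩ := List.mem_map.1 hs
      have hr' := hroots r hr
      refine ⟨?_, fun g hg hg0 hgs => ?_⟩
      · split at hr'
        case h_2 => exact absurd hr' (by simp)
        rename_i u hu
        simp only [Bool.and_eq_true, Nat.beq_eq] at hr'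
        obtain ⟨σu, -, -, hσub⟩ := rep_exists hL rfl u (List.mem_of_getElem? hu)
        rw [← hr'.1, ← hσub, (hc _).1]
        exact Fin.is_lt _
      split at hr'
      case h_2 => exact absurd hr' (by simp)
      rename_i u hu
      simp only [Bool.and_eq_true, Nat.beq_eq] at hr'
      obtain ⟨t, ht, τ, hτ, k, hk, e, hb⟩ := hdec g hg hg0
      have hum : u ∈ T := List.mem_of_getElem? hu
      obtain ⟨σu, hσu, -, hσub⟩ := rep_exists hL rfl u hum
      obtain ⟨σt, hσt, -, hσtb⟩ := rep_exists hL rfl t ht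
      have hkey : u = t := by
        have hl := hL
        simp only [checkCert, Bool.and_eq_true] at hl
        have hl' := hl.1.2
        simp only [checkLevels, Bool.and_eq_true] at hl'
        refine List.inj_on_of_nodup_map (distinctKeys_spec _ hl'.1.1.2) hum ht ?_
        have e1 : c (σu (Fin.ofNat 100 b)) = c (σt (Fin.ofNat 100 b)) := by
          refine Fin.ext ?_
          rw [← (hc _).1, ← (hc _).1, hσub, hσtb, ← hb, hgs, hr'.1]
        rw [← hσub, ← hσtb, c.injective e1]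
      subst hkey
      obtain ⟨cs, hcs, happ⟩ := exists_codes ha.2.2 k hk
      obtain ⟨m, hm, hb'⟩ := rowOK_spec _ _ _ hr'.2 cs hcs
      have happ' : ∀ i : Fin 100,
          applyCodes 7 ([ct.2.1.1, u.2.1.1] ++ cs) i = (g i : ℕ) := by
        intro i
        simp only [applyCodes, List.cons_append, List.nil_append, List.foldr_cons]
        rw [show cs.foldr (fun c x => get 7 c x) (i : ℕ) = (k i : ℕ) from happ i, (hτ _).1, (hc _).1,
          e]
        rfl
      refine ⟨m, hm, eq_one_of_base (pow_mem hg m) fun x hx => ?_⟩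
      have := iterCodes_pow happ' m (Fin.ofNat 100 x)
      have hx' : x % 100 = x := by simp [j2Base] at hx; omega
      rw [Fin.val_ofNat, hx', hb' x hx] at this
      exact this.symm
    · rintro e he x ⟨hx100, hP⟩
      obtain ⟨σ, hσS⟩ : ∃ σ : Equiv.Perm (Fin 100), Rep 7 e σ := by
        cases L' with
        | nil => simp [topCodes] at he
        | cons l L'' => exact ha.2.2.1 e he
      have hσk : σ ∈ prodSet (interp 7 100 L') := by
        rw [prodSet_eq _ hgood.1, topGens_interp]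
        exact Submonoid.subset_closure (List.mem_map.2 ⟨e, he, epsilon_rep hσS⟩)
      have hσP : σ ∈ P100 := ((mem_H100 σ).1 (htail σ hσk)).1
      obtain ⟨⟨f0, fp⟩, fq⟩ := hfix e he
      have s0 : σ 0 = 0 := Fin.ext ((hσS 0).1.symm.trans f0)
      have sp : σ (Fin.ofNat 100 p) = Fin.ofNat 100 p := Fin.ext (by
        rw [← (hσS _).1, Fin.val_ofNat, Nat.mod_eq_of_lt hp, fp])
      have sq : σ (Fin.ofNat 100 b) = Fin.ofNat 100 b := Fin.ext (by
        rw [← (hσS _).1, Fin.val_ofNat, Nat.mod_eq_of_lt hq, fq])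
      have hxσ : get 7 e.1 x = ((σ ⟨x, hx100⟩ : Fin 100) : ℕ) := (hσS ⟨x, hx100⟩).1
      refine ⟨hxσ ▸ Fin.is_lt _, fun g hg hg0 hgs => ?_⟩
      refine goodElt_conj (σ := σ) (hP _ (mul_mem (mul_mem (inv_mem hσP) hg) hσP) ?_ ?_)
      · have hgp : g 0 = Fin.ofNat 100 p := Fin.ext (by
          rw [hg0, Fin.val_ofNat, Nat.mod_eq_of_lt hp])
        simp only [Equiv.Perm.mul_apply, s0, hgp]
        rw [show σ⁻¹ (Fin.ofNat 100 p) = Fin.ofNat 100 p from by
          conv_lhs => rw [← sp]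
          exact σ.symm_apply_apply _]
        rw [Fin.val_ofNat, Nat.mod_eq_of_lt hp]
      · simp only [Equiv.Perm.mul_apply, sq]
        have hgx : g (Fin.ofNat 100 b) = σ ⟨x, hx100⟩ := Fin.ext (hgs.trans hxσ)
        rw [hgx, show σ⁻¹ (σ ⟨x, hx100⟩) = ⟨x, hx100⟩ from σ.symm_apply_apply _]
  intro g hg hg0
  obtain ⟨t, ht, τ, hτ, k, hk, e, hb⟩ := hdec g hg hg0
  obtain ⟨s, hs, es⟩ := hcover t ht
  exact (key s hs).2 g hg hg0 (hb.trans es)

/-- Every element has order dividing a listed one. -/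
theorem goodElt_all (g : Equiv.Perm (Fin 100)) (hg : g ∈ P100) : GoodElt g := by
  have h0 := h_tree
  simp only [hTreeOK, Bool.and_eq_true] at h0
  have hval : ∀ e ∈ hGens, validElt 7 100 e = true := by
    have h := h_cert
    simp only [checkCert, Bool.and_eq_true, List.all_eq_true] at h
    exact h.1.1.1.1.2
  have key : ∀ s ∈ hRoots ++ hTree.map (fun t => t.1), s < 100 ∧
      ∀ g ∈ P100, ((g 0 : Fin 100) : ℕ) = s → GoodElt g := by
    refine tree_induction h0.1 ?_ ?_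
    · intro r hr
      simp only [hRoots, List.mem_cons, List.not_mem_nil, or_false] at hr
      rcases hr with rfl | rfl | rfl
      · exact ⟨by norm_num, case_spec h_cert rfl case_ok0⟩
      · exact ⟨by norm_num, case_spec h1_cert rfl case_ok2⟩
      · exact ⟨by norm_num, case_spec h_cert rfl case_ok1⟩
    · rintro e he x ⟨hx100, hP⟩
      have hσ := rep_toPerm (hval e he)
      have hxσ : get 7 e.1 x = ((toPerm 7 100 e ⟨x, hx100⟩ : Fin 100) : ℕ) := (hσ ⟨x, hx100⟩).1
      have hσH : toPerm 7 100 e ∈ H100 := Subgroup.subset_closure (List.mem_map.2 ⟨e, he, rfl⟩)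
      obtain ⟨hσP, s0⟩ := (mem_H100 _).1 hσH
      refine ⟨hxσ ▸ Fin.is_lt _, fun g hg hg0 => ?_⟩
      refine goodElt_conj (σ := toPerm 7 100 e) (hP _ (mul_mem (mul_mem (inv_mem hσP) hg) hσP) ?_)
      have hgx : g 0 = toPerm 7 100 e ⟨x, hx100⟩ := Fin.ext (hg0.trans hxσ)
      simp only [Equiv.Perm.mul_apply, s0, hgx]
      rw [show (toPerm 7 100 e)⁻¹ (toPerm 7 100 e ⟨x, hx100⟩) = ⟨x, hx100⟩ from
        (toPerm 7 100 e).symm_apply_apply _]
  have hc := allBelow_spec _ _ h0.2 ((g 0 : Fin 100) : ℕ) (g 0).is_lt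
  simp only [List.any_eq_true, Nat.beq_eq] at hc
  obtain ⟨s, hs, es⟩ := hc
  exact (key s hs).2 g hg es

/-- The element orders lie in the listed set. -/
theorem orderOf_mem (g : Equiv.Perm (Fin 100)) (hg : g ∈ P100) : orderOf g ∈ j2Orders := by
  obtain ⟨m, hm, e⟩ := goodElt_all g hg
  have hdvd : orderOf g ∣ m := orderOf_dvd_of_pow_eq_one e
  have key : ∀ m ∈ j2Orders, ∀ d ∈ List.range 16, d ∣ m → d ∈ j2Orders := by decide
  refine key m hm _ (List.mem_range.2 ?_) hdvd
  have hm16 : 0 < m ∧ m < 16 := by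
    have : ∀ m ∈ j2Orders, 0 < m ∧ m < 16 := by decide
    exact this m hm
  have := Nat.le_of_dvd hm16.1 hdvd
  omega

end Cfsg.Agent.J2
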