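import Cfsg.Agent.Lib.J2.U33Data
import Cfsg.Agent.Lib.J2.SpecData

/-! Kernel checks for U₃(3) inside J₂. -/

set_option autoImplicit false

namespace Cfsg.Agent.J2

open Cfsg.Agent.PermCert

theorem u_cert : checkCert 6 63 uGens uDerived uLevels = true := by decide +kernel

theorem u_order : certOrder uLevels = 6048 := by decide +kernel

theorem hu_cert : checkCert 7 100 huGens huDerived huLevels = true := by decide +kernel

theorem hu_order : certOrder huLevels = 6048 := by decide +kernel

/-- The generators of the U₃(3) chain lie in the point stabiliser. -/
def huInH : Bool := huGens.all fun e => validElt 7 100 e && sift 7 100 hLevels e.1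

theorem hu_inH : huInH = true := by decide +kernel

/-- The two pairs of generators are intertwined by the embedding of the 63 points. -/
def embOK : Bool :=
  Nat.beq orbitEmb.length 63 && distinctKeys orbitEmb &&
    allBelow (fun k =>
      let e := (huGens.getD k (0, 0)).1
      let f := (uGens.getD k (0, 0)).1
      allBelow (fun u =>
        Nat.beq (get 7 e (orbitEmb.getD u 0)) (orbitEmb.getD (get 6 f u) 0) &&
          Nat.blt (orbitEmb.getD u 0) 100) 63) 2 &&
    [1, 2, 3].all fun b => orbitEmb.any fun x => Nat.beq x b

theorem emb_ok : embOK = true := by decide +kernel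

end Cfsg.Agent.J2
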