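import Cfsg.Agent.Lib.J2.U33Act
import Cfsg.Agent.Lib.J2.U33Cert
import Cfsg.Agent.Lib.J2.Spec
import Cfsg.Agent.Lib.Classical.HermSU
import Cfsg.Agent.Lib.Classical.UnitaryStd

/-! The point stabiliser of J₂ on 100 points is PSU₃(3). -/

set_option autoImplicit false
set_option maxRecDepth 20000

namespace Cfsg.Agent.J2

open Cfsg.Agent.PermCert Matrix

theorem card_fixed9 : Nat.card (Hermitian.fixed F9.conj) = 3 := by
  have h := Hermitian.card_eq_sq F9.conj_ne_id F9.conj_conj
  rw [Nat.card_eq_fintype_card, F9.card] at h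
  exact Nat.pow_left_injective two_ne_zero (show _ ^ 2 = 3 ^ 2 from h.symm.trans (by norm_num))

theorem card_SU9 : Nat.card SU9 = 6048 := by
  have h := HermSU.card_SU_mul (n := 3) F9.conj_ne_id F9.conj_conj F9.conj_eq_pow (by norm_num)
    card_fixed9
  rw [HermStd.card_GU F9.conj_ne_id F9.conj_conj F9.conj_eq_pow 3 card_fixed9] at h
  simp [Finset.prod_range_succ, Nat.even_iff] at h
  norm_num at h
  show Nat.card ↥(Cfsg.SU 3 F9 3) = 6048
  omega

theorem center_SU9 : Subgroup.center SU9 = ⊥ := by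
  refine Subgroup.card_eq_one.1 ?_
  rw [HermSU.card_center_SU F9.conj_ne_id F9.conj_conj F9.conj_eq_pow (by norm_num) card_fixed9]
  norm_num

theorem mats_ok : (matA.det = 1 ∧ matAᵀ * matA.map F9.conj = 1) ∧
    (matB.det = 1 ∧ matBᵀ * matB.map F9.conj = 1) := by
  rw [Matrix.det_fin_three, Matrix.det_fin_three]
  decide +kernel

/-- The first generator of SU₃(3). -/
def suA : SU9 :=
  ⟨⟨matA, mats_ok.1.1⟩, (HermSU.mem_SU_iff (q := 3) F9.conj_eq_pow _).2 mats_ok.1.2⟩

/-- The second generator of SU₃(3). -/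
def suB : SU9 :=
  ⟨⟨matB, mats_ok.2.1⟩, (HermSU.mem_SU_iff (q := 3) F9.conj_eq_pow _).2 mats_ok.2.2⟩

theorem act_gens : ∀ u : Fin 63,
    ((actPt matA u : Fin 63) : ℕ) = get 6 (uGens.getD 0 (0, 0)).1 u ∧
      ((actPt matB u : Fin 63) : ℕ) = get 6 (uGens.getD 1 (0, 0)).1 u := by
  decide +kernel

/-- The permutation representation on the 63 points. -/
def iota : SU9 →* Equiv.Perm (Fin 63) := MulAction.toPermHom SU9 (Fin 63)

theorem length_uGens : uGens.length = 2 ∧ huGens.length = 2 := ⟨rfl, rfl⟩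

theorem uGens_valid : ∀ e ∈ uGens, validElt 6 63 e = true := by
  have h := u_cert
  simp only [checkCert, Bool.and_eq_true, List.all_eq_true] at h
  exact h.1.1.1.1.2

theorem huGens_valid : ∀ e ∈ huGens, validElt 7 100 e = true := by
  have h := hu_inH
  simp only [huInH, Bool.and_eq_true, List.all_eq_true] at h
  exact fun e he => (h e he).1

/-- The image group on 63 points. -/
abbrev K63 : Subgroup (Equiv.Perm (Fin 63)) := genGroup 6 63 uGens

theorem card_K63 : Nat.card K63 = 6048 := by rw [cert_card u_cert, u_order]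

theorem K63_le : K63 ≤ iota.range := by
  refine (Subgroup.closure_le _).2 fun σ hσ => ?_
  obtain ⟨e, he, rfl⟩ := List.mem_map.1 hσ
  obtain ⟨k, hk, rfl⟩ := List.getElem_of_mem he
  have hv := rep_toPerm (uGens_valid _ (List.getElem_mem hk))
  rw [length_uGens.1] at hk
  have hcases : k = 0 ∨ k = 1 := by omega
  rcases hcases with rfl | rfl
  · refine ⟨suA, Equiv.ext fun u => Fin.ext ?_⟩
    rw [← (hv u).1]
    exact (act_gens u).1
  · refine ⟨suB, Equiv.ext fun u => Fin.ext ?_⟩
    rw [← (hv u).1]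
    exact (act_gens u).2

theorem iota_range : iota.range = K63 ∧ Function.Injective iota := by
  haveI : Finite SU9 := Nat.finite_of_card_ne_zero (by rw [card_SU9]; norm_num)
  have h1 : Nat.card iota.range ≤ 6048 := by
    rw [← card_SU9]
    exact Nat.card_le_card_of_surjective iota.rangeRestrict iota.rangeRestrict_surjective
  have e : K63 = iota.range :=
    Subgroup.eq_of_le_of_card_ge K63_le (by rw [card_K63]; exact h1)
  refine ⟨e.symm, ?_⟩
  have hb : Function.Bijective iota.rangeRestrict :=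
    (Nat.bijective_iff_surjective_and_card _).2
      ⟨iota.rangeRestrict_surjective, by rw [card_SU9, ← e, card_K63]⟩
  exact fun a b h => hb.1 (Subtype.ext h)

/-- SU₃(3) as a group of permutations of 63 points. -/
noncomputable def suEquivK : SU9 ≃* K63 :=
  (MonoidHom.ofInjective iota_range.2).trans (MulEquiv.subgroupCongr iota_range.1)

/-- The embedding of the 63 points. -/
def emb (u : Fin 63) : Fin 100 := Fin.ofNat 100 (orbitEmb.getD u 0)

/-- Pairs intertwined by the embedding. -/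
def embT : Subgroup (Equiv.Perm (Fin 100) × Equiv.Perm (Fin 63)) where
  carrier := {p | ∀ u, p.1 (emb u) = emb (p.2 u)}
  one_mem' _ := rfl
  mul_mem' {p q} hp hq u := by
    show p.1 (q.1 (emb u)) = emb (p.2 (q.2 u))
    rw [hq, hp]
  inv_mem' {p} hp u := by
    show p.1⁻¹ (emb u) = emb (p.2⁻¹ u)
    have h := hp (p.2⁻¹ u)
    rw [show p.2 (p.2⁻¹ u) = u from p.2.apply_symm_apply u] at h
    conv_lhs => rw [← h]
    exact p.1.symm_apply_apply _

theorem emb_injective : Function.Injective emb := by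
  intro u v h
  have h0 := emb_ok
  simp only [embOK, Bool.and_eq_true, Nat.beq_eq] at h0
  obtain ⟨⟨⟨hlen, hd⟩, hgen⟩, -⟩ := h0
  have hb : ∀ w : Fin 63, orbitEmb.getD w 0 < 100 := fun w => by
    have := allBelow_spec _ _ (allBelow_spec _ _ hgen 0 (by norm_num)) w w.2
    simp only [Bool.and_eq_true, Nat.blt_eq] at this
    exact this.2
  have h' := congrArg Fin.val h
  simp only [emb, Fin.val_ofNat, Nat.mod_eq_of_lt (hb _)] at h'
  have hu : (u : ℕ) < orbitEmb.length := by rw [hlen]; exact u.2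
  have hv : (v : ℕ) < orbitEmb.length := by rw [hlen]; exact v.2
  rw [List.getD_eq_getElem _ _ hu, List.getD_eq_getElem _ _ hv] at h'
  exact Fin.ext ((distinctKeys_spec _ hd).getElem_inj_iff.1 h')

/-- The pairs of generators. -/
def embK : Subgroup (Equiv.Perm (Fin 100) × Equiv.Perm (Fin 63)) :=
  Subgroup.closure (Set.range fun k : Fin 2 =>
    (toPerm 7 100 (huGens.getD k (0, 0)), toPerm 6 63 (uGens.getD k (0, 0))))

theorem gen_reps (k : Fin 2) :
    Rep 7 (huGens.getD k (0, 0)) (toPerm 7 100 (huGens.getD k (0, 0))) ∧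
      Rep 6 (uGens.getD k (0, 0)) (toPerm 6 63 (uGens.getD k (0, 0))) := by
  constructor
  · refine rep_toPerm (huGens_valid _ ?_)
    rw [List.getD_eq_getElem _ _ (by rw [length_uGens.2]; exact k.2)]
    exact List.getElem_mem _
  · refine rep_toPerm (uGens_valid _ ?_)
    rw [List.getD_eq_getElem _ _ (by rw [length_uGens.1]; exact k.2)]
    exact List.getElem_mem _

theorem embK_le : embK ≤ embT := by
  refine (Subgroup.closure_le _).2 ?_
  rintro _ ⟨k, rfl⟩ u
  have h0 := emb_ok
  simp only [embOK, Bool.and_eq_true, Nat.beq_eq] at h0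
  have hk := allBelow_spec _ _ h0.1.2 k k.2
  have h := allBelow_spec _ _ hk u u.2
  simp only [Bool.and_eq_true, Nat.beq_eq, Nat.blt_eq] at h
  obtain ⟨r7, r6⟩ := gen_reps k
  apply Fin.ext
  show ((toPerm 7 100 (huGens.getD k (0, 0)) (emb u) : Fin 100) : ℕ) = _
  rw [← (r7 (emb u)).1]
  simp only [emb, Fin.val_ofNat, Nat.mod_eq_of_lt h.2]
  have h' := allBelow_spec _ _ hk _ (toPerm 6 63 (uGens.getD k (0, 0)) u).2
  simp only [Bool.and_eq_true, Nat.beq_eq, Nat.blt_eq] at h'
  rw [h.1, (r6 u).1, Nat.mod_eq_of_lt h'.2]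

theorem range_map_gens {w n : ℕ} (L : List Elt) (hL : L.length = 2) :
    Set.range (fun k : Fin 2 => toPerm w n (L.getD k (0, 0))) = {σ | σ ∈ L.map (toPerm w n)} := by
  ext σ
  constructor
  · rintro ⟨k, rfl⟩
    refine List.mem_map.2 ⟨_, ?_, rfl⟩
    rw [List.getD_eq_getElem _ _ (show (k : ℕ) < L.length by rw [hL]; exact k.2)]
    exact List.getElem_mem _
  · intro hσ
    obtain ⟨e, he, rfl⟩ := List.mem_map.1 hσ
    obtain ⟨i, hi, rfl⟩ := List.getElem_of_mem he
    exact ⟨⟨i, hL ▸ hi⟩, by simp only [List.getD_eq_getElem _ _ hi]⟩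

theorem map_fst_embK : embK.map (MonoidHom.fst _ _) = genGroup 7 100 huGens := by
  rw [embK, MonoidHom.map_closure, ← Set.range_comp, genGroup, ← range_map_gens _ length_uGens.2]
  rfl

theorem map_snd_embK : embK.map (MonoidHom.snd _ _) = K63 := by
  rw [embK, MonoidHom.map_closure, ← Set.range_comp, K63, genGroup, ← range_map_gens _ length_uGens.1]
  rfl

theorem hu_eq : genGroup 7 100 huGens = H100 := by
  refine Subgroup.eq_of_le_of_card_ge ((Subgroup.closure_le _).2 fun σ hσ => ?_)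
    (by rw [card_H100, cert_card hu_cert, hu_order])
  obtain ⟨e, he, rfl⟩ := List.mem_map.1 hσ
  have h := hu_inH
  simp only [huInH, Bool.and_eq_true, List.all_eq_true] at h
  exact cert_mem h_cert (h e he).1 (h e he).2

theorem emb_fst_inj {p q : Equiv.Perm (Fin 100) × Equiv.Perm (Fin 63)} (hp : p ∈ embK) (hq : q ∈ embK)
    (h : p.1 = q.1) : p.2 = q.2 :=
  Equiv.ext fun u => emb_injective (by rw [← embK_le hp, ← embK_le hq, h])

theorem emb_snd_inj {p : Equiv.Perm (Fin 100) × Equiv.Perm (Fin 63)} (hp : p ∈ embK)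
    (h : p.2 = 1) : p.1 = 1 := by
  have hmem : p.1 ∈ genGroup 7 100 huGens := by rw [← map_fst_embK]; exact ⟨p, hp, rfl⟩
  obtain ⟨hg, -⟩ := cert_good hu_cert
  refine eq_one_of_fix hg ((cert_prodSet hu_cert _).1 hmem) fun l hl => ?_
  have hfix : ∀ b ∈ [1, 2, 3], p.1 (Fin.ofNat 100 b) = Fin.ofNat 100 b := by
    intro b hb
    have h0 := emb_ok
    simp only [embOK, Bool.and_eq_true, List.all_eq_true, List.any_eq_true, Nat.beq_eq] at h0
    obtain ⟨x, hx, hxb⟩ := h0.2 b hb
    obtain ⟨i, hi, rfl⟩ := List.getElem_of_mem hx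
    have hi' : i < 63 := h0.1.1.1 ▸ hi
    have e : emb ⟨i, hi'⟩ = Fin.ofNat 100 b := by
      rw [emb, List.getD_eq_getElem _ _ hi, hxb]
    rw [← e, embK_le hp, h]
    rfl
  simp only [huLevels, interp, List.mem_cons, List.not_mem_nil, or_false] at hl
  rcases hl with rfl | rfl | rfl
  · exact hfix 1 (by simp)
  · exact hfix 2 (by simp)
  · exact hfix 3 (by simp)

theorem exists_embK (g : H100) : ∃ τ, ((g : Equiv.Perm (Fin 100)), τ) ∈ embK := by
  have hg : (g : Equiv.Perm (Fin 100)) ∈ embK.map (MonoidHom.fst _ _) := by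
    rw [map_fst_embK, hu_eq]; exact g.2
  obtain ⟨⟨a, τ⟩, hp, e⟩ := hg
  exact ⟨τ, (show a = _ from e) ▸ hp⟩

/-- Restriction to the 63 points. -/
noncomputable def restrict : H100 →* Equiv.Perm (Fin 63) where
  toFun g := (exists_embK g).choose
  map_one' := emb_fst_inj (exists_embK 1).choose_spec (one_mem embK) rfl
  map_mul' a b := emb_fst_inj (exists_embK (a * b)).choose_spec
    (mul_mem (exists_embK a).choose_spec (exists_embK b).choose_spec) rfl

theorem restrict_mem (g : H100) : ((g : Equiv.Perm (Fin 100)), restrict g) ∈ embK :=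
  (exists_embK g).choose_spec

theorem restrict_range : restrict.range = K63 := by
  refine le_antisymm ?_ ?_
  · rintro _ ⟨g, rfl⟩
    rw [← map_snd_embK]
    exact ⟨_, restrict_mem g, rfl⟩
  · rw [← map_snd_embK]
    rintro _ ⟨⟨σ, τ⟩, hp, rfl⟩
    have hσ : σ ∈ H100 := by rw [← hu_eq, ← map_fst_embK]; exact ⟨_, hp, rfl⟩
    exact ⟨⟨σ, hσ⟩, emb_fst_inj (restrict_mem ⟨σ, hσ⟩) hp rfl⟩

theorem restrict_injective : Function.Injective restrict :=
  (injective_iff_map_eq_one restrict).2 fun g h => Subtype.ext (emb_snd_inj (restrict_mem g) h)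

/-- The point stabiliser is PSU₃(3). -/
noncomputable def hEquivPSU : H100 ≃* Cfsg.PSU 3 F9 3 :=
  (((MonoidHom.ofInjective restrict_injective).trans (MulEquiv.subgroupCongr restrict_range)).trans
    suEquivK.symm).trans
    ((QuotientGroup.quotientBot (G := SU9)).symm.trans
      (QuotientGroup.quotientMulEquivOfEq center_SU9.symm))

theorem isSimple_H100 : IsSimpleGroup H100 := by
  obtain ⟨σ, hσ, hf, hc⟩ := UnitaryStd.exists_setup (F := F9) (q := 3) (n := 3)
    (by rw [F9.card]; norm_num) (by norm_num)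
  haveI := UnitaryStd.isSimpleGroup_psu hf (le_refl 3) (fun _ => by rw [hc])
  exact hEquivPSU.isSimpleGroup

end Cfsg.Agent.J2
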