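import Cfsg.Agent.Lib.J2.GroupChecks

/-! Kernel computations for the group. -/

namespace Cfsg.Agent.J2

open Cfsg.Agent.PermCert

theorem compat_ok2 : compatOK 2 = true := by decide +kernel

end Cfsg.Agent.J2
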