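import Cfsg.Agent.Lib.J2.GroupChecks

/-! Kernel computations for the group. -/

namespace Cfsg.Agent.J2

open Cfsg.Agent.PermCert

theorem gens315_valid : gens315.all (fun e => validElt 9 315 e) = true := by decide +kernel

theorem orbit_ok : orbitOK = true := by decide +kernel

theorem axes_ok : axesOK = true := by decide +kernel

end Cfsg.Agent.J2
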