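import Cfsg.Agent.Lib.J2.GroupChecks

/-! Kernel computations for the centre. -/

namespace Cfsg.Agent.J2

theorem scalar_ok : scalarOK = true := by decide +kernel

theorem bound_ok : boundOK = true := by decide +kernel

end Cfsg.Agent.J2
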