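import Cfsg.Agent.Lib.J2.Census
import Cfsg.Agent.Lib.J2.CertLines
import Cfsg.Agent.Lib.J2.CertOrbit
import Cfsg.Agent.Lib.J2.CertBase
import Cfsg.Agent.Lib.J2.CertRow0
import Cfsg.Agent.Lib.J2.CertRow1
import Cfsg.Agent.Lib.J2.CertRow2
import Cfsg.Agent.Lib.J2.CertRow3
import Cfsg.Agent.Lib.J2.CertCompat0
import Cfsg.Agent.Lib.J2.CertCompat1
import Cfsg.Agent.Lib.J2.CertCompat2
import Cfsg.Agent.Lib.J2.CertCompat3
import Cfsg.Agent.Lib.J2.CertChain
import Cfsg.Agent.Lib.J2.CertScalar

/-! The icosian reflection group: reflections, action on 100 sets, order and centre. -/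

set_option autoImplicit false
set_option linter.unusedSimpArgs false
set_option maxHeartbeats 1000000
set_option maxRecDepth 8000

noncomputable section

namespace Cfsg.Agent.J2

open Cfsg.Spor Quaternion Cfsg.Agent.PermCert

theorem lineAt_eq (i : ℕ) : lineAt i = line i := rfl

theorem lineAt_spec (i : Fin 315) :
    (line i).inL = true ∧ (line i).inI = true ∧ qip (toV (line i)) (toV (line i)) = 4 ∧
      evenIp (line i) = true := by
  have hi : (i : ℕ) < lineList.length := by rw [length_lineList]; exact i.2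
  have h := List.all_eq_true.1 lines_ok (lineList[(i : ℕ)]) (List.getElem_mem hi)
  simp only [Bool.and_eq_true, decide_eq_true_eq] at h
  have e : line i = lineList[(i : ℕ)] := List.getD_eq_getElem _ _ hi
  rw [← e] at h
  have hI : (line i).inI = true := by
    have := h.1.1
    simp only [V.inL, Bool.and_eq_true] at this
    exact this.1.1.1
  refine ⟨h.1.1, hI, ?_, h.2⟩
  rw [← toH_ip hI hI, h.1.2]
  rw [show (4 : ℍ[ℝ]) = ((4 : ℝ) : ℍ[ℝ]) from by norm_cast]
  ext <;> simp [sval] <;> norm_num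

/-- The minimal vector representing line `i`. -/
def lineVec (i : Fin 315) : icoLeech := ⟨toV (line i), (inL_iff _).1 (lineAt_spec i).1⟩

/-- The reflection in line `i`. -/
def F (i : Fin 315) : Equiv.Perm icoLeech :=
  (exists_refl (lineAt_spec i).1 (lineAt_spec i).2.2.2 (lineAt_spec i).2.2.1).choose

theorem F_apply (i : Fin 315) (x : icoLeech) :
    ((F i x : icoLeech) : Fin 3 → ℍ[ℝ]) = qrefl (toV (line i)) (x : Fin 3 → ℍ[ℝ]) :=
  (exists_refl (lineAt_spec i).1 (lineAt_spec i).2.2.2 (lineAt_spec i).2.2.1).choose_spec x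

theorem isRefl_F (i : Fin 315) : IsIcoReflection (F i) :=
  ⟨lineVec i, (lineAt_spec i).2.2.1, F_apply i⟩

theorem F_mem (i : Fin 315) : F i ∈ twoJ2 := Subgroup.subset_closure (isRefl_F i)

theorem F_self (i : Fin 315) : ((F i (lineVec i) : icoLeech) : Fin 3 → ℍ[ℝ]) = -toV (line i) :=
  (F_apply i _).trans (qrefl_self (lineAt_spec i).2.2.1)

theorem conj_F {g : Equiv.Perm icoLeech} (hg : IsAut g) {i j : Fin 315} {u : ℍ[ℝ]}
    (hu : star u * u = 1)
    (h : ((g (lineVec i) : icoLeech) : Fin 3 → ℍ[ℝ]) = fun t => u * toV (line j) t) :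
    g * F i * g⁻¹ = F j := by
  refine Equiv.ext fun x => Subtype.ext ?_
  rw [conj_refl hg (r := lineVec i) (lineAt_spec i).2.2.1 (F_apply i)
    (fun x => qip_even (lineAt_spec i).2.1 (lineAt_spec i).2.2.2 x.2) x, h, qrefl_scalar u hu,
    F_apply]

/-- The generating reflections as lines. -/
def gIdx (k : Fin 4) : Fin 315 := Fin.ofNat 315 (genIdx.getD k 0)

/-- The action of a generator on the lines. -/
def gPerm (k : Fin 4) : Equiv.Perm (Fin 315) := toPerm 9 315 (gens315.getD k (0, 0))

theorem gPerm_rep (k : Fin 4) : Rep 9 (gens315.getD k (0, 0)) (gPerm k) := by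
  refine rep_toPerm (List.all_eq_true.1 gens315_valid _ ?_)
  rw [List.getD_eq_getElem _ _ (show (k : ℕ) < gens315.length from k.2)]
  exact List.getElem_mem _

theorem gIdx_val (k : Fin 4) : ((gIdx k : Fin 315) : ℕ) = genIdx.getD k 0 := by
  fin_cases k <;> rfl

theorem genRow (k : Fin 4) : genRowOK k = true := by
  fin_cases k
  · exact genRow_ok0
  · exact genRow_ok1
  · exact genRow_ok2
  · exact genRow_ok3

attribute [local irreducible] F gIdx gPerm

theorem gen_conj (k : Fin 4) (i : Fin 315) :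
    F (gIdx k) * F i * (F (gIdx k))⁻¹ = F (gPerm k i) := by
  have h0 := genRow k
  unfold genRowOK at h0
  have h := allBelow_spec _ _ h0 i i.2
  simp only [Bool.and_eq_true, Nat.blt_eq, decide_eq_true_eq] at h
  obtain ⟨⟨⟨he, hi⟩, hu⟩, hr⟩ := h
  rw [← gIdx_val, lineAt_eq] at he hi hr
  rw [lineAt_eq] at he hi hr
  refine conj_F (isAut_of_mem (F_mem _)) (unit_mul_star hu).2 ?_
  have hL := (lineAt_spec (gPerm k i)).2.1
  rw [F_apply]
  show qrefl (toV (line (gIdx k))) (toV (line i)) = _
  rw [← toV_refl (lineAt_spec _).2.1 (lineAt_spec i).2.1 he hi, hr, (gPerm_rep k i).1, lineAt_eq]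
  rw [V.inI_iff] at hL
  generalize (genScalar.getD (k : ℕ) []).getD (i : ℕ) 0 = u at hu ⊢
  funext t
  fin_cases t <;> simp [V.lmul, toH_mul (unit_inI hu) hL.1, toH_mul (unit_inI hu) hL.2.1,
    toH_mul (unit_inI hu) hL.2.2]

/-- Pairs acting compatibly on reflections and on line indices. -/
def pairT : Subgroup (Equiv.Perm icoLeech × Equiv.Perm (Fin 315)) where
  carrier := {p | ∀ i, p.1 * F i * p.1⁻¹ = F (p.2 i)}
  one_mem' i := by simp
  mul_mem' {p q} hp hq i := by
    show p.1 * q.1 * F i * (p.1 * q.1)⁻¹ = F (p.2 (q.2 i))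
    rw [← hp, ← hq, mul_inv_rev]
    simp only [mul_assoc]
  inv_mem' {p} hp i := by
    show p.1⁻¹ * F i * p.1⁻¹⁻¹ = F (p.2⁻¹ i)
    have := hp (p.2⁻¹ i)
    rw [perm_apply_inv] at this
    rw [← this]
    group

/-- The group generated by the generator pairs. -/
def pairK : Subgroup (Equiv.Perm icoLeech × Equiv.Perm (Fin 315)) :=
  Subgroup.closure (Set.range fun k : Fin 4 => (F (gIdx k), gPerm k))

theorem pairK_le : pairK ≤ pairT :=
  (Subgroup.closure_le _).2 (by rintro _ ⟨k, rfl⟩; exact gen_conj k)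

theorem reach (i : Fin 315) : ∃ p ∈ pairK, p.2 0 = i := by
  have h := orbit_ok
  simp only [orbitOK, Bool.and_eq_true] at h
  set full := (0, 0, 0) :: orbitList with hfull
  have key : ∀ n < full.length, ∃ p ∈ pairK, ((p.2 0 : Fin 315) : ℕ) = (full.getD n (0, 0, 0)).1 := by
    intro n
    induction n using Nat.strong_induction_on with
    | _ n ih =>
      intro hn
      rcases n with _ | n
      · exact ⟨1, one_mem _, by simp [hfull]⟩
      · have hn' : n < orbitList.length := by simpa [hfull] using hn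
        have hc := allBelow_spec _ _ h.1 n hn'
        simp only [Bool.and_eq_true, Nat.ble_eq, Nat.blt_eq, Nat.beq_eq] at hc
        obtain ⟨⟨hp, hg⟩, he⟩ := hc
        obtain ⟨p, hp', hp0⟩ := ih _ (show (orbitList.getD n (0, 0, 0)).2.1 < n + 1 from Nat.lt_succ_of_le hp)
          (by simp only [hfull, List.length_cons]; omega)
        set k : Fin 4 := ⟨(orbitList.getD n (0, 0, 0)).2.2, hg⟩ with hk
        refine ⟨(F (gIdx k), gPerm k) * p, mul_mem (Subgroup.subset_closure ⟨k, rfl⟩) hp', ?_⟩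
        show ((gPerm k (p.2 0) : Fin 315) : ℕ) = _
        rw [← (gPerm_rep k _).1, hp0, hk]
        simpa [hfull] using he
  have h2 := allBelow_spec _ _ h.2 i i.2
  simp only [List.any_eq_true, Nat.beq_eq] at h2
  obtain ⟨t, ht, hti⟩ := h2
  obtain ⟨n, hn, rfl⟩ := List.getElem_of_mem ht
  obtain ⟨p, hp, hp0⟩ := key n hn
  exact ⟨p, hp, Fin.ext (by rw [hp0, List.getD_eq_getElem _ _ hn, hti])⟩

theorem F_zero_ne {j : Fin 315} (hj : j ≠ 0) : F 0 ≠ F j := by
  intro e
  have h0 := base_ok
  unfold baseOK at h0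
  have h := allBelow_spec _ _ h0 j j.2
  simp only [Bool.or_eq_true, Bool.and_eq_true, Nat.beq_eq, Bool.not_eq_true',
    decide_eq_false_iff_not] at h
  rcases h with h | ⟨⟨he, hi⟩, hne⟩
  · exact hj (Fin.ext h)
  · apply hne
    rw [show lineAt 0 = line ((0 : Fin 315) : ℕ) from rfl, lineAt_eq] at he hi ⊢
    apply toV_injective
    rw [toV_refl (lineAt_spec 0).2.1 (lineAt_spec j).2.1 he hi]
    have h1 := F_apply 0 (lineVec j)
    rw [e, F_self] at h1
    refine h1.symm.trans ?_
    funext t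
    fin_cases t <;> simp [toH_neg]

theorem F_injective : Function.Injective F := by
  intro i j e
  obtain ⟨p, hp, hp0⟩ := reach i
  have hp' := pairK_le hp
  by_contra hne
  refine F_zero_ne (j := p.2⁻¹ j) (fun h => hne ?_) ?_
  · rw [← hp0, ← h, perm_apply_inv]
  · have h1 := hp' 0
    have h2 := hp' (p.2⁻¹ j)
    rw [perm_apply_inv, ← e] at h2
    rw [hp0, ← h2] at h1
    simpa using h1

theorem isRefl_eq {f : Equiv.Perm icoLeech} (hf : IsIcoReflection f) : ∃ i, f = F i := by
  obtain ⟨r, hr, hf⟩ := hf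
  obtain ⟨u, hu, i, e⟩ := census r.2 hr
  refine ⟨i, Equiv.ext fun x => Subtype.ext ?_⟩
  rw [hf, F_apply, e, qrefl_scalar _ (unit_mul_star hu).2]

theorem refl_set_eq : {f | IsIcoReflection f} = Set.range F :=
  Set.ext fun f => ⟨fun h => let ⟨i, e⟩ := isRefl_eq h; ⟨i, e.symm⟩,
    fun ⟨i, e⟩ => e ▸ isRefl_F i⟩

theorem twoJ2_eq : twoJ2 = Subgroup.closure (Set.range fun k : Fin 4 => F (gIdx k)) := by
  refine le_antisymm ((Subgroup.closure_le _).2 fun f hf => ?_)
    ((Subgroup.closure_le _).2 (by rintro _ ⟨k, rfl⟩; exact F_mem _))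
  obtain ⟨i, rfl⟩ := isRefl_eq hf
  obtain ⟨p, hp, hp0⟩ := reach i
  have h1 : ∀ q ∈ pairK, q.1 ∈ Subgroup.closure (Set.range fun k : Fin 4 => F (gIdx k)) := by
    intro q hq
    refine (Subgroup.closure_le (K := (Subgroup.closure (Set.range fun k : Fin 4 => F (gIdx k))).comap
      (MonoidHom.fst _ _))).2 ?_ hq
    rintro _ ⟨k, rfl⟩
    exact Subgroup.subset_closure ⟨k, rfl⟩
  rw [SetLike.mem_coe, ← hp0, ← pairK_le hp 0]
  refine mul_mem (mul_mem (h1 p hp) ?_) (inv_mem (h1 p hp))
  exact Subgroup.subset_closure ⟨0, congrArg F (Fin.ext (gIdx_val 0) : gIdx 0 = 0)⟩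

theorem map_fst_pairK : pairK.map (MonoidHom.fst _ _) = twoJ2 := by
  rw [twoJ2_eq, pairK, MonoidHom.map_closure, ← Set.range_comp]
  rfl

theorem exists_linePerm (g : twoJ2) :
    ∃ σ : Equiv.Perm (Fin 315), ((g : Equiv.Perm icoLeech), σ) ∈ pairK := by
  have hg : (g : Equiv.Perm icoLeech) ∈ pairK.map (MonoidHom.fst _ _) := by
    rw [map_fst_pairK]; exact g.2
  obtain ⟨⟨a, σ⟩, hp, e⟩ := hg
  exact ⟨σ, (show a = (g : Equiv.Perm icoLeech) from e) ▸ hp⟩

theorem pairT_unique {g : Equiv.Perm icoLeech} {σ τ : Equiv.Perm (Fin 315)}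
    (h₁ : (g, σ) ∈ pairT) (h₂ : (g, τ) ∈ pairT) : σ = τ :=
  Equiv.ext fun i => F_injective ((h₁ i).symm.trans (h₂ i))

/-- The action on the 315 lines. -/
def lineHom : twoJ2 →* Equiv.Perm (Fin 315) where
  toFun g := (exists_linePerm g).choose
  map_one' := pairT_unique (pairK_le (exists_linePerm 1).choose_spec) (one_mem pairT)
  map_mul' a b := pairT_unique (pairK_le (exists_linePerm (a * b)).choose_spec)
    (mul_mem (pairK_le (exists_linePerm a).choose_spec) (pairK_le (exists_linePerm b).choose_spec))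

theorem lineHom_mem (g : twoJ2) : ((g : Equiv.Perm icoLeech), lineHom g) ∈ pairK :=
  (exists_linePerm g).choose_spec

theorem lineHom_spec (g : twoJ2) (i : Fin 315) :
    (g : Equiv.Perm icoLeech) * F i * (g : Equiv.Perm icoLeech)⁻¹ = F (lineHom g i) :=
  pairK_le (lineHom_mem g) i

theorem lineHom_ker : lineHom.ker = Subgroup.center twoJ2 := by
  ext g
  rw [MonoidHom.mem_ker, Subgroup.mem_center_iff]
  constructor
  · intro h x
    have hc : (g : Equiv.Perm icoLeech) ∈ Subgroup.centralizer (Set.range F) := by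
      rw [Subgroup.mem_centralizer_iff]
      rintro _ ⟨i, rfl⟩
      have e := lineHom_spec g i
      rw [h, Equiv.Perm.one_apply, mul_inv_eq_iff_eq_mul] at e
      exact e.symm
    have hle : twoJ2 ≤ Subgroup.centralizer {(g : Equiv.Perm icoLeech)} := by
      refine (Subgroup.closure_le _).2 fun f hf => ?_
      obtain ⟨i, rfl⟩ := isRefl_eq hf
      rw [SetLike.mem_coe, Subgroup.mem_centralizer_singleton_iff]
      exact Subgroup.mem_centralizer_iff.1 hc _ ⟨i, rfl⟩
    exact Subtype.ext (Subgroup.mem_centralizer_singleton_iff.1 (hle x.2))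
  · intro h
    refine Equiv.ext fun i => F_injective ?_
    have e : (F i : Equiv.Perm icoLeech) * g = g * F i := congrArg Subtype.val (h ⟨F i, F_mem i⟩)
    rw [← lineHom_spec, Equiv.Perm.one_apply, ← e, mul_inv_cancel_right]

/-! ### The action on 100 sets -/

/-- A generator acting on the 100 sets. -/
def gPerm100 (k : Fin 4) : Equiv.Perm (Fin 100) := toPerm 7 100 (j2Gens.getD k (0, 0))

/-- Pairs compatible with the incidence between lines and sets. -/
def setT : Subgroup (Equiv.Perm (Fin 315) × Equiv.Perm (Fin 100)) where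
  carrier := {p | ∀ (a : Fin 100) (i : Fin 315), inSet a i = inSet (p.2 a) (p.1 i)}
  one_mem' _ _ := rfl
  mul_mem' {p q} hp hq a i := (hq a i).trans (hp _ _)
  inv_mem' {p} hp a i := by
    have := hp (p.2⁻¹ a) (p.1⁻¹ i)
    rw [perm_apply_inv, perm_apply_inv] at this
    exact this.symm

theorem j2Gens_valid : ∀ k : Fin 4, validElt 7 100 (j2Gens.getD k (0, 0)) = true := by
  intro k
  have h := cert_ok
  simp only [checkCert, Bool.and_eq_true, List.all_eq_true] at h
  have hk : (k : ℕ) < j2Gens.length := k.2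
  rw [List.getD_eq_getElem _ _ hk]
  exact h.1.1.1.1.2 _ (List.getElem_mem hk)

theorem compat (k : Fin 4) : compatOK k = true := by
  fin_cases k
  · exact compat_ok0
  · exact compat_ok1
  · exact compat_ok2
  · exact compat_ok3

attribute [local irreducible] gPerm100

theorem gen_setT (k : Fin 4) : (gPerm k, gPerm100 k) ∈ setT := by
  intro a i
  have h0 := compat k
  unfold compatOK at h0
  have h := allBelow_spec _ _ (allBelow_spec _ _ h0 a a.2) i i.2
  rw [beq_iff_eq] at h
  rw [h, (gPerm_rep k i).1, ((rep_toPerm (j2Gens_valid k)) a).1]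
  unfold gPerm100
  rfl

/-- The group generated by the generator pairs. -/
def setK : Subgroup (Equiv.Perm (Fin 315) × Equiv.Perm (Fin 100)) :=
  Subgroup.closure (Set.range fun k : Fin 4 => (gPerm k, gPerm100 k))

theorem setK_le : setK ≤ setT :=
  (Subgroup.closure_le _).2 (by rintro _ ⟨k, rfl⟩; exact gen_setT k)

theorem testBit_meet (L : List ℕ) (i j : ℕ) : ∀ acc : ℕ,
    (L.foldl (fun acc s => if s.testBit i then acc &&& s else acc) acc).testBit j =
      (acc.testBit j && L.all fun s => !s.testBit i || s.testBit j) := by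
  induction L with
  | nil => simp
  | cons s L ih =>
    intro acc
    rw [List.foldl_cons, ih]
    cases hs : s.testBit i <;> simp [hs, Bool.and_assoc]

theorem length_setList : setList.length = 100 := by
  have h := distinct_ok
  simp only [distinctOK, Bool.and_eq_true, Nat.beq_eq] at h
  exact h.2

theorem setT_unique_left {σ σ' : Equiv.Perm (Fin 315)} {τ : Equiv.Perm (Fin 100)}
    (h₁ : (σ, τ) ∈ setT) (h₂ : (σ', τ) ∈ setT) : σ = σ' := by
  refine Equiv.ext fun i => ?_
  have h := allBelow_spec _ _ separate_ok (σ i : ℕ) (σ i).2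
  simp only [Nat.beq_eq] at h
  have h3 : ((1 : ℕ) <<< (σ i : ℕ)).testBit (σ' i : ℕ) = true := by
    rw [← h, testBit_meet, Nat.testBit_two_pow_sub_one, decide_eq_true (σ' i).2, Bool.true_and,
      List.all_eq_true]
    intro s hs
    obtain ⟨n, hn, rfl⟩ := List.getElem_of_mem hs
    have hn' : n < 100 := length_setList ▸ hn
    have e1 := h₁ (τ⁻¹ ⟨n, hn'⟩) i
    have e2 := h₂ (τ⁻¹ ⟨n, hn'⟩) i
    simp only [perm_apply_inv] at e1 e2
    have e3 : inSet n (σ i) = inSet n (σ' i) := e1.symm.trans e2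
    simp only [inSet, List.getD_eq_getElem _ _ hn] at e3
    rw [e3]
    cases setList[n].testBit (σ' i : ℕ) <;> rfl
  rw [Nat.one_shiftLeft, Nat.testBit_two_pow, decide_eq_true_eq] at h3
  exact Fin.ext h3

theorem setT_unique_right {σ : Equiv.Perm (Fin 315)} {τ τ' : Equiv.Perm (Fin 100)}
    (h₁ : (σ, τ) ∈ setT) (h₂ : (σ, τ') ∈ setT) : τ = τ' := by
  refine Equiv.ext fun a => ?_
  have hd := distinct_ok
  simp only [distinctOK, Bool.and_eq_true, Nat.beq_eq] at hd
  have hnd := distinctKeys_spec _ hd.1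
  have hta : (τ a : ℕ) < setList.length := by rw [length_setList]; exact (τ a).2
  have hta' : (τ' a : ℕ) < setList.length := by rw [length_setList]; exact (τ' a).2
  refine Fin.ext ((hnd.getElem_inj_iff (hi := hta) (hj := hta')).1 (Nat.eq_of_testBit_eq fun j => ?_))
  rcases Nat.lt_or_ge j 315 with hj | hj
  · have e1 := h₁ a (σ⁻¹ ⟨j, hj⟩)
    have e2 := h₂ a (σ⁻¹ ⟨j, hj⟩)
    simp only [perm_apply_inv] at e1 e2
    have := e1.symm.trans e2
    simp only [inSet, List.getD_eq_getElem _ _ hta, List.getD_eq_getElem _ _ hta'] at this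
    exact this
  · have hb := List.all_eq_true.1 bound_ok
    have b1 := hb _ (List.getElem_mem hta)
    have b2 := hb _ (List.getElem_mem hta')
    rw [Nat.blt_eq] at b1 b2
    rw [Nat.testBit_lt_two_pow (b1.trans_le (Nat.pow_le_pow_right (by norm_num) hj)),
      Nat.testBit_lt_two_pow (b2.trans_le (Nat.pow_le_pow_right (by norm_num) hj))]

theorem map_snd_pairK :
    pairK.map (MonoidHom.snd _ _) = Subgroup.closure (Set.range gPerm) := by
  rw [pairK, MonoidHom.map_closure, ← Set.range_comp]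
  rfl

theorem map_fst_setK :
    setK.map (MonoidHom.fst _ _) = Subgroup.closure (Set.range gPerm) := by
  rw [setK, MonoidHom.map_closure, ← Set.range_comp]
  rfl

theorem exists_setPerm (g : twoJ2) :
    ∃ τ : Equiv.Perm (Fin 100), (lineHom g, τ) ∈ setK := by
  have hg : lineHom g ∈ setK.map (MonoidHom.fst _ _) := by
    rw [map_fst_setK, ← map_snd_pairK]
    exact ⟨_, lineHom_mem g, rfl⟩
  obtain ⟨⟨a, τ⟩, hp, e⟩ := hg
  exact ⟨τ, (show a = lineHom g from e) ▸ hp⟩

/-- The action on the 100 sets. -/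
def theta : twoJ2 →* Equiv.Perm (Fin 100) where
  toFun g := (exists_setPerm g).choose
  map_one' := by
    refine setT_unique_right (σ := lineHom 1) (setK_le (exists_setPerm 1).choose_spec) ?_
    rw [map_one]; exact one_mem setT
  map_mul' a b := by
    refine setT_unique_right (σ := lineHom (a * b)) (setK_le (exists_setPerm (a * b)).choose_spec) ?_
    rw [map_mul]
    exact mul_mem (setK_le (exists_setPerm a).choose_spec) (setK_le (exists_setPerm b).choose_spec)

theorem theta_mem (g : twoJ2) : (lineHom g, theta g) ∈ setK := (exists_setPerm g).choose_spec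

theorem theta_ker : theta.ker = Subgroup.center twoJ2 := by
  rw [← lineHom_ker]
  ext g
  simp only [MonoidHom.mem_ker]
  constructor
  · intro h
    refine setT_unique_left (τ := theta g) (setK_le (theta_mem g)) ?_
    rw [h]; exact one_mem setT
  · intro h
    refine setT_unique_right (σ := lineHom g) (setK_le (theta_mem g)) ?_
    rw [h]; exact one_mem setT

/-- The permutation group on 100 points. -/
abbrev G100 : Subgroup (Equiv.Perm (Fin 100)) := genGroup 7 100 j2Gens

theorem gens_range : {σ | σ ∈ j2Gens.map (toPerm 7 100)} = Set.range gPerm100 := by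
  ext σ
  constructor
  · intro hσ
    obtain ⟨e, he, rfl⟩ := List.mem_map.1 hσ
    obtain ⟨n, hn, rfl⟩ := List.getElem_of_mem he
    exact ⟨⟨n, hn⟩, by rw [gPerm100, List.getD_eq_getElem _ _ hn]⟩
  · rintro ⟨k, rfl⟩
    have hk : (k : ℕ) < j2Gens.length := k.2
    exact List.mem_map.2 ⟨_, List.getElem_mem hk, by rw [gPerm100, List.getD_eq_getElem _ _ hk]⟩

theorem map_snd_setK : setK.map (MonoidHom.snd _ _) = G100 := by
  rw [setK, MonoidHom.map_closure, ← Set.range_comp, G100, genGroup, gens_range]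
  rfl

theorem theta_range : theta.range = G100 := by
  refine le_antisymm ?_ ?_
  · rintro _ ⟨g, rfl⟩
    rw [← map_snd_setK]
    exact ⟨_, theta_mem g, rfl⟩
  · rw [← map_snd_setK]
    rintro _ ⟨⟨σ, τ⟩, hp, rfl⟩
    have : σ ∈ pairK.map (MonoidHom.snd _ _) := by
      rw [map_snd_pairK, ← map_fst_setK]; exact ⟨_, hp, rfl⟩
    obtain ⟨⟨a, σ'⟩, hq, e⟩ := this
    have ha : a ∈ twoJ2 := by rw [← map_fst_pairK]; exact ⟨_, hq, rfl⟩
    refine ⟨⟨a, ha⟩, setT_unique_right (σ := σ) ?_ (setK_le hp)⟩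
    have hl : lineHom ⟨a, ha⟩ = σ :=
      pairT_unique (pairK_le (lineHom_mem _)) ((show σ' = σ from e) ▸ pairK_le hq)
    rw [← hl]
    exact setK_le (theta_mem _)

/-- J₂ as a group of permutations of 100 points. -/
def j2Equiv : J2 ≃* G100 :=
  ((QuotientGroup.quotientMulEquivOfEq theta_ker.symm).trans
    (QuotientGroup.quotientKerEquivRange theta)).trans (MulEquiv.subgroupCongr theta_range)

theorem j2Equiv_mk (g : twoJ2) :
    ((j2Equiv (QuotientGroup.mk g) : G100) : Equiv.Perm (Fin 100)) = theta g := rfl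

theorem card_G100 : Nat.card G100 = 604800 := by
  rw [cert_card cert_ok, cert_order]

theorem card_J2 : Nat.card J2 = 604800 := by
  rw [Nat.card_congr j2Equiv.toEquiv, card_G100]

end Cfsg.Agent.J2
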