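import Mathlib.Data.ZMod.Basic
import Mathlib.Algebra.Field.Defs
import Mathlib.LinearAlgebra.Matrix.Notation
import Mathlib.Tactic

/-! The field with nine elements as `(ℤ/3)[i]`. -/

set_option autoImplicit false

namespace Cfsg.Agent.J2

/-- The field with nine elements. -/
structure F9 where
  /-- The real coordinate. -/
  re : ZMod 3
  /-- The imaginary coordinate. -/
  im : ZMod 3
deriving DecidableEq

namespace F9

/-- Elements are pairs. -/
def equivProd : F9 ≃ ZMod 3 × ZMod 3 :=
  ⟨fun a => (a.re, a.im), fun p => ⟨p.1, p.2⟩, fun _ => rfl, fun _ => rfl⟩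

instance : Fintype F9 := Fintype.ofEquiv _ equivProd.symm

theorem card : Fintype.card F9 = 9 := by
  rw [Fintype.card_congr equivProd, Fintype.card_prod, ZMod.card]

instance : Zero F9 := ⟨⟨0, 0⟩⟩
instance : One F9 := ⟨⟨1, 0⟩⟩
instance : Add F9 := ⟨fun a b => ⟨a.re + b.re, a.im + b.im⟩⟩
instance : Neg F9 := ⟨fun a => ⟨-a.re, -a.im⟩⟩
instance : Mul F9 := ⟨fun a b => ⟨a.re * b.re - a.im * b.im, a.re * b.im + a.im * b.re⟩⟩
instance : Inv F9 := ⟨fun a =>
  ⟨a.re * (a.re * a.re + a.im * a.im), -a.im * (a.re * a.re + a.im * a.im)⟩⟩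

instance : CommRing F9 where
  add_assoc := by decide +kernel
  zero_add := by decide +kernel
  add_zero := by decide +kernel
  add_comm := by decide +kernel
  neg_add_cancel := by decide +kernel
  mul_assoc := by decide +kernel
  one_mul := by decide +kernel
  mul_one := by decide +kernel
  left_distrib := by decide +kernel
  right_distrib := by decide +kernel
  zero_mul := by decide +kernel
  mul_zero := by decide +kernel
  mul_comm := by decide +kernel
  nsmul := nsmulRec
  zsmul := zsmulRec
  npow := npowRec

instance : Field F9 where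
  exists_pair_ne := ⟨0, 1, by decide +kernel⟩
  mul_inv_cancel := by decide +kernel
  inv_zero := by decide +kernel
  nnqsmul := _
  qsmul := _

/-- Conjugation `x ↦ x³`. -/
def conj : F9 →+* F9 where
  toFun a := ⟨a.re, -a.im⟩
  map_one' := by decide +kernel
  map_zero' := by decide +kernel
  map_mul' := by decide +kernel
  map_add' := by decide +kernel

theorem conj_eq_pow : ∀ x : F9, conj x = x ^ 3 := by decide +kernel
theorem conj_conj : ∀ x : F9, conj (conj x) = x := by decide +kernel

theorem conj_ne_id : conj ≠ RingHom.id F9 := fun h =>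
  absurd (RingHom.congr_fun h ⟨0, 1⟩) (by decide +kernel)

end F9

end Cfsg.Agent.J2
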