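import Cfsg.Agent.Lib.Compute.PermCert

/-! Consequences of a verified stabiliser chain: point stabilisers, base, element enumeration and
orbit trees. -/

set_option autoImplicit false

namespace Cfsg.Agent.J2

open Cfsg.Agent.PermCert

section Abstract

variable {G : Type*} [Group G] {α : Type*} [MulAction G α]

theorem split_mem {b : α} {S T : List G} {L : List (Level G α)} (hg : Good ((b, S, T) :: L))
    {x : G} (hx : x ∈ prodSet ((b, S, T) :: L)) :
    ∃ t ∈ T, ∃ h ∈ prodSet L, t * h = x ∧ x • b = t • b := by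
  obtain ⟨t, ht, h, hh, rfl⟩ := hx
  exact ⟨t, ht, h, hh, rfl, by rw [mul_smul, fix_of_mem_prodSet hg hh]⟩

theorem mem_tail {b : α} {S T : List G} {L : List (Level G α)} (hg : Good ((b, S, T) :: L))
    {x : G} (hx : x ∈ prodSet ((b, S, T) :: L)) (hb : x • b = b) : x ∈ prodSet L := by
  obtain ⟨t, ht, h, hh, rfl, htb⟩ := split_mem hg hx
  have h1 : (1 : G) ∈ T := hg.2.2.2.1
  have : t = 1 := List.inj_on_of_nodup_map hg.2.2.2.2.1 ht h1
    (by rw [← htb, hb, one_smul])
  rw [this, one_mul]
  exact hh

theorem tail_sub {b : α} {S T : List G} {L : List (Level G α)} (hg : Good ((b, S, T) :: L))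
    {x : G} (hx : x ∈ prodSet L) : x ∈ prodSet ((b, S, T) :: L) :=
  ⟨1, hg.2.2.2.1, x, hx, one_mul x⟩

theorem eq_one_of_fix : ∀ {L : List (Level G α)}, Good L → ∀ {x : G}, x ∈ prodSet L →
    (∀ l ∈ L, x • l.1 = l.1) → x = 1 := by
  intro L
  induction L with
  | nil => intro _ x hx _; simpa [prodSet] using hx
  | cons l L ih =>
    obtain ⟨b, S, T⟩ := l
    intro hg x hx hfix
    exact ih hg.1 (mem_tail hg hx (hfix _ List.mem_cons_self))
      fun l hl => hfix l (List.mem_cons_of_mem _ hl)

end Abstract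

variable {w n : ℕ}

/-- Entry-by-entry application of a list of codes, the last code first. -/
def applyCodes (w : ℕ) (cs : List ℕ) (i : ℕ) : ℕ := cs.foldr (fun c x => get w c x) i

/-- All products of a chain, as lists of codes. -/
def allProds : List CLevel → List (List ℕ)
  | [] => [[]]
  | (_, _, T) :: L => T.flatMap fun t => (allProds L).map fun cs => t.2.1.1 :: cs

theorem exists_codes [NeZero n] : ∀ {L : List CLevel}, AllRep w n L →
    ∀ x ∈ prodSet (interp w n L), ∃ cs ∈ allProds L, ∀ i : Fin n, applyCodes w cs i = (x i : ℕ) := by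
  intro L
  induction L with
  | nil =>
    intro _ x hx
    simp [interp, prodSet] at hx
    exact ⟨[], by simp [allProds], by simp [hx, applyCodes]⟩
  | cons l L ih =>
    obtain ⟨b, S, T⟩ := l
    intro ha x hx
    obtain ⟨t, ht, h, hh, rfl⟩ := hx
    obtain ⟨e, he, rfl⟩ := List.mem_map.1 ht
    obtain ⟨cs, hcs, hcs'⟩ := ih ha.2.2 h hh
    obtain ⟨σ, hσ⟩ := ha.2.1 e he
    refine ⟨e.2.1.1 :: cs, List.mem_flatMap.2 ⟨e, he, List.mem_map.2 ⟨cs, hcs, rfl⟩⟩, fun i => ?_⟩
    rw [epsilon_rep hσ]
    show get w e.2.1.1 (applyCodes w cs i) = _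
    rw [hcs', (hσ (h i)).1]
    rfl

theorem cert_allRep [NeZero n] {gens : List Elt} {derived : List (Elt × List ℕ)}
    {levels : List CLevel} (h : checkCert w n gens derived levels = true) :
    AllRep w n levels := by
  have h' := h
  simp only [checkCert, Bool.and_eq_true, List.all_eq_true, Nat.ble_eq] at h'
  obtain ⟨⟨⟨⟨⟨hn, hval⟩, hder⟩, htop⟩, hlev⟩, hsift⟩ := h'
  have hpool := derived_spec hn derived gens
    (M := (⊤ : Submonoid (Equiv.Perm (Fin n))))
    (fun g hg => ⟨toPerm w n g, trivial, rep_toPerm (hval g hg)⟩) hder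
  exact (levels_spec hn levels hlev
    (fun s hs => let ⟨σ, _, h⟩ := hpool s (memCode_spec (htop s hs)); ⟨σ, h⟩)).1

theorem cert_prodSet [NeZero n] {gens : List Elt} {derived : List (Elt × List ℕ)}
    {levels : List CLevel} (h : checkCert w n gens derived levels = true)
    (x : Equiv.Perm (Fin n)) : x ∈ genGroup w n gens ↔ x ∈ prodSet (interp w n levels) := by
  obtain ⟨hg, he⟩ := cert_good h
  rw [← he, ← SetLike.mem_coe, closure_carrier, ← prodSet_eq _ hg]

/-- A forest over `roots` grown by the generators. -/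
def treeOK (w : ℕ) (gens : List Elt) (roots : List ℕ) (tree : List (ℕ × ℕ × ℕ)) : Bool :=
  let full := roots ++ tree.map fun t => t.1
  allBelow (fun p =>
    let t := tree.getD p (0, 0, 0)
    Nat.blt t.2.1 (roots.length + p) && Nat.blt t.2.2 gens.length &&
      Nat.beq (get w (gens.getD t.2.2 (0, 0)).1 (full.getD t.2.1 0)) t.1) tree.length

theorem tree_induction {gens : List Elt} {roots : List ℕ} {tree : List (ℕ × ℕ × ℕ)}
    (h : treeOK w gens roots tree = true) {P : ℕ → Prop} (hr : ∀ r ∈ roots, P r)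
    (hstep : ∀ g ∈ gens, ∀ x, P x → P (get w g.1 x)) :
    ∀ x ∈ roots ++ tree.map (fun t => t.1), P x := by
  intro x hx
  obtain ⟨k, hk, rfl⟩ := List.getElem_of_mem hx
  induction k using Nat.strong_induction_on with
  | _ k ih =>
    rcases Nat.lt_or_ge k roots.length with hk' | hk'
    · rw [List.getElem_append_left hk']
      exact hr _ (List.getElem_mem hk')
    · have hp : k - roots.length < tree.length := by
        simp [List.length_append] at hk; omega
      have hc := allBelow_spec _ _ h (k - roots.length) hp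
      simp only [Bool.and_eq_true, Nat.blt_eq, Nat.beq_eq] at hc
      obtain ⟨⟨h1, h2⟩, h3⟩ := hc
      rw [List.getD_eq_getElem _ _ hp] at h1 h2 h3
      have hlt : tree[k - roots.length].2.1 < (roots ++ tree.map fun t => t.1).length :=
        lt_trans (by omega) hk
      rw [List.getElem_append_right hk', List.getElem_map, ← h3, List.getD_eq_getElem _ _ hlt,
        List.getD_eq_getElem _ _ h2]
      exact hstep _ (List.getElem_mem h2) _
        (ih _ (by omega) hlt (List.getElem_mem hlt))

end Cfsg.Agent.J2
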