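import Cfsg.Agent.Lib.J2.U33
import Mathlib.GroupTheory.GroupAction.Blocks
import Mathlib.GroupTheory.Sylow

/-! The rank 3 action of J₂ on 100 points and simplicity. -/

set_option autoImplicit false
set_option maxRecDepth 20000

namespace Cfsg.Agent.J2

open Cfsg.Agent.PermCert

/-- The keys of the first transversal of a chain. -/
def headKeys : List CLevel → List ℕ
  | [] => []
  | (_, _, T) :: _ => T.map fun t => t.1

/-- Orbit data: lengths, distinctness and coverage. -/
def orbitsOK : Bool :=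
  Nat.beq (headKeys hLevels).length 36 && Nat.beq (headKeys h1Levels).length 63 &&
    Nat.beq (headKeys j2Levels).length 100 &&
    allBelow (fun x => (headKeys j2Levels).any fun y => Nat.beq x y) 100 &&
    allBelow (fun x => Nat.beq x 0 || ((headKeys hLevels).any fun y => Nat.beq x y) ||
      (headKeys h1Levels).any fun y => Nat.beq x y) 100

theorem orbits_ok : orbitsOK = true := by decide +kernel

theorem P100_le : H100 ≤ P100 := fun x hx => ((mem_H100 x).1 hx).1

theorem orbit_head {gens : List Elt} {derived : List (Elt × List ℕ)} {L : List CLevel}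
    (hL : checkCert 7 100 gens derived L = true) {b : ℕ} {S : List Elt}
    {T : List (ℕ × Elt × ℕ × ℕ)} {L' : List CLevel} (e : L = (b, S, T) :: L') :
    MulAction.orbit (genGroup 7 100 gens) (Fin.ofNat 100 b) =
      {x : Fin 100 | (x : ℕ) ∈ T.map fun t => t.1} := by
  obtain ⟨hg, -⟩ := cert_good hL
  subst e
  ext x
  constructor
  · rintro ⟨g, rfl⟩
    obtain ⟨τ, hτ, k, hk, -, hb⟩ := split_mem hg ((cert_prodSet hL _).1 g.2)
    obtain ⟨t, ht, rfl⟩ := List.mem_map.1 hτ
    obtain ⟨σ, hσ, -, hσb⟩ := rep_exists hL rfl t ht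
    refine List.mem_map.2 ⟨t, ht, ?_⟩
    rw [← hσb, ← epsilon_rep hσ]
    exact congrArg Fin.val hb.symm
  · intro hx
    obtain ⟨t, ht, htx⟩ := List.mem_map.1 hx
    obtain ⟨σ, -, hσm, hσb⟩ := rep_exists hL rfl t ht
    exact ⟨⟨σ, hσm⟩, Fin.ext (hσb.trans htx)⟩

theorem ncard_head {gens : List Elt} {derived : List (Elt × List ℕ)} {L : List CLevel}
    (hL : checkCert 7 100 gens derived L = true) {b : ℕ} {S : List Elt}
    {T : List (ℕ × Elt × ℕ × ℕ)} {L' : List CLevel} (e : L = (b, S, T) :: L') :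
    (MulAction.orbit (genGroup 7 100 gens) (Fin.ofNat 100 b)).ncard = T.length := by
  have hlt : ∀ k ∈ T.map (fun t => t.1), k < 100 := by
    intro k hk
    obtain ⟨t, ht, rfl⟩ := List.mem_map.1 hk
    obtain ⟨σ, -, -, hσb⟩ := rep_exists hL e t ht
    rw [← hσb]
    exact Fin.is_lt _
  have hnd : (T.map fun t => t.1).Nodup := by
    have hl := hL
    subst e
    simp only [checkCert, Bool.and_eq_true] at hl
    have hl' := hl.1.2
    simp only [checkLevels, Bool.and_eq_true] at hl'
    exact distinctKeys_spec _ hl'.1.1.2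
  rw [orbit_head hL e, ← List.length_map (as := T) (f := fun t => t.1)]
  have himg : (Fin.val '' {x : Fin 100 | (x : ℕ) ∈ T.map fun t => t.1}) =
      ((T.map fun t => t.1).toFinset : Set ℕ) := by
    ext k
    simp only [Set.mem_image, List.coe_toFinset]
    constructor
    · rintro ⟨x, hx, rfl⟩; exact hx
    · intro hk; exact ⟨⟨k, hlt k hk⟩, hk, rfl⟩
  rw [← Set.ncard_image_of_injective _ Fin.val_injective, himg, Set.ncard_coe_finset,
    List.toFinset_card_of_nodup hnd]

/-- The orbit of size 36. -/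
def O36 : Set (Fin 100) := MulAction.orbit H100 (Fin.ofNat 100 5)

/-- The orbit of size 63. -/
def O63 : Set (Fin 100) := MulAction.orbit H100 (Fin.ofNat 100 1)

theorem hLevels_cons : hLevels = (5, j2Level1.2.1, j2Level1.2.2) :: [j2Level2, j2Level3] := rfl

theorem h1Levels_cons :
    h1Levels = (1, h1Level0.2.1, h1Level0.2.2) :: [h1Level1, h1Level2] := rfl

theorem j2Levels_cons' : j2Levels = (0, j2Level0.2.1, j2Level0.2.2) :: hLevels := rfl

theorem keys_len : j2Level1.2.2.length = 36 ∧ h1Level0.2.2.length = 63 ∧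
    j2Level0.2.2.length = 100 := by
  have h := orbits_ok
  simp only [orbitsOK, Bool.and_eq_true, Nat.beq_eq] at h
  obtain ⟨⟨⟨⟨h1, h2⟩, h3⟩, -⟩, -⟩ := h
  rw [hLevels_cons] at h1
  rw [h1Levels_cons] at h2
  rw [j2Levels_cons'] at h3
  simp only [headKeys, List.length_map] at h1 h2 h3
  exact ⟨h1, h2, h3⟩

theorem ncard_O36 : O36.ncard = 36 :=
  (ncard_head h_cert hLevels_cons).trans keys_len.1

theorem ncard_O63 : O63.ncard = 63 :=
  (ncard_head h1_cert h1Levels_cons).trans keys_len.2.1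

theorem cover (x : Fin 100) : x = 0 ∨ x ∈ O36 ∨ x ∈ O63 := by
  have h := orbits_ok
  simp only [orbitsOK, Bool.and_eq_true] at h
  have hx := allBelow_spec _ _ h.2 x x.2
  simp only [Bool.or_eq_true, Nat.beq_eq, List.any_eq_true] at hx
  rcases hx with (h0 | ⟨y, hy, rfl⟩) | ⟨y, hy, rfl⟩
  · exact Or.inl (Fin.ext h0)
  · right; left
    show x ∈ MulAction.orbit _ _
    rw [orbit_head h_cert hLevels_cons]
    rw [hLevels_cons] at hy
    exact hy
  · right; right
    show x ∈ MulAction.orbit (genGroup 7 100 hGens) _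
    rw [orbit_head h1_cert h1Levels_cons]
    rw [h1Levels_cons] at hy
    exact hy

theorem transitive (x : Fin 100) : ∃ g ∈ P100, g 0 = x := by
  have hx : x ∈ MulAction.orbit P100 (Fin.ofNat 100 0) := by
    rw [orbit_head cert_ok j2Levels_cons']
    have h := orbits_ok
    simp only [orbitsOK, Bool.and_eq_true] at h
    have hx := allBelow_spec _ _ h.1.2 x x.2
    simp only [List.any_eq_true, Nat.beq_eq] at hx
    obtain ⟨y, hy, rfl⟩ := hx
    rw [j2Levels_cons'] at hy
    exact hy
  obtain ⟨g, hg⟩ := hx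
  exact ⟨g, g.2, hg⟩

instance : MulAction.IsPretransitive P100 (Fin 100) where
  exists_smul_eq x y := by
    obtain ⟨g, hg, hgx⟩ := transitive x
    obtain ⟨k, hk, hky⟩ := transitive y
    refine ⟨⟨k * g⁻¹, mul_mem hk (inv_mem hg)⟩, ?_⟩
    show (k * g⁻¹) x = y
    rw [← hgx, Equiv.Perm.mul_apply, ← Equiv.Perm.mul_apply g⁻¹, inv_mul_cancel, Equiv.Perm.one_apply, hky]

theorem invariant_set {S : Set (Fin 100)} (h0 : (0 : Fin 100) ∉ S)
    (hinv : ∀ h ∈ H100, ∀ x ∈ S, h x ∈ S) : S.ncard ∈ [0, 36, 63, 99] := by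
  have hor : ∀ (p : Fin 100), (∃ x ∈ MulAction.orbit H100 p, x ∈ S) →
      MulAction.orbit H100 p ⊆ S := by
    rintro p ⟨x, ⟨g, hg⟩, hxS⟩ y ⟨k, rfl⟩
    have := hinv (k * g⁻¹ : H100) (k * g⁻¹ : H100).2 x hxS
    rw [← hg] at this
    simpa [Subgroup.smul_def] using this
  have hsub : ∀ x ∈ S, x ∈ O36 ∨ x ∈ O63 := fun x hx =>
    (cover x).resolve_left fun e => h0 (e ▸ hx)
  by_cases h36 : ∃ x ∈ O36, x ∈ S <;> by_cases h63 : ∃ x ∈ O63, x ∈ S
  · have hS : S = {(0 : Fin 100)}ᶜ := by
      ext x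
      refine ⟨fun hx e => h0 ((show x = 0 from e) ▸ hx), fun hx => ?_⟩
      rcases cover x with h | h | h
      · exact absurd h hx
      · exact hor _ h36 h
      · exact hor _ h63 h
    rw [hS, Set.ncard_compl, Nat.card_fin, Set.ncard_singleton]
    simp
  · have hS : S = O36 := Set.Subset.antisymm
      (fun x hx => (hsub x hx).resolve_right fun h => h63 ⟨x, h, hx⟩) (hor _ h36)
    rw [hS, ncard_O36]
    simp
  · have hS : S = O63 := Set.Subset.antisymm
      (fun x hx => (hsub x hx).resolve_left fun h => h36 ⟨x, h, hx⟩) (hor _ h63)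
    rw [hS, ncard_O63]
    simp
  · have hS : S = ∅ := Set.eq_empty_of_forall_notMem fun x hx => (hsub x hx).elim
      (fun h => h36 ⟨x, h, hx⟩) (fun h => h63 ⟨x, h, hx⟩)
    rw [hS, Set.ncard_empty]
    simp

theorem card_P100 : Nat.card P100 = 604800 := by rw [cert_card cert_ok]; decide +kernel

theorem not_normal_regular (N : Subgroup P100) [N.Normal]
    (hreg : Function.Bijective fun n : N => ((n : P100) : Equiv.Perm (Fin 100)) 0) : False := by
  haveI : Fact (Nat.Prime 5) := ⟨by norm_num⟩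
  have hcard : Nat.card N = 100 := by
    rw [Nat.card_congr (Equiv.ofBijective _ hreg), Nat.card_fin]
  obtain ⟨P⟩ := (inferInstance : Nonempty (Sylow 5 N))
  have hfac : Nat.factorization 100 5 = 2 := by
    rw [show (100 : ℕ) = 5 ^ 2 * 4 from rfl, Nat.factorization_mul (by norm_num) (by norm_num),
      Nat.factorization_pow]
    simp [Nat.Prime.factorization_self (show Nat.Prime 5 by norm_num),
      Nat.factorization_eq_zero_of_not_dvd (show ¬ 5 ∣ 4 by norm_num)]
  have hP : Nat.card P = 25 := by rw [P.card_eq_multiplicity, hcard, hfac]; norm_num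
  have hidx : P.index = 4 := by
    have := Subgroup.card_mul_index (P : Subgroup N)
    rw [hcard, show Nat.card (P : Subgroup N) = 25 from hP] at this
    omega
  have hone : Nat.card (Sylow 5 N) = 1 := by
    have h1 := P.card_dvd_index
    rw [hidx] at h1
    have h2 := card_sylow_modEq_one 5 N
    have h3 : Nat.card (Sylow 5 N) ≤ 4 := Nat.le_of_dvd (by norm_num) h1
    have h4 : 0 < Nat.card (Sylow 5 N) := Nat.card_pos
    unfold Nat.ModEq at h2
    omega
  haveI : Subsingleton (Sylow 5 N) := (Nat.card_eq_one_iff_unique.1 hone).1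
  let A : Set N := {n | n ≠ 1 ∧ n ^ 25 = 1}
  have hA : A = ((P : Subgroup N) : Set N) \ {1} := by
    ext n
    constructor
    · rintro ⟨hn1, hn⟩
      have hp : IsPGroup 5 (Subgroup.zpowers n) := by
        obtain ⟨k, -, hk⟩ := (Nat.dvd_prime_pow (show Nat.Prime 5 by norm_num)).1
          (show orderOf n ∣ 5 ^ 2 from orderOf_dvd_of_pow_eq_one hn)
        exact IsPGroup.of_card (by rw [Nat.card_zpowers, hk])
      obtain ⟨Q, hQ⟩ := hp.exists_le_sylow
      rw [Subsingleton.elim Q P] at hQ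
      exact ⟨hQ (Subgroup.mem_zpowers n), hn1⟩
    · rintro ⟨hn, hn1⟩
      refine ⟨hn1, ?_⟩
      have e : (⟨n, hn⟩ : (P : Subgroup N)) ^ 25 = 1 := by
        rw [← show Nat.card (P : Subgroup N) = 25 from hP]; exact pow_card_eq_one'
      exact congrArg Subtype.val e
  have hAc : A.ncard = 24 := by
    rw [hA, Set.ncard_sdiff_singleton_of_mem (one_mem _), ← Nat.card_coe_set_eq]
    exact congrArg (· - 1) hP
  let img : Set (Fin 100) := (fun n : N => ((n : P100) : Equiv.Perm (Fin 100)) 0) '' A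
  have himg : img.ncard = 24 := by rw [Set.ncard_image_of_injective _ hreg.1, hAc]
  have h0 : (0 : Fin 100) ∉ img := by
    rintro ⟨n, hn, e⟩
    exact hn.1 (hreg.1 (e.trans (by rfl)))
  have hinv : ∀ h ∈ H100, ∀ x ∈ img, h x ∈ img := by
    rintro h hh _ ⟨n, ⟨hn1, hn⟩, rfl⟩
    obtain ⟨hP', hh0⟩ := (mem_H100 h).1 hh
    let g : P100 := ⟨h, hP'⟩
    let m : N := ⟨g * n * g⁻¹, Subgroup.Normal.conj_mem ‹_› _ n.2 g⟩
    refine ⟨m, ⟨fun e => hn1 ?_, ?_⟩, ?_⟩
    · have e' : g * (n : P100) * g⁻¹ = 1 := congrArg Subtype.val e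
      rw [mul_inv_eq_one, mul_eq_left] at e'
      exact Subtype.ext e'
    · apply Subtype.ext
      show (g * (n : P100) * g⁻¹) ^ 25 = 1
      rw [conj_pow]
      have e' : (n : P100) ^ 25 = 1 := congrArg Subtype.val hn
      rw [e', mul_one, mul_inv_cancel]
    · show h (((n : P100) : Equiv.Perm (Fin 100)) (h⁻¹ 0)) = _
      rw [show h⁻¹ 0 = 0 by conv_lhs => rw [← hh0]; exact h.symm_apply_apply 0]
  have := invariant_set h0 hinv
  rw [himg] at this
  simp at this

theorem isSimple_P100 : IsSimpleGroup P100 := by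
  haveI : Nontrivial P100 := Finite.one_lt_card_iff_nontrivial.1 (by rw [card_P100]; norm_num)
  refine ⟨fun N hN => ?_⟩
  by_cases htriv : ∀ n ∈ N, ((n : Equiv.Perm (Fin 100)) 0) = 0
  · left
    rw [Subgroup.eq_bot_iff_forall]
    intro n hn
    refine Subtype.ext (Equiv.ext fun x => ?_)
    obtain ⟨g, hg, rfl⟩ := transitive x
    have := htriv _ (hN.conj_mem n hn (⟨g, hg⟩⁻¹ : P100))
    simp only [inv_inv, Subgroup.coe_mul, InvMemClass.coe_inv, Equiv.Perm.mul_apply] at this
    have h2 := congrArg g this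
    rwa [show ∀ y, g (g⁻¹ y) = y from fun y => g.apply_symm_apply y] at h2
  · right
    have hblock : MulAction.IsBlock P100 (MulAction.orbit N (0 : Fin 100)) :=
      .orbit_of_normal 0
    have hdvd := hblock.ncard_dvd_card (MulAction.nonempty_orbit 0)
    rw [Nat.card_fin] at hdvd
    let S : Set (Fin 100) := MulAction.orbit N (0 : Fin 100) \ {0}
    have hinv : ∀ h ∈ H100, ∀ x ∈ S, h x ∈ S := by
      rintro h hh x ⟨⟨n, rfl⟩, hx0⟩
      obtain ⟨hP', hh0⟩ := (mem_H100 h).1 hh
      have hi : h⁻¹ 0 = 0 := by conv_lhs => rw [← hh0]; exact h.symm_apply_apply 0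
      refine ⟨⟨⟨(⟨h, hP'⟩ : P100) * (n : P100) * (⟨h, hP'⟩ : P100)⁻¹,
        hN.conj_mem _ n.2 _⟩, ?_⟩, fun e => hx0 ?_⟩
      · show h (((n : P100) : Equiv.Perm (Fin 100)) (h⁻¹ 0)) = h (n • (0 : Fin 100))
        rw [hi]
        rfl
      · have e' : h (n • (0 : Fin 100)) = 0 := e
        exact h.injective (e'.trans hh0.symm)
    have hS := invariant_set (S := S) (fun h => h.2 rfl) hinv
    have hne : S.ncard ≠ 0 := by
      simp only [not_forall] at htriv
      obtain ⟨n, hn, hn0⟩ := htriv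
      exact ((Set.ncard_pos (Set.toFinite S)).2 ⟨_, ⟨⟨n, hn⟩, rfl⟩, hn0⟩).ne'
    have hO : (MulAction.orbit N (0 : Fin 100)).ncard = S.ncard + 1 := by
      rw [← Set.ncard_sdiff_singleton_add_one (MulAction.mem_orbit_self 0)]
    have hfull : MulAction.orbit N (0 : Fin 100) = Set.univ := by
      rw [hO] at hdvd
      simp only [List.mem_cons, List.not_mem_nil, or_false] at hS
      rcases hS with h | h | h | h
      · exact absurd h hne
      · rw [h] at hdvd; norm_num at hdvd
      · rw [h] at hdvd; norm_num at hdvd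
      · exact Set.eq_of_subset_of_ncard_le (Set.subset_univ _)
          (by rw [Set.ncard_univ, Nat.card_fin, hO, h])
    haveI := isSimple_H100
    let M : Subgroup H100 := N.comap (Subgroup.inclusion P100_le)
    rcases (inferInstance : M.Normal).eq_bot_or_eq_top with hM | hM
    · exfalso
      refine not_normal_regular N ⟨fun a b e => ?_, fun x => ?_⟩
      · have h1 : ((b⁻¹ * a : N) : Equiv.Perm (Fin 100)) 0 = 0 := by
          show (((b : P100) : Equiv.Perm (Fin 100))⁻¹) (((a : P100) : Equiv.Perm (Fin 100)) 0) = 0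
          simp only at e
          rw [e]
          exact ((b : P100) : Equiv.Perm (Fin 100)).symm_apply_apply 0
        have h2 : ((b⁻¹ * a : N) : Equiv.Perm (Fin 100)) ∈ H100 :=
          (mem_H100 _).2 ⟨((b⁻¹ * a : N) : P100).2, h1⟩
        have h3 : (⟨_, h2⟩ : H100) ∈ M := (b⁻¹ * a : N).2
        rw [hM, Subgroup.mem_bot] at h3
        have h5 := congrArg (fun z : H100 => (z : Equiv.Perm (Fin 100))) h3
        have h4 : (b⁻¹ * a : N) = 1 := Subtype.ext (Subtype.ext h5)
        exact (inv_mul_eq_one.1 h4).symm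
      · obtain ⟨n, hn⟩ : x ∈ MulAction.orbit N (0 : Fin 100) := hfull ▸ Set.mem_univ x
        exact ⟨n, hn⟩
    · rw [Subgroup.eq_top_iff']
      intro g
      obtain ⟨n, hn⟩ : (g : Equiv.Perm (Fin 100)) 0 ∈ MulAction.orbit N (0 : Fin 100) :=
        hfull ▸ Set.mem_univ _
      have hn' : ((n : P100) : Equiv.Perm (Fin 100)) 0 = (g : Equiv.Perm (Fin 100)) 0 := hn
      have h1 : (((n : P100)⁻¹ * g : P100) : Equiv.Perm (Fin 100)) ∈ H100 :=
        (mem_H100 _).2 ⟨((n : P100)⁻¹ * g).2, by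
          show ((n : P100) : Equiv.Perm (Fin 100))⁻¹ ((g : Equiv.Perm (Fin 100)) 0) = 0
          rw [← hn']
          exact ((n : P100) : Equiv.Perm (Fin 100)).symm_apply_apply 0⟩
      have h2 : (⟨_, h1⟩ : H100) ∈ M := hM ▸ Subgroup.mem_top _
      have h3 : (n : P100)⁻¹ * g ∈ N := h2
      have := mul_mem n.2 h3
      rwa [mul_inv_cancel_left] at this

end Cfsg.Agent.J2
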