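import Cfsg.Agent.Lib.J2.Spec
import Cfsg.Agent.Lib.J2.OrderData
import Cfsg.Agent.Lib.J2.Group

/-! The set of element orders of J₂. -/

set_option autoImplicit false

namespace Cfsg.Agent.J2

open Cfsg.Agent.PermCert

/-- The witnesses lie in the group and have the claimed orders. -/
def witOK : Bool :=
  (orderWit.map fun t => t.1) == j2Orders &&
  orderWit.all fun t =>
    validElt 7 100 t.2 && sift 7 100 j2Levels t.2.1 &&
      j2Base.all (fun b => Nat.beq (iterCodes 7 [t.2.1] t.1 b) b) &&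
      (List.range t.1).all fun d => Nat.beq d 0 ||
        j2Base.any fun b => !Nat.beq (iterCodes 7 [t.2.1] d b) b

theorem witOK_ok : witOK = true := by decide +kernel

theorem exists_order {m : ℕ} (hm : m ∈ j2Orders) :
    ∃ g ∈ G100, orderOf g = m := by
  have h := witOK_ok
  simp only [witOK, Bool.and_eq_true, beq_iff_eq, List.all_eq_true] at h
  obtain ⟨hmap, hall⟩ := h
  rw [← hmap] at hm
  obtain ⟨t, ht, rfl⟩ := List.mem_map.1 hm
  obtain ⟨⟨⟨hv, hs⟩, hfix⟩, hmin⟩ := hall t ht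
  have hg : toPerm 7 100 t.2 ∈ G100 := cert_mem cert_ok hv hs
  have hbase : ∀ b ∈ j2Base, b % 100 = b := by decide
  have happ : ∀ i : Fin 100, applyCodes 7 [t.2.1] i = (toPerm 7 100 t.2 i : ℕ) :=
    fun i => (rep_toPerm hv i).1
  have hpos : 0 < t.1 := by
    have : ∀ m ∈ j2Orders, 0 < m := by decide
    exact this _ (by rw [← hmap]; exact List.mem_map.2 ⟨t, ht, rfl⟩)
  refine ⟨_, hg, (orderOf_eq_iff hpos).2 ⟨eq_one_of_base (pow_mem hg _) fun x hx => ?_, ?_⟩⟩
  · have := iterCodes_pow happ t.1 (Fin.ofNat 100 x)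
    rw [Fin.val_ofNat, hbase x hx, Nat.eq_of_beq_eq_true (hfix x hx)] at this
    exact this.symm
  · intro d hd hd0 he
    have := hmin d (List.mem_range.2 hd)
    simp only [Bool.or_eq_true, Nat.beq_eq, List.any_eq_true, Bool.not_eq_true'] at this
    rcases this with h' | ⟨b, hb, hne⟩
    · omega
    · have e := iterCodes_pow happ d (Fin.ofNat 100 b)
      rw [he, Equiv.Perm.one_apply, Fin.val_ofNat, hbase b hb] at e
      simp [e] at hne

theorem range_orderOf_J2 :
    Set.range (orderOf : Cfsg.Spor.J2 → ℕ) = {m | m ∈ j2Orders} := by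
  ext m
  constructor
  · rintro ⟨x, rfl⟩
    rw [← MulEquiv.orderOf_eq j2Equiv x, ← Subgroup.orderOf_coe]
    exact orderOf_mem _ (j2Equiv x).2
  · intro hm
    obtain ⟨g, hg, e⟩ := exists_order hm
    exact ⟨j2Equiv.symm ⟨g, hg⟩, by rw [MulEquiv.orderOf_eq, Subgroup.orderOf_mk, e]⟩

end Cfsg.Agent.J2
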