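import Cfsg.Agent.Lib.J2.CensusDefs

/-! Kernel check for the census of minimal vectors. -/

namespace Cfsg.Agent.J2

theorem wit_ok3 : (List.range' 22 8).all witAt = true := by decide +kernel

end Cfsg.Agent.J2
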