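import Cfsg.Agent.Lib.J2.CensusWit0
import Cfsg.Agent.Lib.J2.CensusWit1
import Cfsg.Agent.Lib.J2.CensusWit2
import Cfsg.Agent.Lib.J2.CensusWit3
import Cfsg.Agent.Lib.J2.CensusWit4
import Cfsg.Agent.Lib.J2.CensusWit5
import Cfsg.Agent.Lib.J2.CensusSearch0
import Cfsg.Agent.Lib.J2.CensusSearch1
import Cfsg.Agent.Lib.J2.CensusSearch2

/-! Every vector of the icosian Leech lattice with `r·r = 4` is a unit times one of the 315 listed
representatives. -/

set_option autoImplicit false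
set_option linter.unusedSimpArgs false
set_option maxHeartbeats 2000000

noncomputable section

namespace Cfsg.Agent.J2

open Cfsg.Spor Quaternion

/-- The representative of line `i`. -/
def line (i : ℕ) : V := lineList.getD i ⟨Q.zero, Q.zero, Q.zero⟩

theorem length_lineList : lineList.length = 315 := by decide +kernel

theorem units_ok : (List.range 120).all (fun k => (Q.unit k).inI &&
    decide ((Q.unit k).raw (Q.unit k).star = Q.one.dbl) &&
    decide ((Q.unit k).star.raw (Q.unit k) = Q.one.dbl)) = true := by decide +kernel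

theorem unit_inI {k : ℕ} (hk : k < 120) : (Q.unit k).inI = true := by
  have := List.all_eq_true.1 units_ok k (List.mem_range.2 hk)
  simp only [Bool.and_eq_true] at this
  exact this.1.1

theorem unit_mul_star {k : ℕ} (hk : k < 120) :
    toH (Q.unit k) * star (toH (Q.unit k)) = 1 ∧ star (toH (Q.unit k)) * toH (Q.unit k) = 1 := by
  have h := List.all_eq_true.1 units_ok k (List.mem_range.2 hk)
  simp only [Bool.and_eq_true, decide_eq_true_eq] at h
  have e1 := congrArg toH h.1.2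
  have e2 := congrArg toH h.2
  rw [toH_raw, toH_dbl, toH_one, toH_star] at e1 e2
  constructor
  · have := congrArg (fun z : ℍ[ℝ] => (1 / 2 : ℝ) • z) e1
    simp only [smul_add, ← add_smul] at this
    norm_num at this
    exact this
  · have := congrArg (fun z : ℍ[ℝ] => (1 / 2 : ℝ) • z) e2
    simp only [smul_add, ← add_smul] at this
    norm_num at this
    exact this

theorem wit_ok : ∀ i < 47, witAt i = true := by
  intro i hi
  have h := fun {a n : ℕ} (e : (List.range' a n).all witAt = true) (h1 : a ≤ i) (h2 : i < a + n) =>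
    List.all_eq_true.1 e i (List.mem_range'_1.2 ⟨h1, h2⟩)
  by_cases h0 : i < 8; · exact h wit_ok0 (by omega) (by omega)
  by_cases h1 : i < 15; · exact h wit_ok1 (by omega) (by omega)
  by_cases h2 : i < 22; · exact h wit_ok2 (by omega) (by omega)
  by_cases h3 : i < 30; · exact h wit_ok3 (by omega) (by omega)
  by_cases h4 : i < 38; · exact h wit_ok4 (by omega) (by omega)
  exact h wit_ok5 (by omega) (by omega)

theorem search_ok : ∀ k < 52, searchAt k = true := by
  intro i hi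
  have h := fun {a n : ℕ} (e : (List.range' a n).all searchAt = true) (h1 : a ≤ i) (h2 : i < a + n) =>
    List.all_eq_true.1 e i (List.mem_range'_1.2 ⟨h1, h2⟩)
  by_cases h0 : i < 14; · exact h search_ok0 (by omega) (by omega)
  by_cases h1 : i < 33; · exact h search_ok1 (by omega) (by omega)
  exact h search_ok2 (by omega) (by omega)

theorem length_scPairs : scPairs.length = 47 := by decide +kernel

/-! ### Norms -/

theorem toH_norm (p : Q) :
    toH p * star (toH p) = ((sval (p.nA, p.nB) / 4 : ℝ) : ℍ[ℝ]) := by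
  rw [Quaternion.self_mul_star]
  congr 1
  rw [Quaternion.normSq_def']
  simp [sval, Q.nA, Q.nB]
  linear_combination (((p.a.2 : ℝ) * p.a.2 + p.b.2 * p.b.2 + p.c.2 * p.c.2 + p.d.2 * p.d.2) / 4) *
    tau_sq

theorem sval_norm_nonneg (p : Q) : 0 ≤ sval (p.nA, p.nB) ∧ 0 ≤ sconj (p.nA, p.nB) := by
  constructor
  · have h : sval (p.nA, p.nB) = sval p.a ^ 2 + sval p.b ^ 2 + sval p.c ^ 2 + sval p.d ^ 2 := by
      simp [sval, Q.nA, Q.nB]
      linear_combination (-((p.a.2 : ℝ) * p.a.2 + p.b.2 * p.b.2 + p.c.2 * p.c.2 + p.d.2 * p.d.2)) *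
        tau_sq
    rw [h]; positivity
  · have h : sconj (p.nA, p.nB) = sconj p.a ^ 2 + sconj p.b ^ 2 + sconj p.c ^ 2 + sconj p.d ^ 2 := by
      simp [sconj, Q.nA, Q.nB]
      linear_combination (-((p.a.2 : ℝ) * p.a.2 + p.b.2 * p.b.2 + p.c.2 * p.c.2 + p.d.2 * p.d.2)) *
        sig_sq
    rw [h]; positivity

theorem norm_eqs {v : V} (hn : qip (toV v) (toV v) = 4) :
    v.x.nA + v.y.nA + v.z.nA = 16 ∧ v.x.nB + v.y.nB + v.z.nB = 0 := by
  simp only [qip, Fin.sum_univ_three, toV_zero, toV_one, toV_two, toH_norm] at hn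
  rw [show (4 : ℍ[ℝ]) = ((4 : ℝ) : ℍ[ℝ]) from by norm_cast, ← Quaternion.coe_add,
    ← Quaternion.coe_add] at hn
  have := Quaternion.coe_injective hn
  have e : sval (v.x.nA + v.y.nA + v.z.nA, v.x.nB + v.y.nB + v.z.nB) = sval (16, 0) := by
    simp only [sval] at this ⊢
    push_cast at this ⊢
    linarith
  simpa using sval_injective e

theorem totNonneg_of {a b : ℤ} (h1 : 0 ≤ sval (a, b)) (h2 : 0 ≤ sconj (a, b)) :
    totNonneg a b = true := by
  have h3 := add_nonneg h1 h2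
  have h4 := mul_nonneg h1 h2
  simp only [sval, sconj, sig_eq] at h3 h4
  simp only [totNonneg, Bool.and_eq_true, decide_eq_true_eq]
  constructor
  · have : (0 : ℝ) ≤ ((2 * a + b : ℤ) : ℝ) := by push_cast; linarith
    exact_mod_cast this
  · have : (0 : ℝ) ≤ ((a * a + a * b - b * b : ℤ) : ℝ) := by
      push_cast
      calc (0 : ℝ) ≤ ((a : ℝ) + b * tau) * ((a : ℝ) + b * (1 - tau)) := h4
        _ = (a : ℝ) * a + a * b - b * b := by linear_combination (-(b : ℝ) * b) * tau_sq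
    exact_mod_cast this

theorem allowed_of {p q r : Q} (ha : p.nA + q.nA + r.nA = 16) (hb : p.nB + q.nB + r.nB = 0) :
    allowed p = true := by
  obtain ⟨h1, h2⟩ := sval_norm_nonneg p
  obtain ⟨h3, h4⟩ := sval_norm_nonneg q
  obtain ⟨h5, h6⟩ := sval_norm_nonneg r
  simp only [allowed, Bool.and_eq_true]
  refine ⟨totNonneg_of h1 h2, totNonneg_of ?_ ?_⟩
  · rw [show (16 - p.nA, -p.nB) = (q.nA + r.nA, q.nB + r.nB) from Prod.ext (by omega) (by omega)]
    simp only [sval] at h3 h5 ⊢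
    push_cast
    linarith
  · rw [show (16 - p.nA, -p.nB) = (q.nA + r.nA, q.nB + r.nB) from Prod.ext (by omega) (by omega)]
    simp only [sconj] at h4 h6 ⊢
    push_cast
    linarith

/-! ### The enumeration -/

theorem scPairs_ok : (List.range 11).all (fun a => (List.range 7).all fun b =>
    let p : ℤ × ℤ := ((a : ℤ) - 5, (b : ℤ) - 3)
    !decide (qf p ≤ 32) || scPairs.any fun q => decide (q = p)) = true := by decide +kernel

theorem qf_nonneg (x : ℤ × ℤ) : 0 ≤ qf x := by
  unfold qf; nlinarith [sq_nonneg (2 * x.1 + x.2), sq_nonneg x.2]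

theorem mem_scPairs {x : ℤ × ℤ} (h : qf x ≤ 32) : x ∈ scPairs := by
  unfold qf at h
  have hb1 : x.2 ≤ 3 := by nlinarith [sq_nonneg (2 * x.1 + x.2)]
  have hb2 : -3 ≤ x.2 := by nlinarith [sq_nonneg (2 * x.1 + x.2)]
  have ha1 : x.1 ≤ 5 := by nlinarith [sq_nonneg (x.1 + 3 * x.2)]
  have ha2 : -5 ≤ x.1 := by nlinarith [sq_nonneg (x.1 + 3 * x.2)]
  have := List.all_eq_true.1 (List.all_eq_true.1 scPairs_ok (x.1 + 5).toNat
    (List.mem_range.2 (by omega))) (x.2 + 3).toNat (List.mem_range.2 (by omega))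
  have e : ((((x.1 + 5).toNat : ℕ) : ℤ) - 5, (((x.2 + 3).toNat : ℕ) : ℤ) - 3) = x :=
    Prod.ext (by omega) (by omega)
  simp only [e, Bool.or_eq_true, Bool.not_eq_true', decide_eq_false_iff_not, List.any_eq_true,
    decide_eq_true_eq] at this
  rcases this with h' | ⟨q, hq, rfl⟩
  · exact absurd (by unfold qf; exact h) h'
  · exact hq

theorem mem_bucketOf {x y : ℤ} {p : ℤ × ℤ} (hp : p ∈ scPairs) (h1 : 2 ∣ p.1 + x) (h2 : 2 ∣ p.2 + y) :
    p ∈ bucketOf x y := by
  unfold bucketOf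
  have e : ∀ z : ℤ, (z % 2 == 0) = decide (z % 2 = 0) := fun z => by simp [beq_eq_decide]
  simp only [e]
  by_cases hx : x % 2 = 0 <;> by_cases hy : y % 2 = 0 <;>
    simp [hx, hy, parityBucket, List.mem_filter, hp] <;> omega

theorem mem_icoEnum {p : Q} (hp : p.inI = true) (ha : allowed p = true) :
    ∃ i < 47, p ∈ (icoEnumAt (scPairs.getD i (0, 0))).filter allowed := by
  simp only [allowed, totNonneg, Bool.and_eq_true, decide_eq_true_eq] at ha
  have hsum : qf p.a + qf p.b + qf p.c + qf p.d ≤ 32 := by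
    have e : qf p.a + qf p.b + qf p.c + qf p.d = 2 * p.nA + p.nB := by
      simp only [qf, Q.nA, Q.nB]; ring
    omega
  have := qf_nonneg p.a
  have := qf_nonneg p.b
  have := qf_nonneg p.c
  have := qf_nonneg p.d
  rw [Q.inI_iff] at hp
  obtain ⟨i, hi, ei⟩ := List.getElem_of_mem (mem_scPairs (x := p.a) (by omega))
  refine ⟨i, length_scPairs ▸ hi, List.mem_filter.2 ⟨?_, ?_⟩⟩
  · simp only [List.getD_eq_getElem _ _ hi, ei, icoEnumAt, List.mem_flatMap, List.mem_filter,
      List.mem_map, decide_eq_true_eq]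
    refine ⟨p.b, ⟨mem_scPairs (by omega), by omega⟩, p.c,
      ⟨mem_bucketOf (mem_scPairs (by omega)) ?_ ?_, by omega⟩, p.d,
      ⟨mem_bucketOf (mem_scPairs (by omega)) ?_ ?_, hsum⟩, rfl⟩ <;> omega
  · simp only [allowed, totNonneg, Bool.and_eq_true, decide_eq_true_eq]
    exact ha

theorem witCheck_spec : ∀ (ps : List Q) (ws : List (ℕ × ℕ)), witCheck ps ws = true →
    ∀ p ∈ ps, inTable p = true ∧
      ∃ u < 120, ∃ k < 52, (Q.unit u).mul (repList.getD k Q.one) = p := by
  intro ps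
  induction ps with
  | nil => intro _ _ p hp; simp at hp
  | cons q ps ih =>
    intro ws h p hp
    cases ws with
    | nil => simp [witCheck] at h
    | cons w ws =>
      obtain ⟨u, k⟩ := w
      simp only [witCheck, Bool.and_eq_true, Nat.blt_eq, decide_eq_true_eq] at h
      rcases List.mem_cons.1 hp with rfl | hp
      · exact ⟨h.1.1.1.1, u, h.1.1.1.2, k, h.1.1.2, h.1.2⟩
      · exact ih ws h.2 p hp

theorem short_spec {p : Q} (hp : p.inI = true) (ha : allowed p = true) :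
    inTable p = true ∧ ∃ u < 120, ∃ k < 52, (Q.unit u).mul (repList.getD k Q.one) = p :=
  by
  obtain ⟨i, hi, hmem⟩ := mem_icoEnum hp ha
  exact witCheck_spec _ _ (wit_ok i hi) p hmem

/-! ### Keys -/

theorem par_congr {z w : ℤ} (e : 2 ∣ z + w) : Q.par z = Q.par w := by
  unfold Q.par; congr 1; omega

theorem kh_forms {s : Q} (hs : s.inI = true) (h : inIdeal s Q.h = true) :
    2 ∣ s.b.1 + s.a.1 ∧ 2 ∣ s.b.2 + s.a.2 ∧
    2 ∣ s.a.2 + (s.c.1 - s.b.2 - s.b.1 - s.a.2) / 2 + (s.d.1 - s.b.2 - s.a.2 - s.a.1) / 2 ∧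
    2 ∣ s.a.2 + s.a.1 + (s.c.2 - s.b.1 - s.a.2 - s.a.1) / 2 +
      (s.d.2 - s.b.2 - s.b.1 - s.a.1) / 2 := by
  obtain ⟨a, ha, e⟩ := (inIdeal_h hs).1 h
  obtain ⟨r, hr, rfl⟩ := (mem_icosians_iff a).1 ha
  obtain rfl : s = r.mul Q.h := toH_injective (by
    rw [e, toH_mul hr h_inI, toH_h])
  obtain ⟨⟨a1, a2⟩, ⟨b1, b2⟩, ⟨c1, c2⟩, ⟨d1, d2⟩⟩ := r
  rw [Q.inI_iff] at hr
  obtain ⟨⟨e, he⟩, ⟨f, hf⟩, ⟨g, hg⟩, ⟨m, hm⟩⟩ := hr
  simp only at he hf hg hm
  obtain rfl : c1 = 2 * e - b2 - b1 - a2 := by omega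
  obtain rfl : c2 = 2 * f - b1 - a2 - a1 := by omega
  obtain rfl : d1 = 2 * g - b2 - a2 - a1 := by omega
  obtain rfl : d2 = 2 * m - b2 - b1 - a1 := by omega
  simp only [Q.mul, Q.half, Q.mapZ, Q.raw, Q.star, Q.h, sadd, sneg, smul']
  refine ⟨?_, ?_, ?_, ?_⟩ <;> omega

theorem khb_forms {s : Q} (hs : s.inI = true) (h : inIdeal s Q.h.star = true) :
    2 ∣ s.a.2 + s.a.1 + (s.c.1 - s.b.2 - s.b.1 - s.a.2) / 2 ∧
    2 ∣ s.b.1 + (s.c.1 - s.b.2 - s.b.1 - s.a.2) / 2 + (s.d.2 - s.b.2 - s.b.1 - s.a.1) / 2 ∧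
    2 ∣ s.b.2 + (s.d.1 - s.b.2 - s.a.2 - s.a.1) / 2 + (s.d.2 - s.b.2 - s.b.1 - s.a.1) / 2 ∧
    2 ∣ s.b.2 + s.a.1 + (s.c.2 - s.b.1 - s.a.2 - s.a.1) / 2 := by
  obtain ⟨a, ha, e⟩ := (inIdeal_hbar hs).1 h
  obtain ⟨r, hr, rfl⟩ := (mem_icosians_iff a).1 ha
  obtain rfl : s = r.mul Q.h.star := toH_injective (by
    rw [e, toH_mul hr (inI_star h_inI), toH_star, toH_h])
  obtain ⟨⟨a1, a2⟩, ⟨b1, b2⟩, ⟨c1, c2⟩, ⟨d1, d2⟩⟩ := r
  rw [Q.inI_iff] at hr
  obtain ⟨⟨e, he⟩, ⟨f, hf⟩, ⟨g, hg⟩, ⟨m, hm⟩⟩ := hr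
  simp only at he hf hg hm
  obtain rfl : c1 = 2 * e - b2 - b1 - a2 := by omega
  obtain rfl : c2 = 2 * f - b1 - a2 - a1 := by omega
  obtain rfl : d1 = 2 * g - b2 - a2 - a1 := by omega
  obtain rfl : d2 = 2 * m - b2 - b1 - a1 := by omega
  simp only [Q.mul, Q.half, Q.mapZ, Q.raw, Q.star, Q.h, sadd, sneg, smul']
  refine ⟨?_, ?_, ?_, ?_⟩ <;> omega

theorem kh_congr {p q : Q} (hp : p.inI = true) (hq : q.inI = true)
    (h : inIdeal (p.add q) Q.h = true) : p.kh = q.kh := by
  obtain ⟨h1, h2, h3, h4⟩ := kh_forms (inI_add hp hq) h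
  rw [Q.inI_iff] at hp hq
  simp only [Q.add, sadd] at h1 h2 h3 h4
  unfold Q.kh
  rw [par_congr (z := p.b.1 + p.a.1) (w := q.b.1 + q.a.1) (by omega),
    par_congr (z := p.b.2 + p.a.2) (w := q.b.2 + q.a.2) (by omega),
    par_congr (z := p.a.2 + (p.c.1 - p.b.2 - p.b.1 - p.a.2) / 2 + (p.d.1 - p.b.2 - p.a.2 - p.a.1) / 2)
      (w := q.a.2 + (q.c.1 - q.b.2 - q.b.1 - q.a.2) / 2 + (q.d.1 - q.b.2 - q.a.2 - q.a.1) / 2)
      (by omega),
    par_congr (z := p.a.2 + p.a.1 + (p.c.2 - p.b.1 - p.a.2 - p.a.1) / 2 +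
      (p.d.2 - p.b.2 - p.b.1 - p.a.1) / 2) (w := q.a.2 + q.a.1 +
      (q.c.2 - q.b.1 - q.a.2 - q.a.1) / 2 + (q.d.2 - q.b.2 - q.b.1 - q.a.1) / 2) (by omega)]

theorem khb_congr {p q : Q} (hp : p.inI = true) (hq : q.inI = true)
    (h : inIdeal (p.add q) Q.h.star = true) : p.khb = q.khb := by
  obtain ⟨h1, h2, h3, h4⟩ := khb_forms (inI_add hp hq) h
  rw [Q.inI_iff] at hp hq
  simp only [Q.add, sadd] at h1 h2 h3 h4
  unfold Q.khb
  rw [par_congr (z := p.a.2 + p.a.1 + (p.c.1 - p.b.2 - p.b.1 - p.a.2) / 2)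
      (w := q.a.2 + q.a.1 + (q.c.1 - q.b.2 - q.b.1 - q.a.2) / 2) (by omega),
    par_congr (z := p.b.1 + (p.c.1 - p.b.2 - p.b.1 - p.a.2) / 2 + (p.d.2 - p.b.2 - p.b.1 - p.a.1) / 2)
      (w := q.b.1 + (q.c.1 - q.b.2 - q.b.1 - q.a.2) / 2 + (q.d.2 - q.b.2 - q.b.1 - q.a.1) / 2)
      (by omega),
    par_congr (z := p.b.2 + (p.d.1 - p.b.2 - p.a.2 - p.a.1) / 2 + (p.d.2 - p.b.2 - p.b.1 - p.a.1) / 2)
      (w := q.b.2 + (q.d.1 - q.b.2 - q.a.2 - q.a.1) / 2 + (q.d.2 - q.b.2 - q.b.1 - q.a.1) / 2)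
      (by omega),
    par_congr (z := p.b.2 + p.a.1 + (p.c.2 - p.b.1 - p.a.2 - p.a.1) / 2)
      (w := q.b.2 + q.a.1 + (q.c.2 - q.b.1 - q.a.2 - q.a.1) / 2) (by omega)]

theorem inIdeal_neg {p q g : Q} (hg : g.inI = true) (hp : p.inI = true) (hq : q.inI = true)
    (h : inIdeal (p.sub q) g = true) : inIdeal (p.add q) g = true := by
  simp only [inIdeal, Bool.and_eq_true, Q.evenB_iff, Q.inI_iff] at h ⊢
  have e : (p.add q).mul g.star = ((p.sub q).mul g.star).add ((q.mul g.star).dbl) := by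
    refine toH_injective ?_
    rw [toH_add, toH_dbl, toH_mul hq (inI_star hg), toH_mul (inI_add hp hq) (inI_star hg),
      toH_mul (inI_sub hp hq) (inI_star hg), toH_add, toH_sub]
    simp only [add_mul, sub_mul]; abel
  have hq' := inI_mul hq (inI_star hg)
  rw [Q.inI_iff] at hq'
  rw [e]
  simp only [Q.add, sadd, Q.dbl, Q.half, Q.mapZ] at h ⊢
  omega

theorem mem_flat {L : List (List (List Q))} {n m : ℕ} {q : Q} (h : q ∈ (L.getD n []).getD m []) :
    q ∈ L.flatMap fun t => t.flatMap id := by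
  rcases Nat.lt_or_ge n L.length with hn | hn
  · rw [List.getD_eq_getElem _ _ hn] at h
    rcases Nat.lt_or_ge m (L[n]).length with hm | hm
    · rw [List.getD_eq_getElem _ _ hm] at h
      exact List.mem_flatMap.2 ⟨_, List.getElem_mem hn, List.mem_flatMap.2 ⟨_, List.getElem_mem hm, h⟩⟩
    · rw [List.getD_eq_default _ _ hm] at h; simp at h
  · rw [List.getD_eq_default _ _ hn] at h; simp at h

theorem reps_ok : (repList.all Q.inI && decide (repList.getD 0 Q.one = Q.zero) &&
    decide (repList.length = 52)) = true := by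
  decide +kernel

theorem rep_inI (k : ℕ) : (repList.getD k Q.one).inI = true := by
  rcases Nat.lt_or_ge k repList.length with h | h
  · rw [List.getD_eq_getElem _ _ h]
    have := reps_ok
    simp only [Bool.and_eq_true] at this
    exact List.all_eq_true.1 this.1.1 _ (List.getElem_mem h)
  · rw [List.getD_eq_default _ _ h]; decide

theorem rep_zero : repList.getD 0 Q.one = Q.zero := by
  have := reps_ok
  simp only [Bool.and_eq_true, decide_eq_true_eq] at this
  exact this.1.2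

theorem rep_mem {k : ℕ} (hk : k < 52) : repList.getD k Q.one ∈ repList := by
  have := reps_ok
  simp only [Bool.and_eq_true, decide_eq_true_eq] at this
  rw [List.getD_eq_getElem _ _ (by omega)]
  exact List.getElem_mem _

theorem census_normal {v : V} (hv : v.inL = true) (hn : qip (toV v) (toV v) = 4) {k : ℕ}
    (hk : k < 52) (hx : v.x = repList.getD k Q.one) (h2 : okSecond v.x v.y = true)
    (h3 : okThird v.x v.y v.z = true) : v ∈ lineList := by
  obtain ⟨hA, hB⟩ := norm_eqs hn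
  simp only [V.inL, Bool.and_eq_true, V.inI_iff] at hv
  obtain ⟨⟨⟨⟨hxI, hyI, hzI⟩, hxy⟩, hyz⟩, hs⟩ := hv
  have hty := (short_spec hyI (allowed_of (p := v.y) (q := v.x) (r := v.z) (by omega) (by omega))).1
  have htz := (short_spec hzI (allowed_of (p := v.z) (q := v.x) (r := v.y) (by omega) (by omega))).1
  simp only [inTable, List.any_eq_true, decide_eq_true_eq] at hty htz
  obtain ⟨_, hty, rfl⟩ := hty
  obtain ⟨_, htz, rfl⟩ := htz
  have hs' : ∀ {p q : Q}, p.inI = true → q.inI = true → inIdeal (p.sub q) Q.h = true →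
      p.kh = q.kh := fun {p q} hp hq h => kh_congr hp hq (inIdeal_neg h_inI hp hq h)
  have k1 : v.y.kh = v.x.kh := (hs' hxI hyI hxy).symm
  have k2 : v.z.kh = v.x.kh := ((hs' hxI hyI hxy).trans (hs' hyI hzI hyz)).symm
  have k3 : v.z.khb = (v.x.add v.y).khb := (khb_congr (inI_add hxI hyI) hzI hs).symm
  have hall := search_ok k hk
  simp only [searchAt, searchOK, List.all_eq_true, Bool.or_eq_true, Bool.not_eq_true',
    List.any_eq_true, Bool.and_eq_true, decide_eq_true_eq] at hall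
  rw [← hx] at hall
  have hy' : v.y ∈ seconds v.x := by
    refine List.mem_filter.2 ⟨?_, h2⟩
    rw [← k1]
    exact mem_flat hty
  have hz' : v.z ∈ bucket v.x.kh (need v.x v.y) (v.x.add v.y).khb := by
    rw [← k3, ← k2, show need v.x v.y = (v.z.nA, v.z.nB) from Prod.ext
      (show 16 - v.x.nA - v.y.nA = v.z.nA by omega) (show -(v.x.nB + v.y.nB) = v.z.nB by omega)]
    exact htz
  rcases hall v.y hy' v.z hz' with h | ⟨l, hl, e1, e2⟩
  · rw [h3] at h; exact absurd h (by simp)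
  · simp only [List.mem_filter, decide_eq_true_eq] at hl
    obtain ⟨hl1, hl2⟩ := hl
    have : l = v := by
      cases l; cases v; simp_all
    exact this ▸ hl1

/-- **Census of minimal vectors.** -/
theorem census {r : Fin 3 → ℍ[ℝ]} (hr : r ∈ icoLeech) (hn : qip r r = 4) :
    ∃ u < 120, ∃ i : Fin 315, r = fun t => toH (Q.unit u) * toV (line i) t := by
  obtain ⟨w, hwI, rfl⟩ := exists_toV hr.1
  obtain ⟨hA, hB⟩ := norm_eqs hn
  have hwI' := (V.inI_iff w).1 hwI
  obtain ⟨-, ux, hux, kx, hkx, ex⟩ :=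
    short_spec hwI'.1 (allowed_of (p := w.x) (q := w.y) (r := w.z) (by omega) (by omega))
  obtain ⟨-, uy, huy, ky, hky, ey⟩ :=
    short_spec hwI'.2.1 (allowed_of (p := w.y) (q := w.x) (r := w.z) (by omega) (by omega))
  obtain ⟨-, uz, huz, kz, hkz, ez⟩ :=
    short_spec hwI'.2.2 (allowed_of (p := w.z) (q := w.x) (r := w.y) (by omega) (by omega))
  have finish : ∀ u, ∀ hu : u < 120, ∀ v : V,
      (toV v = fun t => star (toH (Q.unit u)) * toV w t) →
      (∀ h : v.inL = true, qip (toV v) (toV v) = 4 → v ∈ lineList) →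
      ∃ u < 120, ∃ i : Fin 315, toV w = fun t => toH (Q.unit u) * toV (line i) t := by
    intro u hu v hv hmem
    have hvL : v.inL = true := by
      rw [inL_iff, hv]
      refine leech_smul ?_ hr
      rw [← toH_star]
      exact (inI_iff_mem _).1 (inI_star (unit_inI hu))
    have hvn : qip (toV v) (toV v) = 4 := by
      rw [hv, qip_smul_left, qip_smul_right, hn, star_star, four_eq, smul_mul_assoc, one_mul,
        mul_smul_comm, (unit_mul_star hu).2]
    obtain ⟨n, hnl, en⟩ := List.getElem_of_mem (hmem hvL hvn)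
    refine ⟨u, hu, ⟨n, length_lineList ▸ hnl⟩, ?_⟩
    rw [line, List.getD_eq_getElem _ _ hnl, en, hv]
    funext t
    rw [← mul_assoc, (unit_mul_star hu).1, one_mul]
  have hnorm : ∀ {u k : ℕ} {p : Q}, u < 120 → (Q.unit u).mul (repList.getD k Q.one) = p →
      (Q.unit u).star.mul p = repList.getD k Q.one := by
    intro u k p hu e
    refine toH_injective ?_
    rw [toH_mul (inI_star (unit_inI hu)) (e ▸ inI_mul (unit_inI hu) (rep_inI k)), ← e,
      toH_mul (unit_inI hu) (rep_inI k), toH_star, ← mul_assoc, (unit_mul_star hu).2, one_mul]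
  have hlm : ∀ {u : ℕ}, u < 120 →
      toV (V.lmul (Q.unit u).star w) = fun t => star (toH (Q.unit u)) * toV w t := by
    intro u hu
    funext t
    fin_cases t <;> simp [V.lmul, ← toH_star, toH_mul (inI_star (unit_inI hu)) hwI'.1,
      toH_mul (inI_star (unit_inI hu)) hwI'.2.1, toH_mul (inI_star (unit_inI hu)) hwI'.2.2]
  have hz0 : ∀ {u : ℕ}, u < 120 → (Q.unit u).star.mul Q.zero = Q.zero := fun {u} hu =>
    toH_injective (by rw [toH_mul (inI_star (unit_inI hu)) (by decide), toH_zero, mul_zero])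
  have hrep : ∀ k, k < 52 → (repList.any fun q => decide (q = repList.getD k Q.one)) = true :=
    fun k hk => List.any_eq_true.2 ⟨_, rep_mem hk, by simp⟩
  by_cases hx0 : w.x = Q.zero
  · by_cases hy0 : w.y = Q.zero
    · refine finish uz huz _ (hlm huz) fun hL hN =>
        census_normal hL hN (show 0 < 52 by norm_num) ?_ ?_ ?_
      · show (Q.unit uz).star.mul w.x = _
        rw [hx0, hz0 huz, rep_zero]
      · have : (Q.unit uz).star.mul w.y = repList.getD 0 Q.one := by rw [hy0, hz0 huz, rep_zero]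
        simp only [okSecond, V.lmul, this, hrep 0 (by norm_num), Bool.or_true]
      · simp only [okThird, V.lmul, hnorm huz ez, hrep kz hkz, Bool.or_true]
    · refine finish uy huy _ (hlm huy) fun hL hN =>
        census_normal hL hN (show 0 < 52 by norm_num) ?_ ?_ ?_
      · show (Q.unit uy).star.mul w.x = _
        rw [hx0, hz0 huy, rep_zero]
      · simp only [okSecond, V.lmul, hnorm huy ey, hrep ky hky, Bool.or_true]
      · have hne : (Q.unit uy).star.mul w.y ≠ Q.zero := by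
          intro e
          apply hy0
          have e' := congrArg toH e
          rw [toH_mul (inI_star (unit_inI huy)) hwI'.2.1, toH_zero, toH_star] at e'
          have := congrArg (fun z => toH (Q.unit uy) * z) e'
          simp only [← mul_assoc, (unit_mul_star huy).1, one_mul, mul_zero] at this
          exact toH_injective (this.trans toH_zero.symm)
        simp [okThird, V.lmul, hne]
  · refine finish ux hux _ (hlm hux) fun hL hN => census_normal hL hN hkx (hnorm hux ex) ?_ ?_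
    all_goals
      have hne : (Q.unit ux).star.mul w.x ≠ Q.zero := by
        intro e
        apply hx0
        have e' := congrArg toH e
        rw [toH_mul (inI_star (unit_inI hux)) hwI'.1, toH_zero, toH_star] at e'
        have := congrArg (fun z => toH (Q.unit ux) * z) e'
        simp only [← mul_assoc, (unit_mul_star hux).1, one_mul, mul_zero] at this
        exact toH_injective (this.trans toH_zero.symm)
    · simp [okSecond, V.lmul, hne]
    · simp [okThird, V.lmul, hne]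

end Cfsg.Agent.J2
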