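import Cfsg.Agent.Lib.J2.UnitData

/-! Data for the census of short icosians. -/

namespace Cfsg.Agent.J2

/-- Pairs `(a, b)` with `2a² + 2ab + 3b² ≤ 32`. -/
def scPairs : List (ℤ × ℤ) :=
  [(-4, 0), (-4, 1), (-4, 2), (-3, -1), (-3, 0), (-3, 1), (-3, 2), (-3, 3), (-2, -2), (-2, -1), (-2, 0), (-2, 1), (-2, 2), (-2, 3), (-1, -2), (-1, -1), (-1, 0), (-1, 1), (-1, 2), (-1, 3), (0, -3), (0, -2), (0, -1), (0, 0), (0, 1), (0, 2), (0, 3), (1, -3), (1, -2), (1, -1), (1, 0), (1, 1), (1, 2), (2, -3), (2, -2), (2, -1), (2, 0), (2, 1), (2, 2), (3, -3), (3, -2), (3, -1), (3, 0), (3, 1), (4, -2), (4, -1), (4, 0)]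

/-- Representatives of icosians up to left units. -/
def repList : List Q :=
  [⟨(0, 0), (0, 0), (0, 0), (0, 0)⟩,
    ⟨(-2, 0), (0, 0), (0, 0), (0, 0)⟩,
    ⟨(-2, 0), (-2, 0), (0, 0), (0, 0)⟩,
    ⟨(-2, 0), (0, -1), (-1, 0), (-1, 1)⟩,
    ⟨(-2, 0), (0, -1), (-1, 0), (1, -1)⟩,
    ⟨(-2, 0), (0, -1), (1, 0), (-1, 1)⟩,
    ⟨(-2, 0), (0, -1), (1, 0), (1, -1)⟩,
    ⟨(-2, 0), (-2, 0), (-2, 0), (0, 0)⟩,
    ⟨(-2, 0), (-2, 0), (0, 0), (-2, 0)⟩,
    ⟨(-2, 0), (-2, 0), (0, 0), (2, 0)⟩,
    ⟨(-2, 0), (-2, 0), (2, 0), (0, 0)⟩,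
    ⟨(-2, 2), (0, -2), (0, 0), (0, 0)⟩,
    ⟨(-2, 2), (0, 0), (0, -2), (0, 0)⟩,
    ⟨(-2, 2), (0, 0), (0, 0), (0, -2)⟩,
    ⟨(-2, 2), (0, 0), (0, 0), (0, 2)⟩,
    ⟨(-2, 2), (0, 0), (0, 2), (0, 0)⟩,
    ⟨(-2, 2), (0, 2), (0, 0), (0, 0)⟩,
    ⟨(-4, 0), (0, 0), (0, 0), (0, 0)⟩,
    ⟨(-2, 0), (-2, 2), (0, -2), (0, 0)⟩,
    ⟨(-2, 0), (-2, 2), (0, 2), (0, 0)⟩,
    ⟨(-2, 0), (0, -2), (0, 0), (-2, 2)⟩,
    ⟨(-2, 0), (0, -2), (0, 0), (2, -2)⟩,
    ⟨(-2, 0), (-2, 1), (-1, 2), (-1, -1)⟩,
    ⟨(-2, 0), (-2, 1), (-1, 2), (1, 1)⟩,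
    ⟨(-2, 0), (-2, 1), (1, -2), (-1, -1)⟩,
    ⟨(-2, 0), (-2, 1), (1, -2), (1, 1)⟩,
    ⟨(-2, 0), (0, -1), (-3, 0), (-1, 1)⟩,
    ⟨(-2, 0), (0, -1), (-3, 0), (1, -1)⟩,
    ⟨(-2, 0), (0, -1), (3, 0), (-1, 1)⟩,
    ⟨(-2, 0), (0, -1), (3, 0), (1, -1)⟩,
    ⟨(-2, 0), (0, 1), (-3, 0), (-1, 1)⟩,
    ⟨(-2, 0), (0, 1), (-3, 0), (1, -1)⟩,
    ⟨(-2, 0), (0, 1), (3, 0), (-1, 1)⟩,
    ⟨(-2, 0), (0, 1), (3, 0), (1, -1)⟩,
    ⟨(-2, 0), (2, -1), (-1, 2), (-1, -1)⟩,
    ⟨(-2, 0), (2, -1), (-1, 2), (1, 1)⟩,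
    ⟨(-2, 0), (2, -1), (1, -2), (-1, -1)⟩,
    ⟨(-2, 0), (2, -1), (1, -2), (1, 1)⟩,
    ⟨(0, -2), (0, 0), (0, 0), (0, 0)⟩,
    ⟨(-2, 0), (0, -2), (0, 0), (0, 0)⟩,
    ⟨(-2, 0), (0, 0), (0, -2), (0, 0)⟩,
    ⟨(-2, 0), (0, 0), (0, 0), (0, -2)⟩,
    ⟨(-2, 0), (0, 0), (0, 0), (0, 2)⟩,
    ⟨(-2, 0), (0, 0), (0, 2), (0, 0)⟩,
    ⟨(-2, 0), (0, 2), (0, 0), (0, 0)⟩,
    ⟨(-2, 0), (-2, 2), (0, 0), (0, 0)⟩,
    ⟨(-2, 0), (0, 0), (-2, 2), (0, 0)⟩,
    ⟨(-2, 0), (0, 0), (0, 0), (-2, 2)⟩,
    ⟨(-2, 0), (0, 0), (0, 0), (2, -2)⟩,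
    ⟨(-2, 0), (0, 0), (2, -2), (0, 0)⟩,
    ⟨(-2, 0), (2, -2), (0, 0), (0, 0)⟩,
    ⟨(-2, 2), (0, 0), (0, 0), (0, 0)⟩]

/-- Scalars. -/
def witBlock0 : List (ℕ × ℕ) :=
  [(0, 17)]

/-- Scalars. -/
def witBlock1 : List (ℕ × ℕ) :=
  []

/-- Scalars. -/
def witBlock2 : List (ℕ × ℕ) :=
  []

/-- Scalars. -/
def witBlock3 : List (ℕ × ℕ) :=
  []

/-- Scalars. -/
def witBlock4 : List (ℕ × ℕ) :=
  [(41, 30), (103, 35), (100, 36), (86, 33), (35, 34), (38, 37), (15, 24), (17, 23), (77, 10), (84, 33), (76, 18), (75, 8), (2, 35), (21, 21), (2, 20), (21, 36), (72, 9), (73, 19), (117, 30), (74, 7), (115, 32), (115, 28), (24, 12), (22, 15), (116, 27), (116, 31), (106, 29), (105, 20), (107, 21), (104, 26), (19, 25), (30, 13), (74, 26), (77, 29), (27, 14), (59, 22), (99, 37), (83, 24), (25, 11), (28, 16), (31, 16), (23, 11), (80, 23), (102, 34), (88, 31), (29, 14), (36, 36), (39, 35), (26, 13), (43, 32), (20, 19), (118, 32), (85, 31), (60, 18), (115, 33), (115, 29), (13, 15),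 (14, 12), (116, 26), (116, 30), (72, 7), (106, 21), (105, 28), (77, 9), (19, 18), (15, 22), (17, 25), (59, 19), (74, 8), (107, 27), (104, 20), (75, 10), (21, 34), (2, 37), (20, 23), (60, 24), (79, 22), (72, 27), (75, 28), (82, 25)]

/-- Scalars. -/
def witBlock5 : List (ℕ × ℕ) :=
  [(41, 26), (86, 29), (15, 18), (76, 25), (91, 20), (26, 31), (29, 32), (94, 21), (73, 22), (17, 19), (13, 22), (73, 31), (94, 48), (73, 23), (76, 24), (91, 47), (76, 32), (14, 25), (13, 19), (89, 27), (92, 28), (14, 18), (43, 36), (22, 34), (24, 37), (88, 35), (29, 28), (75, 24), (76, 49), (73, 46), (72, 23), (26, 27), (88, 27), (2, 50), (15, 45), (74, 30), (77, 33), (17, 45), (21, 50), (43, 28), (86, 37), (30, 33), (89, 46), (92, 49), (27, 30), (41, 34), (13, 23), (77, 25), (74, 22), (14, 24), (73, 30), (90, 20), (93, 21), (76, 33), (22, 35), (89, 34), (90, 47), (89, 26), (92, 29), (93, 48), (92, 37), (24, 36), (92, 36), (25, 21), (27, 26), (15, 19), (17, 18), (30, 29), (23, 20),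 (89, 35), (75, 32), (72, 31)]

/-- Scalars. -/
def witBlock6 : List (ℕ × ℕ) :=
  []

/-- Scalars. -/
def witBlock7 : List (ℕ × ℕ) :=
  []

/-- Scalars. -/
def witBlock8 : List (ℕ × ℕ) :=
  []

/-- Scalars. -/
def witBlock9 : List (ℕ × ℕ) :=
  [(41, 31), (86, 32), (91, 26), (93, 18), (34, 27), (89, 21), (92, 20), (32, 28), (90, 19), (94, 29), (93, 24), (91, 30), (94, 33), (90, 23), (43, 34), (32, 29), (77, 28), (93, 40), (90, 43), (74, 27), (34, 26), (88, 37), (112, 37), (21, 41), (75, 22), (72, 25), (2, 42), (114, 34), (94, 22), (66, 20), (63, 21), (91, 25), (111, 36), (112, 25), (92, 39), (76, 44), (73, 44), (89, 39), (114, 22), (113, 35), (94, 19), (90, 35), (93, 36), (91, 18), (86, 35), (17, 42), (111, 24), (113, 23), (15, 41), (41, 36), (61, 32), (77, 23), (88, 30), (94, 43), (91, 40), (43, 33), (74, 24), (58, 31), (93, 27), (91, 37), (94, 34), (90, 28), (92, 21), (93, 31), (58, 18), (58, 30), (61, 33), (61, 19), (90, 32), (89, 20), (72, 26), (75, 29)]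

/-- Scalars. -/
def witBlock10 : List (ℕ × ℕ) :=
  [(41, 27), (93, 25), (90, 22), (86, 28), (86, 17), (0, 7), (43, 17), (0, 8), (0, 2), (0, 9), (88, 17), (0, 10), (41, 17), (21, 13), (32, 50), (90, 46), (24, 16), (0, 22), (0, 23), (0, 24), (0, 25), (22, 16), (93, 49), (34, 50), (2, 14), (0, 18), (2, 17), (0, 45), (21, 17), (0, 19), (92, 11), (21, 27), (90, 34), (29, 15), (94, 41), (28, 44), (31, 44), (91, 42), (26, 12), (93, 37), (2, 28), (89, 11), (93, 12), (2, 39), (22, 43), (23, 13), (101, 48), (91, 3), (21, 4), (76, 45), (73, 45), (2, 5), (94, 6), (57, 47), (25, 14), (24, 40), (21, 39), (90, 15), (112, 49), (21, 48), (89, 22), (2, 3), (89, 7), (42, 14), (89, 4), (74, 31), (77, 32), (92, 5), (87, 13), (92, 10), (21, 6), (92, 25), (2, 47), (114, 46), (2, 26), (92, 24), (25, 9), (37, 11), (40, 11), (23, 8), (89, 23), (21, 29), (76, 17), (0, 20), (0, 39), (0, 21), (73, 17), (0, 26), (0, 27), (76, 40), (0, 3), (0, 4), (30, 41), (15, 8), (97, 12), (95, 15), (17,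 9), (27, 42), (0, 5), (0, 6), (73, 43), (0, 28), (0, 29), (119, 9), (77, 2), (115, 10), (77, 19), (0, 46), (75, 20), (94, 17), (0, 40), (90, 17), (72, 2), (0, 47), (0, 41), (0, 1), (0, 42), (0, 48), (75, 2), (93, 17), (0, 43), (91, 17), (72, 21), (0, 49), (74, 18), (116, 7), (74, 2), (108, 8), (0, 30), (0, 31), (29, 42), (106, 6), (105, 5), (92, 40), (98, 12), (14, 7), (13, 10), (96, 15), (89, 43), (107, 4), (104, 3), (26, 41), (0, 32), (0, 33), (92, 17), (72, 18), (0, 44), (75, 19), (89, 17), (76, 37), (15, 31), (18, 16), (61, 10), (58, 7), (16, 16), (17, 32), (73, 34), (17, 47), (111, 49), (88, 26), (77, 6), (78, 13), (66, 8), (90, 5), (73, 35), (76, 36), (93, 4), (63, 9), (81, 14), (74, 3), (43, 29), (113, 46), (15, 48), (31, 14), (13, 43), (15, 44), (91, 12), (92, 50), (92, 6), (75, 5), (66, 47), (63, 48), (72, 4), (89, 3), (89, 50), (94, 15), (17, 44), (14, 40), (28, 13), (30, 15), (94, 23), (17, 30), (76, 16), (25, 39), (90, 42), (93, 41), (23, 39), (73,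 16), (15, 33), (91, 24), (27, 12), (77, 21), (17, 17), (0, 50), (15, 17), (74, 20), (14, 11), (94, 46), (61, 45), (17, 14), (0, 34), (0, 35), (0, 36), (0, 37), (15, 13), (58, 45), (91, 49), (13, 11), (77, 17), (7, 8), (75, 17), (7, 10), (7, 2), (7, 7), (72, 17), (7, 9), (74, 17), (91, 36), (72, 30), (75, 33), (94, 35)]

/-- Scalars. -/
def witBlock11 : List (ℕ × ℕ) :=
  [(27, 23), (30, 24), (28, 30), (31, 19), (102, 31), (57, 20), (101, 21), (99, 32), (28, 18), (31, 33), (24, 14), (1, 35), (1, 37), (2, 11), (31, 45), (100, 49), (103, 46), (28, 45), (21, 11), (1, 34), (1, 36), (22, 13), (32, 36), (39, 21), (31, 25), (86, 49), (43, 47), (28, 19), (31, 18), (88, 48), (41, 46), (28, 22), (36, 20), (34, 35), (31, 23), (25, 15), (86, 6), (91, 14), (112, 29), (93, 9), (36, 37), (39, 34), (90, 8), (114, 26), (94, 13), (41, 3), (23, 12), (28, 24), (30, 16), (22, 46), (118, 47), (92, 12), (26, 16), (29, 10), (88, 4), (25, 51), (84, 29), (117, 26), (23, 51), (43, 5), (26,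 7), (29, 16), (89, 15), (85, 48), (24, 49), (27, 16), (29, 47), (23, 15), (24, 51), (94, 9), (35, 50), (98, 25), (36, 50), (23, 26), (25, 29), (39, 50), (96, 22), (38, 50), (91, 8), (22, 51), (25, 12), (26, 48), (106, 33), (32, 37), (30, 32), (37, 28), (27, 7), (107, 48), (105, 47), (30, 10), (40, 27), (27, 31), (34, 34), (104, 30), (35, 35), (38, 36), (14, 14), (26, 30), (27, 35), (15, 7), (17, 10), (30, 36), (29, 33), (13, 13), (18, 32), (18, 19), (82, 28), (86, 48), (43, 50), (83, 18), (86, 50), (17, 2), (94, 4), (43, 49), (88, 46), (91, 5), (15, 2), (41, 50), (80, 19), (88, 50), (41, 47), (79, 27), (16, 18), (16, 31), (95, 23), (29, 5), (13, 8), (17, 7), (90, 3), (96, 34), (30, 51), (83, 49), (99, 49), (29, 51), (112, 33), (111, 28), (113, 27), (114, 30), (26, 51), (102, 46), (80, 46), (27, 51), (98, 37), (93, 6), (15, 10), (14, 9), (26, 4), (97, 24), (29, 20), (37, 29), (38, 21), (77, 45), (75, 47), (100, 33), (77, 49), (25, 6), (13, 2), (75, 45), (72,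 45), (14, 2), (23, 3), (74, 46), (103, 30), (72, 48), (74, 45), (35, 20), (40, 26), (26, 21), (14, 8), (26, 22), (27, 27), (24, 13), (22, 14), (30, 28), (29, 25), (13, 9), (20, 22), (60, 25), (61, 24), (118, 28), (18, 33), (29, 29), (19, 9), (84, 48), (117, 47), (59, 8), (26, 26), (16, 30), (85, 27), (58, 23), (20, 45), (82, 10), (14, 51), (31, 15), (30, 48), (31, 31), (19, 45), (97, 36), (95, 35), (59, 45), (28, 32), (27, 47), (28, 12), (13, 51), (79, 7), (60, 45), (76, 12), (106, 48), (13, 46), (29, 11), (20, 9), (27, 11), (27, 3), (31, 51), (107, 31), (105, 32), (28, 51), (30, 6), (30, 11), (60, 8), (26, 11), (14, 49), (104, 47), (73, 15), (23, 34), (93, 13), (25, 4), (28, 15), (19, 24), (83, 10), (111, 32), (113, 31), (80, 7), (59, 23), (31, 12), (23, 5), (90, 14), (25, 37), (61, 18), (61, 25), (27, 20), (77, 48), (75, 49), (23, 36), (25, 35), (72, 46), (74, 47), (30, 21), (58, 22), (58, 19), (15, 16), (7, 24), (7, 22), (14, 13), (82, 49), (23, 50), (25,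 50), (79, 46), (13, 14), (7, 25), (7, 23), (17, 16), (81, 20), (25, 27), (79, 19), (80, 26), (83, 29), (82, 18), (23, 28), (78, 21), (29, 37), (26, 34)]

/-- Scalars. -/
def witBlock12 : List (ℕ × ℕ) :=
  [(100, 37), (99, 28), (102, 27), (103, 34), (22, 17), (88, 21), (1, 50), (43, 20), (24, 17), (73, 7), (15, 25), (73, 27), (27, 15), (30, 12), (76, 28), (17, 22), (76, 10), (31, 9), (25, 13), (2, 34), (27, 46), (87, 48), (41, 35), (86, 36), (42, 47), (30, 49), (21, 37), (23, 14), (28, 8), (77, 24), (90, 26), (13, 45), (96, 46), (98, 49), (14, 45), (93, 29), (74, 23), (90, 30), (89, 31), (92, 32), (93, 33), (86, 21), (31, 17), (0, 11), (28, 17), (41, 20), (17, 8), (28, 47), (18, 45), (14, 16), (82, 32), (83, 25), (80, 22), (79, 31), (13, 16), (16, 45), (31, 48), (15, 9), (29, 17), (115, 49), (30, 17), (119, 21), (0, 12), (75, 18), (119, 48), (0, 13), (0, 51), (0, 14), (108, 47), (72, 19), (0, 15), (108, 20), (27, 17), (116, 46), (26, 17), (24, 11), (37, 50),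 (25, 48), (13, 7), (99, 36), (100, 29), (103, 26), (102, 35), (14, 10), (23, 47), (40, 50), (22, 11), (77, 18), (25, 17), (0, 16), (23, 17), (74, 19), (73, 26), (94, 27), (91, 28), (76, 29), (94, 31), (43, 37), (95, 46), (22, 50), (24, 50), (97, 49), (88, 34), (91, 32), (28, 14), (18, 10), (72, 22), (81, 47), (26, 46), (15, 23), (17, 24), (29, 49), (78, 48), (75, 25), (16, 7), (31, 13), (26, 15), (89, 30), (2, 36), (81, 8), (78, 9), (21, 35), (92, 33), (29, 12), (13, 17), (7, 19), (7, 45), (7, 18), (14, 17), (83, 33), (82, 24), (79, 23), (80, 30)]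

/-- Scalars. -/
def witBlock13 : List (ℕ × ℕ) :=
  [(98, 33), (96, 30), (40, 35), (37, 36), (16, 23), (16, 19), (18, 18), (18, 24), (98, 29), (97, 32), (95, 31), (96, 26), (42, 20), (40, 34), (37, 37), (87, 21), (18, 25), (16, 22), (97, 28), (95, 27)]

/-- Scalars. -/
def witBlock14 : List (ℕ × ℕ) :=
  []

/-- Scalars. -/
def witBlock15 : List (ℕ × ℕ) :=
  [(4, 37), (5, 34), (22, 19), (39, 29), (34, 21), (57, 35), (101, 36), (32, 20), (36, 26), (24, 18), (87, 16), (99, 42), (32, 39), (36, 12), (24, 30), (100, 24), (103, 23), (22, 33), (39, 15), (34, 39), (102, 41), (42, 16), (37, 15), (84, 32), (29, 23), (99, 14), (32, 34), (34, 4), (94, 10), (91, 7), (32, 5), (34, 37), (102, 13), (26, 24), (117, 31), (40, 12), (92, 8), (38, 12), (4, 36), (101, 33), (57, 30), (5, 35), (35, 15), (89, 9), (106, 28), (104, 27), (32, 21), (45, 28), (85, 18), (86, 43), (43, 41), (60, 30), (20, 33), (88, 42), (41, 40), (118, 19), (48, 27), (34, 20), (98, 14), (32, 6), (105, 11),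 (24, 31), (39, 43), (113, 9), (61, 38), (104, 11), (57, 42), (101, 41), (106, 11), (58, 38), (111, 8), (36, 40), (22, 32), (107, 11), (34, 3), (96, 13), (82, 20), (30, 22), (47, 21), (86, 42), (43, 44), (66, 26), (86, 44), (92, 3), (92, 2), (43, 43), (88, 40), (89, 2), (89, 6), (41, 44), (63, 29), (88, 44), (41, 41), (50, 20), (27, 25), (79, 21), (119, 25), (106, 10), (108, 34), (34, 31), (35, 43), (34, 36), (32, 35), (38, 40), (32, 32), (119, 37), (104, 7), (108, 22), (84, 44), (111, 40), (93, 7), (61, 28), (45, 32), (82, 14), (57, 38), (85, 44), (118, 44), (101, 38), (79, 13), (48, 31), (58, 27), (90, 10), (113, 43), (117, 44), (63, 24), (57, 37), (77, 5), (83, 36), (113, 38), (114, 38), (99, 25), (66, 3), (63, 10), (82, 42), (100, 41), (92, 9), (89, 8), (103, 42), (79, 41), (66, 7), (63, 6), (102, 22), (112, 38), (111, 38), (80, 35), (74, 4), (101, 34), (66, 23), (112, 40), (105, 39), (100, 13), (46, 29), (32, 33), (83, 8), (66, 38), (106, 39), (104, 39),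 (63, 38), (80, 9), (34, 30), (49, 26), (103, 14), (107, 39), (114, 43), (119, 23), (112, 9), (108, 36), (58, 25), (20, 43), (58, 26), (61, 29), (60, 40), (61, 22), (119, 35), (114, 8), (108, 24), (29, 35), (84, 19), (101, 31), (77, 39), (75, 41), (111, 18), (77, 43), (63, 2), (66, 5), (75, 39), (72, 39), (63, 4), (66, 2), (74, 40), (113, 19), (72, 42), (74, 39), (57, 32), (117, 18), (26, 36), (84, 16), (92, 4), (97, 13), (14, 26), (63, 41), (85, 16), (32, 38), (105, 10), (59, 43), (19, 40), (107, 7), (34, 38), (118, 16), (66, 42), (13, 29), (95, 14), (89, 5), (117, 16), (46, 33), (112, 18), (38, 27), (77, 42), (75, 43), (23, 21), (25, 20), (72, 40), (74, 41), (35, 28), (114, 19), (49, 30), (85, 30), (118, 33), (60, 12), (63, 7), (66, 28), (10, 25), (12, 22), (63, 27), (66, 10), (20, 15), (83, 13), (30, 34), (105, 29), (18, 15), (58, 24), (72, 3), (79, 8), (82, 9), (75, 6), (61, 23), (16, 12), (107, 26), (27, 37), (80, 14), (19, 12), (61, 44), (83, 41), (81,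 11), (82, 37), (14, 27), (13, 28), (79, 34), (78, 11), (80, 42), (58, 44), (59, 15), (59, 32), (80, 20), (63, 22), (10, 18), (12, 19), (66, 25), (83, 21), (19, 31), (10, 24), (12, 23)]

/-- Scalars. -/
def witBlock16 : List (ℕ × ℕ) :=
  [(88, 9), (22, 22), (29, 19), (86, 10), (112, 28), (111, 20), (113, 21), (114, 27), (41, 7), (26, 18), (24, 25), (43, 8), (57, 26), (101, 37), (6, 35), (99, 47), (102, 48), (33, 36), (57, 34), (101, 29), (53, 33), (88, 23), (100, 40), (28, 31), (31, 32), (103, 43), (43, 24), (56, 30), (100, 12), (76, 47), (57, 50), (37, 13), (22, 44), (86, 5), (57, 3), (21, 40), (2, 43), (101, 6), (41, 4), (24, 44), (40, 14), (101, 50), (73, 48), (103, 15), (38, 11), (39, 6), (42, 15), (2, 46), (36, 11), (37, 51), (30, 8), (111, 47), (112, 32), (114, 31), (113, 48), (27, 9), (40, 51), (39, 11), (21, 49), (87, 12), (36, 3), (35, 11), (22, 23), (86, 25), (25, 10), (35, 46), (89, 48), (40, 13), (37, 14), (92, 47), (38, 49), (23, 7), (41, 22), (24,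 24), (23, 22), (25, 25), (106, 13), (29, 43), (76, 42), (97, 16), (112, 10), (98, 16), (101, 4), (21, 26), (11, 38), (44, 38), (2, 29), (57, 5), (96, 16), (114, 7), (95, 16), (73, 41), (26, 40), (104, 14), (77, 8), (21, 31), (2, 21), (86, 9), (88, 7), (86, 1), (94, 2), (2, 6), (43, 1), (75, 7), (24, 26), (93, 2), (86, 15), (43, 13), (111, 5), (76, 19), (73, 18), (113, 4), (88, 14), (41, 12), (90, 2), (22, 29), (72, 10), (88, 1), (21, 3), (91, 2), (41, 1), (43, 10), (41, 8), (21, 20), (2, 32), (74, 9), (94, 45), (2, 4), (115, 5), (32, 49), (25, 23), (82, 47), (93, 45), (23, 27), (107, 13), (89, 41), (39, 39), (105, 8), (38, 39), (87, 51), (2, 1), (21, 1), (42, 51), (35, 39), (107, 9), (36, 39), (92, 42), (105, 14), (25, 28), (90, 45), (79, 48), (23, 24), (34, 46), (116, 4), (21, 5), (91, 45), (2, 27), (30, 19), (112, 36), (25, 2), (86, 14), (43, 16), (105, 3), (92, 18), (86, 16), (33, 21), (6, 37), (43, 15), (88, 12), (33, 34), (6, 20), (41, 16), (89, 19), (107,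 6), (88, 16), (41, 13), (23, 2), (114, 35), (27, 18), (21, 28), (2, 30), (21, 33), (83, 12), (61, 8), (101, 27), (15, 40), (117, 42), (41, 37), (86, 34), (84, 41), (17, 43), (57, 28), (58, 9), (80, 15), (77, 22), (84, 45), (111, 37), (31, 42), (20, 10), (5, 38), (81, 15), (90, 39), (112, 6), (85, 45), (91, 39), (76, 1), (83, 40), (17, 46), (43, 6), (88, 3), (15, 49), (80, 43), (73, 1), (94, 39), (118, 45), (114, 3), (93, 39), (78, 12), (4, 38), (60, 7), (28, 41), (113, 34), (117, 45), (74, 25), (62, 29), (106, 41), (118, 42), (51, 32), (82, 5), (98, 51), (63, 25), (57, 36), (97, 51), (75, 3), (24, 27), (14, 30), (39, 46), (45, 38), (94, 1), (90, 1), (46, 38), (59, 46), (19, 49), (49, 38), (93, 1), (91, 1), (48, 38), (36, 49), (13, 33), (22, 28), (72, 6), (95, 51), (101, 35), (66, 22), (96, 51), (79, 4), (54, 31), (85, 41), (104, 42), (65, 26), (112, 24), (105, 50), (43, 35), (94, 44), (87, 15), (12, 38), (29, 9), (23, 41), (38, 4), (21, 46), (99, 40), (92, 1),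 (93, 44), (104, 50), (23, 4), (25, 5), (106, 50), (90, 44), (89, 1), (102, 43), (2, 49), (35, 5), (25, 42), (26, 8), (10, 38), (42, 12), (91, 44), (88, 36), (107, 50), (114, 23), (25, 7), (99, 12), (72, 24), (107, 41), (2, 40), (66, 30), (63, 33), (21, 43), (105, 42), (75, 23), (102, 15), (23, 10), (17, 28), (15, 27), (17, 20), (15, 30), (112, 21), (17, 5), (77, 11), (75, 13), (61, 2), (111, 25), (77, 15), (8, 24), (68, 18), (75, 11), (72, 11), (71, 19), (9, 23), (74, 12), (113, 22), (58, 2), (72, 14), (74, 11), (15, 4), (114, 20), (17, 33), (15, 21), (61, 49), (17, 3), (115, 6), (90, 50), (31, 30), (91, 50), (100, 48), (28, 34), (113, 7), (59, 44), (73, 42), (117, 14), (20, 44), (78, 51), (17, 1), (15, 1), (81, 51), (60, 44), (84, 13), (76, 41), (19, 44), (111, 10), (31, 37), (103, 47), (94, 50), (28, 33), (93, 50), (116, 3), (15, 6), (58, 46), (62, 10), (63, 18), (17, 26), (77, 7), (72, 8), (77, 1), (106, 4), (82, 2), (75, 1), (67, 8), (14, 20), (14, 3), (77,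 14), (75, 15), (83, 2), (14, 31), (13, 32), (80, 2), (72, 12), (74, 13), (13, 6), (13, 21), (64, 9), (72, 1), (79, 2), (104, 5), (74, 1), (75, 9), (74, 10), (15, 29), (66, 19), (65, 7), (98, 11), (92, 41), (30, 43), (118, 14), (97, 11), (106, 9), (25, 3), (15, 32), (47, 38), (50, 38), (17, 31), (23, 6), (104, 8), (95, 11), (85, 13), (27, 40), (89, 42), (96, 11), (31, 35), (28, 36), (75, 36), (13, 34), (16, 14), (73, 47), (20, 46), (61, 9), (58, 8), (60, 49), (76, 48), (18, 13), (14, 37), (72, 35), (78, 15), (77, 4), (60, 16), (112, 48), (19, 7), (18, 51), (19, 16), (15, 46), (111, 29), (113, 26), (17, 49), (59, 16), (16, 51), (59, 10), (114, 47), (20, 16), (74, 5), (81, 12), (18, 14), (63, 45), (92, 48), (82, 12), (17, 40), (13, 5), (80, 3), (13, 39), (14, 39), (83, 6), (14, 4), (15, 43), (79, 15), (89, 47), (66, 45), (16, 13), (67, 28), (25, 26), (82, 40), (74, 34), (77, 37), (79, 43), (23, 29), (64, 27), (66, 24), (63, 31), (9, 25), (80, 47), (83, 48), (8,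 22), (66, 32), (63, 23), (62, 9), (13, 20), (13, 35), (67, 10), (63, 19), (111, 33), (113, 30), (66, 18), (64, 7), (14, 36), (14, 21), (65, 8)]

/-- Scalars. -/
def witBlock17 : List (ℕ × ℕ) :=
  [(119, 29), (21, 12), (108, 30), (119, 33), (2, 15), (108, 26), (99, 20), (87, 33), (42, 30), (102, 21), (84, 24), (51, 36), (24, 42), (22, 41), (54, 35), (117, 23), (42, 35), (53, 29), (84, 49), (99, 5), (43, 3), (22, 48), (76, 8), (92, 14), (89, 13), (73, 9), (24, 47), (88, 6), (102, 4), (117, 46), (56, 26), (87, 36), (39, 48), (30, 45), (40, 15), (106, 36), (37, 32), (90, 7), (21, 51), (26, 45), (29, 45), (2, 51), (93, 10), (40, 31), (104, 35), (37, 12), (27, 45), (36, 47), (53, 37), (6, 50), (106, 49), (100, 32), (103, 31), (104, 46), (33, 50), (56, 34), (84, 18), (68, 32), (95, 19), (86, 39), (43, 40), (35, 36), (86, 41), (76, 5), (76, 2), (43, 39), (88, 39), (73, 2), (73, 4), (41, 42), (38, 35), (88, 43), (41, 39), (97, 18), (71, 31), (117, 19), (37, 34), (30,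 44), (37, 33), (99, 50), (97, 14), (92, 51), (84, 10), (28, 46), (119, 6), (70, 48), (42, 42), (22, 1), (26, 44), (103, 50), (22, 6), (24, 3), (100, 50), (29, 44), (24, 1), (87, 41), (110, 47), (108, 3), (31, 49), (117, 7), (89, 51), (95, 13), (102, 50), (40, 30), (27, 44), (40, 37), (86, 40), (39, 4), (29, 2), (43, 42), (38, 6), (86, 51), (78, 24), (110, 20), (43, 51), (30, 2), (52, 37), (98, 18), (96, 19), (55, 34), (27, 2), (88, 51), (70, 21), (81, 23), (41, 51), (35, 3), (88, 41), (26, 2), (36, 5), (41, 43), (52, 28), (23, 46), (52, 36), (95, 9), (37, 5), (2, 12), (21, 15), (40, 4), (97, 8), (55, 35), (25, 49), (55, 27), (36, 34), (40, 21), (37, 20), (39, 37), (78, 16), (18, 44), (31, 43), (76, 9), (87, 31), (99, 33), (102, 30), (42, 32), (73, 8), (28, 40), (16, 44), (81, 16), (62, 33), (86, 4), (94, 7), (91, 11), (118, 5), (18, 22), (68, 49), (60, 47), (95, 43), (13, 41), (93, 11), (31, 1), (84, 6), (117, 3), (28, 1), (90, 11), (14, 42), (97, 40), (20,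 48), (71, 46), (16, 25), (85, 4), (94, 11), (91, 10), (41, 5), (65, 30), (92, 13), (76, 14), (25, 43), (93, 51), (29, 1), (30, 1), (91, 51), (28, 43), (14, 47), (24, 4), (100, 6), (24, 48), (22, 47), (103, 3), (22, 5), (13, 48), (31, 40), (94, 51), (27, 1), (26, 1), (90, 51), (23, 40), (73, 13), (89, 14), (37, 35), (29, 3), (93, 16), (82, 8), (37, 6), (51, 28), (38, 48), (52, 49), (22, 42), (96, 43), (94, 16), (25, 1), (30, 5), (27, 4), (23, 1), (91, 16), (98, 40), (24, 41), (55, 46), (35, 47), (54, 27), (40, 3), (79, 9), (90, 16), (26, 6), (40, 36), (78, 10), (23, 43), (37, 39), (42, 11), (83, 28), (81, 26), (78, 29), (80, 27), (87, 11), (40, 39), (25, 40), (81, 7), (8, 18), (19, 23), (59, 24), (9, 19), (68, 25), (31, 46), (68, 33), (15, 12), (73, 3), (118, 10), (85, 7), (76, 6), (17, 15), (71, 30), (28, 49), (71, 22), (77, 41), (20, 2), (29, 6), (75, 40), (19, 2), (77, 51), (85, 19), (42, 37), (75, 51), (30, 4), (100, 21), (68, 24), (71, 23), (103, 20), (27,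 5), (72, 51), (87, 34), (118, 18), (74, 51), (59, 2), (72, 43), (26, 3), (60, 2), (74, 42), (18, 28), (29, 39), (18, 23), (25, 46), (98, 9), (76, 51), (98, 13), (83, 45), (119, 4), (79, 45), (27, 39), (13, 1), (78, 41), (109, 47), (13, 4), (14, 5), (69, 48), (81, 42), (14, 1), (30, 39), (82, 45), (108, 5), (80, 45), (96, 14), (73, 51), (96, 8), (23, 49), (16, 24), (26, 39), (16, 27), (52, 29), (37, 21), (20, 25), (77, 40), (75, 44), (109, 20), (77, 44), (78, 2), (81, 3), (75, 42), (72, 41), (78, 6), (81, 2), (74, 44), (69, 21), (72, 44), (74, 43), (60, 22), (40, 20), (55, 26), (82, 29), (118, 49), (8, 45), (67, 24), (64, 23), (9, 45), (85, 46), (79, 26), (29, 50), (59, 47), (80, 8), (18, 29), (118, 25), (16, 15), (15, 51), (30, 50), (27, 50), (17, 51), (18, 12), (85, 22), (16, 26), (83, 9), (19, 48), (26, 50), (67, 32), (78, 22), (13, 47), (81, 5), (13, 3), (105, 49), (76, 13), (78, 7), (81, 10), (73, 14), (107, 46), (14, 6), (78, 4), (14, 48), (81, 25), (64,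 31), (62, 25), (105, 37), (13, 42), (14, 41), (107, 34), (65, 22), (81, 28), (8, 19), (9, 18), (78, 27), (119, 27), (17, 12), (108, 32), (119, 31), (15, 15), (108, 28)]

/-- Scalars. -/
def witBlock18 : List (ℕ × ℕ) :=
  [(98, 32), (30, 18), (27, 19), (96, 31), (22, 31), (42, 34), (31, 10), (23, 16), (25, 16), (28, 7), (87, 37), (24, 32), (98, 28), (29, 8), (28, 23), (38, 29), (97, 47), (23, 30), (25, 33), (95, 48), (35, 26), (31, 24), (26, 9), (96, 27), (103, 27), (87, 29), (42, 26), (100, 28), (115, 36), (115, 24), (28, 26), (31, 22), (85, 9), (27, 43), (30, 40), (118, 8), (28, 25), (31, 29), (116, 23), (116, 35), (84, 25), (118, 20), (22, 30), (31, 2), (86, 11), (43, 12), (22, 4), (22, 21), (86, 13), (78, 18), (14, 23), (43, 11), (88, 11), (13, 24), (81, 19), (41, 14), (24, 20), (24, 5), (88, 15), (41, 11), (28, 2), (24, 33), (85, 21), (117, 22), (98, 10), (24, 15), (78, 33), (81, 22), (40, 46), (42, 3), (87, 6), (37, 49), (78, 25), (81, 30), (22, 12), (96,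 7), (86, 12), (26, 19), (104, 34), (43, 14), (97, 20), (98, 24), (96, 23), (95, 21), (88, 13), (106, 37), (29, 18), (41, 15), (24, 35), (99, 29), (102, 26), (22, 36), (95, 22), (28, 42), (59, 30), (19, 10), (28, 3), (29, 13), (26, 14), (31, 6), (59, 7), (19, 33), (31, 41), (97, 25), (31, 7), (78, 45), (42, 50), (18, 8), (13, 44), (22, 3), (42, 5), (22, 39), (24, 39), (87, 4), (24, 6), (14, 44), (16, 9), (87, 50), (81, 45), (28, 10), (39, 27), (25, 41), (96, 35), (30, 14), (97, 5), (30, 9), (27, 8), (95, 4), (27, 13), (98, 36), (23, 42), (36, 28), (83, 32), (14, 22), (13, 25), (80, 31), (77, 13), (85, 23), (117, 20), (75, 12), (97, 37), (19, 19), (59, 18), (95, 34), (72, 15), (84, 21), (118, 24), (74, 14), (14, 15), (84, 9), (87, 35), (42, 28), (18, 49), (31, 4), (28, 5), (16, 46), (87, 27), (42, 36), (117, 8), (13, 12), (78, 19), (105, 36), (20, 18), (98, 6), (77, 12), (75, 16), (18, 2), (13, 27), (77, 16), (24, 34), (24, 21), (75, 14), (72, 13), (22, 20), (22,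 37), (74, 16), (14, 28), (16, 2), (72, 16), (74, 15), (96, 3), (60, 19), (107, 35), (81, 18), (115, 37), (115, 25), (23, 35), (25, 31), (95, 7), (29, 40), (26, 43), (97, 10), (23, 32), (25, 36), (116, 22), (116, 34), (81, 32), (79, 30), (82, 33), (78, 31), (25, 34), (20, 7), (97, 33), (31, 27), (98, 48), (60, 32), (20, 31), (96, 47), (28, 28), (95, 30), (60, 10), (23, 37), (78, 23), (13, 26), (31, 11), (18, 9), (16, 8), (28, 11), (14, 29), (81, 24), (98, 21), (97, 29), (95, 26), (96, 20)]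

/-- Scalars. -/
def witBlock19 : List (ℕ × ℕ) :=
  [(27, 22), (30, 25), (22, 27), (24, 28), (26, 23), (14, 19), (13, 18), (29, 24), (22, 26), (13, 31), (14, 32), (24, 29), (28, 20), (27, 34), (30, 37), (31, 21), (13, 30), (14, 33), (29, 36), (26, 35)]

/-- Scalars. -/
def witBlock20 : List (ℕ × ℕ) :=
  []

/-- Scalars. -/
def witBlock21 : List (ℕ × ℕ) :=
  [(88, 25), (21, 24), (2, 23), (43, 22), (86, 19), (101, 17), (1, 44), (57, 17), (41, 18), (33, 13), (2, 9), (36, 27), (38, 25), (35, 22), (39, 28), (21, 8), (6, 14), (32, 17), (88, 18), (1, 16), (43, 19), (34, 17), (76, 30), (86, 23), (69, 12), (4, 40), (112, 42), (32, 10), (34, 7), (114, 41), (5, 43), (109, 15), (41, 24), (73, 33), (52, 11), (92, 26), (91, 27), (92, 7), (47, 39), (34, 40), (32, 43), (50, 39), (89, 10), (94, 28), (89, 29), (55, 11), (21, 22), (91, 31), (94, 32), (2, 25), (20, 32), (46, 41), (66, 39), (59, 34), (19, 37), (63, 39), (49, 42), (60, 31), (77, 20), (115, 43), (115, 19), (112, 17),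 (115, 15), (111, 17), (119, 42), (119, 14), (0, 38), (108, 13), (108, 41), (113, 17), (116, 12), (114, 17), (116, 18), (116, 40), (74, 21), (39, 23), (101, 44), (45, 42), (35, 29), (38, 26), (48, 41), (57, 44), (36, 24), (93, 26), (17, 35), (15, 36), (90, 29), (63, 8), (93, 30), (76, 31), (68, 16), (58, 40), (44, 44), (11, 44), (61, 43), (71, 16), (73, 32), (90, 33), (66, 9), (75, 34), (92, 27), (47, 9), (111, 41), (10, 40), (110, 12), (70, 15), (12, 43), (113, 42), (50, 8), (89, 28), (72, 37), (61, 17), (72, 20), (7, 11), (75, 21), (58, 17), (12, 10), (9, 14), (60, 36), (19, 30), (59, 33), (20, 35), (8, 13), (10, 7), (7, 20), (63, 17), (7, 39), (66, 17), (7, 21), (17, 37), (74, 36), (77, 35), (15, 34)]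

/-- Scalars. -/
def witBlock22 : List (ℕ × ℕ) :=
  [(46, 36), (53, 32), (38, 14), (35, 13), (56, 31), (49, 35), (39, 33), (101, 49), (51, 34), (54, 37), (57, 46), (36, 30), (99, 35), (100, 18), (103, 19), (102, 36), (101, 40), (35, 41), (1, 31), (112, 5), (21, 7), (105, 15), (111, 3), (1, 33), (1, 30), (113, 6), (107, 12), (2, 10), (114, 4), (1, 32), (38, 42), (57, 43), (70, 33), (45, 20), (47, 29), (86, 45), (43, 46), (35, 21), (86, 47), (2, 2), (32, 3), (43, 45), (88, 45), (34, 6), (21, 2), (41, 48), (38, 20), (88, 49), (41, 45), (50, 26), (48, 21), (110, 30), (2, 7), (70, 29), (109, 35), (6, 11), (34, 48), (50, 50), (47, 50), (32, 47), (33, 11), (69, 36), (110, 26), (21, 10), (50, 34), (55, 21), (52, 20), (47, 37), (112, 39), (94, 8), (73, 38), (110, 14), (118, 43), (11, 33), (111, 39), (60, 26), (20, 29), (113, 39), (44, 30), (85, 40), (70, 13), (76, 38), (91, 9), (114, 39), (32, 41), (32, 4), (45, 5), (100, 44), (38, 9), (111, 50), (4, 49), (52, 12), (53,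 35), (102, 44), (109, 43), (118, 23), (112, 50), (17, 38), (101, 1), (57, 1), (15, 38), (114, 50), (85, 24), (69, 40), (99, 44), (56, 36), (55, 15), (5, 46), (113, 50), (35, 8), (103, 44), (48, 4), (34, 5), (34, 42), (62, 28), (100, 16), (50, 36), (47, 6), (63, 49), (105, 43), (32, 1), (33, 41), (45, 47), (35, 6), (93, 8), (36, 4), (99, 16), (102, 16), (39, 5), (90, 9), (38, 3), (48, 48), (6, 42), (34, 1), (107, 40), (66, 46), (50, 3), (47, 35), (103, 16), (65, 27), (39, 9), (36, 13), (105, 35), (46, 28), (34, 41), (106, 5), (104, 4), (32, 42), (49, 27), (107, 36), (39, 14), (36, 8), (45, 29), (46, 24), (19, 42), (68, 44), (71, 44), (59, 41), (49, 23), (48, 26), (86, 46), (112, 2), (61, 5), (43, 48), (110, 37), (69, 18), (113, 2), (79, 24), (86, 38), (43, 38), (49, 20), (90, 6), (93, 3), (46, 21), (88, 38), (41, 38), (82, 23), (111, 2), (109, 19), (70, 34), (88, 47), (58, 4), (114, 2), (41, 49), (32, 48), (61, 47), (90, 38), (63, 40), (57, 40), (94, 38), (106,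 15), (112, 1), (46, 6), (91, 4), (111, 1), (118, 15), (85, 12), (113, 1), (94, 5), (49, 3), (114, 1), (104, 12), (91, 38), (101, 43), (66, 43), (93, 38), (58, 48), (34, 47), (77, 47), (82, 3), (106, 2), (75, 46), (36, 21), (69, 24), (47, 4), (102, 19), (77, 38), (75, 38), (103, 37), (105, 2), (107, 2), (100, 34), (72, 38), (74, 38), (99, 18), (50, 5), (109, 23), (39, 20), (72, 49), (104, 2), (79, 6), (74, 48), (45, 37), (46, 32), (52, 39), (36, 41), (39, 42), (55, 39), (49, 31), (48, 34), (19, 14), (45, 10), (45, 33), (84, 22), (61, 41), (61, 6), (58, 3), (58, 42), (117, 25), (48, 30), (48, 7), (59, 13), (11, 25), (82, 11), (51, 33), (112, 4), (46, 48), (9, 42), (61, 1), (84, 43), (57, 49), (75, 4), (83, 11), (111, 6), (83, 7), (80, 10), (113, 3), (80, 11), (72, 5), (101, 46), (117, 40), (58, 1), (8, 41), (49, 47), (114, 5), (54, 30), (79, 11), (44, 22), (82, 39), (77, 3), (105, 6), (61, 42), (68, 12), (10, 49), (112, 45), (46, 10), (106, 34), (70, 43), (80,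 39), (67, 22), (113, 45), (2, 38), (63, 1), (66, 1), (21, 38), (111, 45), (64, 25), (83, 39), (110, 40), (104, 37), (49, 7), (114, 45), (12, 46), (71, 15), (58, 41), (107, 3), (74, 6), (79, 39), (106, 43), (69, 13), (89, 38), (82, 7), (111, 44), (38, 31), (112, 44), (50, 28), (47, 27), (114, 44), (35, 32), (113, 44), (79, 10), (92, 38), (109, 14), (104, 40), (44, 18), (11, 23), (44, 24), (11, 19), (8, 16), (70, 22), (109, 32), (12, 8), (11, 45), (58, 47), (61, 48), (44, 45), (10, 9), (69, 31), (110, 25), (9, 16), (70, 19), (109, 28), (11, 18), (77, 46), (75, 50), (44, 32), (77, 50), (80, 5), (12, 2), (75, 48), (72, 47), (10, 2), (83, 4), (74, 50), (11, 31), (72, 50), (74, 49), (44, 19), (69, 27), (110, 18), (20, 42), (66, 40), (7, 28), (7, 5), (84, 15), (10, 8), (7, 3), (7, 26), (7, 29), (7, 6), (12, 9), (117, 12), (7, 4), (7, 27), (63, 43), (60, 41), (52, 21), (83, 22), (80, 25), (55, 20), (62, 23), (66, 49), (59, 28), (19, 27), (63, 46), (65, 24), (67, 29),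 (45, 25), (20, 14), (60, 13), (48, 22), (64, 26)]

/-- Scalars. -/
def witBlock23 : List (ℕ × ℕ) :=
  [(1, 17), (94, 24), (109, 34), (37, 16), (32, 11), (34, 11), (40, 16), (69, 37), (91, 23), (43, 30), (53, 28), (22, 45), (5, 50), (4, 50), (24, 45), (56, 27), (88, 33), (85, 25), (87, 44), (57, 39), (117, 35), (84, 36), (101, 39), (42, 44), (118, 22), (119, 10), (86, 2), (115, 8), (99, 17), (1, 48), (100, 17), (86, 20), (1, 42), (43, 18), (88, 2), (1, 46), (1, 40), (1, 1), (1, 43), (1, 49), (43, 2), (88, 19), (1, 41), (41, 21), (103, 17), (1, 47), (102, 17), (116, 9), (41, 2), (108, 7), (105, 34), (106, 24), (99, 3), (38, 51), (84, 28), (118, 30), (36, 51), (35, 4), (24, 7), (69, 49), (91, 46), (21, 9), (2, 8), (94, 49), (109, 46), (22, 10), (38, 5), (39, 51), (85, 33), (117, 27), (35, 51), (102, 6), (104, 23), (107, 37), (86, 18), (115, 47), (115, 20), (39, 17), (1, 14), (35, 17), (119, 49), (1, 12), (1, 51), (1, 15), (108, 46), (38, 17), (1, 13), (36, 17),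 (116, 21), (116, 48), (41, 19), (106, 32), (105, 26), (107, 29), (104, 31), (68, 37), (76, 3), (101, 9), (76, 7), (43, 4), (76, 23), (69, 25), (91, 35), (118, 38), (70, 41), (90, 41), (84, 38), (117, 38), (93, 42), (110, 42), (85, 38), (94, 36), (109, 22), (73, 24), (88, 5), (73, 10), (57, 8), (73, 6), (71, 34), (62, 32), (29, 46), (46, 49), (75, 26), (86, 3), (21, 30), (20, 38), (59, 38), (6, 28), (90, 4), (98, 42), (106, 51), (99, 1), (100, 1), (105, 51), (111, 42), (68, 36), (76, 22), (73, 25), (71, 35), (113, 41), (107, 51), (103, 1), (102, 1), (104, 51), (96, 41), (93, 5), (33, 27), (19, 38), (60, 38), (2, 33), (41, 6), (72, 29), (49, 46), (26, 49), (65, 31), (37, 43), (32, 40), (100, 51), (33, 48), (2, 48), (99, 51), (87, 14), (39, 1), (70, 6), (6, 5), (35, 1), (57, 14), (101, 13), (38, 1), (33, 4), (110, 3), (36, 1), (42, 13), (102, 51), (21, 47), (6, 47), (103, 51), (34, 43), (40, 40), (25, 8), (6, 39), (21, 44), (37, 10), (52, 50), (52, 5), (33, 6),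 (92, 45), (89, 45), (6, 3), (55, 4), (55, 50), (40, 7), (2, 44), (33, 39), (23, 9), (2, 31), (33, 29), (6, 26), (21, 32), (84, 17), (115, 41), (118, 17), (119, 19), (115, 13), (43, 21), (119, 43), (119, 15), (1, 38), (108, 12), (108, 40), (88, 20), (116, 14), (108, 18), (85, 17), (116, 42), (117, 17), (98, 15), (111, 12), (31, 47), (103, 38), (84, 1), (118, 1), (102, 38), (44, 47), (68, 40), (100, 4), (60, 3), (76, 43), (73, 40), (20, 6), (103, 5), (71, 43), (11, 48), (99, 38), (85, 1), (117, 1), (100, 38), (28, 48), (113, 15), (96, 12), (115, 17), (119, 2), (115, 50), (115, 44), (115, 1), (115, 39), (115, 45), (115, 2), (119, 45), (115, 16), (115, 51), (115, 11), (108, 50), (119, 39), (119, 11), (115, 38), (108, 16), (108, 44), (119, 17), (119, 1), (119, 51), (119, 38), (0, 0), (108, 38), (108, 51), (108, 1), (108, 17), (119, 44), (119, 16), (116, 38), (108, 11), (108, 39), (119, 50), (116, 11), (116, 51), (116, 16), (108, 45), (116, 2), (116, 45), (116, 39),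 (116, 1), (116, 44), (116, 50), (108, 2), (116, 17), (112, 12), (97, 15), (47, 48), (80, 38), (106, 1), (105, 1), (79, 38), (23, 48), (92, 43), (83, 5), (36, 6), (52, 40), (55, 43), (39, 3), (80, 4), (89, 40), (25, 47), (82, 38), (107, 1), (104, 1), (83, 38), (50, 47), (95, 12), (114, 15), (106, 17), (115, 42), (105, 17), (119, 18), (115, 14), (67, 20), (119, 40), (119, 12), (7, 38), (108, 15), (108, 43), (64, 21), (116, 13), (108, 19), (107, 17), (116, 41), (104, 17), (9, 32), (15, 26), (17, 29), (8, 31), (11, 9), (17, 39), (8, 44), (61, 7), (76, 50), (76, 4), (15, 3), (68, 45), (71, 45), (17, 6), (73, 5), (73, 50), (58, 10), (9, 44), (15, 39), (44, 8), (61, 40), (18, 43), (83, 51), (15, 47), (9, 47), (82, 51), (63, 13), (20, 1), (94, 3), (17, 4), (59, 1), (81, 13), (78, 14), (19, 1), (15, 5), (91, 6), (60, 1), (66, 14), (79, 51), (8, 48), (17, 48), (80, 51), (16, 40), (58, 43), (86, 31), (45, 49), (30, 46), (51, 29), (62, 6), (8, 33), (39, 38), (35, 38), (17,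 27), (109, 5), (112, 41), (84, 51), (82, 1), (83, 1), (118, 51), (97, 41), (92, 35), (52, 25), (55, 22), (89, 36), (95, 42), (85, 51), (80, 1), (79, 1), (117, 51), (114, 42), (69, 4), (15, 28), (38, 38), (36, 38), (9, 30), (65, 3), (54, 26), (27, 49), (48, 46), (41, 32), (92, 34), (52, 6), (78, 8), (52, 10), (67, 5), (52, 24), (93, 22), (110, 36), (105, 38), (94, 42), (109, 42), (106, 38), (104, 38), (69, 41), (91, 41), (107, 38), (70, 35), (90, 25), (55, 23), (64, 4), (55, 7), (81, 9), (55, 3), (89, 37), (84, 31), (118, 29), (85, 26), (117, 32), (62, 19), (115, 48), (115, 21), (20, 17), (7, 13), (59, 17), (119, 46), (7, 15), (7, 51), (7, 12), (108, 49), (19, 17), (7, 14), (60, 17), (116, 20), (116, 47), (65, 18), (118, 37), (84, 23), (82, 6), (19, 51), (106, 27), (105, 33), (60, 51), (59, 5), (10, 10), (93, 46), (110, 49), (8, 8), (9, 9), (70, 46), (90, 49), (12, 7), (19, 4), (20, 51), (107, 30), (104, 28), (59, 51), (79, 3), (117, 24), (85, 34), (119, 7),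 (62, 2), (115, 9), (82, 17), (7, 47), (83, 17), (62, 21), (7, 41), (67, 19), (64, 2), (7, 49), (7, 43), (7, 1), (7, 40), (7, 46), (67, 2), (64, 18), (7, 42), (65, 20), (80, 17), (7, 48), (79, 17), (116, 8), (65, 2), (108, 10), (107, 22), (63, 44), (81, 39), (104, 36), (106, 35), (78, 39), (66, 44), (105, 25), (67, 33), (77, 27), (12, 45), (13, 50), (14, 50), (10, 45), (74, 28), (64, 30), (70, 23), (90, 37), (61, 16), (18, 11), (16, 11), (58, 16), (93, 34), (110, 24), (7, 17)]

/-- Scalars. -/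
def witBlock24 : List (ℕ × ℕ) :=
  [(43, 26), (29, 22), (39, 13), (36, 14), (26, 25), (88, 29), (86, 24), (42, 46), (35, 27), (38, 28), (87, 49), (41, 23), (76, 20), (100, 25), (103, 22), (73, 21), (39, 41), (42, 43), (1, 27), (1, 4), (106, 12), (24, 9), (1, 6), (1, 29), (1, 26), (1, 3), (22, 8), (104, 15), (1, 5), (1, 28), (87, 40), (36, 42), (94, 18), (90, 27), (25, 19), (53, 49), (51, 50), (23, 31), (53, 50), (103, 4), (22, 2), (51, 47), (54, 48), (24, 2), (100, 5), (56, 50), (25, 32), (54, 50), (56, 46), (23, 18), (93, 28), (91, 19), (21, 16), (94, 25), (90, 31), (22, 9), (25, 45), (40, 48), (37, 47), (23, 45), (24, 8), (93, 32), (91, 22), (2, 16), (23, 19), (25, 24), (23, 23), (25, 18), (84, 40), (93, 14), (71, 38), (99, 10), (97, 44), (19, 32), (98, 44), (28, 27), (31, 28), (96, 44), (59, 31), (95, 44), (102, 7), (68, 38), (90, 13), (117, 43), (99, 39), (53, 6), (118, 3), (37, 41), (92, 15), (24, 46), (98, 45), (30, 7), (84, 37), (94, 40), (103, 39), (43,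 25), (95, 45), (9, 38), (87, 1), (42, 1), (8, 38), (97, 45), (88, 22), (100, 39), (91, 43), (117, 34), (27, 10), (96, 45), (22, 49), (89, 12), (40, 42), (85, 6), (56, 3), (102, 39), (25, 22), (99, 11), (75, 30), (98, 5), (30, 47), (2, 41), (37, 1), (106, 40), (81, 46), (51, 5), (100, 11), (97, 3), (100, 10), (103, 7), (95, 6), (103, 11), (54, 4), (78, 49), (104, 43), (40, 1), (21, 42), (27, 48), (96, 4), (72, 33), (102, 11), (23, 25), (38, 13), (29, 7), (29, 30), (106, 25), (37, 42), (37, 3), (40, 6), (40, 41), (104, 22), (26, 33), (26, 10), (35, 14), (29, 34), (30, 31), (76, 39), (60, 42), (20, 41), (73, 39), (27, 32), (26, 37), (53, 48), (99, 6), (84, 2), (51, 49), (60, 20), (93, 23), (31, 5), (79, 18), (53, 38), (51, 38), (80, 34), (118, 2), (85, 2), (83, 37), (54, 38), (56, 38), (82, 19), (28, 4), (90, 24), (20, 21), (54, 46), (117, 2), (102, 3), (56, 47), (18, 47), (37, 48), (109, 38), (87, 43), (81, 43), (70, 38), (84, 12), (98, 1), (30, 3), (110, 5),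 (97, 1), (105, 12), (107, 15), (95, 1), (70, 4), (27, 6), (96, 1), (117, 15), (110, 38), (78, 40), (42, 40), (69, 38), (40, 47), (16, 48), (62, 49), (98, 2), (37, 4), (67, 47), (91, 34), (93, 19), (95, 2), (102, 23), (62, 38), (67, 38), (27, 21), (109, 3), (69, 6), (30, 20), (64, 38), (65, 38), (99, 24), (97, 2), (90, 18), (94, 37), (64, 48), (40, 5), (96, 2), (65, 46), (29, 26), (30, 23), (38, 41), (92, 44), (89, 44), (35, 42), (27, 24), (26, 29), (20, 8), (60, 14), (118, 36), (30, 27), (16, 42), (84, 4), (117, 5), (18, 41), (27, 28), (85, 35), (20, 13), (60, 9), (86, 27), (83, 16), (28, 35), (31, 3), (87, 46), (118, 40), (18, 1), (15, 42), (29, 48), (59, 3), (69, 9), (60, 5), (82, 16), (79, 16), (20, 4), (109, 8), (19, 6), (26, 47), (17, 41), (16, 1), (85, 43), (42, 49), (28, 6), (31, 36), (80, 16), (41, 28), (18, 42), (18, 5), (29, 4), (83, 44), (19, 8), (97, 50), (14, 46), (76, 15), (77, 36), (79, 44), (90, 40), (105, 24), (98, 50), (6, 38), (78, 1), (81,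 1), (33, 38), (96, 50), (107, 23), (93, 43), (82, 44), (74, 35), (73, 12), (13, 49), (95, 50), (59, 9), (80, 44), (26, 5), (16, 4), (16, 41), (98, 39), (70, 9), (55, 38), (91, 13), (105, 40), (25, 30), (97, 39), (36, 29), (39, 26), (95, 39), (23, 33), (107, 43), (94, 14), (52, 38), (110, 8), (96, 39), (28, 37), (73, 20), (76, 21), (31, 34), (9, 10), (94, 26), (90, 36), (17, 11), (16, 47), (28, 50), (31, 50), (18, 48), (15, 11), (93, 35), (91, 29), (8, 7), (94, 30), (29, 21), (31, 26), (62, 45), (67, 49), (59, 20), (62, 48), (9, 2), (18, 6), (67, 45), (64, 45), (16, 3), (8, 2), (65, 47), (19, 21), (64, 46), (65, 45), (28, 29), (26, 20), (91, 33), (78, 43), (59, 42), (7, 32), (98, 4), (8, 10), (118, 12), (97, 6), (7, 30), (7, 33), (95, 3), (85, 15), (9, 7), (96, 5), (7, 31), (19, 41), (81, 40), (82, 36), (83, 19), (80, 18), (79, 35), (20, 30), (78, 46), (75, 37), (72, 34), (81, 49), (60, 33), (30, 35), (77, 31), (19, 13), (59, 14), (74, 32), (27, 36)]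

/-- Scalars. -/
def witBlock25 : List (ℕ × ℕ) :=
  [(6, 34), (56, 35), (53, 36), (33, 37), (1, 21), (87, 17), (1, 39), (42, 17), (1, 20), (22, 7), (2, 13), (36, 35), (38, 33), (35, 30), (39, 36), (21, 14), (24, 10), (37, 17), (54, 21), (1, 11), (51, 20), (40, 17), (51, 37), (68, 28), (31, 8), (97, 42), (24, 43), (91, 15), (94, 12), (22, 40), (95, 41), (28, 9), (71, 27), (54, 34), (87, 9), (69, 33), (52, 32), (92, 16), (40, 43), (23, 44), (25, 44), (37, 40), (89, 16), (55, 31), (109, 30), (42, 8), (69, 29), (6, 36), (33, 35), (109, 26), (20, 24), (78, 44), (29, 41), (59, 26), (19, 29), (26, 42), (81, 44), (60, 23), (53, 21), (115, 40), (115, 18), (98, 17), (115, 12), (97, 17), (119, 41), (119, 13), (3, 38), (108, 14), (108, 42), (95, 17), (116, 15), (96, 17), (116, 19), (116, 43), (56, 20), (39, 31), (30, 42), (42, 39), (35, 37), (38, 34), (87, 39), (27, 41), (36, 32), (8, 25), (110, 32), (70, 31), (9, 22), (76, 11), (68, 29), (110, 28), (68, 10), (31, 39),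 (16, 43), (18, 40), (28, 39), (71, 7), (70, 27), (71, 26), (73, 11), (52, 33), (62, 24), (93, 15), (14, 43), (98, 41), (18, 7), (16, 10), (96, 42), (13, 40), (90, 12), (65, 23), (55, 30), (18, 17), (64, 19), (7, 16), (67, 18), (16, 17), (15, 14), (9, 8), (60, 28), (19, 22), (59, 25), (20, 27), (8, 9), (17, 13), (62, 18), (78, 17), (7, 44), (81, 17), (65, 19), (64, 22), (8, 23), (9, 24), (67, 25)]

/-- Scalars. -/
def witBlock26 : List (ℕ × ℕ) :=
  []

/-- Scalars. -/
def witBlock27 : List (ℕ × ℕ) :=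
  [(45, 35), (48, 36), (5, 33), (4, 30), (50, 21), (49, 37), (46, 34), (47, 20), (12, 29), (5, 32), (4, 31), (10, 26), (48, 24), (4, 18), (5, 19), (45, 23), (12, 28), (10, 27), (49, 25), (46, 22)]

/-- Scalars. -/
def witBlock28 : List (ℕ × ℕ) :=
  [(112, 20), (111, 26), (113, 29), (114, 21), (101, 24), (5, 29), (47, 11), (32, 8), (34, 9), (50, 11), (4, 26), (57, 23), (11, 37), (39, 10), (111, 30), (47, 28), (112, 47), (36, 31), (39, 32), (114, 48), (50, 27), (113, 33), (36, 7), (44, 34), (57, 31), (102, 33), (99, 30), (101, 32), (115, 34), (115, 22), (44, 36), (11, 32), (113, 10), (45, 43), (48, 40), (111, 7), (44, 31), (11, 35), (116, 25), (116, 37), (101, 18), (118, 35), (39, 19), (112, 3), (53, 15), (51, 16), (32, 2), (5, 28), (53, 16), (10, 37), (10, 20), (51, 13), (54, 14), (12, 21), (12, 34), (56, 16), (4, 27), (34, 2), (54, 16), (56, 12), (114, 6), (36, 18), (85, 36), (57, 19), (4, 12), (106, 8), (63, 36), (66, 27), (32, 46), (47, 5), (50, 4), (34, 49),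 (63, 28), (66, 35), (104, 9), (5, 15), (53, 14), (107, 24), (104, 21), (51, 15), (111, 34), (38, 18), (35, 19), (113, 37), (54, 12), (106, 20), (105, 23), (56, 13), (100, 31), (4, 25), (5, 22), (103, 32), (20, 28), (11, 42), (114, 36), (46, 13), (111, 4), (46, 8), (49, 9), (113, 5), (49, 14), (112, 35), (44, 41), (60, 27), (47, 10), (101, 45), (66, 50), (32, 9), (5, 44), (12, 6), (66, 4), (12, 39), (10, 39), (63, 5), (10, 3), (4, 44), (34, 8), (63, 50), (57, 45), (50, 7), (113, 25), (50, 41), (35, 33), (38, 7), (50, 6), (45, 14), (48, 13), (47, 3), (35, 10), (38, 30), (47, 42), (111, 22), (10, 36), (82, 26), (79, 29), (12, 35), (62, 15), (48, 18), (117, 37), (67, 13), (111, 21), (112, 23), (114, 24), (113, 20), (64, 14), (84, 34), (45, 19), (65, 12), (112, 7), (10, 12), (101, 30), (57, 25), (58, 49), (66, 6), (63, 3), (61, 46), (101, 22), (57, 33), (12, 15), (114, 10), (106, 22), (105, 21), (12, 33), (47, 2), (62, 11), (67, 15), (12, 5), (12, 20), (62, 14),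 (101, 19), (4, 24), (67, 11), (64, 11), (5, 23), (57, 18), (65, 13), (10, 21), (10, 4), (64, 12), (65, 11), (50, 2), (10, 30), (107, 20), (104, 25), (115, 35), (115, 23), (50, 29), (47, 25), (107, 8), (49, 40), (46, 43), (105, 9), (50, 22), (47, 26), (116, 24), (116, 36), (80, 28), (63, 26), (66, 29), (83, 27), (112, 27), (45, 9), (50, 24), (19, 26), (111, 48), (44, 33), (11, 30), (113, 47), (59, 29), (47, 23), (48, 8), (114, 28), (12, 32), (66, 37), (47, 7), (44, 16), (11, 16), (50, 10), (63, 34), (10, 31), (112, 31), (46, 19), (49, 18), (114, 32)]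

/-- Scalars. -/
def witBlock29 : List (ℕ × ℕ) :=
  [(119, 28), (6, 15), (108, 31), (119, 32), (33, 12), (108, 27), (57, 27), (21, 18), (2, 19), (101, 28), (86, 22), (118, 34), (5, 41), (4, 42), (85, 37), (41, 25), (43, 31), (101, 25), (5, 48), (57, 4), (5, 6), (118, 46), (52, 14), (101, 10), (57, 7), (55, 13), (85, 49), (4, 3), (101, 5), (4, 47), (57, 22), (88, 32), (45, 50), (35, 48), (103, 9), (32, 26), (105, 22), (34, 12), (33, 51), (46, 50), (49, 50), (6, 51), (32, 15), (107, 25), (34, 29), (100, 8), (38, 47), (48, 50), (99, 26), (105, 46), (21, 45), (43, 23), (88, 24), (2, 45), (107, 49), (102, 29), (76, 26), (61, 20), (39, 22), (53, 43), (51, 44), (90, 21), (53, 44), (101, 2), (57, 6), (51, 41), (54, 42), (101, 3), (57, 2), (56, 44), (93, 20), (54, 44), (56, 40), (36, 25), (58, 21), (73, 29), (32, 27), (45, 39), (32, 24), (11, 49), (112, 8), (52, 51), (112, 14), (100, 45), (119, 5), (102, 45), (49, 39), (5, 1), (101, 42), (90, 48), (5, 5), (4, 4), (93,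 47), (57, 41), (4, 1), (46, 39), (99, 45), (108, 4), (103, 45), (114, 13), (55, 51), (114, 9), (44, 46), (34, 23), (48, 39), (34, 28), (53, 42), (39, 2), (45, 3), (51, 43), (38, 2), (53, 51), (107, 18), (66, 34), (51, 51), (46, 5), (83, 20), (92, 23), (89, 24), (80, 21), (49, 4), (54, 51), (63, 37), (105, 19), (56, 51), (35, 2), (54, 40), (48, 6), (36, 2), (56, 41), (92, 22), (47, 49), (92, 30), (33, 15), (55, 6), (105, 7), (107, 10), (52, 3), (6, 12), (89, 33), (50, 46), (89, 25), (21, 19), (38, 24), (35, 23), (2, 18), (101, 7), (44, 40), (61, 39), (66, 11), (100, 27), (57, 29), (101, 26), (103, 28), (63, 11), (58, 39), (11, 43), (57, 10), (61, 36), (45, 6), (69, 16), (99, 9), (61, 3), (75, 27), (19, 47), (76, 46), (12, 41), (114, 40), (70, 16), (11, 1), (46, 4), (49, 5), (44, 1), (110, 16), (112, 43), (10, 42), (73, 49), (59, 48), (72, 28), (58, 6), (102, 8), (109, 16), (48, 3), (58, 35), (68, 14), (52, 13), (11, 40), (69, 51), (45, 1), (46, 1), (110, 51),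 (50, 40), (4, 48), (10, 5), (83, 3), (10, 47), (12, 48), (80, 6), (12, 4), (5, 47), (47, 43), (70, 51), (49, 1), (48, 1), (109, 51), (44, 43), (55, 14), (71, 13), (86, 30), (62, 5), (70, 10), (110, 11), (105, 4), (32, 25), (92, 46), (36, 48), (113, 40), (5, 42), (69, 11), (47, 1), (106, 3), (104, 6), (50, 1), (109, 11), (4, 41), (111, 43), (39, 47), (89, 49), (34, 22), (107, 5), (70, 11), (110, 7), (65, 4), (41, 33), (101, 16), (32, 44), (47, 40), (52, 8), (63, 32), (82, 30), (79, 33), (66, 31), (55, 9), (50, 43), (34, 44), (57, 16), (60, 37), (58, 20), (61, 21), (20, 34), (76, 27), (44, 49), (76, 35), (113, 8), (61, 4), (9, 15), (8, 12), (58, 5), (111, 9), (73, 36), (11, 46), (73, 28), (62, 43), (20, 5), (45, 2), (67, 41), (19, 3), (62, 51), (101, 23), (91, 21), (67, 51), (46, 2), (76, 34), (112, 19), (114, 18), (73, 37), (49, 2), (64, 51), (94, 20), (57, 24), (65, 51), (59, 6), (64, 42), (48, 2), (60, 4), (65, 40), (61, 37), (46, 44), (61, 30), (82, 50), (111,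 13), (68, 51), (106, 7), (50, 49), (119, 3), (94, 47), (66, 41), (12, 1), (48, 44), (80, 50), (12, 3), (10, 6), (83, 50), (45, 44), (10, 1), (63, 42), (91, 48), (108, 6), (47, 46), (104, 10), (71, 51), (113, 14), (79, 50), (58, 33), (49, 44), (58, 34), (106, 19), (92, 31), (113, 18), (62, 39), (67, 43), (59, 35), (62, 42), (52, 4), (52, 2), (67, 39), (64, 39), (55, 2), (55, 5), (65, 41), (19, 36), (64, 40), (65, 39), (111, 19), (89, 32), (104, 18), (77, 34), (17, 50), (84, 46), (83, 31), (80, 32), (117, 49), (15, 50), (74, 37), (20, 47), (46, 45), (58, 12), (84, 35), (61, 31), (109, 10), (8, 51), (48, 45), (45, 45), (9, 51), (69, 7), (58, 32), (117, 36), (61, 15), (49, 45), (60, 48), (66, 36), (77, 26), (106, 46), (82, 4), (67, 6), (12, 47), (52, 9), (68, 13), (71, 14), (55, 8), (10, 48), (64, 3), (79, 5), (104, 49), (74, 29), (63, 35), (106, 23), (75, 35), (10, 41), (12, 42), (72, 36), (104, 24), (82, 21), (63, 30), (66, 33), (79, 20), (119, 26), (8, 15), (108,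 33), (119, 30), (9, 12), (108, 29)]

/-- Scalars. -/
def witBlock30 : List (ℕ × ℕ) :=
  [(86, 8), (5, 21), (5, 36), (43, 7), (87, 18), (97, 30), (95, 33), (42, 19), (88, 10), (4, 35), (4, 20), (41, 9), (42, 23), (87, 32), (2, 22), (103, 48), (100, 47), (21, 25), (42, 31), (87, 24), (43, 27), (11, 29), (99, 43), (56, 37), (53, 34), (102, 40), (44, 26), (88, 28), (32, 13), (87, 45), (68, 47), (99, 15), (6, 43), (5, 4), (103, 6), (5, 39), (4, 39), (100, 3), (4, 5), (33, 40), (102, 12), (71, 48), (42, 45), (34, 14), (101, 12), (53, 5), (36, 16), (98, 47), (38, 10), (32, 51), (38, 16), (33, 49), (97, 26), (95, 29), (6, 46), (35, 16), (34, 51), (35, 7), (96, 48), (39, 16), (56, 4), (57, 15), (51, 35), (5, 37), (34, 13), (55, 48), (39, 49), (37, 8), (40, 9), (36, 46), (52, 47), (32, 14), (4, 34), (54, 36), (47, 36), (50, 35), (112, 11), (68, 42), (46, 40), (105, 13), (111, 11), (84, 8), (11, 6), (33, 31), (31, 38), (28, 38), (6, 32), (44, 3), (117, 9), (113, 11), (107,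 14), (49, 43), (71, 41), (114, 11), (86, 7), (87, 19), (6, 29), (53, 10), (54, 9), (53, 1), (84, 5), (99, 2), (51, 1), (43, 9), (4, 21), (4, 6), (53, 13), (51, 12), (100, 2), (4, 32), (5, 31), (103, 2), (54, 15), (56, 14), (5, 3), (5, 20), (88, 8), (54, 1), (102, 2), (117, 4), (56, 1), (51, 8), (56, 7), (33, 26), (42, 18), (41, 10), (37, 46), (6, 6), (115, 3), (109, 50), (47, 33), (110, 50), (83, 47), (50, 37), (95, 10), (35, 44), (55, 41), (104, 13), (39, 44), (101, 51), (6, 1), (33, 1), (57, 51), (36, 44), (106, 14), (52, 42), (38, 44), (97, 7), (47, 34), (80, 48), (70, 50), (50, 30), (69, 50), (116, 6), (33, 3), (40, 49), (6, 21), (33, 33), (98, 20), (6, 4), (53, 11), (51, 14), (37, 2), (97, 22), (53, 12), (21, 23), (92, 19), (51, 11), (54, 11), (89, 18), (2, 24), (56, 15), (95, 25), (40, 2), (54, 13), (56, 11), (33, 5), (96, 21), (6, 30), (33, 20), (6, 27), (33, 28), (11, 10), (82, 15), (54, 23), (85, 42), (9, 43), (42, 33), (87, 30), (8, 40), (118, 41),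 (51, 24), (79, 12), (44, 7), (98, 23), (118, 50), (67, 36), (70, 44), (63, 12), (22, 38), (45, 8), (44, 42), (19, 5), (8, 49), (82, 43), (68, 1), (69, 44), (117, 50), (44, 5), (11, 4), (84, 50), (109, 44), (71, 1), (79, 40), (9, 46), (59, 4), (11, 41), (48, 9), (24, 38), (66, 15), (110, 44), (64, 35), (85, 50), (96, 24), (86, 26), (84, 42), (105, 41), (75, 31), (99, 4), (112, 51), (87, 22), (81, 35), (111, 51), (51, 6), (10, 28), (4, 33), (20, 49), (29, 38), (70, 1), (109, 1), (30, 38), (35, 49), (38, 46), (27, 38), (69, 1), (110, 1), (26, 38), (60, 46), (5, 30), (12, 27), (54, 3), (113, 51), (78, 36), (42, 25), (114, 51), (102, 5), (72, 32), (107, 42), (117, 41), (41, 29), (53, 25), (106, 45), (97, 34), (47, 41), (39, 7), (13, 38), (57, 12), (109, 39), (98, 3), (107, 45), (110, 39), (52, 1), (100, 43), (6, 49), (67, 3), (64, 6), (33, 46), (103, 40), (55, 1), (70, 39), (105, 45), (96, 6), (69, 39), (101, 15), (14, 38), (36, 10), (50, 42), (95, 37), (104, 45),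 (56, 22), (100, 15), (37, 9), (78, 28), (33, 43), (104, 41), (65, 34), (62, 37), (106, 42), (6, 40), (81, 27), (40, 8), (103, 12), (9, 33), (8, 30), (9, 28), (46, 18), (98, 35), (11, 2), (62, 13), (67, 16), (118, 6), (68, 19), (62, 16), (15, 20), (17, 34), (67, 12), (64, 15), (15, 37), (17, 21), (65, 16), (71, 18), (85, 3), (64, 16), (65, 14), (44, 2), (96, 36), (49, 19), (8, 27), (70, 45), (9, 5), (115, 4), (18, 46), (11, 24), (99, 48), (69, 45), (44, 28), (85, 14), (71, 42), (20, 39), (118, 9), (19, 39), (63, 51), (9, 1), (8, 1), (66, 51), (59, 39), (85, 8), (60, 39), (68, 41), (118, 13), (11, 27), (109, 45), (102, 47), (44, 23), (16, 49), (116, 5), (8, 4), (110, 45), (53, 9), (8, 32), (9, 20), (62, 8), (64, 10), (62, 1), (70, 2), (9, 3), (67, 1), (51, 10), (10, 29), (69, 2), (62, 12), (67, 14), (97, 4), (52, 18), (55, 19), (95, 5), (64, 13), (65, 15), (109, 2), (12, 26), (54, 7), (64, 1), (8, 6), (110, 2), (65, 1), (67, 7), (65, 9), (8, 21), (9, 31), (56,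 8), (84, 14), (45, 40), (52, 41), (111, 16), (98, 7), (112, 16), (78, 5), (8, 29), (25, 38), (23, 38), (9, 26), (81, 4), (114, 16), (96, 10), (113, 16), (55, 42), (48, 43), (117, 13), (44, 25), (11, 22), (12, 24), (62, 22), (11, 7), (59, 49), (71, 47), (58, 14), (61, 13), (68, 48), (19, 46), (44, 10), (65, 25), (10, 23), (19, 11), (20, 3), (66, 12), (9, 49), (60, 11), (61, 51), (46, 9), (97, 48), (98, 31), (96, 32), (95, 47), (49, 8), (58, 51), (20, 11), (8, 46), (63, 15), (60, 6), (59, 11), (83, 15), (52, 48), (81, 50), (61, 14), (12, 44), (62, 4), (81, 6), (8, 43), (9, 40), (78, 3), (65, 5), (10, 44), (58, 13), (78, 50), (55, 47), (80, 12), (77, 30), (64, 24), (83, 43), (50, 32), (47, 31), (80, 40), (67, 23), (74, 33), (81, 29), (78, 34), (17, 36), (82, 48), (79, 47), (15, 35), (81, 37), (78, 26), (64, 8), (12, 25), (45, 18), (62, 7), (98, 27), (97, 21), (95, 20), (96, 28), (65, 10), (48, 19), (10, 22), (67, 9)]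

/-- Scalars. -/
def witBlock31 : List (ℕ × ℕ) :=
  [(24, 23), (22, 24), (35, 31), (103, 21), (87, 25), (24, 19), (22, 18), (42, 22), (100, 20), (38, 32), (38, 15), (37, 44), (100, 42), (57, 11), (99, 34), (4, 28), (5, 27), (102, 37), (101, 11), (103, 41), (40, 44), (35, 12), (100, 14), (46, 37), (118, 26), (32, 12), (40, 23), (54, 6), (102, 9), (99, 8), (51, 3), (37, 24), (34, 15), (85, 29), (49, 34), (103, 13), (36, 15), (87, 10), (42, 27), (24, 22), (22, 25), (87, 28), (42, 7), (39, 12), (107, 33), (105, 30), (30, 30), (98, 19), (19, 28), (53, 41), (51, 40), (44, 20), (11, 21), (54, 43), (56, 42), (59, 27), (96, 18), (27, 33), (106, 16), (68, 5), (111, 14), (4, 29), (87, 42), (107, 16), (18, 38), (118, 7), (35, 40), (38, 43), (85, 10), (16, 38), (105, 16), (42, 41), (5, 26), (113, 13), (71, 4), (104, 16), (45, 36), (106, 18), (78, 32), (53, 39), (51, 42), (97, 19), (53, 40), (87, 2), (42, 4), (51, 39), (54, 39), (87, 5), (42, 2), (56, 43), (95, 18), (54,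 41), (56, 39), (81, 31), (104, 19), (48, 35), (119, 24), (98, 8), (108, 35), (40, 22), (39, 40), (40, 29), (37, 26), (36, 43), (37, 25), (119, 36), (96, 9), (108, 23), (98, 43), (118, 39), (83, 14), (30, 26), (18, 30), (100, 9), (42, 38), (84, 39), (117, 39), (87, 38), (103, 8), (16, 33), (27, 29), (80, 13), (85, 39), (96, 40), (87, 23), (81, 34), (53, 4), (100, 35), (95, 38), (96, 38), (82, 22), (42, 6), (87, 7), (99, 41), (83, 42), (68, 8), (71, 9), (80, 41), (102, 42), (42, 10), (87, 3), (79, 25), (98, 38), (97, 38), (103, 36), (56, 5), (78, 37), (42, 24), (106, 44), (97, 43), (69, 10), (37, 27), (29, 31), (99, 13), (81, 38), (107, 44), (105, 44), (78, 38), (102, 14), (26, 32), (40, 28), (109, 7), (95, 40), (104, 44), (119, 22), (84, 7), (108, 37), (16, 32), (59, 40), (16, 35), (18, 36), (19, 43), (18, 31), (119, 34), (117, 10), (108, 25), (99, 21), (46, 25), (31, 20), (62, 41), (67, 44), (42, 29), (62, 44), (68, 6), (68, 2), (67, 40), (64, 43), (71, 2),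 (71, 3), (65, 44), (87, 26), (64, 44), (65, 42), (28, 21), (49, 22), (102, 20), (112, 13), (18, 3), (118, 11), (10, 32), (20, 40), (95, 8), (37, 38), (117, 11), (81, 41), (78, 42), (84, 11), (40, 38), (97, 9), (60, 43), (12, 31), (85, 11), (16, 6), (114, 14), (18, 20), (29, 27), (107, 19), (62, 40), (67, 42), (36, 33), (39, 30), (64, 41), (65, 43), (105, 18), (26, 28), (16, 21), (84, 27), (117, 28), (68, 9), (19, 15), (14, 35), (78, 30), (81, 33), (13, 36), (59, 12), (71, 8), (61, 12), (106, 31), (45, 24), (82, 13), (18, 37), (16, 5), (70, 7), (110, 10), (18, 4), (16, 34), (79, 14), (48, 23), (104, 32), (58, 15), (63, 16), (82, 41), (18, 39), (60, 15), (10, 33), (83, 23), (80, 24), (12, 30), (20, 12), (16, 39), (79, 42), (66, 16), (12, 18), (20, 26), (16, 20), (81, 36), (78, 35), (18, 21), (60, 29), (10, 19), (14, 34), (13, 37)]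

/-- Scalars. -/
def witBlock32 : List (ℕ × ℕ) :=
  []

/-- Scalars. -/
def witBlock33 : List (ℕ × ℕ) :=
  [(111, 27), (113, 28), (32, 22), (34, 25), (66, 21), (58, 37), (61, 34), (63, 20), (112, 26), (111, 31), (113, 32), (114, 29), (34, 24), (34, 18), (32, 19), (32, 23), (58, 36), (61, 35), (112, 30), (114, 33)]

/-- Scalars. -/
def witBlock34 : List (ℕ × ℕ) :=
  [(100, 30), (99, 23), (102, 24), (103, 33), (5, 17), (1, 18), (1, 45), (1, 19), (4, 17), (48, 12), (71, 33), (9, 35), (57, 9), (101, 8), (8, 36), (68, 30), (45, 15), (50, 13), (32, 7), (54, 25), (57, 48), (48, 49), (33, 24), (6, 23), (45, 46), (101, 47), (51, 22), (34, 10), (47, 14), (70, 32), (67, 34), (113, 49), (12, 50), (10, 50), (111, 46), (64, 37), (110, 31), (55, 29), (70, 28), (110, 27), (52, 26), (53, 19), (11, 17), (3, 16), (44, 17), (56, 18), (10, 11), (61, 50), (11, 47), (5, 10), (82, 35), (83, 26), (80, 29), (79, 36), (4, 7), (44, 48), (58, 50), (12, 11), (45, 17), (115, 46), (46, 17),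 (119, 20), (3, 15), (51, 19), (119, 47), (3, 14), (3, 51), (3, 13), (108, 48), (54, 18), (3, 12), (108, 21), (49, 17), (116, 49), (48, 17), (6, 9), (50, 48), (32, 45), (4, 16), (99, 31), (100, 22), (103, 25), (102, 32), (5, 16), (34, 45), (47, 47), (33, 8), (62, 20), (47, 17), (3, 11), (50, 17), (65, 21), (109, 33), (71, 32), (68, 31), (69, 30), (53, 23), (109, 29), (5, 45), (114, 49), (112, 46), (4, 45), (69, 26), (56, 24), (47, 8), (11, 14), (9, 37), (49, 49), (63, 47), (65, 36), (62, 35), (66, 48), (46, 46), (8, 34), (44, 13), (50, 9), (55, 10), (33, 22), (55, 28), (49, 12), (46, 15), (52, 27), (6, 25), (52, 7), (12, 17), (64, 20), (7, 50), (67, 21), (10, 17), (83, 34), (82, 27), (79, 28), (80, 37)]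

/-- Scalars. -/
def witBlock35 : List (ℕ × ℕ) :=
  [(45, 34), (48, 37), (57, 21), (11, 28), (102, 18), (103, 29), (100, 26), (99, 19), (44, 27), (101, 20), (33, 16), (1, 23), (1, 25), (4, 14), (99, 46), (44, 50), (11, 50), (102, 49), (5, 13), (1, 22), (1, 24), (6, 16), (37, 19), (37, 22), (49, 21), (53, 47), (51, 46), (44, 35), (11, 36), (54, 49), (56, 48), (46, 20), (40, 25), (40, 18), (44, 37), (69, 14), (11, 5), (50, 12), (38, 23), (100, 7), (97, 31), (95, 32), (103, 10), (35, 24), (47, 15), (44, 4), (109, 13), (11, 34), (52, 15), (84, 47), (5, 49), (45, 11), (39, 8), (49, 11), (49, 6), (47, 51), (85, 32), (118, 31), (50, 51), (46, 3), (46, 11), (36, 9), (48, 11), (4, 46), (117, 48), (55, 12), (39, 45), (99, 7), (4, 51), (47, 12), (46, 47), (47, 32), (38, 45), (111, 35), (113, 36), (35, 45), (50, 31), (49, 48), (50, 15), (5, 51), (102, 10), (36, 45), (37, 23), (105, 27), (32, 30), (45, 26), (38, 8), (106, 47), (104, 48), (35, 9), (48, 29), (34, 33), (107,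 28), (40, 24), (39, 25), (36, 22), (4, 9), (48, 25), (49, 28), (10, 14), (12, 13), (46, 27), (45, 22), (5, 8), (45, 21), (61, 26), (19, 20), (53, 45), (51, 48), (83, 30), (53, 46), (11, 3), (5, 2), (51, 45), (54, 45), (4, 2), (44, 6), (56, 49), (80, 33), (54, 47), (56, 45), (59, 21), (58, 29), (48, 20), (113, 24), (45, 4), (5, 9), (6, 10), (109, 6), (114, 37), (46, 51), (100, 46), (82, 46), (45, 51), (98, 30), (97, 27), (95, 28), (96, 33), (48, 51), (79, 49), (103, 49), (49, 51), (112, 34), (69, 3), (33, 7), (4, 8), (48, 5), (111, 23), (32, 31), (32, 18), (99, 27), (62, 47), (67, 50), (100, 19), (62, 50), (6, 2), (70, 5), (67, 46), (64, 49), (110, 4), (33, 2), (65, 50), (103, 18), (64, 50), (65, 48), (102, 28), (34, 19), (34, 32), (4, 13), (48, 33), (49, 36), (33, 10), (6, 7), (46, 35), (45, 30), (5, 14), (59, 36), (19, 35), (84, 30), (18, 34), (46, 31), (61, 27), (49, 10), (85, 47), (118, 48), (46, 7), (58, 28), (49, 32), (16, 37), (117, 33), (45, 48), (44,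 12), (10, 51), (70, 8), (59, 50), (112, 22), (60, 50), (44, 29), (11, 26), (20, 50), (114, 25), (19, 50), (110, 9), (12, 51), (11, 15), (48, 47), (46, 16), (12, 49), (105, 48), (68, 15), (48, 16), (45, 7), (64, 5), (11, 51), (106, 26), (104, 29), (44, 51), (67, 4), (48, 10), (45, 16), (71, 12), (107, 47), (10, 46), (49, 16), (47, 24), (11, 12), (62, 3), (110, 13), (98, 26), (69, 8), (60, 34), (20, 37), (109, 9), (96, 29), (70, 14), (65, 6), (44, 15), (50, 23), (18, 35), (20, 20), (47, 22), (62, 46), (67, 48), (50, 18), (47, 19), (64, 47), (65, 49), (50, 25), (60, 21), (16, 36), (10, 13), (7, 36), (7, 34), (9, 11), (47, 45), (83, 46), (80, 49), (50, 45), (8, 11), (7, 37), (7, 35), (12, 14), (50, 33), (47, 18), (79, 32), (81, 21), (78, 20), (82, 31), (50, 19), (47, 30), (49, 24), (46, 23)]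

/-- Scalars. -/
def witBlock36 : List (ℕ × ℕ) :=
  [(110, 35), (54, 33), (51, 30), (70, 36), (53, 17), (1, 9), (51, 17), (1, 7), (1, 2), (1, 10), (54, 17), (1, 8), (56, 17), (4, 11), (70, 49), (37, 45), (6, 13), (3, 37), (3, 36), (3, 35), (3, 34), (33, 14), (40, 45), (110, 46), (5, 11), (53, 20), (6, 17), (3, 50), (33, 17), (56, 21), (46, 12), (70, 24), (6, 33), (52, 16), (11, 39), (109, 41), (69, 42), (44, 39), (55, 16), (33, 30), (110, 23), (49, 15), (47, 13), (5, 40), (33, 44), (110, 15), (68, 50), (68, 3), (51, 4), (42, 48), (87, 47), (54, 5), (71, 6), (71, 50), (70, 12), (6, 44), (4, 43), (50, 14), (6, 48), (97, 46), (64, 29), (53, 3), (101, 14), (42, 9), (109, 4), (55, 36), (52, 35), (69, 5), (87, 8), (57, 13), (56, 6), (67, 26), (95, 49), (33, 47), (52, 34), (33, 32), (32, 16), (37, 7), (40, 10), (34, 16), (6, 31), (55, 37), (68, 17), (54, 19), (3, 44), (51, 18), (71, 17), (3, 33), (3, 32), (45, 41), (84, 3), (118, 4), (68, 43), (112, 15), (4, 10), (5,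 7), (114, 12), (71, 40), (85, 5), (117, 6), (48, 42), (3, 31), (3, 30), (119, 8), (53, 2), (115, 7), (53, 18), (3, 49), (51, 21), (70, 17), (3, 43), (109, 17), (54, 2), (3, 48), (3, 42), (3, 1), (3, 41), (3, 47), (51, 2), (69, 17), (3, 40), (110, 17), (54, 20), (3, 46), (56, 19), (116, 10), (56, 2), (108, 9), (3, 29), (3, 28), (52, 43), (3, 6), (3, 5), (46, 42), (33, 9), (111, 15), (113, 12), (6, 8), (49, 41), (3, 4), (3, 3), (55, 40), (3, 27), (3, 26), (52, 17), (3, 21), (3, 39), (3, 20), (55, 17), (9, 29), (68, 23), (11, 8), (61, 11), (58, 11), (44, 9), (71, 24), (8, 26), (98, 46), (8, 47), (71, 25), (9, 6), (71, 10), (66, 13), (71, 5), (56, 32), (53, 31), (68, 4), (63, 14), (68, 7), (8, 3), (68, 22), (9, 48), (96, 49), (69, 15), (9, 39), (12, 40), (44, 14), (78, 47), (110, 6), (8, 5), (52, 45), (55, 45), (9, 4), (70, 3), (81, 48), (11, 13), (10, 43), (8, 39), (109, 12), (68, 11), (8, 28), (109, 37), (45, 12), (70, 42), (50, 44), (47, 44), (110, 41), (48,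 15), (69, 34), (9, 27), (71, 11), (3, 19), (9, 17), (3, 45), (8, 17), (3, 18), (8, 14), (18, 50), (109, 49), (10, 16), (3, 25), (3, 24), (3, 23), (3, 22), (12, 16), (69, 46), (16, 50), (9, 13), (62, 17), (3, 10), (67, 17), (3, 9), (3, 2), (3, 8), (64, 17), (3, 7), (65, 17), (65, 28), (69, 22), (109, 25), (62, 27)]

/-- Scalars. -/
def witBlock37 : List (ℕ × ℕ) :=
  [(54, 29), (51, 26), (68, 20), (69, 32), (40, 19), (40, 33), (37, 30), (37, 18), (109, 31), (71, 21), (69, 28), (110, 34), (70, 37), (109, 27), (37, 31), (53, 24), (64, 33), (70, 40), (110, 43), (67, 30), (56, 23), (40, 32), (62, 36), (6, 41), (97, 23), (95, 24), (33, 42), (65, 35), (70, 18), (109, 36), (69, 35), (110, 19), (97, 35), (98, 22), (68, 39), (52, 44), (55, 44), (71, 39), (96, 25), (95, 36), (70, 25), (42, 21), (87, 20), (110, 22), (98, 34), (8, 42), (51, 25), (54, 22), (9, 41), (96, 37), (67, 37), (18, 26), (53, 27), (69, 43), (109, 40), (56, 28), (16, 29), (64, 34), (69, 23), (110, 33),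 (70, 30), (109, 24), (110, 29), (69, 19), (16, 28), (71, 20), (68, 21), (18, 27), (109, 18), (70, 26), (65, 32), (62, 31)]

/-- Scalars. -/
def witBlock38 : List (ℕ × ℕ) :=
  []

/-- Scalars. -/
def witBlock39 : List (ℕ × ℕ) :=
  []

/-- Scalars. -/
def witBlock40 : List (ℕ × ℕ) :=
  []

/-- Scalars. -/
def witBlock41 : List (ℕ × ℕ) :=
  [(51, 31), (54, 32), (68, 35), (11, 20), (49, 29), (33, 18), (6, 19), (46, 26), (44, 21), (71, 36), (12, 36), (71, 37), (109, 48), (71, 29), (68, 26), (69, 47), (68, 34), (10, 35), (55, 33), (109, 21), (69, 20), (52, 30), (5, 24), (53, 22), (56, 25), (4, 23), (62, 34), (46, 30), (71, 49), (68, 46), (49, 33), (65, 37), (64, 28), (9, 50), (33, 45), (56, 33), (53, 30), (6, 45), (8, 50), (67, 27), (45, 27), (51, 23), (52, 46), (55, 49), (54, 24), (48, 28), (67, 35), (12, 37), (10, 34), (64, 36), (5, 18), (71, 28), (68, 27), (4, 19), (5, 25), (55, 32), (70, 47), (55, 24), (52, 23), (110, 48), (52, 31), (4, 22), (33, 19), (52, 22),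 (110, 21), (48, 32), (45, 31), (70, 20), (55, 25), (6, 18), (65, 29), (62, 26)]

/-- Scalars. -/
def witBlock42 : List (ℕ × ℕ) :=
  [(102, 25), (54, 28), (51, 27), (99, 22), (39, 24), (36, 23), (8, 37), (9, 34), (54, 10), (84, 20), (118, 27), (53, 8), (38, 19), (33, 25), (6, 22), (35, 18), (56, 9), (85, 28), (117, 21), (51, 7), (115, 30), (115, 26), (5, 12), (4, 15), (116, 29), (116, 33), (39, 18), (105, 31), (107, 32), (36, 19), (64, 32), (45, 13), (60, 35), (20, 36), (48, 14), (67, 31), (82, 34), (100, 23), (11, 11), (50, 16), (47, 16), (44, 11), (103, 24), (79, 37), (38, 22), (46, 14), (56, 29), (53, 26), (49, 13), (35, 25), (84, 26), (118, 21), (85, 20), (117, 29), (115, 31), (115, 27), (10, 15), (12, 12), (116, 28), (116, 32), (53, 7), (106, 30), (52, 19), (51, 9), (9, 36), (8, 20), (9, 21), (8, 35), (54, 8), (55, 18), (104, 33), (56, 10), (33, 23), (6, 24), (59, 37), (19, 34), (65, 33), (80, 36), (83, 35), (62, 30)]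

/-- Scalars. -/
def witBlock43 : List (ℕ × ℕ) :=
  []

/-- Scalars. -/
def witBlock44 : List (ℕ × ℕ) :=
  []

/-- Scalars. -/
def witBlock45 : List (ℕ × ℕ) :=
  []

/-- Scalars. -/
def witBlock46 : List (ℕ × ℕ) :=
  [(3, 17)]

/-- (unit, representative) for short icosians, grouped by the first pair. -/
def witBlocks : List (List (ℕ × ℕ)) :=
  [witBlock0, witBlock1, witBlock2, witBlock3, witBlock4, witBlock5, witBlock6, witBlock7, witBlock8, witBlock9, witBlock10, witBlock11, witBlock12, witBlock13, witBlock14, witBlock15, witBlock16, witBlock17, witBlock18, witBlock19, witBlock20, witBlock21, witBlock22, witBlock23, witBlock24, witBlock25, witBlock26, witBlock27, witBlock28, witBlock29, witBlock30, witBlock31, witBlock32, witBlock33, witBlock34, witBlock35, witBlock36, witBlock37, witBlock38, witBlock39, witBlock40, witBlock41, witBlock42, witBlock43, witBlock44, witBlock45, witBlock46]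

end Cfsg.Agent.J2
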