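import Cfsg.Agent.Lib.J2.UnitData

/-! Short icosians sorted by residue and norm. -/

namespace Cfsg.Agent.J2

/-- Short icosians with given class and norm. -/
def tab0_0 : List (List Q) :=
  [[⟨(0, 0), (0, 0), (0, 0), (0, 0)⟩],
    [],
    [],
    [],
    [],
    [],
    [],
    [],
    [],
    [],
    [],
    [],
    [],
    [],
    [],
    []]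

/-- Short icosians with given class and norm. -/
def tab0_1 : List (List Q) :=
  [[],
    [],
    [],
    [],
    [],
    [],
    [],
    [],
    [],
    [],
    [],
    [],
    [],
    [],
    [],
    []]

/-- Short icosians with given class and norm. -/
def tab0_2 : List (List Q) :=
  [[],
    [⟨(-2, 1), (0, -1), (0, 1), (0, 1)⟩, ⟨(0, -1), (0, -1), (-2, 1), (0, -1)⟩, ⟨(0, -1), (0, 1), (0, 1), (-2, 1)⟩, ⟨(0, -1), (2, -1), (0, -1), (0, 1)⟩, ⟨(0, 1), (-2, 1), (0, 1), (0, -1)⟩, ⟨(0, 1), (0, -1), (0, -1), (2, -1)⟩, ⟨(0, 1), (0, 1), (2, -1), (0, 1)⟩, ⟨(2, -1), (0, 1), (0, -1), (0, -1)⟩],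
    [⟨(-1, -1), (-1, 1), (-1, 1), (1, -1)⟩, ⟨(-1, 1), (-1, 1), (1, -1), (-1, -1)⟩, ⟨(-1, 1), (1, -1), (1, 1), (1, -1)⟩, ⟨(-1, 1), (1, 1), (-1, 1), (-1, 1)⟩, ⟨(1, -1), (-1, -1), (1, -1), (1, -1)⟩, ⟨(1, -1), (-1, 1), (-1, -1), (-1, 1)⟩, ⟨(1, -1), (1, -1), (-1, 1), (1, 1)⟩, ⟨(1, 1), (1, -1), (1, -1), (-1, 1)⟩],
    [⟨(-1, 0), (-1, 0), (-1, 0), (-1, 2)⟩, ⟨(-1, 0), (-1, 2), (1, 0), (1, 0)⟩, ⟨(-1, 0), (1, 0), (1, -2), (-1, 0)⟩, ⟨(-1, 2), (1, 0), (-1, 0), (1, 0)⟩, ⟨(1, -2), (-1, 0), (1, 0), (-1, 0)⟩, ⟨(1, 0), (-1, 0), (-1, 2), (1, 0)⟩, ⟨(1, 0), (1, -2), (-1, 0), (-1, 0)⟩, ⟨(1, 0), (1, 0), (1, 0), (1, -2)⟩],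
    [⟨(-1, 0), (-1, 0), (1, 0), (1, -2)⟩, ⟨(-1, 0), (-1, 2), (-1, 0), (-1, 0)⟩, ⟨(-1, 0), (1, 0), (-1, 2), (1, 0)⟩, ⟨(-1, 2), (1, 0), (1, 0), (-1, 0)⟩, ⟨(1, -2), (-1, 0), (-1, 0), (1, 0)⟩, ⟨(1, 0), (-1, 0), (1, -2), (-1, 0)⟩, ⟨(1, 0), (1, -2), (1, 0), (1, 0)⟩, ⟨(1, 0), (1, 0), (-1, 0), (-1, 2)⟩],
    [⟨(-1, -1), (1, -1), (1, -1), (1, -1)⟩, ⟨(-1, 1), (-1, -1), (1, -1), (-1, 1)⟩, ⟨(-1, 1), (-1, 1), (-1, -1), (1, -1)⟩, ⟨(-1, 1), (1, -1), (-1, 1), (-1, -1)⟩, ⟨(1, -1), (-1, 1), (1, -1), (1, 1)⟩, ⟨(1, -1), (1, -1), (1, 1), (-1, 1)⟩, ⟨(1, -1), (1, 1), (-1, 1), (1, -1)⟩, ⟨(1, 1), (-1, 1), (-1, 1), (-1, 1)⟩],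
    [⟨(-2, 1), (0, 1), (0, 1), (0, -1)⟩, ⟨(0, -1), (-2, 1), (0, -1), (0, -1)⟩, ⟨(0, -1), (0, -1), (0, 1), (2, -1)⟩, ⟨(0, -1), (0, 1), (-2, 1), (0, 1)⟩, ⟨(0, 1), (0, -1), (2, -1), (0, -1)⟩, ⟨(0, 1), (0, 1), (0, -1), (-2, 1)⟩, ⟨(0, 1), (2, -1), (0, 1), (0, 1)⟩, ⟨(2, -1), (0, -1), (0, -1), (0, 1)⟩],
    [⟨(-2, 0), (-2, 0), (0, 0), (0, 0)⟩, ⟨(-2, 0), (2, 0), (0, 0), (0, 0)⟩, ⟨(0, 0), (0, 0), (-2, 0), (-2, 0)⟩, ⟨(0, 0), (0, 0), (-2, 0), (2, 0)⟩, ⟨(0, 0), (0, 0), (2, 0), (-2, 0)⟩, ⟨(0, 0), (0, 0), (2, 0), (2, 0)⟩, ⟨(2, 0), (-2, 0), (0, 0), (0, 0)⟩, ⟨(2, 0), (2, 0), (0, 0), (0, 0)⟩],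
    [⟨(-2, 1), (0, 1), (0, -1), (0, 1)⟩, ⟨(0, -1), (-2, 1), (0, 1), (0, 1)⟩, ⟨(0, -1), (0, -1), (0, -1), (-2, 1)⟩, ⟨(0, -1), (0, 1), (2, -1), (0, -1)⟩, ⟨(0, 1), (0, -1), (-2, 1), (0, 1)⟩, ⟨(0, 1), (0, 1), (0, 1), (2, -1)⟩, ⟨(0, 1), (2, -1), (0, -1), (0, -1)⟩, ⟨(2, -1), (0, -1), (0, 1), (0, -1)⟩],
    [⟨(-2, 0), (0, 0), (-2, 0), (0, 0)⟩, ⟨(-2, 0), (0, 0), (2, 0), (0, 0)⟩, ⟨(0, 0), (-2, 0), (0, 0), (-2, 0)⟩, ⟨(0, 0), (-2, 0), (0, 0), (2, 0)⟩, ⟨(0, 0), (2, 0), (0, 0), (-2, 0)⟩, ⟨(0, 0), (2, 0), (0, 0), (2, 0)⟩, ⟨(2, 0), (0, 0), (-2, 0), (0, 0)⟩, ⟨(2, 0), (0, 0), (2, 0), (0, 0)⟩],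
    [⟨(-1, 0), (-1, 0), (1, -2), (1, 0)⟩, ⟨(-1, 0), (1, -2), (1, 0), (-1, 0)⟩, ⟨(-1, 0), (1, 0), (-1, 0), (1, -2)⟩, ⟨(-1, 2), (-1, 0), (-1, 0), (-1, 0)⟩, ⟨(1, -2), (1, 0), (1, 0), (1, 0)⟩, ⟨(1, 0), (-1, 0), (1, 0), (-1, 2)⟩, ⟨(1, 0), (-1, 2), (-1, 0), (1, 0)⟩, ⟨(1, 0), (1, 0), (-1, 2), (-1, 0)⟩],
    [⟨(-1, -1), (-1, 1), (1, -1), (-1, 1)⟩, ⟨(-1, 1), (-1, 1), (-1, 1), (1, 1)⟩, ⟨(-1, 1), (1, -1), (-1, -1), (-1, 1)⟩, ⟨(-1, 1), (1, 1), (1, -1), (1, -1)⟩, ⟨(1, -1), (-1, -1), (-1, 1), (-1, 1)⟩, ⟨(1, -1), (-1, 1), (1, 1), (1, -1)⟩, ⟨(1, -1), (1, -1), (1, -1), (-1, -1)⟩, ⟨(1, 1), (1, -1), (-1, 1), (1, -1)⟩],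
    [⟨(-1, -1), (1, -1), (-1, 1), (-1, 1)⟩, ⟨(-1, 1), (-1, -1), (-1, 1), (1, -1)⟩, ⟨(-1, 1), (-1, 1), (1, 1), (-1, 1)⟩, ⟨(-1, 1), (1, -1), (1, -1), (1, 1)⟩, ⟨(1, -1), (-1, 1), (-1, 1), (-1, -1)⟩, ⟨(1, -1), (1, -1), (-1, -1), (1, -1)⟩, ⟨(1, -1), (1, 1), (1, -1), (-1, 1)⟩, ⟨(1, 1), (-1, 1), (1, -1), (1, -1)⟩],
    [⟨(-1, 0), (-1, 0), (-1, 2), (-1, 0)⟩, ⟨(-1, 0), (1, -2), (-1, 0), (1, 0)⟩, ⟨(-1, 0), (1, 0), (1, 0), (-1, 2)⟩, ⟨(-1, 2), (-1, 0), (1, 0), (1, 0)⟩, ⟨(1, -2), (1, 0), (-1, 0), (-1, 0)⟩, ⟨(1, 0), (-1, 0), (-1, 0), (1, -2)⟩, ⟨(1, 0), (-1, 2), (1, 0), (-1, 0)⟩, ⟨(1, 0), (1, 0), (1, -2), (1, 0)⟩],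
    [⟨(-2, 0), (0, 0), (0, 0), (-2, 0)⟩, ⟨(-2, 0), (0, 0), (0, 0), (2, 0)⟩, ⟨(0, 0), (-2, 0), (-2, 0), (0, 0)⟩, ⟨(0, 0), (-2, 0), (2, 0), (0, 0)⟩, ⟨(0, 0), (2, 0), (-2, 0), (0, 0)⟩, ⟨(0, 0), (2, 0), (2, 0), (0, 0)⟩, ⟨(2, 0), (0, 0), (0, 0), (-2, 0)⟩, ⟨(2, 0), (0, 0), (0, 0), (2, 0)⟩],
    [⟨(-2, 1), (0, -1), (0, -1), (0, -1)⟩, ⟨(0, -1), (0, -1), (2, -1), (0, 1)⟩, ⟨(0, -1), (0, 1), (0, -1), (2, -1)⟩, ⟨(0, -1), (2, -1), (0, 1), (0, -1)⟩, ⟨(0, 1), (-2, 1), (0, -1), (0, 1)⟩, ⟨(0, 1), (0, -1), (0, 1), (-2, 1)⟩, ⟨(0, 1), (0, 1), (-2, 1), (0, -1)⟩, ⟨(2, -1), (0, 1), (0, 1), (0, 1)⟩]]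

/-- Short icosians with given class and norm. -/
def tab0_3 : List (List Q) :=
  [[],
    [],
    [],
    [],
    [],
    [],
    [],
    [],
    [],
    [],
    [],
    [],
    [],
    [],
    [],
    []]

/-- Short icosians with given class and norm. -/
def tab0_4 : List (List Q) :=
  [[⟨(-4, 0), (0, 0), (0, 0), (0, 0)⟩, ⟨(-2, 0), (-2, 0), (-2, 0), (-2, 0)⟩, ⟨(-2, 0), (-2, 0), (-2, 0), (2, 0)⟩, ⟨(-2, 0), (-2, 0), (2, 0), (-2, 0)⟩, ⟨(-2, 0), (-2, 0), (2, 0), (2, 0)⟩, ⟨(-2, 0), (-2, 2), (0, 0), (0, -2)⟩, ⟨(-2, 0), (-2, 2), (0, 0), (0, 2)⟩, ⟨(-2, 0), (0, -2), (-2, 2), (0, 0)⟩, ⟨(-2, 0), (0, -2), (2, -2), (0, 0)⟩, ⟨(-2, 0), (0, 0), (0, -2), (-2, 2)⟩, ⟨(-2, 0), (0, 0), (0, -2), (2, -2)⟩,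 ⟨(-2, 0), (0, 0), (0, 2), (-2, 2)⟩, ⟨(-2, 0), (0, 0), (0, 2), (2, -2)⟩, ⟨(-2, 0), (0, 2), (-2, 2), (0, 0)⟩, ⟨(-2, 0), (0, 2), (2, -2), (0, 0)⟩, ⟨(-2, 0), (2, -2), (0, 0), (0, -2)⟩, ⟨(-2, 0), (2, -2), (0, 0), (0, 2)⟩, ⟨(-2, 0), (2, 0), (-2, 0), (-2, 0)⟩, ⟨(-2, 0), (2, 0), (-2, 0), (2, 0)⟩, ⟨(-2, 0), (2, 0), (2, 0), (-2, 0)⟩, ⟨(-2, 0), (2, 0), (2, 0), (2, 0)⟩, ⟨(-2, 2), (-2, 0), (0, -2), (0, 0)⟩, ⟨(-2, 2), (-2, 0), (0, 2), (0, 0)⟩, ⟨(-2, 2), (0, -2), (0, 0), (-2, 0)⟩, ⟨(-2, 2), (0, -2), (0, 0), (2, 0)⟩, ⟨(-2, 2), (0, 0), (-2, 0), (0, -2)⟩, ⟨(-2, 2), (0, 0), (-2, 0), (0, 2)⟩, ⟨(-2, 2), (0, 0), (2, 0), (0, -2)⟩, ⟨(-2, 2), (0, 0), (2, 0), (0, 2)⟩, ⟨(-2, 2), (0, 2), (0, 0), (-2, 0)⟩, ⟨(-2, 2),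 (0, 2), (0, 0), (2, 0)⟩, ⟨(-2, 2), (2, 0), (0, -2), (0, 0)⟩, ⟨(-2, 2), (2, 0), (0, 2), (0, 0)⟩, ⟨(0, -2), (-2, 0), (0, 0), (-2, 2)⟩, ⟨(0, -2), (-2, 0), (0, 0), (2, -2)⟩, ⟨(0, -2), (-2, 2), (-2, 0), (0, 0)⟩, ⟨(0, -2), (-2, 2), (2, 0), (0, 0)⟩, ⟨(0, -2), (0, 0), (-2, 2), (-2, 0)⟩, ⟨(0, -2), (0, 0), (-2, 2), (2, 0)⟩, ⟨(0, -2), (0, 0), (2, -2), (-2, 0)⟩, ⟨(0, -2), (0, 0), (2, -2), (2, 0)⟩, ⟨(0, -2), (2, -2), (-2, 0), (0, 0)⟩, ⟨(0, -2), (2, -2), (2, 0), (0, 0)⟩, ⟨(0, -2), (2, 0), (0, 0), (-2, 2)⟩, ⟨(0, -2), (2, 0), (0, 0), (2, -2)⟩, ⟨(0, 0), (-4, 0), (0, 0), (0, 0)⟩, ⟨(0, 0), (-2, 0), (-2, 2), (0, -2)⟩, ⟨(0, 0), (-2, 0), (-2, 2), (0, 2)⟩, ⟨(0, 0), (-2, 0), (2, -2), (0, -2)⟩, ⟨(0, 0), (-2, 0),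 (2, -2), (0, 2)⟩, ⟨(0, 0), (-2, 2), (0, -2), (-2, 0)⟩, ⟨(0, 0), (-2, 2), (0, -2), (2, 0)⟩, ⟨(0, 0), (-2, 2), (0, 2), (-2, 0)⟩, ⟨(0, 0), (-2, 2), (0, 2), (2, 0)⟩, ⟨(0, 0), (0, -2), (-2, 0), (-2, 2)⟩, ⟨(0, 0), (0, -2), (-2, 0), (2, -2)⟩, ⟨(0, 0), (0, -2), (2, 0), (-2, 2)⟩, ⟨(0, 0), (0, -2), (2, 0), (2, -2)⟩, ⟨(0, 0), (0, 0), (-4, 0), (0, 0)⟩, ⟨(0, 0), (0, 0), (0, 0), (-4, 0)⟩, ⟨(0, 0), (0, 0), (0, 0), (4, 0)⟩, ⟨(0, 0), (0, 0), (4, 0), (0, 0)⟩, ⟨(0, 0), (0, 2), (-2, 0), (-2, 2)⟩, ⟨(0, 0), (0, 2), (-2, 0), (2, -2)⟩, ⟨(0, 0), (0, 2), (2, 0), (-2, 2)⟩, ⟨(0, 0), (0, 2), (2, 0), (2, -2)⟩, ⟨(0, 0), (2, -2), (0, -2), (-2, 0)⟩, ⟨(0, 0), (2, -2), (0, -2), (2, 0)⟩, ⟨(0, 0), (2, -2), (0, 2), (-2, 0)⟩,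 ⟨(0, 0), (2, -2), (0, 2), (2, 0)⟩, ⟨(0, 0), (2, 0), (-2, 2), (0, -2)⟩, ⟨(0, 0), (2, 0), (-2, 2), (0, 2)⟩, ⟨(0, 0), (2, 0), (2, -2), (0, -2)⟩, ⟨(0, 0), (2, 0), (2, -2), (0, 2)⟩, ⟨(0, 0), (4, 0), (0, 0), (0, 0)⟩, ⟨(0, 2), (-2, 0), (0, 0), (-2, 2)⟩, ⟨(0, 2), (-2, 0), (0, 0), (2, -2)⟩, ⟨(0, 2), (-2, 2), (-2, 0), (0, 0)⟩, ⟨(0, 2), (-2, 2), (2, 0), (0, 0)⟩, ⟨(0, 2), (0, 0), (-2, 2), (-2, 0)⟩, ⟨(0, 2), (0, 0), (-2, 2), (2, 0)⟩, ⟨(0, 2), (0, 0), (2, -2), (-2, 0)⟩, ⟨(0, 2), (0, 0), (2, -2), (2, 0)⟩, ⟨(0, 2), (2, -2), (-2, 0), (0, 0)⟩, ⟨(0, 2), (2, -2), (2, 0), (0, 0)⟩, ⟨(0, 2), (2, 0), (0, 0), (-2, 2)⟩, ⟨(0, 2), (2, 0), (0, 0), (2, -2)⟩, ⟨(2, -2), (-2, 0), (0, -2), (0, 0)⟩, ⟨(2, -2), (-2, 0), (0,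 2), (0, 0)⟩, ⟨(2, -2), (0, -2), (0, 0), (-2, 0)⟩, ⟨(2, -2), (0, -2), (0, 0), (2, 0)⟩, ⟨(2, -2), (0, 0), (-2, 0), (0, -2)⟩, ⟨(2, -2), (0, 0), (-2, 0), (0, 2)⟩, ⟨(2, -2), (0, 0), (2, 0), (0, -2)⟩, ⟨(2, -2), (0, 0), (2, 0), (0, 2)⟩, ⟨(2, -2), (0, 2), (0, 0), (-2, 0)⟩, ⟨(2, -2), (0, 2), (0, 0), (2, 0)⟩, ⟨(2, -2), (2, 0), (0, -2), (0, 0)⟩, ⟨(2, -2), (2, 0), (0, 2), (0, 0)⟩, ⟨(2, 0), (-2, 0), (-2, 0), (-2, 0)⟩, ⟨(2, 0), (-2, 0), (-2, 0), (2, 0)⟩, ⟨(2, 0), (-2, 0), (2, 0), (-2, 0)⟩, ⟨(2, 0), (-2, 0), (2, 0), (2, 0)⟩, ⟨(2, 0), (-2, 2), (0, 0), (0, -2)⟩, ⟨(2, 0), (-2, 2), (0, 0), (0, 2)⟩, ⟨(2, 0), (0, -2), (-2, 2), (0, 0)⟩, ⟨(2, 0), (0, -2), (2, -2), (0, 0)⟩, ⟨(2, 0), (0, 0), (0, -2), (-2, 2)⟩,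 ⟨(2, 0), (0, 0), (0, -2), (2, -2)⟩, ⟨(2, 0), (0, 0), (0, 2), (-2, 2)⟩, ⟨(2, 0), (0, 0), (0, 2), (2, -2)⟩, ⟨(2, 0), (0, 2), (-2, 2), (0, 0)⟩, ⟨(2, 0), (0, 2), (2, -2), (0, 0)⟩, ⟨(2, 0), (2, -2), (0, 0), (0, -2)⟩, ⟨(2, 0), (2, -2), (0, 0), (0, 2)⟩, ⟨(2, 0), (2, 0), (-2, 0), (-2, 0)⟩, ⟨(2, 0), (2, 0), (-2, 0), (2, 0)⟩, ⟨(2, 0), (2, 0), (2, 0), (-2, 0)⟩, ⟨(2, 0), (2, 0), (2, 0), (2, 0)⟩, ⟨(4, 0), (0, 0), (0, 0), (0, 0)⟩],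
    [⟨(-2, -1), (-2, 1), (-2, 1), (0, 1)⟩, ⟨(-2, -1), (0, -1), (2, -1), (-2, 1)⟩, ⟨(-2, -1), (2, -1), (0, 1), (2, -1)⟩, ⟨(-2, 1), (-2, -1), (2, -1), (0, -1)⟩, ⟨(-2, 1), (-2, 1), (0, -1), (2, 1)⟩, ⟨(-2, 1), (0, 1), (-2, 1), (-2, -1)⟩, ⟨(-2, 1), (0, 1), (2, 1), (2, -1)⟩, ⟨(-2, 1), (2, -1), (-2, -1), (0, -1)⟩, ⟨(-2, 1), (2, 1), (0, -1), (-2, 1)⟩, ⟨(-2, 3), (0, 1), (0, -1), (0, -1)⟩, ⟨(0, -1), (-2, 1), (-2, -1), (2, -1)⟩, ⟨(0, -1), (-2, 1), (2, -1), (-2, -1)⟩, ⟨(0, -1), (-2, 3), (0, -1), (0, 1)⟩, ⟨(0, -1), (0, -1), (2, -3), (0, -1)⟩, ⟨(0, -1), (0, 1), (0, 1), (2, -3)⟩, ⟨(0, -1), (2, 1), (2, -1), (2, -1)⟩, ⟨(0, 1), (-2, -1), (-2, 1), (-2, 1)⟩, ⟨(0, 1), (0, -1), (0, -1), (-2, 3)⟩, ⟨(0, 1), (0,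 1), (-2, 3), (0, 1)⟩, ⟨(0, 1), (2, -3), (0, 1), (0, -1)⟩, ⟨(0, 1), (2, -1), (-2, 1), (2, 1)⟩, ⟨(0, 1), (2, -1), (2, 1), (-2, 1)⟩, ⟨(2, -3), (0, -1), (0, 1), (0, 1)⟩, ⟨(2, -1), (-2, -1), (0, 1), (2, -1)⟩, ⟨(2, -1), (-2, 1), (2, 1), (0, 1)⟩, ⟨(2, -1), (0, -1), (-2, -1), (-2, 1)⟩, ⟨(2, -1), (0, -1), (2, -1), (2, 1)⟩, ⟨(2, -1), (2, -1), (0, 1), (-2, -1)⟩, ⟨(2, -1), (2, 1), (-2, 1), (0, 1)⟩, ⟨(2, 1), (-2, 1), (0, -1), (-2, 1)⟩, ⟨(2, 1), (0, 1), (-2, 1), (2, -1)⟩, ⟨(2, 1), (2, -1), (2, -1), (0, -1)⟩],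
    [⟨(-3, 1), (-1, -1), (-1, 1), (-1, -1)⟩, ⟨(-3, 1), (-1, 1), (1, 1), (1, 1)⟩, ⟨(-3, 1), (1, 1), (-1, -1), (1, -1)⟩, ⟨(-1, -1), (-3, 1), (1, -1), (1, 1)⟩, ⟨(-1, -1), (-1, -1), (-3, 1), (-1, 1)⟩, ⟨(-1, -1), (1, -1), (-1, -1), (3, -1)⟩, ⟨(-1, -1), (1, -1), (3, -1), (-1, -1)⟩, ⟨(-1, -1), (1, 1), (1, -1), (-3, 1)⟩, ⟨(-1, -1), (3, -1), (1, 1), (-1, 1)⟩, ⟨(-1, 1), (-1, -1), (-1, -1), (-3, 1)⟩, ⟨(-1, 1), (-1, -1), (3, -1), (1, 1)⟩, ⟨(-1, 1), (-1, 1), (1, -1), (-1, 3)⟩, ⟨(-1, 1), (1, -3), (-1, 1), (-1, 1)⟩, ⟨(-1, 1), (1, -1), (1, -3), (1, -1)⟩, ⟨(-1, 1), (3, -1), (-1, -1), (1, 1)⟩, ⟨(-1, 3), (-1, 1), (-1, 1), (1, -1)⟩, ⟨(1, -3), (1, -1), (1, -1), (-1, 1)⟩, ⟨(1, -1), (-3, 1), (1, 1), (-1, -1)⟩,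 ⟨(1, -1), (-1, 1), (-1, 3), (-1, 1)⟩, ⟨(1, -1), (-1, 3), (1, -1), (1, -1)⟩, ⟨(1, -1), (1, -1), (-1, 1), (1, -3)⟩, ⟨(1, -1), (1, 1), (-3, 1), (-1, -1)⟩, ⟨(1, -1), (1, 1), (1, 1), (3, -1)⟩, ⟨(1, 1), (-3, 1), (-1, -1), (1, -1)⟩, ⟨(1, 1), (-1, -1), (-1, 1), (3, -1)⟩, ⟨(1, 1), (-1, 1), (-3, 1), (1, 1)⟩, ⟨(1, 1), (-1, 1), (1, 1), (-3, 1)⟩, ⟨(1, 1), (1, 1), (3, -1), (1, -1)⟩, ⟨(1, 1), (3, -1), (-1, 1), (-1, -1)⟩, ⟨(3, -1), (-1, -1), (1, 1), (-1, 1)⟩, ⟨(3, -1), (1, -1), (-1, -1), (-1, -1)⟩, ⟨(3, -1), (1, 1), (1, -1), (1, 1)⟩],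
    [⟨(-3, 0), (-1, 0), (-1, 2), (1, 0)⟩, ⟨(-3, 0), (1, -2), (-1, 0), (-1, 0)⟩, ⟨(-3, 0), (1, 0), (1, 0), (1, -2)⟩, ⟨(-1, 0), (-3, 0), (1, -2), (-1, 0)⟩, ⟨(-1, 0), (-1, 0), (3, 0), (-1, 2)⟩, ⟨(-1, 0), (-1, 2), (-3, 0), (1, 0)⟩, ⟨(-1, 0), (-1, 2), (1, 0), (-3, 0)⟩, ⟨(-1, 0), (1, -2), (-1, 2), (1, -2)⟩, ⟨(-1, 0), (1, 0), (1, -2), (3, 0)⟩, ⟨(-1, 0), (3, 0), (-1, 0), (-1, 2)⟩, ⟨(-1, 2), (-3, 0), (-1, 0), (1, 0)⟩, ⟨(-1, 2), (-1, 0), (1, -2), (1, -2)⟩, ⟨(-1, 2), (-1, 2), (-1, 2), (-1, 0)⟩, ⟨(-1, 2), (1, -2), (1, 0), (-1, 2)⟩, ⟨(-1, 2), (1, 0), (-1, 0), (-3, 0)⟩, ⟨(-1, 2), (1, 0), (3, 0), (1, 0)⟩, ⟨(1, -2), (-1, 0), (-3, 0), (-1, 0)⟩, ⟨(1, -2), (-1, 0), (1, 0), (3, 0)⟩, ⟨(1, -2), (-1, 2), (-1,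 0), (1, -2)⟩, ⟨(1, -2), (1, -2), (1, -2), (1, 0)⟩, ⟨(1, -2), (1, 0), (-1, 2), (-1, 2)⟩, ⟨(1, -2), (3, 0), (1, 0), (-1, 0)⟩, ⟨(1, 0), (-3, 0), (1, 0), (1, -2)⟩, ⟨(1, 0), (-1, 0), (-1, 2), (-3, 0)⟩, ⟨(1, 0), (-1, 2), (1, -2), (-1, 2)⟩, ⟨(1, 0), (1, -2), (-1, 0), (3, 0)⟩, ⟨(1, 0), (1, -2), (3, 0), (-1, 0)⟩, ⟨(1, 0), (1, 0), (-3, 0), (1, -2)⟩, ⟨(1, 0), (3, 0), (-1, 2), (1, 0)⟩, ⟨(3, 0), (-1, 0), (-1, 0), (-1, 2)⟩, ⟨(3, 0), (-1, 2), (1, 0), (1, 0)⟩, ⟨(3, 0), (1, 0), (1, -2), (-1, 0)⟩],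
    [⟨(-3, 0), (-1, 0), (1, -2), (-1, 0)⟩, ⟨(-3, 0), (1, -2), (1, 0), (1, 0)⟩, ⟨(-3, 0), (1, 0), (-1, 0), (-1, 2)⟩, ⟨(-1, 0), (-3, 0), (-1, 2), (1, 0)⟩, ⟨(-1, 0), (-1, 0), (-3, 0), (1, -2)⟩, ⟨(-1, 0), (-1, 2), (-1, 0), (3, 0)⟩, ⟨(-1, 0), (-1, 2), (3, 0), (-1, 0)⟩, ⟨(-1, 0), (1, -2), (1, -2), (-1, 2)⟩, ⟨(-1, 0), (1, 0), (-1, 2), (-3, 0)⟩, ⟨(-1, 0), (3, 0), (1, 0), (1, -2)⟩, ⟨(-1, 2), (-3, 0), (1, 0), (-1, 0)⟩, ⟨(-1, 2), (-1, 0), (-1, 2), (-1, 2)⟩, ⟨(-1, 2), (-1, 2), (1, -2), (1, 0)⟩, ⟨(-1, 2), (1, -2), (-1, 0), (1, -2)⟩, ⟨(-1, 2), (1, 0), (-3, 0), (-1, 0)⟩, ⟨(-1, 2), (1, 0), (1, 0), (3, 0)⟩, ⟨(1, -2), (-1, 0), (-1, 0), (-3, 0)⟩, ⟨(1, -2), (-1, 0), (3, 0), (1, 0)⟩, ⟨(1, -2), (-1, 2), (1,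 0), (-1, 2)⟩, ⟨(1, -2), (1, -2), (-1, 2), (-1, 0)⟩, ⟨(1, -2), (1, 0), (1, -2), (1, -2)⟩, ⟨(1, -2), (3, 0), (-1, 0), (1, 0)⟩, ⟨(1, 0), (-3, 0), (-1, 0), (-1, 2)⟩, ⟨(1, 0), (-1, 0), (1, -2), (3, 0)⟩, ⟨(1, 0), (-1, 2), (-1, 2), (1, -2)⟩, ⟨(1, 0), (1, -2), (-3, 0), (1, 0)⟩, ⟨(1, 0), (1, -2), (1, 0), (-3, 0)⟩, ⟨(1, 0), (1, 0), (3, 0), (-1, 2)⟩, ⟨(1, 0), (3, 0), (1, -2), (-1, 0)⟩, ⟨(3, 0), (-1, 0), (1, 0), (1, -2)⟩, ⟨(3, 0), (-1, 2), (-1, 0), (-1, 0)⟩, ⟨(3, 0), (1, 0), (-1, 2), (1, 0)⟩],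
    [⟨(-3, 1), (-1, -1), (1, 1), (1, -1)⟩, ⟨(-3, 1), (1, -1), (-1, -1), (1, 1)⟩, ⟨(-3, 1), (1, 1), (1, -1), (-1, -1)⟩, ⟨(-1, -1), (-3, 1), (-1, -1), (-1, 1)⟩, ⟨(-1, -1), (-1, -1), (-1, 1), (-3, 1)⟩, ⟨(-1, -1), (-1, 1), (-3, 1), (-1, -1)⟩, ⟨(-1, -1), (-1, 1), (1, 1), (3, -1)⟩, ⟨(-1, -1), (1, 1), (3, -1), (-1, 1)⟩, ⟨(-1, -1), (3, -1), (-1, 1), (1, 1)⟩, ⟨(-1, 1), (-3, 1), (1, 1), (1, 1)⟩, ⟨(-1, 1), (-1, 1), (-1, 3), (1, -1)⟩, ⟨(-1, 1), (-1, 3), (1, -1), (-1, 1)⟩, ⟨(-1, 1), (1, -1), (-1, 1), (-1, 3)⟩, ⟨(-1, 1), (1, 1), (-3, 1), (1, 1)⟩, ⟨(-1, 1), (1, 1), (1, 1), (-3, 1)⟩, ⟨(-1, 3), (1, -1), (1, -1), (1, -1)⟩, ⟨(1, -3), (-1, 1), (-1, 1), (-1, 1)⟩, ⟨(1, -1), (-1, -1), (-1, -1), (3, -1)⟩, ⟨(1,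 -1), (-1, -1), (3, -1), (-1, -1)⟩, ⟨(1, -1), (-1, 1), (1, -1), (1, -3)⟩, ⟨(1, -1), (1, -3), (-1, 1), (1, -1)⟩, ⟨(1, -1), (1, -1), (1, -3), (-1, 1)⟩, ⟨(1, -1), (3, -1), (-1, -1), (-1, -1)⟩, ⟨(1, 1), (-3, 1), (1, -1), (-1, -1)⟩, ⟨(1, 1), (-1, -1), (-3, 1), (1, -1)⟩, ⟨(1, 1), (1, -1), (-1, -1), (-3, 1)⟩, ⟨(1, 1), (1, -1), (3, -1), (1, 1)⟩, ⟨(1, 1), (1, 1), (1, -1), (3, -1)⟩, ⟨(1, 1), (3, -1), (1, 1), (1, -1)⟩, ⟨(3, -1), (-1, -1), (-1, 1), (1, 1)⟩, ⟨(3, -1), (-1, 1), (1, 1), (-1, -1)⟩, ⟨(3, -1), (1, 1), (-1, -1), (-1, 1)⟩],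
    [⟨(-2, -1), (-2, 1), (0, 1), (-2, 1)⟩, ⟨(-2, -1), (0, 1), (2, -1), (2, -1)⟩, ⟨(-2, -1), (2, -1), (-2, 1), (0, -1)⟩, ⟨(-2, 1), (-2, -1), (0, -1), (2, -1)⟩, ⟨(-2, 1), (-2, 1), (-2, -1), (0, 1)⟩, ⟨(-2, 1), (0, -1), (-2, 1), (2, 1)⟩, ⟨(-2, 1), (0, -1), (2, 1), (-2, 1)⟩, ⟨(-2, 1), (2, -1), (0, -1), (-2, -1)⟩, ⟨(-2, 1), (2, 1), (2, -1), (0, 1)⟩, ⟨(-2, 3), (0, -1), (0, -1), (0, 1)⟩, ⟨(0, -1), (-2, -1), (2, -1), (-2, 1)⟩, ⟨(0, -1), (0, -1), (0, 1), (-2, 3)⟩, ⟨(0, -1), (0, 1), (2, -3), (0, 1)⟩, ⟨(0, -1), (2, -3), (0, -1), (0, -1)⟩, ⟨(0, -1), (2, -1), (-2, -1), (-2, 1)⟩, ⟨(0, -1), (2, -1), (2, -1), (2, 1)⟩, ⟨(0, 1), (-2, 1), (-2, 1), (-2, -1)⟩, ⟨(0, 1), (-2, 1), (2, 1), (2, -1)⟩, ⟨(0, 1), (-2,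 3), (0, 1), (0, 1)⟩, ⟨(0, 1), (0, -1), (-2, 3), (0, -1)⟩, ⟨(0, 1), (0, 1), (0, -1), (2, -3)⟩, ⟨(0, 1), (2, 1), (-2, 1), (2, -1)⟩, ⟨(2, -3), (0, 1), (0, 1), (0, -1)⟩, ⟨(2, -1), (-2, -1), (-2, 1), (0, -1)⟩, ⟨(2, -1), (-2, 1), (0, 1), (2, 1)⟩, ⟨(2, -1), (0, 1), (-2, -1), (2, -1)⟩, ⟨(2, -1), (0, 1), (2, -1), (-2, -1)⟩, ⟨(2, -1), (2, -1), (2, 1), (0, -1)⟩, ⟨(2, -1), (2, 1), (0, 1), (-2, 1)⟩, ⟨(2, 1), (-2, 1), (2, -1), (0, 1)⟩, ⟨(2, 1), (0, -1), (-2, 1), (-2, 1)⟩, ⟨(2, 1), (2, -1), (0, -1), (2, -1)⟩],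
    [⟨(-2, 0), (0, 0), (-2, 2), (0, -2)⟩, ⟨(-2, 0), (0, 0), (-2, 2), (0, 2)⟩, ⟨(-2, 0), (0, 0), (2, -2), (0, -2)⟩, ⟨(-2, 0), (0, 0), (2, -2), (0, 2)⟩, ⟨(-2, 2), (0, -2), (-2, 0), (0, 0)⟩, ⟨(-2, 2), (0, -2), (2, 0), (0, 0)⟩, ⟨(-2, 2), (0, 2), (-2, 0), (0, 0)⟩, ⟨(-2, 2), (0, 2), (2, 0), (0, 0)⟩, ⟨(0, -2), (-2, 2), (0, 0), (-2, 0)⟩, ⟨(0, -2), (-2, 2), (0, 0), (2, 0)⟩, ⟨(0, -2), (2, -2), (0, 0), (-2, 0)⟩, ⟨(0, -2), (2, -2), (0, 0), (2, 0)⟩, ⟨(0, 0), (-2, 0), (0, -2), (-2, 2)⟩, ⟨(0, 0), (-2, 0), (0, -2), (2, -2)⟩, ⟨(0, 0), (-2, 0), (0, 2), (-2, 2)⟩, ⟨(0, 0), (-2, 0), (0, 2), (2, -2)⟩, ⟨(0, 0), (2, 0), (0, -2), (-2, 2)⟩, ⟨(0, 0), (2, 0), (0, -2), (2, -2)⟩, ⟨(0, 0), (2, 0), (0, 2), (-2, 2)⟩, ⟨(0,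 0), (2, 0), (0, 2), (2, -2)⟩, ⟨(0, 2), (-2, 2), (0, 0), (-2, 0)⟩, ⟨(0, 2), (-2, 2), (0, 0), (2, 0)⟩, ⟨(0, 2), (2, -2), (0, 0), (-2, 0)⟩, ⟨(0, 2), (2, -2), (0, 0), (2, 0)⟩, ⟨(2, -2), (0, -2), (-2, 0), (0, 0)⟩, ⟨(2, -2), (0, -2), (2, 0), (0, 0)⟩, ⟨(2, -2), (0, 2), (-2, 0), (0, 0)⟩, ⟨(2, -2), (0, 2), (2, 0), (0, 0)⟩, ⟨(2, 0), (0, 0), (-2, 2), (0, -2)⟩, ⟨(2, 0), (0, 0), (-2, 2), (0, 2)⟩, ⟨(2, 0), (0, 0), (2, -2), (0, -2)⟩, ⟨(2, 0), (0, 0), (2, -2), (0, 2)⟩],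
    [⟨(-2, -1), (-2, 1), (0, -1), (2, -1)⟩, ⟨(-2, -1), (0, 1), (-2, 1), (-2, 1)⟩, ⟨(-2, -1), (2, -1), (2, -1), (0, 1)⟩, ⟨(-2, 1), (-2, -1), (0, 1), (-2, 1)⟩, ⟨(-2, 1), (-2, 1), (2, 1), (0, -1)⟩, ⟨(-2, 1), (0, -1), (-2, -1), (2, -1)⟩, ⟨(-2, 1), (0, -1), (2, -1), (-2, -1)⟩, ⟨(-2, 1), (2, -1), (0, 1), (2, 1)⟩, ⟨(-2, 1), (2, 1), (-2, 1), (0, -1)⟩, ⟨(-2, 3), (0, -1), (0, 1), (0, -1)⟩, ⟨(0, -1), (-2, -1), (-2, 1), (2, -1)⟩, ⟨(0, -1), (0, -1), (0, -1), (2, -3)⟩, ⟨(0, -1), (0, 1), (-2, 3), (0, -1)⟩, ⟨(0, -1), (2, -3), (0, 1), (0, 1)⟩, ⟨(0, -1), (2, -1), (-2, 1), (-2, -1)⟩, ⟨(0, -1), (2, -1), (2, 1), (2, -1)⟩, ⟨(0, 1), (-2, 1), (-2, -1), (-2, 1)⟩, ⟨(0, 1), (-2, 1), (2, -1), (2, 1)⟩, ⟨(0, 1), (-2,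 3), (0, -1), (0, -1)⟩, ⟨(0, 1), (0, -1), (2, -3), (0, 1)⟩, ⟨(0, 1), (0, 1), (0, 1), (-2, 3)⟩, ⟨(0, 1), (2, 1), (2, -1), (-2, 1)⟩, ⟨(2, -3), (0, 1), (0, -1), (0, 1)⟩, ⟨(2, -1), (-2, -1), (2, -1), (0, 1)⟩, ⟨(2, -1), (-2, 1), (0, -1), (-2, -1)⟩, ⟨(2, -1), (0, 1), (-2, 1), (2, 1)⟩, ⟨(2, -1), (0, 1), (2, 1), (-2, 1)⟩, ⟨(2, -1), (2, -1), (-2, -1), (0, 1)⟩, ⟨(2, -1), (2, 1), (0, -1), (2, -1)⟩, ⟨(2, 1), (-2, 1), (-2, 1), (0, -1)⟩, ⟨(2, 1), (0, -1), (2, -1), (2, -1)⟩, ⟨(2, 1), (2, -1), (0, 1), (-2, 1)⟩],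
    [⟨(-2, 0), (0, -2), (0, 0), (-2, 2)⟩, ⟨(-2, 0), (0, -2), (0, 0), (2, -2)⟩, ⟨(-2, 0), (0, 2), (0, 0), (-2, 2)⟩, ⟨(-2, 0), (0, 2), (0, 0), (2, -2)⟩, ⟨(-2, 2), (0, 0), (0, -2), (-2, 0)⟩, ⟨(-2, 2), (0, 0), (0, -2), (2, 0)⟩, ⟨(-2, 2), (0, 0), (0, 2), (-2, 0)⟩, ⟨(-2, 2), (0, 0), (0, 2), (2, 0)⟩, ⟨(0, -2), (-2, 0), (-2, 2), (0, 0)⟩, ⟨(0, -2), (-2, 0), (2, -2), (0, 0)⟩, ⟨(0, -2), (2, 0), (-2, 2), (0, 0)⟩, ⟨(0, -2), (2, 0), (2, -2), (0, 0)⟩, ⟨(0, 0), (-2, 2), (-2, 0), (0, -2)⟩, ⟨(0, 0), (-2, 2), (-2, 0), (0, 2)⟩, ⟨(0, 0), (-2, 2), (2, 0), (0, -2)⟩, ⟨(0, 0), (-2, 2), (2, 0), (0, 2)⟩, ⟨(0, 0), (2, -2), (-2, 0), (0, -2)⟩, ⟨(0, 0), (2, -2), (-2, 0), (0, 2)⟩, ⟨(0, 0), (2, -2), (2, 0), (0, -2)⟩, ⟨(0,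 0), (2, -2), (2, 0), (0, 2)⟩, ⟨(0, 2), (-2, 0), (-2, 2), (0, 0)⟩, ⟨(0, 2), (-2, 0), (2, -2), (0, 0)⟩, ⟨(0, 2), (2, 0), (-2, 2), (0, 0)⟩, ⟨(0, 2), (2, 0), (2, -2), (0, 0)⟩, ⟨(2, -2), (0, 0), (0, -2), (-2, 0)⟩, ⟨(2, -2), (0, 0), (0, -2), (2, 0)⟩, ⟨(2, -2), (0, 0), (0, 2), (-2, 0)⟩, ⟨(2, -2), (0, 0), (0, 2), (2, 0)⟩, ⟨(2, 0), (0, -2), (0, 0), (-2, 2)⟩, ⟨(2, 0), (0, -2), (0, 0), (2, -2)⟩, ⟨(2, 0), (0, 2), (0, 0), (-2, 2)⟩, ⟨(2, 0), (0, 2), (0, 0), (2, -2)⟩],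
    [⟨(-3, 0), (-1, 0), (1, 0), (-1, 2)⟩, ⟨(-3, 0), (-1, 2), (-1, 0), (1, 0)⟩, ⟨(-3, 0), (1, 0), (-1, 2), (-1, 0)⟩, ⟨(-1, 0), (-3, 0), (-1, 0), (1, -2)⟩, ⟨(-1, 0), (-1, 0), (1, -2), (-3, 0)⟩, ⟨(-1, 0), (-1, 2), (-1, 2), (-1, 2)⟩, ⟨(-1, 0), (1, -2), (-3, 0), (-1, 0)⟩, ⟨(-1, 0), (1, -2), (1, 0), (3, 0)⟩, ⟨(-1, 0), (1, 0), (3, 0), (1, -2)⟩, ⟨(-1, 0), (3, 0), (1, -2), (1, 0)⟩, ⟨(-1, 2), (-1, 0), (-1, 0), (3, 0)⟩, ⟨(-1, 2), (-1, 0), (3, 0), (-1, 0)⟩, ⟨(-1, 2), (-1, 2), (1, 0), (1, -2)⟩, ⟨(-1, 2), (1, -2), (-1, 2), (1, 0)⟩, ⟨(-1, 2), (1, 0), (1, -2), (-1, 2)⟩, ⟨(-1, 2), (3, 0), (-1, 0), (-1, 0)⟩, ⟨(1, -2), (-3, 0), (1, 0), (1, 0)⟩, ⟨(1, -2), (-1, 0), (-1, 2), (1, -2)⟩, ⟨(1, -2), (-1, 2), (1,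 -2), (-1, 0)⟩, ⟨(1, -2), (1, -2), (-1, 0), (-1, 2)⟩, ⟨(1, -2), (1, 0), (-3, 0), (1, 0)⟩, ⟨(1, -2), (1, 0), (1, 0), (-3, 0)⟩, ⟨(1, 0), (-3, 0), (-1, 2), (-1, 0)⟩, ⟨(1, 0), (-1, 0), (-3, 0), (-1, 2)⟩, ⟨(1, 0), (-1, 2), (-1, 0), (-3, 0)⟩, ⟨(1, 0), (-1, 2), (3, 0), (1, 0)⟩, ⟨(1, 0), (1, -2), (1, -2), (1, -2)⟩, ⟨(1, 0), (1, 0), (-1, 2), (3, 0)⟩, ⟨(1, 0), (3, 0), (1, 0), (-1, 2)⟩, ⟨(3, 0), (-1, 0), (1, -2), (1, 0)⟩, ⟨(3, 0), (1, -2), (1, 0), (-1, 0)⟩, ⟨(3, 0), (1, 0), (-1, 0), (1, -2)⟩],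
    [⟨(-3, 1), (-1, -1), (1, -1), (1, 1)⟩, ⟨(-3, 1), (-1, 1), (-1, -1), (-1, -1)⟩, ⟨(-3, 1), (1, 1), (1, 1), (-1, 1)⟩, ⟨(-1, -1), (-3, 1), (-1, 1), (-1, -1)⟩, ⟨(-1, -1), (-1, -1), (3, -1), (1, -1)⟩, ⟨(-1, -1), (1, -1), (-3, 1), (1, 1)⟩, ⟨(-1, -1), (1, -1), (1, 1), (-3, 1)⟩, ⟨(-1, -1), (1, 1), (-1, 1), (3, -1)⟩, ⟨(-1, -1), (3, -1), (-1, -1), (1, -1)⟩, ⟨(-1, 1), (-1, -1), (-3, 1), (-1, -1)⟩, ⟨(-1, 1), (-1, -1), (1, 1), (3, -1)⟩, ⟨(-1, 1), (-1, 1), (-1, 1), (1, -3)⟩, ⟨(-1, 1), (1, -3), (1, -1), (1, -1)⟩, ⟨(-1, 1), (1, -1), (-1, 3), (-1, 1)⟩, ⟨(-1, 1), (3, -1), (1, 1), (-1, -1)⟩, ⟨(-1, 3), (-1, 1), (1, -1), (-1, 1)⟩, ⟨(1, -3), (1, -1), (-1, 1), (1, -1)⟩, ⟨(1, -1), (-3, 1), (-1, -1), (1, 1)⟩,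 ⟨(1, -1), (-1, 1), (1, -3), (1, -1)⟩, ⟨(1, -1), (-1, 3), (-1, 1), (-1, 1)⟩, ⟨(1, -1), (1, -1), (1, -1), (-1, 3)⟩, ⟨(1, -1), (1, 1), (-1, -1), (-3, 1)⟩, ⟨(1, -1), (1, 1), (3, -1), (1, 1)⟩, ⟨(1, 1), (-3, 1), (1, 1), (-1, 1)⟩, ⟨(1, 1), (-1, -1), (1, -1), (-3, 1)⟩, ⟨(1, 1), (-1, 1), (-1, -1), (3, -1)⟩, ⟨(1, 1), (-1, 1), (3, -1), (-1, -1)⟩, ⟨(1, 1), (1, 1), (-3, 1), (-1, 1)⟩, ⟨(1, 1), (3, -1), (1, -1), (1, 1)⟩, ⟨(3, -1), (-1, -1), (-1, -1), (1, -1)⟩, ⟨(3, -1), (1, -1), (1, 1), (1, 1)⟩, ⟨(3, -1), (1, 1), (-1, 1), (-1, -1)⟩],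
    [⟨(-3, 1), (-1, -1), (-1, -1), (-1, 1)⟩, ⟨(-3, 1), (1, -1), (1, 1), (-1, -1)⟩, ⟨(-3, 1), (1, 1), (-1, 1), (1, 1)⟩, ⟨(-1, -1), (-3, 1), (1, 1), (1, -1)⟩, ⟨(-1, -1), (-1, -1), (1, -1), (3, -1)⟩, ⟨(-1, -1), (-1, 1), (-1, -1), (-3, 1)⟩, ⟨(-1, -1), (-1, 1), (3, -1), (1, 1)⟩, ⟨(-1, -1), (1, 1), (-3, 1), (1, -1)⟩, ⟨(-1, -1), (3, -1), (1, -1), (-1, -1)⟩, ⟨(-1, 1), (-3, 1), (-1, -1), (-1, -1)⟩, ⟨(-1, 1), (-1, 1), (1, -3), (-1, 1)⟩, ⟨(-1, 1), (-1, 3), (-1, 1), (1, -1)⟩, ⟨(-1, 1), (1, -1), (1, -1), (1, -3)⟩, ⟨(-1, 1), (1, 1), (-1, -1), (3, -1)⟩, ⟨(-1, 1), (1, 1), (3, -1), (-1, -1)⟩, ⟨(-1, 3), (1, -1), (-1, 1), (-1, 1)⟩, ⟨(1, -3), (-1, 1), (1, -1), (1, -1)⟩, ⟨(1, -1), (-1, -1), (-3, 1), (1, 1)⟩,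 ⟨(1, -1), (-1, -1), (1, 1), (-3, 1)⟩, ⟨(1, -1), (-1, 1), (-1, 1), (-1, 3)⟩, ⟨(1, -1), (1, -3), (1, -1), (-1, 1)⟩, ⟨(1, -1), (1, -1), (-1, 3), (1, -1)⟩, ⟨(1, -1), (3, -1), (1, 1), (1, 1)⟩, ⟨(1, 1), (-3, 1), (-1, 1), (1, 1)⟩, ⟨(1, 1), (-1, -1), (3, -1), (-1, 1)⟩, ⟨(1, 1), (1, -1), (-3, 1), (-1, -1)⟩, ⟨(1, 1), (1, -1), (1, 1), (3, -1)⟩, ⟨(1, 1), (1, 1), (-1, 1), (-3, 1)⟩, ⟨(1, 1), (3, -1), (-1, -1), (-1, 1)⟩, ⟨(3, -1), (-1, -1), (1, -1), (-1, -1)⟩, ⟨(3, -1), (-1, 1), (-1, -1), (1, 1)⟩, ⟨(3, -1), (1, 1), (1, 1), (1, -1)⟩],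
    [⟨(-3, 0), (-1, 0), (-1, 0), (1, -2)⟩, ⟨(-3, 0), (-1, 2), (1, 0), (-1, 0)⟩, ⟨(-3, 0), (1, 0), (1, -2), (1, 0)⟩, ⟨(-1, 0), (-3, 0), (1, 0), (-1, 2)⟩, ⟨(-1, 0), (-1, 0), (-1, 2), (3, 0)⟩, ⟨(-1, 0), (-1, 2), (1, -2), (1, -2)⟩, ⟨(-1, 0), (1, -2), (-1, 0), (-3, 0)⟩, ⟨(-1, 0), (1, -2), (3, 0), (1, 0)⟩, ⟨(-1, 0), (1, 0), (-3, 0), (-1, 2)⟩, ⟨(-1, 0), (3, 0), (-1, 2), (-1, 0)⟩, ⟨(-1, 2), (-1, 0), (-3, 0), (1, 0)⟩, ⟨(-1, 2), (-1, 0), (1, 0), (-3, 0)⟩, ⟨(-1, 2), (-1, 2), (-1, 0), (-1, 2)⟩, ⟨(-1, 2), (1, -2), (1, -2), (-1, 0)⟩, ⟨(-1, 2), (1, 0), (-1, 2), (1, -2)⟩, ⟨(-1, 2), (3, 0), (1, 0), (1, 0)⟩, ⟨(1, -2), (-3, 0), (-1, 0), (-1, 0)⟩, ⟨(1, -2), (-1, 0), (1, -2), (-1, 2)⟩, ⟨(1, -2), (-1, 2), (-1,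 2), (1, 0)⟩, ⟨(1, -2), (1, -2), (1, 0), (1, -2)⟩, ⟨(1, -2), (1, 0), (-1, 0), (3, 0)⟩, ⟨(1, -2), (1, 0), (3, 0), (-1, 0)⟩, ⟨(1, 0), (-3, 0), (1, -2), (1, 0)⟩, ⟨(1, 0), (-1, 0), (3, 0), (1, -2)⟩, ⟨(1, 0), (-1, 2), (-3, 0), (-1, 0)⟩, ⟨(1, 0), (-1, 2), (1, 0), (3, 0)⟩, ⟨(1, 0), (1, -2), (-1, 2), (-1, 2)⟩, ⟨(1, 0), (1, 0), (1, -2), (-3, 0)⟩, ⟨(1, 0), (3, 0), (-1, 0), (1, -2)⟩, ⟨(3, 0), (-1, 0), (-1, 2), (-1, 0)⟩, ⟨(3, 0), (1, -2), (-1, 0), (1, 0)⟩, ⟨(3, 0), (1, 0), (1, 0), (-1, 2)⟩],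
    [⟨(-2, 0), (-2, 2), (0, -2), (0, 0)⟩, ⟨(-2, 0), (-2, 2), (0, 2), (0, 0)⟩, ⟨(-2, 0), (2, -2), (0, -2), (0, 0)⟩, ⟨(-2, 0), (2, -2), (0, 2), (0, 0)⟩, ⟨(-2, 2), (-2, 0), (0, 0), (0, -2)⟩, ⟨(-2, 2), (-2, 0), (0, 0), (0, 2)⟩, ⟨(-2, 2), (2, 0), (0, 0), (0, -2)⟩, ⟨(-2, 2), (2, 0), (0, 0), (0, 2)⟩, ⟨(0, -2), (0, 0), (-2, 0), (-2, 2)⟩, ⟨(0, -2), (0, 0), (-2, 0), (2, -2)⟩, ⟨(0, -2), (0, 0), (2, 0), (-2, 2)⟩, ⟨(0, -2), (0, 0), (2, 0), (2, -2)⟩, ⟨(0, 0), (0, -2), (-2, 2), (-2, 0)⟩, ⟨(0, 0), (0, -2), (-2, 2), (2, 0)⟩, ⟨(0, 0), (0, -2), (2, -2), (-2, 0)⟩, ⟨(0, 0), (0, -2), (2, -2), (2, 0)⟩, ⟨(0, 0), (0, 2), (-2, 2), (-2, 0)⟩, ⟨(0, 0), (0, 2), (-2, 2), (2, 0)⟩, ⟨(0, 0), (0, 2), (2, -2), (-2, 0)⟩, ⟨(0,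 0), (0, 2), (2, -2), (2, 0)⟩, ⟨(0, 2), (0, 0), (-2, 0), (-2, 2)⟩, ⟨(0, 2), (0, 0), (-2, 0), (2, -2)⟩, ⟨(0, 2), (0, 0), (2, 0), (-2, 2)⟩, ⟨(0, 2), (0, 0), (2, 0), (2, -2)⟩, ⟨(2, -2), (-2, 0), (0, 0), (0, -2)⟩, ⟨(2, -2), (-2, 0), (0, 0), (0, 2)⟩, ⟨(2, -2), (2, 0), (0, 0), (0, -2)⟩, ⟨(2, -2), (2, 0), (0, 0), (0, 2)⟩, ⟨(2, 0), (-2, 2), (0, -2), (0, 0)⟩, ⟨(2, 0), (-2, 2), (0, 2), (0, 0)⟩, ⟨(2, 0), (2, -2), (0, -2), (0, 0)⟩, ⟨(2, 0), (2, -2), (0, 2), (0, 0)⟩],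
    [⟨(-2, -1), (-2, 1), (2, -1), (0, -1)⟩, ⟨(-2, -1), (0, -1), (-2, 1), (2, -1)⟩, ⟨(-2, -1), (2, -1), (0, -1), (-2, 1)⟩, ⟨(-2, 1), (-2, -1), (-2, 1), (0, 1)⟩, ⟨(-2, 1), (-2, 1), (0, 1), (-2, -1)⟩, ⟨(-2, 1), (0, 1), (-2, -1), (-2, 1)⟩, ⟨(-2, 1), (0, 1), (2, -1), (2, 1)⟩, ⟨(-2, 1), (2, -1), (2, 1), (0, 1)⟩, ⟨(-2, 1), (2, 1), (0, 1), (2, -1)⟩, ⟨(-2, 3), (0, 1), (0, 1), (0, 1)⟩, ⟨(0, -1), (-2, 1), (-2, 1), (2, 1)⟩, ⟨(0, -1), (-2, 1), (2, 1), (-2, 1)⟩, ⟨(0, -1), (-2, 3), (0, 1), (0, -1)⟩, ⟨(0, -1), (0, -1), (-2, 3), (0, 1)⟩, ⟨(0, -1), (0, 1), (0, -1), (-2, 3)⟩, ⟨(0, -1), (2, 1), (-2, 1), (-2, 1)⟩, ⟨(0, 1), (-2, -1), (2, -1), (2, -1)⟩, ⟨(0, 1), (0, -1), (0, 1), (2, -3)⟩, ⟨(0, 1), (0, 1), (2,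 -3), (0, -1)⟩, ⟨(0, 1), (2, -3), (0, -1), (0, 1)⟩, ⟨(0, 1), (2, -1), (-2, -1), (2, -1)⟩, ⟨(0, 1), (2, -1), (2, -1), (-2, -1)⟩, ⟨(2, -3), (0, -1), (0, -1), (0, -1)⟩, ⟨(2, -1), (-2, -1), (0, -1), (-2, 1)⟩, ⟨(2, -1), (-2, 1), (-2, -1), (0, -1)⟩, ⟨(2, -1), (0, -1), (-2, 1), (-2, -1)⟩, ⟨(2, -1), (0, -1), (2, 1), (2, -1)⟩, ⟨(2, -1), (2, -1), (0, -1), (2, 1)⟩, ⟨(2, -1), (2, 1), (2, -1), (0, -1)⟩, ⟨(2, 1), (-2, 1), (0, 1), (2, -1)⟩, ⟨(2, 1), (0, 1), (2, -1), (-2, 1)⟩, ⟨(2, 1), (2, -1), (-2, 1), (0, 1)⟩]]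

/-- Short icosians with given class and norm. -/
def tab0_5 : List (List Q) :=
  [[],
    [],
    [],
    [],
    [],
    [],
    [],
    [],
    [],
    [],
    [],
    [],
    [],
    [],
    [],
    []]

/-- Short icosians with given class and norm. -/
def tab0_6 : List (List Q) :=
  [[],
    [],
    [],
    [],
    [],
    [],
    [],
    [],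
    [],
    [],
    [],
    [],
    [],
    [],
    [],
    []]

/-- Short icosians with given class and norm. -/
def tab0_7 : List (List Q) :=
  [[],
    [],
    [],
    [],
    [],
    [],
    [],
    [],
    [],
    [],
    [],
    [],
    [],
    [],
    [],
    []]

/-- Short icosians with given class and norm. -/
def tab0_8 : List (List Q) :=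
  [[],
    [],
    [],
    [],
    [],
    [],
    [],
    [],
    [],
    [],
    [],
    [],
    [],
    [],
    [],
    []]

/-- Short icosians with given class. -/
def tab0 : List (List (List Q)) :=
  [tab0_0, tab0_1, tab0_2, tab0_3, tab0_4, tab0_5, tab0_6, tab0_7, tab0_8]

/-- Short icosians with given class and norm. -/
def tab1_0 : List (List Q) :=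
  [[],
    [],
    [],
    [],
    [],
    [],
    [],
    [],
    [],
    [],
    [],
    [],
    [],
    [],
    [],
    []]

/-- Short icosians with given class and norm. -/
def tab1_1 : List (List Q) :=
  [[],
    [],
    [],
    [],
    [⟨(0, -1), (-1, 1), (1, 0), (0, 0)⟩, ⟨(0, 1), (1, -1), (-1, 0), (0, 0)⟩],
    [],
    [],
    [⟨(-1, 1), (0, 1), (0, 0), (1, 0)⟩, ⟨(1, -1), (0, -1), (0, 0), (-1, 0)⟩],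
    [],
    [],
    [],
    [],
    [⟨(0, 0), (-1, 0), (-1, 1), (0, 1)⟩, ⟨(0, 0), (1, 0), (1, -1), (0, -1)⟩],
    [],
    [],
    [⟨(-1, 0), (0, 0), (0, -1), (-1, 1)⟩, ⟨(1, 0), (0, 0), (0, 1), (1, -1)⟩]]

/-- Short icosians with given class and norm. -/
def tab1_2 : List (List Q) :=
  [[⟨(-1, -1), (2, -1), (0, 0), (-1, 0)⟩, ⟨(-1, 1), (0, -1), (0, 0), (1, -2)⟩, ⟨(-1, 1), (0, 1), (-2, 0), (-1, 0)⟩, ⟨(-1, 1), (0, 1), (2, 0), (-1, 0)⟩, ⟨(1, -1), (0, -1), (-2, 0), (1, 0)⟩, ⟨(1, -1), (0, -1), (2, 0), (1, 0)⟩, ⟨(1, -1), (0, 1), (0, 0), (-1, 2)⟩, ⟨(1, 1), (-2, 1), (0, 0), (1, 0)⟩],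
    [],
    [],
    [⟨(-2, 1), (-1, -1), (-1, 0), (0, 0)⟩, ⟨(0, -1), (-1, 1), (-1, 0), (-2, 0)⟩, ⟨(0, -1), (-1, 1), (-1, 0), (2, 0)⟩, ⟨(0, -1), (1, -1), (-1, 2), (0, 0)⟩, ⟨(0, 1), (-1, 1), (1, -2), (0, 0)⟩, ⟨(0, 1), (1, -1), (1, 0), (-2, 0)⟩, ⟨(0, 1), (1, -1), (1, 0), (2, 0)⟩, ⟨(2, -1), (1, 1), (1, 0), (0, 0)⟩],
    [],
    [],
    [],
    [],
    [⟨(-1, 0), (-2, 0), (0, 1), (1, -1)⟩, ⟨(-1, 0), (0, 0), (2, -1), (1, 1)⟩, ⟨(-1, 0), (2, 0), (0, 1), (1, -1)⟩, ⟨(-1, 2), (0, 0), (0, 1), (-1, 1)⟩, ⟨(1, -2), (0, 0), (0, -1), (1, -1)⟩, ⟨(1, 0), (-2, 0), (0, -1), (-1, 1)⟩, ⟨(1, 0), (0, 0), (-2, 1), (-1, -1)⟩, ⟨(1, 0), (2, 0), (0, -1), (-1, 1)⟩],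
    [],
    [],
    [⟨(-2, 0), (-1, 0), (1, -1), (0, -1)⟩, ⟨(-2, 0), (1, 0), (-1, 1), (0, 1)⟩, ⟨(0, 0), (-1, 0), (1, 1), (-2, 1)⟩, ⟨(0, 0), (-1, 2), (-1, 1), (0, -1)⟩, ⟨(0, 0), (1, -2), (1, -1), (0, 1)⟩, ⟨(0, 0), (1, 0), (-1, -1), (2, -1)⟩, ⟨(2, 0), (-1, 0), (1, -1), (0, -1)⟩, ⟨(2, 0), (1, 0), (-1, 1), (0, 1)⟩],
    [],
    [],
    [],
    []]

/-- Short icosians with given class and norm. -/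
def tab1_3 : List (List Q) :=
  [[],
    [],
    [],
    [],
    [⟨(-2, 1), (-1, -1), (1, 0), (-2, 0)⟩, ⟨(-2, 1), (-1, -1), (1, 0), (2, 0)⟩, ⟨(-2, 1), (-1, 1), (-1, 0), (0, -2)⟩, ⟨(-2, 1), (-1, 1), (-1, 0), (0, 2)⟩, ⟨(-2, 1), (1, 1), (1, -2), (0, 0)⟩, ⟨(0, -1), (-1, -1), (-1, 0), (-2, 2)⟩, ⟨(0, -1), (-1, -1), (-1, 0), (2, -2)⟩, ⟨(0, -1), (-1, 1), (-3, 0), (0, 0)⟩, ⟨(0, -1), (1, -1), (1, -2), (-2, 0)⟩, ⟨(0, -1), (1, -1), (1, -2), (2, 0)⟩, ⟨(0, 1), (-1, 1), (-1, 2), (-2, 0)⟩, ⟨(0, 1), (-1, 1), (-1, 2), (2, 0)⟩, ⟨(0, 1), (1, -1), (3, 0), (0, 0)⟩, ⟨(0, 1), (1, 1), (1, 0), (-2, 2)⟩, ⟨(0, 1), (1, 1), (1, 0), (2, -2)⟩, ⟨(2, -1), (-1, -1), (-1, 2), (0, 0)⟩, ⟨(2, -1), (1, -1), (1, 0), (0, -2)⟩,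 ⟨(2, -1), (1, -1), (1, 0), (0, 2)⟩, ⟨(2, -1), (1, 1), (-1, 0), (-2, 0)⟩, ⟨(2, -1), (1, 1), (-1, 0), (2, 0)⟩],
    [],
    [],
    [⟨(-1, -1), (-2, 1), (0, 0), (-1, 2)⟩, ⟨(-1, -1), (0, 1), (-2, 2), (-1, 0)⟩, ⟨(-1, -1), (0, 1), (2, -2), (-1, 0)⟩, ⟨(-1, -1), (2, -1), (-2, 0), (1, 0)⟩, ⟨(-1, -1), (2, -1), (2, 0), (1, 0)⟩, ⟨(-1, 1), (0, -1), (-2, 0), (-1, 2)⟩, ⟨(-1, 1), (0, -1), (2, 0), (-1, 2)⟩, ⟨(-1, 1), (0, 1), (0, 0), (-3, 0)⟩, ⟨(-1, 1), (2, -1), (0, -2), (-1, 0)⟩, ⟨(-1, 1), (2, -1), (0, 2), (-1, 0)⟩, ⟨(1, -1), (-2, 1), (0, -2), (1, 0)⟩, ⟨(1, -1), (-2, 1), (0, 2), (1, 0)⟩, ⟨(1, -1), (0, -1), (0, 0), (3, 0)⟩, ⟨(1, -1), (0, 1), (-2, 0), (1, -2)⟩, ⟨(1, -1), (0, 1), (2, 0), (1, -2)⟩, ⟨(1, 1),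 (-2, 1), (-2, 0), (-1, 0)⟩, ⟨(1, 1), (-2, 1), (2, 0), (-1, 0)⟩, ⟨(1, 1), (0, -1), (-2, 2), (1, 0)⟩, ⟨(1, 1), (0, -1), (2, -2), (1, 0)⟩, ⟨(1, 1), (2, -1), (0, 0), (1, -2)⟩],
    [],
    [],
    [],
    [],
    [⟨(-2, 0), (-1, 0), (-1, -1), (2, -1)⟩, ⟨(-2, 0), (-1, 2), (1, -1), (0, 1)⟩, ⟨(-2, 0), (1, -2), (-1, 1), (0, -1)⟩, ⟨(-2, 0), (1, 0), (1, 1), (-2, 1)⟩, ⟨(-2, 2), (-1, 0), (1, 1), (0, -1)⟩, ⟨(-2, 2), (1, 0), (-1, -1), (0, 1)⟩, ⟨(0, -2), (-1, 0), (1, -1), (-2, 1)⟩, ⟨(0, -2), (1, 0), (-1, 1), (2, -1)⟩, ⟨(0, 0), (-3, 0), (1, -1), (0, -1)⟩, ⟨(0, 0), (-1, 2), (1, 1), (2, -1)⟩, ⟨(0, 0), (1, -2), (-1, -1), (-2, 1)⟩, ⟨(0, 0), (3, 0), (-1, 1), (0, 1)⟩, ⟨(0, 2), (-1, 0), (1, -1), (-2, 1)⟩, ⟨(0,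 2), (1, 0), (-1, 1), (2, -1)⟩, ⟨(2, -2), (-1, 0), (1, 1), (0, -1)⟩, ⟨(2, -2), (1, 0), (-1, -1), (0, 1)⟩, ⟨(2, 0), (-1, 0), (-1, -1), (2, -1)⟩, ⟨(2, 0), (-1, 2), (1, -1), (0, 1)⟩, ⟨(2, 0), (1, -2), (-1, 1), (0, -1)⟩, ⟨(2, 0), (1, 0), (1, 1), (-2, 1)⟩],
    [],
    [],
    [⟨(-3, 0), (0, 0), (0, 1), (1, -1)⟩, ⟨(-1, 0), (-2, 0), (-2, 1), (-1, -1)⟩, ⟨(-1, 0), (-2, 2), (0, 1), (1, 1)⟩, ⟨(-1, 0), (0, -2), (2, -1), (1, -1)⟩, ⟨(-1, 0), (0, 2), (2, -1), (1, -1)⟩, ⟨(-1, 0), (2, -2), (0, 1), (1, 1)⟩, ⟨(-1, 0), (2, 0), (-2, 1), (-1, -1)⟩, ⟨(-1, 2), (-2, 0), (0, -1), (1, -1)⟩, ⟨(-1, 2), (0, 0), (-2, 1), (1, 1)⟩, ⟨(-1, 2), (2, 0), (0, -1), (1, -1)⟩, ⟨(1, -2), (-2, 0), (0, 1), (-1, 1)⟩, ⟨(1, -2), (0,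 0), (2, -1), (-1, -1)⟩, ⟨(1, -2), (2, 0), (0, 1), (-1, 1)⟩, ⟨(1, 0), (-2, 0), (2, -1), (1, 1)⟩, ⟨(1, 0), (-2, 2), (0, -1), (-1, -1)⟩, ⟨(1, 0), (0, -2), (-2, 1), (-1, 1)⟩, ⟨(1, 0), (0, 2), (-2, 1), (-1, 1)⟩, ⟨(1, 0), (2, -2), (0, -1), (-1, -1)⟩, ⟨(1, 0), (2, 0), (2, -1), (1, 1)⟩, ⟨(3, 0), (0, 0), (0, -1), (-1, 1)⟩]]

/-- Short icosians with given class and norm. -/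
def tab1_4 : List (List Q) :=
  [[⟨(-3, 1), (0, -1), (0, -2), (-1, 0)⟩, ⟨(-3, 1), (0, -1), (0, 2), (-1, 0)⟩, ⟨(-3, 1), (2, 1), (0, 0), (1, 0)⟩, ⟨(-1, -1), (-2, 1), (-2, 0), (1, -2)⟩, ⟨(-1, -1), (-2, 1), (2, 0), (1, -2)⟩, ⟨(-1, -1), (-2, 3), (0, 0), (-1, 0)⟩, ⟨(-1, -1), (0, -1), (-2, 2), (-1, 2)⟩, ⟨(-1, -1), (0, -1), (2, -2), (-1, 2)⟩, ⟨(-1, -1), (2, -1), (0, 0), (3, 0)⟩, ⟨(-1, 1), (-2, -1), (-2, 2), (1, 0)⟩, ⟨(-1, 1), (-2, -1), (2, -2), (1, 0)⟩, ⟨(-1, 1), (-2, 1), (0, -2), (-1, 2)⟩, ⟨(-1, 1), (-2, 1), (0, 2), (-1, 2)⟩, ⟨(-1, 1), (0, 1), (-2, 0), (3, 0)⟩, ⟨(-1, 1), (0, 1), (2, 0), (3, 0)⟩, ⟨(-1, 3), (2, -1), (0, 0), (-1, 0)⟩, ⟨(1, -3), (-2, 1), (0, 0), (1, 0)⟩, ⟨(1, -1), (0, -1), (-2, 0),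 (-3, 0)⟩, ⟨(1, -1), (0, -1), (2, 0), (-3, 0)⟩, ⟨(1, -1), (2, -1), (0, -2), (1, -2)⟩, ⟨(1, -1), (2, -1), (0, 2), (1, -2)⟩, ⟨(1, -1), (2, 1), (-2, 2), (-1, 0)⟩, ⟨(1, -1), (2, 1), (2, -2), (-1, 0)⟩, ⟨(1, 1), (-2, 1), (0, 0), (-3, 0)⟩, ⟨(1, 1), (0, 1), (-2, 2), (1, -2)⟩, ⟨(1, 1), (0, 1), (2, -2), (1, -2)⟩, ⟨(1, 1), (2, -3), (0, 0), (1, 0)⟩, ⟨(1, 1), (2, -1), (-2, 0), (-1, 2)⟩, ⟨(1, 1), (2, -1), (2, 0), (-1, 2)⟩, ⟨(3, -1), (-2, -1), (0, 0), (-1, 0)⟩, ⟨(3, -1), (0, 1), (0, -2), (1, 0)⟩, ⟨(3, -1), (0, 1), (0, 2), (1, 0)⟩],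
    [],
    [],
    [⟨(-2, -1), (-3, 1), (1, 0), (0, 0)⟩, ⟨(-2, -1), (1, -1), (-1, 0), (-2, 2)⟩, ⟨(-2, -1), (1, -1), (-1, 0), (2, -2)⟩, ⟨(-2, 1), (-1, -1), (3, 0), (0, 0)⟩, ⟨(-2, 1), (-1, 3), (-1, 0), (0, 0)⟩, ⟨(-2, 1), (1, -1), (1, -2), (0, -2)⟩, ⟨(-2, 1), (1, -1), (1, -2), (0, 2)⟩, ⟨(-2, 1), (1, 1), (-1, 2), (-2, 0)⟩, ⟨(-2, 1), (1, 1), (-1, 2), (2, 0)⟩, ⟨(-2, 3), (1, 1), (1, 0), (0, 0)⟩, ⟨(0, -1), (-1, 1), (3, 0), (-2, 0)⟩, ⟨(0, -1), (-1, 1), (3, 0), (2, 0)⟩, ⟨(0, -1), (1, 1), (1, -2), (-2, 2)⟩, ⟨(0, -1), (1, 1), (1, -2), (2, -2)⟩, ⟨(0, -1), (3, -1), (1, 0), (0, -2)⟩, ⟨(0, -1), (3, -1), (1, 0), (0, 2)⟩, ⟨(0, 1), (-3, 1), (-1, 0), (0, -2)⟩, ⟨(0, 1), (-3, 1), (-1, 0), (0, 2)⟩, ⟨(0, 1),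 (-1, -1), (-1, 2), (-2, 2)⟩, ⟨(0, 1), (-1, -1), (-1, 2), (2, -2)⟩, ⟨(0, 1), (1, -1), (-3, 0), (-2, 0)⟩, ⟨(0, 1), (1, -1), (-3, 0), (2, 0)⟩, ⟨(2, -3), (-1, -1), (-1, 0), (0, 0)⟩, ⟨(2, -1), (-1, -1), (1, -2), (-2, 0)⟩, ⟨(2, -1), (-1, -1), (1, -2), (2, 0)⟩, ⟨(2, -1), (-1, 1), (-1, 2), (0, -2)⟩, ⟨(2, -1), (-1, 1), (-1, 2), (0, 2)⟩, ⟨(2, -1), (1, -3), (1, 0), (0, 0)⟩, ⟨(2, -1), (1, 1), (-3, 0), (0, 0)⟩, ⟨(2, 1), (-1, 1), (1, 0), (-2, 2)⟩, ⟨(2, 1), (-1, 1), (1, 0), (2, -2)⟩, ⟨(2, 1), (3, -1), (-1, 0), (0, 0)⟩],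
    [],
    [],
    [],
    [],
    [⟨(-3, 0), (-2, 0), (0, -1), (-1, 1)⟩, ⟨(-3, 0), (0, 0), (-2, 1), (-1, -1)⟩, ⟨(-3, 0), (2, 0), (0, -1), (-1, 1)⟩, ⟨(-1, 0), (-2, 2), (2, 1), (-1, 1)⟩, ⟨(-1, 0), (0, -2), (0, -1), (3, -1)⟩, ⟨(-1, 0), (0, 0), (-2, -1), (-3, 1)⟩, ⟨(-1, 0), (0, 0), (-2, 3), (1, 1)⟩, ⟨(-1, 0), (0, 0), (2, -1), (1, -3)⟩, ⟨(-1, 0), (0, 2), (0, -1), (3, -1)⟩, ⟨(-1, 0), (2, -2), (2, 1), (-1, 1)⟩, ⟨(-1, 2), (-2, 0), (2, -1), (-1, -1)⟩, ⟨(-1, 2), (-2, 2), (0, -1), (1, 1)⟩, ⟨(-1, 2), (0, -2), (-2, 1), (1, -1)⟩, ⟨(-1, 2), (0, 2), (-2, 1), (1, -1)⟩, ⟨(-1, 2), (2, -2), (0, -1), (1, 1)⟩, ⟨(-1, 2), (2, 0), (2, -1), (-1, -1)⟩, ⟨(1, -2), (-2, 0), (-2, 1), (1, 1)⟩, ⟨(1, -2), (-2, 2), (0,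 1), (-1, -1)⟩, ⟨(1, -2), (0, -2), (2, -1), (-1, 1)⟩, ⟨(1, -2), (0, 2), (2, -1), (-1, 1)⟩, ⟨(1, -2), (2, -2), (0, 1), (-1, -1)⟩, ⟨(1, -2), (2, 0), (-2, 1), (1, 1)⟩, ⟨(1, 0), (-2, 2), (-2, -1), (1, -1)⟩, ⟨(1, 0), (0, -2), (0, 1), (-3, 1)⟩, ⟨(1, 0), (0, 0), (-2, 1), (-1, 3)⟩, ⟨(1, 0), (0, 0), (2, -3), (-1, -1)⟩, ⟨(1, 0), (0, 0), (2, 1), (3, -1)⟩, ⟨(1, 0), (0, 2), (0, 1), (-3, 1)⟩, ⟨(1, 0), (2, -2), (-2, -1), (1, -1)⟩, ⟨(3, 0), (-2, 0), (0, 1), (1, -1)⟩, ⟨(3, 0), (0, 0), (2, -1), (1, 1)⟩, ⟨(3, 0), (2, 0), (0, 1), (1, -1)⟩],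
    [],
    [],
    [⟨(-2, 0), (-3, 0), (-1, 1), (0, 1)⟩, ⟨(-2, 0), (-1, 2), (-1, -1), (-2, 1)⟩, ⟨(-2, 0), (1, -2), (1, 1), (2, -1)⟩, ⟨(-2, 0), (3, 0), (1, -1), (0, -1)⟩, ⟨(-2, 2), (-1, 0), (-1, 1), (-2, -1)⟩, ⟨(-2, 2), (-1, 2), (1, 1), (0, 1)⟩, ⟨(-2, 2), (1, -2), (-1, -1), (0, -1)⟩, ⟨(-2, 2), (1, 0), (1, -1), (2, 1)⟩, ⟨(0, -2), (-1, 0), (3, -1), (0, 1)⟩, ⟨(0, -2), (-1, 2), (1, -1), (2, -1)⟩, ⟨(0, -2), (1, -2), (-1, 1), (-2, 1)⟩, ⟨(0, -2), (1, 0), (-3, 1), (0, -1)⟩, ⟨(0, 0), (-3, 0), (-1, -1), (2, -1)⟩, ⟨(0, 0), (-1, 0), (-3, 1), (2, 1)⟩, ⟨(0, 0), (-1, 0), (1, -3), (-2, 1)⟩, ⟨(0, 0), (-1, 0), (1, 1), (2, -3)⟩, ⟨(0, 0), (1, 0), (-1, -1), (-2, 3)⟩, ⟨(0, 0), (1, 0), (-1, 3), (2, -1)⟩, ⟨(0,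 0), (1, 0), (3, -1), (-2, -1)⟩, ⟨(0, 0), (3, 0), (1, 1), (-2, 1)⟩, ⟨(0, 2), (-1, 0), (3, -1), (0, 1)⟩, ⟨(0, 2), (-1, 2), (1, -1), (2, -1)⟩, ⟨(0, 2), (1, -2), (-1, 1), (-2, 1)⟩, ⟨(0, 2), (1, 0), (-3, 1), (0, -1)⟩, ⟨(2, -2), (-1, 0), (-1, 1), (-2, -1)⟩, ⟨(2, -2), (-1, 2), (1, 1), (0, 1)⟩, ⟨(2, -2), (1, -2), (-1, -1), (0, -1)⟩, ⟨(2, -2), (1, 0), (1, -1), (2, 1)⟩, ⟨(2, 0), (-3, 0), (-1, 1), (0, 1)⟩, ⟨(2, 0), (-1, 2), (-1, -1), (-2, 1)⟩, ⟨(2, 0), (1, -2), (1, 1), (2, -1)⟩, ⟨(2, 0), (3, 0), (1, -1), (0, -1)⟩],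
    [],
    [],
    [],
    []]

/-- Short icosians with given class and norm. -/
def tab1_5 : List (List Q) :=
  [[],
    [⟨(-1, 0), (0, 0), (0, 1), (-1, -1)⟩, ⟨(1, 0), (0, 0), (0, -1), (1, 1)⟩],
    [⟨(0, 0), (-1, 0), (-1, -1), (0, -1)⟩, ⟨(0, 0), (1, 0), (1, 1), (0, 1)⟩],
    [],
    [],
    [],
    [],
    [],
    [],
    [⟨(-1, -1), (0, -1), (0, 0), (1, 0)⟩, ⟨(1, 1), (0, 1), (0, 0), (-1, 0)⟩],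
    [⟨(0, -1), (1, 1), (-1, 0), (0, 0)⟩, ⟨(0, 1), (-1, -1), (1, 0), (0, 0)⟩],
    [],
    [],
    [],
    [],
    []]

/-- Short icosians with given class and norm. -/
def tab1_6 : List (List Q) :=
  [[],
    [],
    [],
    [],
    [],
    [⟨(-2, 0), (-1, 0), (1, 1), (0, 1)⟩, ⟨(-2, 0), (1, 0), (-1, -1), (0, -1)⟩, ⟨(0, -2), (-1, 0), (-1, 1), (0, -1)⟩, ⟨(0, -2), (1, 0), (1, -1), (0, 1)⟩, ⟨(0, 0), (-1, 0), (1, -1), (-2, -1)⟩, ⟨(0, 0), (-1, 2), (-1, -1), (0, 1)⟩, ⟨(0, 0), (1, -2), (1, 1), (0, -1)⟩, ⟨(0, 0), (1, 0), (-1, 1), (2, 1)⟩, ⟨(0, 2), (-1, 0), (-1, 1), (0, -1)⟩, ⟨(0, 2), (1, 0), (1, -1), (0, 1)⟩, ⟨(2, 0), (-1, 0), (1, 1), (0, 1)⟩, ⟨(2, 0), (1, 0), (-1, -1), (0, -1)⟩],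
    [⟨(-1, 0), (-2, 0), (0, -1), (1, 1)⟩, ⟨(-1, 0), (0, -2), (0, 1), (-1, 1)⟩, ⟨(-1, 0), (0, 0), (2, 1), (1, -1)⟩, ⟨(-1, 0), (0, 2), (0, 1), (-1, 1)⟩, ⟨(-1, 0), (2, 0), (0, -1), (1, 1)⟩, ⟨(-1, 2), (0, 0), (0, -1), (-1, -1)⟩, ⟨(1, -2), (0, 0), (0, 1), (1, 1)⟩, ⟨(1, 0), (-2, 0), (0, 1), (-1, -1)⟩, ⟨(1, 0), (0, -2), (0, -1), (1, -1)⟩, ⟨(1, 0), (0, 0), (-2, -1), (-1, 1)⟩, ⟨(1, 0), (0, 2), (0, -1), (1, -1)⟩, ⟨(1, 0), (2, 0), (0, 1), (-1, -1)⟩],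
    [],
    [],
    [],
    [],
    [],
    [],
    [⟨(-2, -1), (-1, 1), (-1, 0), (0, 0)⟩, ⟨(0, -1), (-1, -1), (1, -2), (0, 0)⟩, ⟨(0, -1), (1, -1), (-1, 0), (0, -2)⟩, ⟨(0, -1), (1, -1), (-1, 0), (0, 2)⟩, ⟨(0, -1), (1, 1), (1, 0), (-2, 0)⟩, ⟨(0, -1), (1, 1), (1, 0), (2, 0)⟩, ⟨(0, 1), (-1, -1), (-1, 0), (-2, 0)⟩, ⟨(0, 1), (-1, -1), (-1, 0), (2, 0)⟩, ⟨(0, 1), (-1, 1), (1, 0), (0, -2)⟩, ⟨(0, 1), (-1, 1), (1, 0), (0, 2)⟩, ⟨(0, 1), (1, 1), (-1, 2), (0, 0)⟩, ⟨(2, 1), (1, -1), (1, 0), (0, 0)⟩],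
    [⟨(-1, -1), (0, -1), (-2, 0), (-1, 0)⟩, ⟨(-1, -1), (0, -1), (2, 0), (-1, 0)⟩, ⟨(-1, -1), (0, 1), (0, 0), (1, -2)⟩, ⟨(-1, 1), (0, -1), (0, -2), (1, 0)⟩, ⟨(-1, 1), (0, -1), (0, 2), (1, 0)⟩, ⟨(-1, 1), (2, 1), (0, 0), (-1, 0)⟩, ⟨(1, -1), (-2, -1), (0, 0), (1, 0)⟩, ⟨(1, -1), (0, 1), (0, -2), (-1, 0)⟩, ⟨(1, -1), (0, 1), (0, 2), (-1, 0)⟩, ⟨(1, 1), (0, -1), (0, 0), (-1, 2)⟩, ⟨(1, 1), (0, 1), (-2, 0), (1, 0)⟩, ⟨(1, 1), (0, 1), (2, 0), (1, 0)⟩],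
    []]

/-- Short icosians with given class and norm. -/
def tab1_7 : List (List Q) :=
  [[],
    [⟨(-1, 0), (-2, 0), (2, -1), (-1, 1)⟩, ⟨(-1, 0), (-2, 2), (0, -1), (1, -1)⟩, ⟨(-1, 0), (0, 0), (0, 1), (3, -1)⟩, ⟨(-1, 0), (2, -2), (0, -1), (1, -1)⟩, ⟨(-1, 0), (2, 0), (2, -1), (-1, 1)⟩, ⟨(-1, 2), (0, 0), (2, -1), (1, -1)⟩, ⟨(1, -2), (0, 0), (-2, 1), (-1, 1)⟩, ⟨(1, 0), (-2, 0), (-2, 1), (1, -1)⟩, ⟨(1, 0), (-2, 2), (0, 1), (-1, 1)⟩, ⟨(1, 0), (0, 0), (0, -1), (-3, 1)⟩, ⟨(1, 0), (2, -2), (0, 1), (-1, 1)⟩, ⟨(1, 0), (2, 0), (-2, 1), (1, -1)⟩],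
    [⟨(-2, 0), (-1, 0), (-1, 1), (-2, 1)⟩, ⟨(-2, 0), (1, 0), (1, -1), (2, -1)⟩, ⟨(-2, 2), (-1, 0), (1, -1), (0, 1)⟩, ⟨(-2, 2), (1, 0), (-1, 1), (0, -1)⟩, ⟨(0, 0), (-1, 0), (3, -1), (0, -1)⟩, ⟨(0, 0), (-1, 2), (1, -1), (-2, 1)⟩, ⟨(0, 0), (1, -2), (-1, 1), (2, -1)⟩, ⟨(0, 0), (1, 0), (-3, 1), (0, 1)⟩, ⟨(2, -2), (-1, 0), (1, -1), (0, 1)⟩, ⟨(2, -2), (1, 0), (-1, 1), (0, -1)⟩, ⟨(2, 0), (-1, 0), (-1, 1), (-2, 1)⟩, ⟨(2, 0), (1, 0), (1, -1), (2, -1)⟩],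
    [],
    [],
    [],
    [],
    [],
    [],
    [⟨(-3, 1), (0, 1), (0, 0), (-1, 0)⟩, ⟨(-1, 1), (-2, 1), (-2, 0), (1, 0)⟩, ⟨(-1, 1), (-2, 1), (2, 0), (1, 0)⟩, ⟨(-1, 1), (0, -1), (-2, 2), (-1, 0)⟩, ⟨(-1, 1), (0, -1), (2, -2), (-1, 0)⟩, ⟨(-1, 1), (2, -1), (0, 0), (-1, 2)⟩, ⟨(1, -1), (-2, 1), (0, 0), (1, -2)⟩, ⟨(1, -1), (0, 1), (-2, 2), (1, 0)⟩, ⟨(1, -1), (0, 1), (2, -2), (1, 0)⟩, ⟨(1, -1), (2, -1), (-2, 0), (-1, 0)⟩, ⟨(1, -1), (2, -1), (2, 0), (-1, 0)⟩, ⟨(3, -1), (0, -1), (0, 0), (1, 0)⟩],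
    [⟨(-2, 1), (-1, 1), (-1, 2), (0, 0)⟩, ⟨(-2, 1), (1, -1), (-1, 0), (-2, 0)⟩, ⟨(-2, 1), (1, -1), (-1, 0), (2, 0)⟩, ⟨(0, -1), (-3, 1), (-1, 0), (0, 0)⟩, ⟨(0, -1), (1, -1), (1, 0), (-2, 2)⟩, ⟨(0, -1), (1, -1), (1, 0), (2, -2)⟩, ⟨(0, 1), (-1, 1), (-1, 0), (-2, 2)⟩, ⟨(0, 1), (-1, 1), (-1, 0), (2, -2)⟩, ⟨(0, 1), (3, -1), (1, 0), (0, 0)⟩, ⟨(2, -1), (-1, 1), (1, 0), (-2, 0)⟩, ⟨(2, -1), (-1, 1), (1, 0), (2, 0)⟩, ⟨(2, -1), (1, -1), (1, -2), (0, 0)⟩],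
    [],
    [],
    [],
    [],
    []]

/-- Short icosians with given class and norm. -/
def tab1_8 : List (List Q) :=
  [[],
    [],
    [],
    [],
    [],
    [⟨(0, 0), (-1, 0), (1, -1), (2, -1)⟩, ⟨(0, 0), (1, 0), (-1, 1), (-2, 1)⟩],
    [⟨(-1, 0), (0, 0), (-2, 1), (1, -1)⟩, ⟨(1, 0), (0, 0), (2, -1), (-1, 1)⟩],
    [],
    [],
    [],
    [],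
    [],
    [],
    [⟨(-2, 1), (1, -1), (1, 0), (0, 0)⟩, ⟨(2, -1), (-1, 1), (-1, 0), (0, 0)⟩],
    [⟨(-1, 1), (-2, 1), (0, 0), (-1, 0)⟩, ⟨(1, -1), (2, -1), (0, 0), (1, 0)⟩],
    []]

/-- Short icosians with given class. -/
def tab1 : List (List (List Q)) :=
  [tab1_0, tab1_1, tab1_2, tab1_3, tab1_4, tab1_5, tab1_6, tab1_7, tab1_8]

/-- Short icosians with given class and norm. -/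
def tab2_0 : List (List Q) :=
  [[],
    [],
    [],
    [],
    [],
    [],
    [],
    [],
    [],
    [],
    [],
    [],
    [],
    [],
    [],
    []]

/-- Short icosians with given class and norm. -/
def tab2_1 : List (List Q) :=
  [[],
    [],
    [],
    [],
    [],
    [],
    [],
    [],
    [],
    [⟨(-1, 1), (1, 0), (0, 1), (0, 0)⟩, ⟨(1, -1), (-1, 0), (0, -1), (0, 0)⟩],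
    [],
    [⟨(0, 0), (0, -1), (1, 0), (1, -1)⟩, ⟨(0, 0), (0, 1), (-1, 0), (-1, 1)⟩],
    [],
    [⟨(0, -1), (0, 0), (-1, 1), (1, 0)⟩, ⟨(0, 1), (0, 0), (1, -1), (-1, 0)⟩],
    [],
    [⟨(-1, 0), (-1, 1), (0, 0), (0, -1)⟩, ⟨(1, 0), (1, -1), (0, 0), (0, 1)⟩]]

/-- Short icosians with given class and norm. -/
def tab2_2 : List (List Q) :=
  [[⟨(-1, -1), (-1, 0), (2, -1), (0, 0)⟩, ⟨(-1, 1), (-1, 0), (0, 1), (-2, 0)⟩, ⟨(-1, 1), (-1, 0), (0, 1), (2, 0)⟩, ⟨(-1, 1), (1, -2), (0, -1), (0, 0)⟩, ⟨(1, -1), (-1, 2), (0, 1), (0, 0)⟩, ⟨(1, -1), (1, 0), (0, -1), (-2, 0)⟩, ⟨(1, -1), (1, 0), (0, -1), (2, 0)⟩, ⟨(1, 1), (1, 0), (-2, 1), (0, 0)⟩],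
    [],
    [⟨(-2, 0), (0, -1), (-1, 0), (1, -1)⟩, ⟨(-2, 0), (0, 1), (1, 0), (-1, 1)⟩, ⟨(0, 0), (-2, 1), (-1, 0), (1, 1)⟩, ⟨(0, 0), (0, -1), (-1, 2), (-1, 1)⟩, ⟨(0, 0), (0, 1), (1, -2), (1, -1)⟩, ⟨(0, 0), (2, -1), (1, 0), (-1, -1)⟩, ⟨(2, 0), (0, -1), (-1, 0), (1, -1)⟩, ⟨(2, 0), (0, 1), (1, 0), (-1, 1)⟩],
    [],
    [⟨(-2, 1), (0, 0), (-1, -1), (-1, 0)⟩, ⟨(0, -1), (-2, 0), (-1, 1), (-1, 0)⟩, ⟨(0, -1), (0, 0), (1, -1), (-1, 2)⟩, ⟨(0, -1), (2, 0), (-1, 1), (-1, 0)⟩, ⟨(0, 1), (-2, 0), (1, -1), (1, 0)⟩, ⟨(0, 1), (0, 0), (-1, 1), (1, -2)⟩, ⟨(0, 1), (2, 0), (1, -1), (1, 0)⟩, ⟨(2, -1), (0, 0), (1, 1), (1, 0)⟩],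
    [],
    [⟨(-1, 0), (1, -1), (-2, 0), (0, 1)⟩, ⟨(-1, 0), (1, -1), (2, 0), (0, 1)⟩, ⟨(-1, 0), (1, 1), (0, 0), (2, -1)⟩, ⟨(-1, 2), (-1, 1), (0, 0), (0, 1)⟩, ⟨(1, -2), (1, -1), (0, 0), (0, -1)⟩, ⟨(1, 0), (-1, -1), (0, 0), (-2, 1)⟩, ⟨(1, 0), (-1, 1), (-2, 0), (0, -1)⟩, ⟨(1, 0), (-1, 1), (2, 0), (0, -1)⟩],
    [],
    [],
    [],
    [],
    [],
    [],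
    [],
    [],
    []]

/-- Short icosians with given class and norm. -/
def tab2_3 : List (List Q) :=
  [[],
    [],
    [],
    [],
    [],
    [],
    [],
    [],
    [],
    [⟨(-1, -1), (-1, 0), (0, 1), (-2, 2)⟩, ⟨(-1, -1), (-1, 0), (0, 1), (2, -2)⟩, ⟨(-1, -1), (-1, 2), (-2, 1), (0, 0)⟩, ⟨(-1, -1), (1, 0), (2, -1), (-2, 0)⟩, ⟨(-1, -1), (1, 0), (2, -1), (2, 0)⟩, ⟨(-1, 1), (-3, 0), (0, 1), (0, 0)⟩, ⟨(-1, 1), (-1, 0), (2, -1), (0, -2)⟩, ⟨(-1, 1), (-1, 0), (2, -1), (0, 2)⟩, ⟨(-1, 1), (-1, 2), (0, -1), (-2, 0)⟩, ⟨(-1, 1), (-1, 2), (0, -1), (2, 0)⟩, ⟨(1, -1), (1, -2), (0, 1), (-2, 0)⟩, ⟨(1, -1), (1, -2), (0, 1), (2, 0)⟩, ⟨(1, -1), (1, 0), (-2, 1), (0, -2)⟩, ⟨(1, -1), (1, 0), (-2, 1), (0,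 2)⟩, ⟨(1, -1), (3, 0), (0, -1), (0, 0)⟩, ⟨(1, 1), (-1, 0), (-2, 1), (-2, 0)⟩, ⟨(1, 1), (-1, 0), (-2, 1), (2, 0)⟩, ⟨(1, 1), (1, -2), (2, -1), (0, 0)⟩, ⟨(1, 1), (1, 0), (0, -1), (-2, 2)⟩, ⟨(1, 1), (1, 0), (0, -1), (2, -2)⟩],
    [],
    [⟨(-2, 0), (-2, 1), (1, 0), (1, 1)⟩, ⟨(-2, 0), (0, -1), (1, -2), (-1, 1)⟩, ⟨(-2, 0), (0, 1), (-1, 2), (1, -1)⟩, ⟨(-2, 0), (2, -1), (-1, 0), (-1, -1)⟩, ⟨(-2, 2), (0, -1), (-1, 0), (1, 1)⟩, ⟨(-2, 2), (0, 1), (1, 0), (-1, -1)⟩, ⟨(0, -2), (-2, 1), (-1, 0), (1, -1)⟩, ⟨(0, -2), (2, -1), (1, 0), (-1, 1)⟩, ⟨(0, 0), (-2, 1), (1, -2), (-1, -1)⟩, ⟨(0, 0), (0, -1), (-3, 0), (1, -1)⟩, ⟨(0, 0), (0, 1), (3, 0), (-1, 1)⟩, ⟨(0, 0), (2, -1), (-1, 2), (1, 1)⟩, ⟨(0, 2), (-2,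 1), (-1, 0), (1, -1)⟩, ⟨(0, 2), (2, -1), (1, 0), (-1, 1)⟩, ⟨(2, -2), (0, -1), (-1, 0), (1, 1)⟩, ⟨(2, -2), (0, 1), (1, 0), (-1, -1)⟩, ⟨(2, 0), (-2, 1), (1, 0), (1, 1)⟩, ⟨(2, 0), (0, -1), (1, -2), (-1, 1)⟩, ⟨(2, 0), (0, 1), (-1, 2), (1, -1)⟩, ⟨(2, 0), (2, -1), (-1, 0), (-1, -1)⟩],
    [],
    [⟨(-2, 1), (-2, 0), (-1, -1), (1, 0)⟩, ⟨(-2, 1), (0, -2), (-1, 1), (-1, 0)⟩, ⟨(-2, 1), (0, 0), (1, 1), (1, -2)⟩, ⟨(-2, 1), (0, 2), (-1, 1), (-1, 0)⟩, ⟨(-2, 1), (2, 0), (-1, -1), (1, 0)⟩, ⟨(0, -1), (-2, 0), (1, -1), (1, -2)⟩, ⟨(0, -1), (-2, 2), (-1, -1), (-1, 0)⟩, ⟨(0, -1), (0, 0), (-1, 1), (-3, 0)⟩, ⟨(0, -1), (2, -2), (-1, -1), (-1, 0)⟩, ⟨(0, -1), (2, 0), (1, -1), (1, -2)⟩, ⟨(0, 1), (-2, 0), (-1, 1),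 (-1, 2)⟩, ⟨(0, 1), (-2, 2), (1, 1), (1, 0)⟩, ⟨(0, 1), (0, 0), (1, -1), (3, 0)⟩, ⟨(0, 1), (2, -2), (1, 1), (1, 0)⟩, ⟨(0, 1), (2, 0), (-1, 1), (-1, 2)⟩, ⟨(2, -1), (-2, 0), (1, 1), (-1, 0)⟩, ⟨(2, -1), (0, -2), (1, -1), (1, 0)⟩, ⟨(2, -1), (0, 0), (-1, -1), (-1, 2)⟩, ⟨(2, -1), (0, 2), (1, -1), (1, 0)⟩, ⟨(2, -1), (2, 0), (1, 1), (-1, 0)⟩],
    [],
    [⟨(-3, 0), (1, -1), (0, 0), (0, 1)⟩, ⟨(-1, 0), (-1, -1), (-2, 0), (-2, 1)⟩, ⟨(-1, 0), (-1, -1), (2, 0), (-2, 1)⟩, ⟨(-1, 0), (1, -1), (0, -2), (2, -1)⟩, ⟨(-1, 0), (1, -1), (0, 2), (2, -1)⟩, ⟨(-1, 0), (1, 1), (-2, 2), (0, 1)⟩, ⟨(-1, 0), (1, 1), (2, -2), (0, 1)⟩, ⟨(-1, 2), (1, -1), (-2, 0), (0, -1)⟩, ⟨(-1, 2), (1, -1), (2, 0), (0, -1)⟩, ⟨(-1, 2), (1,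 1), (0, 0), (-2, 1)⟩, ⟨(1, -2), (-1, -1), (0, 0), (2, -1)⟩, ⟨(1, -2), (-1, 1), (-2, 0), (0, 1)⟩, ⟨(1, -2), (-1, 1), (2, 0), (0, 1)⟩, ⟨(1, 0), (-1, -1), (-2, 2), (0, -1)⟩, ⟨(1, 0), (-1, -1), (2, -2), (0, -1)⟩, ⟨(1, 0), (-1, 1), (0, -2), (-2, 1)⟩, ⟨(1, 0), (-1, 1), (0, 2), (-2, 1)⟩, ⟨(1, 0), (1, 1), (-2, 0), (2, -1)⟩, ⟨(1, 0), (1, 1), (2, 0), (2, -1)⟩, ⟨(3, 0), (-1, 1), (0, 0), (0, -1)⟩]]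

/-- Short icosians with given class and norm. -/
def tab2_4 : List (List Q) :=
  [[⟨(-3, 1), (-1, 0), (0, -1), (0, -2)⟩, ⟨(-3, 1), (-1, 0), (0, -1), (0, 2)⟩, ⟨(-3, 1), (1, 0), (2, 1), (0, 0)⟩, ⟨(-1, -1), (-1, 0), (-2, 3), (0, 0)⟩, ⟨(-1, -1), (-1, 2), (0, -1), (-2, 2)⟩, ⟨(-1, -1), (-1, 2), (0, -1), (2, -2)⟩, ⟨(-1, -1), (1, -2), (-2, 1), (-2, 0)⟩, ⟨(-1, -1), (1, -2), (-2, 1), (2, 0)⟩, ⟨(-1, -1), (3, 0), (2, -1), (0, 0)⟩, ⟨(-1, 1), (-1, 2), (-2, 1), (0, -2)⟩, ⟨(-1, 1), (-1, 2), (-2, 1), (0, 2)⟩, ⟨(-1, 1), (1, 0), (-2, -1), (-2, 2)⟩, ⟨(-1, 1), (1, 0), (-2, -1), (2, -2)⟩, ⟨(-1, 1), (3, 0), (0, 1), (-2, 0)⟩, ⟨(-1, 1), (3, 0), (0, 1), (2, 0)⟩, ⟨(-1, 3), (-1, 0), (2, -1), (0, 0)⟩, ⟨(1, -3), (1,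 0), (-2, 1), (0, 0)⟩, ⟨(1, -1), (-3, 0), (0, -1), (-2, 0)⟩, ⟨(1, -1), (-3, 0), (0, -1), (2, 0)⟩, ⟨(1, -1), (-1, 0), (2, 1), (-2, 2)⟩, ⟨(1, -1), (-1, 0), (2, 1), (2, -2)⟩, ⟨(1, -1), (1, -2), (2, -1), (0, -2)⟩, ⟨(1, -1), (1, -2), (2, -1), (0, 2)⟩, ⟨(1, 1), (-3, 0), (-2, 1), (0, 0)⟩, ⟨(1, 1), (-1, 2), (2, -1), (-2, 0)⟩, ⟨(1, 1), (-1, 2), (2, -1), (2, 0)⟩, ⟨(1, 1), (1, -2), (0, 1), (-2, 2)⟩, ⟨(1, 1), (1, -2), (0, 1), (2, -2)⟩, ⟨(1, 1), (1, 0), (2, -3), (0, 0)⟩, ⟨(3, -1), (-1, 0), (-2, -1), (0, 0)⟩, ⟨(3, -1), (1, 0), (0, 1), (0, -2)⟩, ⟨(3, -1), (1, 0), (0, 1), (0, 2)⟩],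
    [],
    [⟨(-2, 0), (-2, 1), (-1, 2), (-1, -1)⟩, ⟨(-2, 0), (0, -1), (3, 0), (1, -1)⟩, ⟨(-2, 0), (0, 1), (-3, 0), (-1, 1)⟩, ⟨(-2, 0), (2, -1), (1, -2), (1, 1)⟩, ⟨(-2, 2), (-2, -1), (-1, 0), (-1, 1)⟩, ⟨(-2, 2), (0, -1), (1, -2), (-1, -1)⟩, ⟨(-2, 2), (0, 1), (-1, 2), (1, 1)⟩, ⟨(-2, 2), (2, 1), (1, 0), (1, -1)⟩, ⟨(0, -2), (-2, 1), (1, -2), (-1, 1)⟩, ⟨(0, -2), (0, -1), (1, 0), (-3, 1)⟩, ⟨(0, -2), (0, 1), (-1, 0), (3, -1)⟩, ⟨(0, -2), (2, -1), (-1, 2), (1, -1)⟩, ⟨(0, 0), (-2, -1), (1, 0), (3, -1)⟩, ⟨(0, 0), (-2, 1), (-1, 0), (1, -3)⟩, ⟨(0, 0), (-2, 1), (3, 0), (1, 1)⟩, ⟨(0, 0), (-2, 3), (1, 0), (-1, -1)⟩, ⟨(0, 0), (2, -3), (-1, 0), (1, 1)⟩, ⟨(0, 0), (2, -1), (-3, 0), (-1, -1)⟩, ⟨(0, 0), (2,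 -1), (1, 0), (-1, 3)⟩, ⟨(0, 0), (2, 1), (-1, 0), (-3, 1)⟩, ⟨(0, 2), (-2, 1), (1, -2), (-1, 1)⟩, ⟨(0, 2), (0, -1), (1, 0), (-3, 1)⟩, ⟨(0, 2), (0, 1), (-1, 0), (3, -1)⟩, ⟨(0, 2), (2, -1), (-1, 2), (1, -1)⟩, ⟨(2, -2), (-2, -1), (-1, 0), (-1, 1)⟩, ⟨(2, -2), (0, -1), (1, -2), (-1, -1)⟩, ⟨(2, -2), (0, 1), (-1, 2), (1, 1)⟩, ⟨(2, -2), (2, 1), (1, 0), (1, -1)⟩, ⟨(2, 0), (-2, 1), (-1, 2), (-1, -1)⟩, ⟨(2, 0), (0, -1), (3, 0), (1, -1)⟩, ⟨(2, 0), (0, 1), (-3, 0), (-1, 1)⟩, ⟨(2, 0), (2, -1), (1, -2), (1, 1)⟩],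
    [],
    [⟨(-2, -1), (-2, 2), (1, -1), (-1, 0)⟩, ⟨(-2, -1), (0, 0), (-3, 1), (1, 0)⟩, ⟨(-2, -1), (2, -2), (1, -1), (-1, 0)⟩, ⟨(-2, 1), (-2, 0), (1, 1), (-1, 2)⟩, ⟨(-2, 1), (0, -2), (1, -1), (1, -2)⟩, ⟨(-2, 1), (0, 0), (-1, -1), (3, 0)⟩, ⟨(-2, 1), (0, 0), (-1, 3), (-1, 0)⟩, ⟨(-2, 1), (0, 2), (1, -1), (1, -2)⟩, ⟨(-2, 1), (2, 0), (1, 1), (-1, 2)⟩, ⟨(-2, 3), (0, 0), (1, 1), (1, 0)⟩, ⟨(0, -1), (-2, 0), (-1, 1), (3, 0)⟩, ⟨(0, -1), (-2, 2), (1, 1), (1, -2)⟩, ⟨(0, -1), (0, -2), (3, -1), (1, 0)⟩, ⟨(0, -1), (0, 2), (3, -1), (1, 0)⟩, ⟨(0, -1), (2, -2), (1, 1), (1, -2)⟩, ⟨(0, -1), (2, 0), (-1, 1), (3, 0)⟩, ⟨(0, 1), (-2, 0), (1, -1), (-3, 0)⟩, ⟨(0, 1), (-2, 2), (-1, -1), (-1, 2)⟩, ⟨(0, 1), (0, -2),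 (-3, 1), (-1, 0)⟩, ⟨(0, 1), (0, 2), (-3, 1), (-1, 0)⟩, ⟨(0, 1), (2, -2), (-1, -1), (-1, 2)⟩, ⟨(0, 1), (2, 0), (1, -1), (-3, 0)⟩, ⟨(2, -3), (0, 0), (-1, -1), (-1, 0)⟩, ⟨(2, -1), (-2, 0), (-1, -1), (1, -2)⟩, ⟨(2, -1), (0, -2), (-1, 1), (-1, 2)⟩, ⟨(2, -1), (0, 0), (1, -3), (1, 0)⟩, ⟨(2, -1), (0, 0), (1, 1), (-3, 0)⟩, ⟨(2, -1), (0, 2), (-1, 1), (-1, 2)⟩, ⟨(2, -1), (2, 0), (-1, -1), (1, -2)⟩, ⟨(2, 1), (-2, 2), (-1, 1), (1, 0)⟩, ⟨(2, 1), (0, 0), (3, -1), (-1, 0)⟩, ⟨(2, 1), (2, -2), (-1, 1), (1, 0)⟩],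
    [],
    [⟨(-3, 0), (-1, -1), (0, 0), (-2, 1)⟩, ⟨(-3, 0), (-1, 1), (-2, 0), (0, -1)⟩, ⟨(-3, 0), (-1, 1), (2, 0), (0, -1)⟩, ⟨(-1, 0), (-3, 1), (0, 0), (-2, -1)⟩, ⟨(-1, 0), (-1, 1), (-2, 2), (2, 1)⟩, ⟨(-1, 0), (-1, 1), (2, -2), (2, 1)⟩, ⟨(-1, 0), (1, -3), (0, 0), (2, -1)⟩, ⟨(-1, 0), (1, 1), (0, 0), (-2, 3)⟩, ⟨(-1, 0), (3, -1), (0, -2), (0, -1)⟩, ⟨(-1, 0), (3, -1), (0, 2), (0, -1)⟩, ⟨(-1, 2), (-1, -1), (-2, 0), (2, -1)⟩, ⟨(-1, 2), (-1, -1), (2, 0), (2, -1)⟩, ⟨(-1, 2), (1, -1), (0, -2), (-2, 1)⟩, ⟨(-1, 2), (1, -1), (0, 2), (-2, 1)⟩, ⟨(-1, 2), (1, 1), (-2, 2), (0, -1)⟩, ⟨(-1, 2), (1, 1), (2, -2), (0, -1)⟩, ⟨(1, -2), (-1, -1), (-2, 2), (0, 1)⟩, ⟨(1, -2), (-1, -1), (2, -2), (0, 1)⟩, ⟨(1, -2),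 (-1, 1), (0, -2), (2, -1)⟩, ⟨(1, -2), (-1, 1), (0, 2), (2, -1)⟩, ⟨(1, -2), (1, 1), (-2, 0), (-2, 1)⟩, ⟨(1, -2), (1, 1), (2, 0), (-2, 1)⟩, ⟨(1, 0), (-3, 1), (0, -2), (0, 1)⟩, ⟨(1, 0), (-3, 1), (0, 2), (0, 1)⟩, ⟨(1, 0), (-1, -1), (0, 0), (2, -3)⟩, ⟨(1, 0), (-1, 3), (0, 0), (-2, 1)⟩, ⟨(1, 0), (1, -1), (-2, 2), (-2, -1)⟩, ⟨(1, 0), (1, -1), (2, -2), (-2, -1)⟩, ⟨(1, 0), (3, -1), (0, 0), (2, 1)⟩, ⟨(3, 0), (1, -1), (-2, 0), (0, 1)⟩, ⟨(3, 0), (1, -1), (2, 0), (0, 1)⟩, ⟨(3, 0), (1, 1), (0, 0), (2, -1)⟩],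
    [],
    [],
    [],
    [],
    [],
    [],
    [],
    [],
    []]

/-- Short icosians with given class and norm. -/
def tab2_5 : List (List Q) :=
  [[],
    [],
    [],
    [],
    [],
    [],
    [],
    [],
    [⟨(-1, 0), (-1, -1), (0, 0), (0, 1)⟩, ⟨(1, 0), (1, 1), (0, 0), (0, -1)⟩],
    [],
    [⟨(0, -1), (0, 0), (1, 1), (-1, 0)⟩, ⟨(0, 1), (0, 0), (-1, -1), (1, 0)⟩],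
    [],
    [⟨(0, 0), (0, -1), (-1, 0), (-1, -1)⟩, ⟨(0, 0), (0, 1), (1, 0), (1, 1)⟩],
    [],
    [⟨(-1, -1), (1, 0), (0, -1), (0, 0)⟩, ⟨(1, 1), (-1, 0), (0, 1), (0, 0)⟩],
    []]

/-- Short icosians with given class and norm. -/
def tab2_6 : List (List Q) :=
  [[],
    [⟨(-1, 0), (-1, 1), (0, -2), (0, 1)⟩, ⟨(-1, 0), (-1, 1), (0, 2), (0, 1)⟩, ⟨(-1, 0), (1, -1), (0, 0), (2, 1)⟩, ⟨(-1, 0), (1, 1), (-2, 0), (0, -1)⟩, ⟨(-1, 0), (1, 1), (2, 0), (0, -1)⟩, ⟨(-1, 2), (-1, -1), (0, 0), (0, -1)⟩, ⟨(1, -2), (1, 1), (0, 0), (0, 1)⟩, ⟨(1, 0), (-1, -1), (-2, 0), (0, 1)⟩, ⟨(1, 0), (-1, -1), (2, 0), (0, 1)⟩, ⟨(1, 0), (-1, 1), (0, 0), (-2, -1)⟩, ⟨(1, 0), (1, -1), (0, -2), (0, -1)⟩, ⟨(1, 0), (1, -1), (0,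 2), (0, -1)⟩],
    [],
    [⟨(-2, -1), (0, 0), (-1, 1), (-1, 0)⟩, ⟨(0, -1), (-2, 0), (1, 1), (1, 0)⟩, ⟨(0, -1), (0, -2), (1, -1), (-1, 0)⟩, ⟨(0, -1), (0, 0), (-1, -1), (1, -2)⟩, ⟨(0, -1), (0, 2), (1, -1), (-1, 0)⟩, ⟨(0, -1), (2, 0), (1, 1), (1, 0)⟩, ⟨(0, 1), (-2, 0), (-1, -1), (-1, 0)⟩, ⟨(0, 1), (0, -2), (-1, 1), (1, 0)⟩, ⟨(0, 1), (0, 0), (1, 1), (-1, 2)⟩, ⟨(0, 1), (0, 2), (-1, 1), (1, 0)⟩, ⟨(0, 1), (2, 0), (-1, -1), (-1, 0)⟩, ⟨(2, 1), (0, 0), (1, -1), (1, 0)⟩],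
    [],
    [⟨(-2, 0), (0, -1), (1, 0), (-1, -1)⟩, ⟨(-2, 0), (0, 1), (-1, 0), (1, 1)⟩, ⟨(0, -2), (0, -1), (-1, 0), (-1, 1)⟩, ⟨(0, -2), (0, 1), (1, 0), (1, -1)⟩, ⟨(0, 0), (-2, -1), (-1, 0), (1, -1)⟩, ⟨(0, 0), (0, -1), (1, -2), (1, 1)⟩, ⟨(0, 0), (0, 1), (-1, 2), (-1, -1)⟩, ⟨(0, 0), (2, 1), (1, 0), (-1, 1)⟩, ⟨(0, 2), (0, -1), (-1, 0), (-1, 1)⟩, ⟨(0, 2), (0, 1), (1, 0), (1, -1)⟩, ⟨(2, 0), (0, -1), (1, 0), (-1, -1)⟩, ⟨(2, 0), (0, 1), (-1, 0), (1, 1)⟩],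
    [],
    [⟨(-1, -1), (-1, 0), (0, -1), (-2, 0)⟩, ⟨(-1, -1), (-1, 0), (0, -1), (2, 0)⟩, ⟨(-1, -1), (1, -2), (0, 1), (0, 0)⟩, ⟨(-1, 1), (-1, 0), (2, 1), (0, 0)⟩, ⟨(-1, 1), (1, 0), (0, -1), (0, -2)⟩, ⟨(-1, 1), (1, 0), (0, -1), (0, 2)⟩, ⟨(1, -1), (-1, 0), (0, 1), (0, -2)⟩, ⟨(1, -1), (-1, 0), (0, 1), (0, 2)⟩, ⟨(1, -1), (1, 0), (-2, -1), (0, 0)⟩, ⟨(1, 1), (-1, 2), (0, -1), (0, 0)⟩, ⟨(1, 1), (1, 0), (0, 1), (-2, 0)⟩, ⟨(1, 1), (1, 0), (0, 1), (2, 0)⟩],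
    [],
    [],
    [],
    [],
    [],
    [],
    [],
    []]

/-- Short icosians with given class and norm. -/
def tab2_7 : List (List Q) :=
  [[],
    [],
    [],
    [],
    [],
    [],
    [],
    [],
    [⟨(-1, 0), (-1, 1), (-2, 0), (2, -1)⟩, ⟨(-1, 0), (-1, 1), (2, 0), (2, -1)⟩, ⟨(-1, 0), (1, -1), (-2, 2), (0, -1)⟩, ⟨(-1, 0), (1, -1), (2, -2), (0, -1)⟩, ⟨(-1, 0), (3, -1), (0, 0), (0, 1)⟩, ⟨(-1, 2), (1, -1), (0, 0), (2, -1)⟩, ⟨(1, -2), (-1, 1), (0, 0), (-2, 1)⟩, ⟨(1, 0), (-3, 1), (0, 0), (0, -1)⟩, ⟨(1, 0), (-1, 1), (-2, 2), (0, 1)⟩, ⟨(1, 0), (-1, 1), (2, -2), (0, 1)⟩, ⟨(1, 0), (1, -1), (-2, 0), (-2, 1)⟩, ⟨(1, 0), (1, -1), (2, 0), (-2, 1)⟩],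
    [],
    [⟨(-2, 1), (-2, 0), (1, -1), (-1, 0)⟩, ⟨(-2, 1), (0, 0), (-1, 1), (-1, 2)⟩, ⟨(-2, 1), (2, 0), (1, -1), (-1, 0)⟩, ⟨(0, -1), (-2, 2), (1, -1), (1, 0)⟩, ⟨(0, -1), (0, 0), (-3, 1), (-1, 0)⟩, ⟨(0, -1), (2, -2), (1, -1), (1, 0)⟩, ⟨(0, 1), (-2, 2), (-1, 1), (-1, 0)⟩, ⟨(0, 1), (0, 0), (3, -1), (1, 0)⟩, ⟨(0, 1), (2, -2), (-1, 1), (-1, 0)⟩, ⟨(2, -1), (-2, 0), (-1, 1), (1, 0)⟩, ⟨(2, -1), (0, 0), (1, -1), (1, -2)⟩, ⟨(2, -1), (2, 0), (-1, 1), (1, 0)⟩],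
    [],
    [⟨(-2, 0), (-2, 1), (-1, 0), (-1, 1)⟩, ⟨(-2, 0), (2, -1), (1, 0), (1, -1)⟩, ⟨(-2, 2), (0, -1), (1, 0), (-1, 1)⟩, ⟨(-2, 2), (0, 1), (-1, 0), (1, -1)⟩, ⟨(0, 0), (-2, 1), (-1, 2), (1, -1)⟩, ⟨(0, 0), (0, -1), (-1, 0), (3, -1)⟩, ⟨(0, 0), (0, 1), (1, 0), (-3, 1)⟩, ⟨(0, 0), (2, -1), (1, -2), (-1, 1)⟩, ⟨(2, -2), (0, -1), (1, 0), (-1, 1)⟩, ⟨(2, -2), (0, 1), (-1, 0), (1, -1)⟩, ⟨(2, 0), (-2, 1), (-1, 0), (-1, 1)⟩, ⟨(2, 0), (2, -1), (1, 0), (1, -1)⟩],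
    [],
    [⟨(-3, 1), (-1, 0), (0, 1), (0, 0)⟩, ⟨(-1, 1), (-1, 0), (0, -1), (-2, 2)⟩, ⟨(-1, 1), (-1, 0), (0, -1), (2, -2)⟩, ⟨(-1, 1), (-1, 2), (2, -1), (0, 0)⟩, ⟨(-1, 1), (1, 0), (-2, 1), (-2, 0)⟩, ⟨(-1, 1), (1, 0), (-2, 1), (2, 0)⟩, ⟨(1, -1), (-1, 0), (2, -1), (-2, 0)⟩, ⟨(1, -1), (-1, 0), (2, -1), (2, 0)⟩, ⟨(1, -1), (1, -2), (-2, 1), (0, 0)⟩, ⟨(1, -1), (1, 0), (0, 1), (-2, 2)⟩, ⟨(1, -1), (1, 0), (0, 1), (2, -2)⟩, ⟨(3, -1), (1, 0), (0, -1), (0, 0)⟩],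
    []]

/-- Short icosians with given class and norm. -/
def tab2_8 : List (List Q) :=
  [[],
    [⟨(-1, 0), (1, -1), (0, 0), (-2, 1)⟩, ⟨(1, 0), (-1, 1), (0, 0), (2, -1)⟩],
    [],
    [⟨(-2, 1), (0, 0), (1, -1), (1, 0)⟩, ⟨(2, -1), (0, 0), (-1, 1), (-1, 0)⟩],
    [],
    [⟨(0, 0), (-2, 1), (1, 0), (-1, 1)⟩, ⟨(0, 0), (2, -1), (-1, 0), (1, -1)⟩],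
    [],
    [⟨(-1, 1), (-1, 0), (-2, 1), (0, 0)⟩, ⟨(1, -1), (1, 0), (2, -1), (0, 0)⟩],
    [],
    [],
    [],
    [],
    [],
    [],
    [],
    []]

/-- Short icosians with given class. -/
def tab2 : List (List (List Q)) :=
  [tab2_0, tab2_1, tab2_2, tab2_3, tab2_4, tab2_5, tab2_6, tab2_7, tab2_8]

/-- Short icosians with given class and norm. -/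
def tab3_0 : List (List Q) :=
  [[],
    [],
    [],
    [],
    [],
    [],
    [],
    [],
    [],
    [],
    [],
    [],
    [],
    [],
    [],
    []]

/-- Short icosians with given class and norm. -/
def tab3_1 : List (List Q) :=
  [[],
    [⟨(0, -1), (1, 0), (0, 0), (1, -1)⟩, ⟨(0, 1), (-1, 0), (0, 0), (-1, 1)⟩],
    [],
    [],
    [⟨(-1, 0), (0, -1), (1, -1), (0, 0)⟩, ⟨(1, 0), (0, 1), (-1, 1), (0, 0)⟩],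
    [],
    [],
    [],
    [],
    [],
    [],
    [⟨(-1, 1), (0, 0), (-1, 0), (0, -1)⟩, ⟨(1, -1), (0, 0), (1, 0), (0, 1)⟩],
    [],
    [],
    [⟨(0, 0), (-1, 1), (0, -1), (1, 0)⟩, ⟨(0, 0), (1, -1), (0, 1), (-1, 0)⟩],
    []]

/-- Short icosians with given class and norm. -/
def tab3_2 : List (List Q) :=
  [[⟨(-2, 0), (-1, 1), (0, -1), (-1, 0)⟩, ⟨(-2, 0), (1, -1), (0, 1), (1, 0)⟩, ⟨(0, 0), (-1, -1), (-2, 1), (-1, 0)⟩, ⟨(0, 0), (-1, 1), (0, 1), (1, -2)⟩, ⟨(0, 0), (1, -1), (0, -1), (-1, 2)⟩, ⟨(0, 0), (1, 1), (2, -1), (1, 0)⟩, ⟨(2, 0), (-1, 1), (0, -1), (-1, 0)⟩, ⟨(2, 0), (1, -1), (0, 1), (1, 0)⟩],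
    [],
    [],
    [],
    [],
    [⟨(-1, -1), (0, 0), (1, 0), (-2, 1)⟩, ⟨(-1, 1), (-2, 0), (1, 0), (0, -1)⟩, ⟨(-1, 1), (0, 0), (-1, 2), (0, 1)⟩, ⟨(-1, 1), (2, 0), (1, 0), (0, -1)⟩, ⟨(1, -1), (-2, 0), (-1, 0), (0, 1)⟩, ⟨(1, -1), (0, 0), (1, -2), (0, -1)⟩, ⟨(1, -1), (2, 0), (-1, 0), (0, 1)⟩, ⟨(1, 1), (0, 0), (-1, 0), (2, -1)⟩],
    [],
    [],
    [],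
    [],
    [⟨(-1, 0), (0, 1), (-1, 1), (-2, 0)⟩, ⟨(-1, 0), (0, 1), (-1, 1), (2, 0)⟩, ⟨(-1, 0), (2, -1), (-1, -1), (0, 0)⟩, ⟨(-1, 2), (0, 1), (1, -1), (0, 0)⟩, ⟨(1, -2), (0, -1), (-1, 1), (0, 0)⟩, ⟨(1, 0), (-2, 1), (1, 1), (0, 0)⟩, ⟨(1, 0), (0, -1), (1, -1), (-2, 0)⟩, ⟨(1, 0), (0, -1), (1, -1), (2, 0)⟩],
    [],
    [],
    [],
    [],
    [⟨(-2, 1), (-1, 0), (0, 0), (1, 1)⟩, ⟨(0, -1), (-1, 0), (-2, 0), (1, -1)⟩, ⟨(0, -1), (-1, 0), (2, 0), (1, -1)⟩, ⟨(0, -1), (-1, 2), (0, 0), (-1, 1)⟩, ⟨(0, 1), (1, -2), (0, 0), (1, -1)⟩, ⟨(0, 1), (1, 0), (-2, 0), (-1, 1)⟩, ⟨(0, 1), (1, 0), (2, 0), (-1, 1)⟩, ⟨(2, -1), (1, 0), (0, 0), (-1, -1)⟩]]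

/-- Short icosians with given class and norm. -/
def tab3_3 : List (List Q) :=
  [[],
    [⟨(-2, 1), (-1, 0), (0, -2), (1, -1)⟩, ⟨(-2, 1), (-1, 0), (0, 2), (1, -1)⟩, ⟨(-2, 1), (1, -2), (0, 0), (-1, -1)⟩, ⟨(-2, 1), (1, 0), (-2, 0), (1, 1)⟩, ⟨(-2, 1), (1, 0), (2, 0), (1, 1)⟩, ⟨(0, -1), (-3, 0), (0, 0), (1, -1)⟩, ⟨(0, -1), (-1, 0), (-2, 2), (1, 1)⟩, ⟨(0, -1), (-1, 0), (2, -2), (1, 1)⟩, ⟨(0, -1), (1, -2), (-2, 0), (-1, 1)⟩, ⟨(0, -1), (1, -2), (2, 0), (-1, 1)⟩, ⟨(0, 1), (-1, 2), (-2, 0), (1, -1)⟩, ⟨(0, 1), (-1, 2), (2, 0), (1, -1)⟩, ⟨(0, 1), (1, 0), (-2, 2), (-1, -1)⟩, ⟨(0, 1), (1, 0), (2, -2), (-1, -1)⟩, ⟨(0, 1), (3, 0), (0, 0), (-1, 1)⟩, ⟨(2, -1), (-1, 0), (-2, 0), (-1, -1)⟩, ⟨(2, -1), (-1,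 0), (2, 0), (-1, -1)⟩, ⟨(2, -1), (-1, 2), (0, 0), (1, 1)⟩, ⟨(2, -1), (1, 0), (0, -2), (-1, 1)⟩, ⟨(2, -1), (1, 0), (0, 2), (-1, 1)⟩],
    [],
    [],
    [⟨(-3, 0), (0, 1), (-1, 1), (0, 0)⟩, ⟨(-1, 0), (-2, 1), (1, 1), (-2, 0)⟩, ⟨(-1, 0), (-2, 1), (1, 1), (2, 0)⟩, ⟨(-1, 0), (0, 1), (-1, -1), (-2, 2)⟩, ⟨(-1, 0), (0, 1), (-1, -1), (2, -2)⟩, ⟨(-1, 0), (2, -1), (-1, 1), (0, -2)⟩, ⟨(-1, 0), (2, -1), (-1, 1), (0, 2)⟩, ⟨(-1, 2), (-2, 1), (-1, -1), (0, 0)⟩, ⟨(-1, 2), (0, -1), (-1, 1), (-2, 0)⟩, ⟨(-1, 2), (0, -1), (-1, 1), (2, 0)⟩, ⟨(1, -2), (0, 1), (1, -1), (-2, 0)⟩, ⟨(1, -2), (0, 1), (1, -1), (2, 0)⟩, ⟨(1, -2), (2, -1), (1, 1), (0, 0)⟩, ⟨(1, 0), (-2, 1), (1, -1), (0, -2)⟩, ⟨(1, 0), (-2, 1), (1,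 -1), (0, 2)⟩, ⟨(1, 0), (0, -1), (1, 1), (-2, 2)⟩, ⟨(1, 0), (0, -1), (1, 1), (2, -2)⟩, ⟨(1, 0), (2, -1), (-1, -1), (-2, 0)⟩, ⟨(1, 0), (2, -1), (-1, -1), (2, 0)⟩, ⟨(3, 0), (0, -1), (1, -1), (0, 0)⟩],
    [],
    [],
    [],
    [],
    [],
    [],
    [⟨(-1, -1), (-2, 0), (-1, 0), (-2, 1)⟩, ⟨(-1, -1), (-2, 2), (1, 0), (0, -1)⟩, ⟨(-1, -1), (0, 0), (1, -2), (2, -1)⟩, ⟨(-1, -1), (2, -2), (1, 0), (0, -1)⟩, ⟨(-1, -1), (2, 0), (-1, 0), (-2, 1)⟩, ⟨(-1, 1), (-2, 0), (1, -2), (0, 1)⟩, ⟨(-1, 1), (0, -2), (1, 0), (-2, 1)⟩, ⟨(-1, 1), (0, 0), (3, 0), (0, -1)⟩, ⟨(-1, 1), (0, 2), (1, 0), (-2, 1)⟩, ⟨(-1, 1), (2, 0), (1, -2), (0, 1)⟩, ⟨(1, -1), (-2, 0), (-1, 2), (0, -1)⟩, ⟨(1, -1), (0, -2), (-1, 0), (2, -1)⟩,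 ⟨(1, -1), (0, 0), (-3, 0), (0, 1)⟩, ⟨(1, -1), (0, 2), (-1, 0), (2, -1)⟩, ⟨(1, -1), (2, 0), (-1, 2), (0, -1)⟩, ⟨(1, 1), (-2, 0), (1, 0), (2, -1)⟩, ⟨(1, 1), (-2, 2), (-1, 0), (0, 1)⟩, ⟨(1, 1), (0, 0), (-1, 2), (-2, 1)⟩, ⟨(1, 1), (2, -2), (-1, 0), (0, 1)⟩, ⟨(1, 1), (2, 0), (1, 0), (2, -1)⟩],
    [],
    [],
    [⟨(-2, 0), (-1, -1), (-2, 1), (1, 0)⟩, ⟨(-2, 0), (-1, 1), (0, 1), (-1, 2)⟩, ⟨(-2, 0), (1, -1), (0, -1), (1, -2)⟩, ⟨(-2, 0), (1, 1), (2, -1), (-1, 0)⟩, ⟨(-2, 2), (-1, -1), (0, -1), (-1, 0)⟩, ⟨(-2, 2), (1, 1), (0, 1), (1, 0)⟩, ⟨(0, -2), (-1, 1), (-2, 1), (-1, 0)⟩, ⟨(0, -2), (1, -1), (2, -1), (1, 0)⟩, ⟨(0, 0), (-1, -1), (2, -1), (-1, 2)⟩, ⟨(0, 0), (-1, 1), (0, -1), (-3, 0)⟩, ⟨(0, 0), (1,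 -1), (0, 1), (3, 0)⟩, ⟨(0, 0), (1, 1), (-2, 1), (1, -2)⟩, ⟨(0, 2), (-1, 1), (-2, 1), (-1, 0)⟩, ⟨(0, 2), (1, -1), (2, -1), (1, 0)⟩, ⟨(2, -2), (-1, -1), (0, -1), (-1, 0)⟩, ⟨(2, -2), (1, 1), (0, 1), (1, 0)⟩, ⟨(2, 0), (-1, -1), (-2, 1), (1, 0)⟩, ⟨(2, 0), (-1, 1), (0, 1), (-1, 2)⟩, ⟨(2, 0), (1, -1), (0, -1), (1, -2)⟩, ⟨(2, 0), (1, 1), (2, -1), (-1, 0)⟩],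
    []]

/-- Short icosians with given class and norm. -/
def tab3_4 : List (List Q) :=
  [[⟨(-2, 0), (-1, -1), (2, -1), (1, -2)⟩, ⟨(-2, 0), (-1, 1), (0, -1), (3, 0)⟩, ⟨(-2, 0), (1, -1), (0, 1), (-3, 0)⟩, ⟨(-2, 0), (1, 1), (-2, 1), (-1, 2)⟩, ⟨(-2, 2), (-1, -1), (0, 1), (-1, 2)⟩, ⟨(-2, 2), (-1, 1), (2, 1), (1, 0)⟩, ⟨(-2, 2), (1, -1), (-2, -1), (-1, 0)⟩, ⟨(-2, 2), (1, 1), (0, -1), (1, -2)⟩, ⟨(0, -2), (-3, 1), (0, 1), (-1, 0)⟩, ⟨(0, -2), (-1, 1), (2, -1), (-1, 2)⟩, ⟨(0, -2), (1, -1), (-2, 1), (1, -2)⟩, ⟨(0, -2), (3, -1), (0, -1), (1, 0)⟩, ⟨(0, 0), (-3, 1), (-2, -1), (1, 0)⟩, ⟨(0, 0), (-1, -1), (-2, 1), (3, 0)⟩, ⟨(0, 0), (-1, -1), (2, -3), (-1, 0)⟩, ⟨(0, 0), (-1, 3), (-2, 1), (-1, 0)⟩, ⟨(0,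 0), (1, -3), (2, -1), (1, 0)⟩, ⟨(0, 0), (1, 1), (-2, 3), (1, 0)⟩, ⟨(0, 0), (1, 1), (2, -1), (-3, 0)⟩, ⟨(0, 0), (3, -1), (2, 1), (-1, 0)⟩, ⟨(0, 2), (-3, 1), (0, 1), (-1, 0)⟩, ⟨(0, 2), (-1, 1), (2, -1), (-1, 2)⟩, ⟨(0, 2), (1, -1), (-2, 1), (1, -2)⟩, ⟨(0, 2), (3, -1), (0, -1), (1, 0)⟩, ⟨(2, -2), (-1, -1), (0, 1), (-1, 2)⟩, ⟨(2, -2), (-1, 1), (2, 1), (1, 0)⟩, ⟨(2, -2), (1, -1), (-2, -1), (-1, 0)⟩, ⟨(2, -2), (1, 1), (0, -1), (1, -2)⟩, ⟨(2, 0), (-1, -1), (2, -1), (1, -2)⟩, ⟨(2, 0), (-1, 1), (0, -1), (3, 0)⟩, ⟨(2, 0), (1, -1), (0, 1), (-3, 0)⟩, ⟨(2, 0), (1, 1), (-2, 1), (-1, 2)⟩],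
    [],
    [],
    [],
    [],
    [⟨(-3, 1), (0, -2), (1, 0), (0, 1)⟩, ⟨(-3, 1), (0, 0), (-1, 0), (-2, -1)⟩, ⟨(-3, 1), (0, 2), (1, 0), (0, 1)⟩, ⟨(-1, -1), (-2, 0), (-1, 2), (2, -1)⟩, ⟨(-1, -1), (-2, 2), (1, -2), (0, 1)⟩, ⟨(-1, -1), (0, 0), (-3, 0), (-2, 1)⟩, ⟨(-1, -1), (0, 0), (1, 0), (2, -3)⟩, ⟨(-1, -1), (2, -2), (1, -2), (0, 1)⟩, ⟨(-1, -1), (2, 0), (-1, 2), (2, -1)⟩, ⟨(-1, 1), (-2, 0), (-3, 0), (0, -1)⟩, ⟨(-1, 1), (-2, 2), (-1, 0), (2, 1)⟩, ⟨(-1, 1), (0, -2), (1, -2), (2, -1)⟩, ⟨(-1, 1), (0, 2), (1, -2), (2, -1)⟩, ⟨(-1, 1), (2, -2), (-1, 0), (2, 1)⟩, ⟨(-1, 1), (2, 0), (-3, 0), (0, -1)⟩, ⟨(-1, 3), (0, 0), (1, 0), (-2, 1)⟩, ⟨(1, -3), (0, 0), (-1, 0), (2, -1)⟩, ⟨(1, -1), (-2, 0), (3, 0),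 (0, 1)⟩, ⟨(1, -1), (-2, 2), (1, 0), (-2, -1)⟩, ⟨(1, -1), (0, -2), (-1, 2), (-2, 1)⟩, ⟨(1, -1), (0, 2), (-1, 2), (-2, 1)⟩, ⟨(1, -1), (2, -2), (1, 0), (-2, -1)⟩, ⟨(1, -1), (2, 0), (3, 0), (0, 1)⟩, ⟨(1, 1), (-2, 0), (1, -2), (-2, 1)⟩, ⟨(1, 1), (-2, 2), (-1, 2), (0, -1)⟩, ⟨(1, 1), (0, 0), (-1, 0), (-2, 3)⟩, ⟨(1, 1), (0, 0), (3, 0), (2, -1)⟩, ⟨(1, 1), (2, -2), (-1, 2), (0, -1)⟩, ⟨(1, 1), (2, 0), (1, -2), (-2, 1)⟩, ⟨(3, -1), (0, -2), (-1, 0), (0, -1)⟩, ⟨(3, -1), (0, 0), (1, 0), (2, 1)⟩, ⟨(3, -1), (0, 2), (-1, 0), (0, -1)⟩],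
    [],
    [],
    [],
    [],
    [⟨(-3, 0), (-2, 1), (1, 1), (0, 0)⟩, ⟨(-3, 0), (0, -1), (1, -1), (-2, 0)⟩, ⟨(-3, 0), (0, -1), (1, -1), (2, 0)⟩, ⟨(-1, 0), (-2, -1), (3, -1), (0, 0)⟩, ⟨(-1, 0), (-2, 3), (-1, -1), (0, 0)⟩, ⟨(-1, 0), (0, -1), (-3, 1), (0, -2)⟩, ⟨(-1, 0), (0, -1), (-3, 1), (0, 2)⟩, ⟨(-1, 0), (2, -1), (-1, 3), (0, 0)⟩, ⟨(-1, 0), (2, 1), (1, -1), (-2, 2)⟩, ⟨(-1, 0), (2, 1), (1, -1), (2, -2)⟩, ⟨(-1, 2), (-2, 1), (-1, 1), (0, -2)⟩, ⟨(-1, 2), (-2, 1), (-1, 1), (0, 2)⟩, ⟨(-1, 2), (0, -1), (-1, -1), (-2, 2)⟩, ⟨(-1, 2), (0, -1), (-1, -1), (2, -2)⟩, ⟨(-1, 2), (2, -1), (1, 1), (-2, 0)⟩, ⟨(-1, 2), (2, -1), (1, 1), (2, 0)⟩, ⟨(1, -2), (-2, 1), (-1, -1), (-2, 0)⟩, ⟨(1, -2), (-2, 1), (-1,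 -1), (2, 0)⟩, ⟨(1, -2), (0, 1), (1, 1), (-2, 2)⟩, ⟨(1, -2), (0, 1), (1, 1), (2, -2)⟩, ⟨(1, -2), (2, -1), (1, -1), (0, -2)⟩, ⟨(1, -2), (2, -1), (1, -1), (0, 2)⟩, ⟨(1, 0), (-2, -1), (-1, 1), (-2, 2)⟩, ⟨(1, 0), (-2, -1), (-1, 1), (2, -2)⟩, ⟨(1, 0), (-2, 1), (1, -3), (0, 0)⟩, ⟨(1, 0), (0, 1), (3, -1), (0, -2)⟩, ⟨(1, 0), (0, 1), (3, -1), (0, 2)⟩, ⟨(1, 0), (2, -3), (1, 1), (0, 0)⟩, ⟨(1, 0), (2, 1), (-3, 1), (0, 0)⟩, ⟨(3, 0), (0, 1), (-1, 1), (-2, 0)⟩, ⟨(3, 0), (0, 1), (-1, 1), (2, 0)⟩, ⟨(3, 0), (2, -1), (-1, -1), (0, 0)⟩],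
    [],
    [],
    [],
    [],
    [⟨(-2, -1), (-1, 0), (-2, 2), (-1, 1)⟩, ⟨(-2, -1), (-1, 0), (2, -2), (-1, 1)⟩, ⟨(-2, -1), (1, 0), (0, 0), (3, -1)⟩, ⟨(-2, 1), (-1, 0), (0, 0), (1, -3)⟩, ⟨(-2, 1), (-1, 2), (-2, 0), (-1, -1)⟩, ⟨(-2, 1), (-1, 2), (2, 0), (-1, -1)⟩, ⟨(-2, 1), (1, -2), (0, -2), (-1, 1)⟩, ⟨(-2, 1), (1, -2), (0, 2), (-1, 1)⟩, ⟨(-2, 1), (3, 0), (0, 0), (1, 1)⟩, ⟨(-2, 3), (1, 0), (0, 0), (-1, -1)⟩, ⟨(0, -1), (1, -2), (-2, 2), (-1, -1)⟩, ⟨(0, -1), (1, -2), (2, -2), (-1, -1)⟩, ⟨(0, -1), (1, 0), (0, -2), (-3, 1)⟩, ⟨(0, -1), (1, 0), (0, 2), (-3, 1)⟩, ⟨(0, -1), (3, 0), (-2, 0), (1, -1)⟩, ⟨(0, -1), (3, 0), (2, 0), (1, -1)⟩, ⟨(0, 1), (-3, 0), (-2, 0), (-1, 1)⟩, ⟨(0, 1), (-3, 0), (2,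 0), (-1, 1)⟩, ⟨(0, 1), (-1, 0), (0, -2), (3, -1)⟩, ⟨(0, 1), (-1, 0), (0, 2), (3, -1)⟩, ⟨(0, 1), (-1, 2), (-2, 2), (1, 1)⟩, ⟨(0, 1), (-1, 2), (2, -2), (1, 1)⟩, ⟨(2, -3), (-1, 0), (0, 0), (1, 1)⟩, ⟨(2, -1), (-3, 0), (0, 0), (-1, -1)⟩, ⟨(2, -1), (-1, 2), (0, -2), (1, -1)⟩, ⟨(2, -1), (-1, 2), (0, 2), (1, -1)⟩, ⟨(2, -1), (1, -2), (-2, 0), (1, 1)⟩, ⟨(2, -1), (1, -2), (2, 0), (1, 1)⟩, ⟨(2, -1), (1, 0), (0, 0), (-1, 3)⟩, ⟨(2, 1), (-1, 0), (0, 0), (-3, 1)⟩, ⟨(2, 1), (1, 0), (-2, 2), (1, -1)⟩, ⟨(2, 1), (1, 0), (2, -2), (1, -1)⟩]]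

/-- Short icosians with given class and norm. -/
def tab3_5 : List (List Q) :=
  [[],
    [],
    [⟨(-1, -1), (0, 0), (-1, 0), (0, 1)⟩, ⟨(1, 1), (0, 0), (1, 0), (0, -1)⟩],
    [],
    [],
    [],
    [],
    [⟨(0, 0), (-1, -1), (0, 1), (1, 0)⟩, ⟨(0, 0), (1, 1), (0, -1), (-1, 0)⟩],
    [⟨(0, -1), (-1, 0), (0, 0), (-1, -1)⟩, ⟨(0, 1), (1, 0), (0, 0), (1, 1)⟩],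
    [],
    [],
    [],
    [],
    [⟨(-1, 0), (0, 1), (1, 1), (0, 0)⟩, ⟨(1, 0), (0, -1), (-1, -1), (0, 0)⟩],
    [],
    []]

/-- Short icosians with given class and norm. -/
def tab3_6 : List (List Q) :=
  [[],
    [],
    [],
    [⟨(-1, 0), (0, -1), (-1, -1), (-2, 0)⟩, ⟨(-1, 0), (0, -1), (-1, -1), (2, 0)⟩, ⟨(-1, 0), (0, 1), (1, -1), (0, -2)⟩, ⟨(-1, 0), (0, 1), (1, -1), (0, 2)⟩, ⟨(-1, 0), (2, 1), (-1, 1), (0, 0)⟩, ⟨(-1, 2), (0, -1), (1, 1), (0, 0)⟩, ⟨(1, -2), (0, 1), (-1, -1), (0, 0)⟩, ⟨(1, 0), (-2, -1), (1, -1), (0, 0)⟩, ⟨(1, 0), (0, -1), (-1, 1), (0, -2)⟩, ⟨(1, 0), (0, -1), (-1, 1), (0, 2)⟩, ⟨(1, 0), (0, 1), (1, 1), (-2, 0)⟩, ⟨(1, 0), (0, 1), (1, 1), (2, 0)⟩],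
    [],
    [],
    [⟨(-2, -1), (-1, 0), (0, 0), (1, -1)⟩, ⟨(0, -1), (-1, 0), (0, -2), (-1, 1)⟩, ⟨(0, -1), (-1, 0), (0, 2), (-1, 1)⟩, ⟨(0, -1), (1, -2), (0, 0), (1, 1)⟩, ⟨(0, -1), (1, 0), (-2, 0), (-1, -1)⟩, ⟨(0, -1), (1, 0), (2, 0), (-1, -1)⟩, ⟨(0, 1), (-1, 0), (-2, 0), (1, 1)⟩, ⟨(0, 1), (-1, 0), (2, 0), (1, 1)⟩, ⟨(0, 1), (-1, 2), (0, 0), (-1, -1)⟩, ⟨(0, 1), (1, 0), (0, -2), (1, -1)⟩, ⟨(0, 1), (1, 0), (0, 2), (1, -1)⟩, ⟨(2, 1), (1, 0), (0, 0), (-1, 1)⟩],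
    [],
    [],
    [⟨(-2, 0), (-1, -1), (0, 1), (-1, 0)⟩, ⟨(-2, 0), (1, 1), (0, -1), (1, 0)⟩, ⟨(0, -2), (-1, 1), (0, 1), (1, 0)⟩, ⟨(0, -2), (1, -1), (0, -1), (-1, 0)⟩, ⟨(0, 0), (-1, -1), (0, -1), (1, -2)⟩, ⟨(0, 0), (-1, 1), (-2, -1), (-1, 0)⟩, ⟨(0, 0), (1, -1), (2, 1), (1, 0)⟩, ⟨(0, 0), (1, 1), (0, 1), (-1, 2)⟩, ⟨(0, 2), (-1, 1), (0, 1), (1, 0)⟩, ⟨(0, 2), (1, -1), (0, -1), (-1, 0)⟩, ⟨(2, 0), (-1, -1), (0, 1), (-1, 0)⟩, ⟨(2, 0), (1, 1), (0, -1), (1, 0)⟩],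
    [],
    [],
    [⟨(-1, -1), (-2, 0), (1, 0), (0, 1)⟩, ⟨(-1, -1), (0, 0), (-1, 2), (0, -1)⟩, ⟨(-1, -1), (2, 0), (1, 0), (0, 1)⟩, ⟨(-1, 1), (0, -2), (-1, 0), (0, 1)⟩, ⟨(-1, 1), (0, 0), (1, 0), (-2, -1)⟩, ⟨(-1, 1), (0, 2), (-1, 0), (0, 1)⟩, ⟨(1, -1), (0, -2), (1, 0), (0, -1)⟩, ⟨(1, -1), (0, 0), (-1, 0), (2, 1)⟩, ⟨(1, -1), (0, 2), (1, 0), (0, -1)⟩, ⟨(1, 1), (-2, 0), (-1, 0), (0, -1)⟩, ⟨(1, 1), (0, 0), (1, -2), (0, 1)⟩, ⟨(1, 1), (2, 0), (-1, 0), (0, -1)⟩],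
    [],
    [],
    []]

/-- Short icosians with given class and norm. -/
def tab3_7 : List (List Q) :=
  [[],
    [],
    [⟨(-3, 1), (0, 0), (1, 0), (0, -1)⟩, ⟨(-1, 1), (-2, 0), (-1, 0), (2, -1)⟩, ⟨(-1, 1), (-2, 2), (1, 0), (0, 1)⟩, ⟨(-1, 1), (0, 0), (1, -2), (-2, 1)⟩, ⟨(-1, 1), (2, -2), (1, 0), (0, 1)⟩, ⟨(-1, 1), (2, 0), (-1, 0), (2, -1)⟩, ⟨(1, -1), (-2, 0), (1, 0), (-2, 1)⟩, ⟨(1, -1), (-2, 2), (-1, 0), (0, -1)⟩, ⟨(1, -1), (0, 0), (-1, 2), (2, -1)⟩, ⟨(1, -1), (2, -2), (-1, 0), (0, -1)⟩, ⟨(1, -1), (2, 0), (1, 0), (-2, 1)⟩, ⟨(3, -1), (0, 0), (-1, 0), (0, 1)⟩],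
    [],
    [],
    [],
    [],
    [⟨(-2, 0), (-1, 1), (2, -1), (1, 0)⟩, ⟨(-2, 0), (1, -1), (-2, 1), (-1, 0)⟩, ⟨(-2, 2), (-1, 1), (0, 1), (-1, 0)⟩, ⟨(-2, 2), (1, -1), (0, -1), (1, 0)⟩, ⟨(0, 0), (-3, 1), (0, -1), (-1, 0)⟩, ⟨(0, 0), (-1, 1), (-2, 1), (-1, 2)⟩, ⟨(0, 0), (1, -1), (2, -1), (1, -2)⟩, ⟨(0, 0), (3, -1), (0, 1), (1, 0)⟩, ⟨(2, -2), (-1, 1), (0, 1), (-1, 0)⟩, ⟨(2, -2), (1, -1), (0, -1), (1, 0)⟩, ⟨(2, 0), (-1, 1), (2, -1), (1, 0)⟩, ⟨(2, 0), (1, -1), (-2, 1), (-1, 0)⟩],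
    [⟨(-2, 1), (-1, 0), (-2, 0), (-1, 1)⟩, ⟨(-2, 1), (-1, 0), (2, 0), (-1, 1)⟩, ⟨(-2, 1), (-1, 2), (0, 0), (1, -1)⟩, ⟨(0, -1), (-1, 0), (0, 0), (3, -1)⟩, ⟨(0, -1), (1, 0), (-2, 2), (-1, 1)⟩, ⟨(0, -1), (1, 0), (2, -2), (-1, 1)⟩, ⟨(0, 1), (-1, 0), (-2, 2), (1, -1)⟩, ⟨(0, 1), (-1, 0), (2, -2), (1, -1)⟩, ⟨(0, 1), (1, 0), (0, 0), (-3, 1)⟩, ⟨(2, -1), (1, -2), (0, 0), (-1, 1)⟩, ⟨(2, -1), (1, 0), (-2, 0), (1, -1)⟩, ⟨(2, -1), (1, 0), (2, 0), (1, -1)⟩],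
    [],
    [],
    [],
    [],
    [⟨(-1, 0), (0, -1), (-1, 1), (-2, 2)⟩, ⟨(-1, 0), (0, -1), (-1, 1), (2, -2)⟩, ⟨(-1, 0), (0, 1), (-3, 1), (0, 0)⟩, ⟨(-1, 0), (2, -1), (1, -1), (-2, 0)⟩, ⟨(-1, 0), (2, -1), (1, -1), (2, 0)⟩, ⟨(-1, 2), (2, -1), (-1, 1), (0, 0)⟩, ⟨(1, -2), (-2, 1), (1, -1), (0, 0)⟩, ⟨(1, 0), (-2, 1), (-1, 1), (-2, 0)⟩, ⟨(1, 0), (-2, 1), (-1, 1), (2, 0)⟩, ⟨(1, 0), (0, -1), (3, -1), (0, 0)⟩, ⟨(1, 0), (0, 1), (1, -1), (-2, 2)⟩, ⟨(1, 0), (0, 1), (1, -1), (2, -2)⟩],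
    [],
    []]

/-- Short icosians with given class and norm. -/
def tab3_8 : List (List Q) :=
  [[],
    [],
    [],
    [⟨(-1, 0), (-2, 1), (-1, 1), (0, 0)⟩, ⟨(1, 0), (2, -1), (1, -1), (0, 0)⟩],
    [],
    [],
    [⟨(-2, 1), (1, 0), (0, 0), (-1, 1)⟩, ⟨(2, -1), (-1, 0), (0, 0), (1, -1)⟩],
    [],
    [],
    [⟨(0, 0), (-1, 1), (2, -1), (-1, 0)⟩, ⟨(0, 0), (1, -1), (-2, 1), (1, 0)⟩],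
    [],
    [],
    [⟨(-1, 1), (0, 0), (1, 0), (2, -1)⟩, ⟨(1, -1), (0, 0), (-1, 0), (-2, 1)⟩],
    [],
    [],
    []]

/-- Short icosians with given class. -/
def tab3 : List (List (List Q)) :=
  [tab3_0, tab3_1, tab3_2, tab3_3, tab3_4, tab3_5, tab3_6, tab3_7, tab3_8]

end Cfsg.Agent.J2
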