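import Cfsg.Agent.Lib.J2.UnitData

/-! Short icosians sorted by residue and norm. -/

namespace Cfsg.Agent.J2

/-- Short icosians with given class and norm. -/
def tab4_0 : List (List Q) :=
  [[],
    [],
    [],
    [],
    [],
    [],
    [],
    [],
    [],
    [],
    [],
    [],
    [],
    [],
    [],
    []]

/-- Short icosians with given class and norm. -/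
def tab4_1 : List (List Q) :=
  [[],
    [],
    [],
    [⟨(0, 0), (0, 0), (-2, 0), (0, 0)⟩, ⟨(0, 0), (0, 0), (2, 0), (0, 0)⟩],
    [⟨(0, 0), (0, 0), (0, 0), (-2, 0)⟩, ⟨(0, 0), (0, 0), (0, 0), (2, 0)⟩],
    [],
    [],
    [],
    [],
    [],
    [⟨(-2, 0), (0, 0), (0, 0), (0, 0)⟩, ⟨(2, 0), (0, 0), (0, 0), (0, 0)⟩],
    [],
    [],
    [⟨(0, 0), (-2, 0), (0, 0), (0, 0)⟩, ⟨(0, 0), (2, 0), (0, 0), (0, 0)⟩],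
    [],
    []]

/-- Short icosians with given class and norm. -/
def tab4_2 : List (List Q) :=
  [[⟨(-1, 0), (-1, 0), (1, 0), (-1, 2)⟩, ⟨(-1, 0), (-1, 2), (-1, 0), (1, 0)⟩, ⟨(-1, 0), (1, 0), (-1, 2), (-1, 0)⟩, ⟨(-1, 2), (1, 0), (1, 0), (1, 0)⟩, ⟨(1, -2), (-1, 0), (-1, 0), (-1, 0)⟩, ⟨(1, 0), (-1, 0), (1, -2), (1, 0)⟩, ⟨(1, 0), (1, -2), (1, 0), (-1, 0)⟩, ⟨(1, 0), (1, 0), (-1, 0), (1, -2)⟩],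
    [],
    [],
    [],
    [],
    [],
    [],
    [⟨(-1, 0), (-1, 0), (-1, 0), (1, -2)⟩, ⟨(-1, 0), (-1, 2), (1, 0), (-1, 0)⟩, ⟨(-1, 0), (1, 0), (1, -2), (1, 0)⟩, ⟨(-1, 2), (1, 0), (-1, 0), (-1, 0)⟩, ⟨(1, -2), (-1, 0), (1, 0), (1, 0)⟩, ⟨(1, 0), (-1, 0), (-1, 2), (-1, 0)⟩, ⟨(1, 0), (1, -2), (-1, 0), (1, 0)⟩, ⟨(1, 0), (1, 0), (1, 0), (-1, 2)⟩],
    [],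
    [⟨(-1, 0), (-1, 0), (-1, 2), (1, 0)⟩, ⟨(-1, 0), (1, -2), (-1, 0), (-1, 0)⟩, ⟨(-1, 0), (1, 0), (1, 0), (1, -2)⟩, ⟨(-1, 2), (-1, 0), (1, 0), (-1, 0)⟩, ⟨(1, -2), (1, 0), (-1, 0), (1, 0)⟩, ⟨(1, 0), (-1, 0), (-1, 0), (-1, 2)⟩, ⟨(1, 0), (-1, 2), (1, 0), (1, 0)⟩, ⟨(1, 0), (1, 0), (1, -2), (-1, 0)⟩],
    [],
    [],
    [],
    [],
    [⟨(-1, 0), (-1, 0), (1, -2), (-1, 0)⟩, ⟨(-1, 0), (1, -2), (1, 0), (1, 0)⟩, ⟨(-1, 0), (1, 0), (-1, 0), (-1, 2)⟩, ⟨(-1, 2), (-1, 0), (-1, 0), (1, 0)⟩, ⟨(1, -2), (1, 0), (1, 0), (-1, 0)⟩, ⟨(1, 0), (-1, 0), (1, 0), (1, -2)⟩, ⟨(1, 0), (-1, 2), (-1, 0), (-1, 0)⟩, ⟨(1, 0), (1, 0), (-1, 2), (1, 0)⟩],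
    []]

/-- Short icosians with given class and norm. -/
def tab4_3 : List (List Q) :=
  [[],
    [],
    [],
    [⟨(-2, 0), (-2, 0), (0, 0), (-2, 0)⟩, ⟨(-2, 0), (-2, 0), (0, 0), (2, 0)⟩, ⟨(-2, 0), (2, 0), (0, 0), (-2, 0)⟩, ⟨(-2, 0), (2, 0), (0, 0), (2, 0)⟩, ⟨(-2, 2), (0, 0), (0, 0), (0, -2)⟩, ⟨(-2, 2), (0, 0), (0, 0), (0, 2)⟩, ⟨(0, -2), (-2, 2), (0, 0), (0, 0)⟩, ⟨(0, -2), (2, -2), (0, 0), (0, 0)⟩, ⟨(0, 0), (0, -2), (0, 0), (-2, 2)⟩, ⟨(0, 0), (0, -2), (0, 0), (2, -2)⟩, ⟨(0, 0), (0, 2), (0, 0), (-2, 2)⟩, ⟨(0, 0), (0, 2), (0, 0), (2, -2)⟩, ⟨(0, 2), (-2, 2), (0, 0), (0, 0)⟩, ⟨(0, 2), (2, -2), (0, 0), (0, 0)⟩, ⟨(2, -2), (0, 0), (0, 0), (0, -2)⟩, ⟨(2, -2), (0, 0), (0, 0), (0, 2)⟩, ⟨(2, 0), (-2, 0),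 (0, 0), (-2, 0)⟩, ⟨(2, 0), (-2, 0), (0, 0), (2, 0)⟩, ⟨(2, 0), (2, 0), (0, 0), (-2, 0)⟩, ⟨(2, 0), (2, 0), (0, 0), (2, 0)⟩],
    [⟨(-2, 0), (-2, 0), (-2, 0), (0, 0)⟩, ⟨(-2, 0), (-2, 0), (2, 0), (0, 0)⟩, ⟨(-2, 0), (2, 0), (-2, 0), (0, 0)⟩, ⟨(-2, 0), (2, 0), (2, 0), (0, 0)⟩, ⟨(-2, 2), (0, -2), (0, 0), (0, 0)⟩, ⟨(-2, 2), (0, 2), (0, 0), (0, 0)⟩, ⟨(0, -2), (0, 0), (-2, 2), (0, 0)⟩, ⟨(0, -2), (0, 0), (2, -2), (0, 0)⟩, ⟨(0, 0), (-2, 2), (0, -2), (0, 0)⟩, ⟨(0, 0), (-2, 2), (0, 2), (0, 0)⟩, ⟨(0, 0), (2, -2), (0, -2), (0, 0)⟩, ⟨(0, 0), (2, -2), (0, 2), (0, 0)⟩, ⟨(0, 2), (0, 0), (-2, 2), (0, 0)⟩, ⟨(0, 2), (0, 0), (2, -2), (0, 0)⟩, ⟨(2, -2), (0, -2), (0, 0), (0, 0)⟩, ⟨(2, -2), (0, 2), (0, 0), (0, 0)⟩, ⟨(2,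 0), (-2, 0), (-2, 0), (0, 0)⟩, ⟨(2, 0), (-2, 0), (2, 0), (0, 0)⟩, ⟨(2, 0), (2, 0), (-2, 0), (0, 0)⟩, ⟨(2, 0), (2, 0), (2, 0), (0, 0)⟩],
    [],
    [],
    [],
    [],
    [],
    [⟨(0, 0), (-2, 0), (-2, 0), (-2, 0)⟩, ⟨(0, 0), (-2, 0), (-2, 0), (2, 0)⟩, ⟨(0, 0), (-2, 0), (2, 0), (-2, 0)⟩, ⟨(0, 0), (-2, 0), (2, 0), (2, 0)⟩, ⟨(0, 0), (-2, 2), (0, 0), (0, -2)⟩, ⟨(0, 0), (-2, 2), (0, 0), (0, 2)⟩, ⟨(0, 0), (0, -2), (-2, 2), (0, 0)⟩, ⟨(0, 0), (0, -2), (2, -2), (0, 0)⟩, ⟨(0, 0), (0, 0), (0, -2), (-2, 2)⟩, ⟨(0, 0), (0, 0), (0, -2), (2, -2)⟩, ⟨(0, 0), (0, 0), (0, 2), (-2, 2)⟩, ⟨(0, 0), (0, 0), (0, 2), (2, -2)⟩, ⟨(0, 0), (0, 2), (-2, 2), (0, 0)⟩, ⟨(0, 0), (0, 2), (2, -2), (0, 0)⟩, ⟨(0, 0), (2, -2), (0,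 0), (0, -2)⟩, ⟨(0, 0), (2, -2), (0, 0), (0, 2)⟩, ⟨(0, 0), (2, 0), (-2, 0), (-2, 0)⟩, ⟨(0, 0), (2, 0), (-2, 0), (2, 0)⟩, ⟨(0, 0), (2, 0), (2, 0), (-2, 0)⟩, ⟨(0, 0), (2, 0), (2, 0), (2, 0)⟩],
    [],
    [],
    [⟨(-2, 0), (0, 0), (-2, 0), (-2, 0)⟩, ⟨(-2, 0), (0, 0), (-2, 0), (2, 0)⟩, ⟨(-2, 0), (0, 0), (2, 0), (-2, 0)⟩, ⟨(-2, 0), (0, 0), (2, 0), (2, 0)⟩, ⟨(-2, 2), (0, 0), (0, -2), (0, 0)⟩, ⟨(-2, 2), (0, 0), (0, 2), (0, 0)⟩, ⟨(0, -2), (0, 0), (0, 0), (-2, 2)⟩, ⟨(0, -2), (0, 0), (0, 0), (2, -2)⟩, ⟨(0, 0), (0, 0), (-2, 2), (0, -2)⟩, ⟨(0, 0), (0, 0), (-2, 2), (0, 2)⟩, ⟨(0, 0), (0, 0), (2, -2), (0, -2)⟩, ⟨(0, 0), (0, 0), (2, -2), (0, 2)⟩, ⟨(0, 2), (0, 0), (0, 0), (-2, 2)⟩, ⟨(0, 2), (0, 0), (0, 0), (2,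 -2)⟩, ⟨(2, -2), (0, 0), (0, -2), (0, 0)⟩, ⟨(2, -2), (0, 0), (0, 2), (0, 0)⟩, ⟨(2, 0), (0, 0), (-2, 0), (-2, 0)⟩, ⟨(2, 0), (0, 0), (-2, 0), (2, 0)⟩, ⟨(2, 0), (0, 0), (2, 0), (-2, 0)⟩, ⟨(2, 0), (0, 0), (2, 0), (2, 0)⟩],
    [],
    []]

/-- Short icosians with given class and norm. -/
def tab4_4 : List (List Q) :=
  [[⟨(-3, 0), (-1, 0), (1, -2), (1, 0)⟩, ⟨(-3, 0), (1, -2), (1, 0), (-1, 0)⟩, ⟨(-3, 0), (1, 0), (-1, 0), (1, -2)⟩, ⟨(-1, 0), (-3, 0), (-1, 2), (-1, 0)⟩, ⟨(-1, 0), (-1, 0), (-3, 0), (-1, 2)⟩, ⟨(-1, 0), (-1, 2), (-1, 0), (-3, 0)⟩, ⟨(-1, 0), (-1, 2), (3, 0), (1, 0)⟩, ⟨(-1, 0), (1, -2), (1, -2), (1, -2)⟩, ⟨(-1, 0), (1, 0), (-1, 2), (3, 0)⟩, ⟨(-1, 0), (3, 0), (1, 0), (-1, 2)⟩, ⟨(-1, 2), (-3,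 0), (1, 0), (1, 0)⟩, ⟨(-1, 2), (-1, 0), (-1, 2), (1, -2)⟩, ⟨(-1, 2), (-1, 2), (1, -2), (-1, 0)⟩, ⟨(-1, 2), (1, -2), (-1, 0), (-1, 2)⟩, ⟨(-1, 2), (1, 0), (-3, 0), (1, 0)⟩, ⟨(-1, 2), (1, 0), (1, 0), (-3, 0)⟩, ⟨(1, -2), (-1, 0), (-1, 0), (3, 0)⟩, ⟨(1, -2), (-1, 0), (3, 0), (-1, 0)⟩, ⟨(1, -2), (-1, 2), (1, 0), (1, -2)⟩, ⟨(1, -2), (1, -2), (-1, 2), (1, 0)⟩, ⟨(1, -2), (1, 0), (1, -2), (-1, 2)⟩, ⟨(1, -2), (3, 0), (-1, 0), (-1, 0)⟩, ⟨(1, 0), (-3, 0), (-1, 0), (1, -2)⟩, ⟨(1, 0), (-1, 0), (1, -2), (-3, 0)⟩, ⟨(1, 0), (-1, 2), (-1, 2), (-1, 2)⟩, ⟨(1, 0), (1, -2), (-3, 0), (-1, 0)⟩, ⟨(1, 0), (1, -2), (1, 0), (3, 0)⟩, ⟨(1, 0), (1, 0), (3, 0), (1, -2)⟩, ⟨(1, 0), (3, 0), (1, -2), (1, 0)⟩, ⟨(3, 0), (-1, 0), (1,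 0), (-1, 2)⟩, ⟨(3, 0), (-1, 2), (-1, 0), (1, 0)⟩, ⟨(3, 0), (1, 0), (-1, 2), (-1, 0)⟩],
    [],
    [],
    [],
    [],
    [],
    [],
    [⟨(-3, 0), (-1, 0), (-1, 2), (-1, 0)⟩, ⟨(-3, 0), (1, -2), (-1, 0), (1, 0)⟩, ⟨(-3, 0), (1, 0), (1, 0), (-1, 2)⟩, ⟨(-1, 0), (-3, 0), (1, -2), (1, 0)⟩, ⟨(-1, 0), (-1, 0), (3, 0), (1, -2)⟩, ⟨(-1, 0), (-1, 2), (-3, 0), (-1, 0)⟩, ⟨(-1, 0), (-1, 2), (1, 0), (3, 0)⟩, ⟨(-1, 0), (1, -2), (-1, 2), (-1, 2)⟩, ⟨(-1, 0), (1, 0), (1, -2), (-3, 0)⟩, ⟨(-1, 0), (3, 0), (-1, 0), (1, -2)⟩, ⟨(-1, 2), (-3, 0), (-1, 0), (-1, 0)⟩, ⟨(-1, 2), (-1, 0), (1, -2), (-1, 2)⟩, ⟨(-1, 2), (-1, 2), (-1, 2), (1, 0)⟩, ⟨(-1, 2), (1, -2), (1, 0), (1, -2)⟩, ⟨(-1, 2), (1, 0), (-1, 0), (3, 0)⟩, ⟨(-1,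 2), (1, 0), (3, 0), (-1, 0)⟩, ⟨(1, -2), (-1, 0), (-3, 0), (1, 0)⟩, ⟨(1, -2), (-1, 0), (1, 0), (-3, 0)⟩, ⟨(1, -2), (-1, 2), (-1, 0), (-1, 2)⟩, ⟨(1, -2), (1, -2), (1, -2), (-1, 0)⟩, ⟨(1, -2), (1, 0), (-1, 2), (1, -2)⟩, ⟨(1, -2), (3, 0), (1, 0), (1, 0)⟩, ⟨(1, 0), (-3, 0), (1, 0), (-1, 2)⟩, ⟨(1, 0), (-1, 0), (-1, 2), (3, 0)⟩, ⟨(1, 0), (-1, 2), (1, -2), (1, -2)⟩, ⟨(1, 0), (1, -2), (-1, 0), (-3, 0)⟩, ⟨(1, 0), (1, -2), (3, 0), (1, 0)⟩, ⟨(1, 0), (1, 0), (-3, 0), (-1, 2)⟩, ⟨(1, 0), (3, 0), (-1, 2), (-1, 0)⟩, ⟨(3, 0), (-1, 0), (-1, 0), (1, -2)⟩, ⟨(3, 0), (-1, 2), (1, 0), (-1, 0)⟩, ⟨(3, 0), (1, 0), (1, -2), (1, 0)⟩],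
    [],
    [⟨(-3, 0), (-1, 0), (-1, 0), (-1, 2)⟩, ⟨(-3, 0), (-1, 2), (1, 0), (1, 0)⟩, ⟨(-3, 0), (1, 0), (1, -2), (-1, 0)⟩, ⟨(-1, 0), (-3, 0), (1, 0), (1, -2)⟩, ⟨(-1, 0), (-1, 0), (-1, 2), (-3, 0)⟩, ⟨(-1, 0), (-1, 2), (1, -2), (-1, 2)⟩, ⟨(-1, 0), (1, -2), (-1, 0), (3, 0)⟩, ⟨(-1, 0), (1, -2), (3, 0), (-1, 0)⟩, ⟨(-1, 0), (1, 0), (-3, 0), (1, -2)⟩, ⟨(-1, 0), (3, 0), (-1, 2), (1, 0)⟩, ⟨(-1, 2), (-1, 0), (-3, 0), (-1, 0)⟩, ⟨(-1, 2), (-1, 0), (1, 0), (3, 0)⟩, ⟨(-1, 2), (-1, 2), (-1, 0), (1, -2)⟩, ⟨(-1, 2), (1, -2), (1, -2), (1, 0)⟩, ⟨(-1, 2), (1, 0), (-1, 2), (-1, 2)⟩, ⟨(-1, 2), (3, 0), (1, 0), (-1, 0)⟩, ⟨(1, -2), (-3, 0), (-1, 0), (1, 0)⟩, ⟨(1, -2), (-1, 0), (1, -2), (1, -2)⟩, ⟨(1, -2), (-1, 2), (-1,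 2), (-1, 0)⟩, ⟨(1, -2), (1, -2), (1, 0), (-1, 2)⟩, ⟨(1, -2), (1, 0), (-1, 0), (-3, 0)⟩, ⟨(1, -2), (1, 0), (3, 0), (1, 0)⟩, ⟨(1, 0), (-3, 0), (1, -2), (-1, 0)⟩, ⟨(1, 0), (-1, 0), (3, 0), (-1, 2)⟩, ⟨(1, 0), (-1, 2), (-3, 0), (1, 0)⟩, ⟨(1, 0), (-1, 2), (1, 0), (-3, 0)⟩, ⟨(1, 0), (1, -2), (-1, 2), (1, -2)⟩, ⟨(1, 0), (1, 0), (1, -2), (3, 0)⟩, ⟨(1, 0), (3, 0), (-1, 0), (-1, 2)⟩, ⟨(3, 0), (-1, 0), (-1, 2), (1, 0)⟩, ⟨(3, 0), (1, -2), (-1, 0), (-1, 0)⟩, ⟨(3, 0), (1, 0), (1, 0), (1, -2)⟩],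
    [],
    [],
    [],
    [],
    [⟨(-3, 0), (-1, 0), (1, 0), (1, -2)⟩, ⟨(-3, 0), (-1, 2), (-1, 0), (-1, 0)⟩, ⟨(-3, 0), (1, 0), (-1, 2), (1, 0)⟩, ⟨(-1, 0), (-3, 0), (-1, 0), (-1, 2)⟩, ⟨(-1, 0), (-1, 0), (1, -2), (3, 0)⟩, ⟨(-1, 0), (-1, 2), (-1, 2), (1, -2)⟩, ⟨(-1, 0), (1, -2), (-3, 0), (1, 0)⟩, ⟨(-1, 0), (1, -2), (1, 0), (-3, 0)⟩, ⟨(-1, 0), (1, 0), (3, 0), (-1, 2)⟩, ⟨(-1, 0), (3, 0), (1, -2), (-1, 0)⟩, ⟨(-1, 2), (-1, 0), (-1, 0), (-3, 0)⟩, ⟨(-1, 2), (-1, 0), (3, 0), (1, 0)⟩, ⟨(-1, 2), (-1, 2), (1, 0), (-1, 2)⟩, ⟨(-1, 2), (1, -2), (-1, 2), (-1, 0)⟩, ⟨(-1, 2), (1, 0), (1, -2), (1, -2)⟩, ⟨(-1, 2), (3, 0), (-1, 0), (1, 0)⟩, ⟨(1, -2), (-3, 0), (1, 0), (-1, 0)⟩, ⟨(1, -2), (-1, 0), (-1, 2), (-1, 2)⟩,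 ⟨(1, -2), (-1, 2), (1, -2), (1, 0)⟩, ⟨(1, -2), (1, -2), (-1, 0), (1, -2)⟩, ⟨(1, -2), (1, 0), (-3, 0), (-1, 0)⟩, ⟨(1, -2), (1, 0), (1, 0), (3, 0)⟩, ⟨(1, 0), (-3, 0), (-1, 2), (1, 0)⟩, ⟨(1, 0), (-1, 0), (-3, 0), (1, -2)⟩, ⟨(1, 0), (-1, 2), (-1, 0), (3, 0)⟩, ⟨(1, 0), (-1, 2), (3, 0), (-1, 0)⟩, ⟨(1, 0), (1, -2), (1, -2), (-1, 2)⟩, ⟨(1, 0), (1, 0), (-1, 2), (-3, 0)⟩, ⟨(1, 0), (3, 0), (1, 0), (1, -2)⟩, ⟨(3, 0), (-1, 0), (1, -2), (-1, 0)⟩, ⟨(3, 0), (1, -2), (1, 0), (1, 0)⟩, ⟨(3, 0), (1, 0), (-1, 0), (-1, 2)⟩],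
    []]

/-- Short icosians with given class and norm. -/
def tab4_5 : List (List Q) :=
  [[],
    [],
    [⟨(0, -1), (0, -1), (0, 1), (0, -1)⟩, ⟨(0, 1), (0, 1), (0, -1), (0, 1)⟩],
    [],
    [],
    [⟨(0, -1), (0, 1), (0, 1), (0, 1)⟩, ⟨(0, 1), (0, -1), (0, -1), (0, -1)⟩],
    [],
    [],
    [],
    [],
    [],
    [⟨(0, -1), (0, 1), (0, -1), (0, -1)⟩, ⟨(0, 1), (0, -1), (0, 1), (0, 1)⟩],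
    [⟨(0, -1), (0, -1), (0, -1), (0, 1)⟩, ⟨(0, 1), (0, 1), (0, 1), (0, -1)⟩],
    [],
    [],
    []]

/-- Short icosians with given class and norm. -/
def tab4_6 : List (List Q) :=
  [[],
    [⟨(-1, -1), (-1, -1), (-1, 1), (-1, 1)⟩, ⟨(-1, -1), (-1, 1), (1, 1), (1, -1)⟩, ⟨(-1, -1), (1, -1), (1, -1), (-1, -1)⟩, ⟨(-1, 1), (-1, -1), (1, -1), (1, 1)⟩, ⟨(-1, 1), (-1, 1), (-1, -1), (-1, -1)⟩, ⟨(-1, 1), (1, 1), (1, 1), (-1, 1)⟩, ⟨(1, -1), (-1, -1), (-1, -1), (1, -1)⟩, ⟨(1, -1), (1, -1), (1, 1), (1, 1)⟩, ⟨(1, -1), (1, 1), (-1, 1), (-1, -1)⟩, ⟨(1, 1), (-1, 1), (-1, 1), (1, 1)⟩, ⟨(1, 1), (1, -1), (-1, -1), (-1, 1)⟩, ⟨(1, 1), (1, 1), (1, -1), (1, -1)⟩],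
    [],
    [],
    [],
    [],
    [⟨(-1, -1), (-1, 1), (-1, 1), (-1, -1)⟩, ⟨(-1, -1), (1, -1), (-1, -1), (1, -1)⟩, ⟨(-1, -1), (1, 1), (1, -1), (-1, 1)⟩, ⟨(-1, 1), (-1, -1), (-1, -1), (-1, 1)⟩, ⟨(-1, 1), (1, -1), (1, 1), (-1, -1)⟩, ⟨(-1, 1), (1, 1), (-1, 1), (1, 1)⟩, ⟨(1, -1), (-1, -1), (1, -1), (-1, -1)⟩, ⟨(1, -1), (-1, 1), (-1, -1), (1, 1)⟩, ⟨(1, -1), (1, 1), (1, 1), (1, -1)⟩, ⟨(1, 1), (-1, -1), (-1, 1), (1, -1)⟩, ⟨(1, 1), (-1, 1), (1, 1), (-1, 1)⟩, ⟨(1, 1), (1, -1), (1, -1), (1, 1)⟩],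
    [],
    [⟨(-1, -1), (-1, -1), (1, -1), (1, -1)⟩, ⟨(-1, -1), (-1, 1), (-1, -1), (-1, 1)⟩, ⟨(-1, -1), (1, -1), (-1, 1), (1, 1)⟩, ⟨(-1, 1), (-1, -1), (-1, 1), (-1, -1)⟩, ⟨(-1, 1), (-1, 1), (1, 1), (1, 1)⟩, ⟨(-1, 1), (1, 1), (-1, -1), (1, -1)⟩, ⟨(1, -1), (-1, -1), (1, 1), (-1, 1)⟩, ⟨(1, -1), (1, -1), (-1, -1), (-1, -1)⟩, ⟨(1, -1), (1, 1), (1, -1), (1, 1)⟩, ⟨(1, 1), (-1, 1), (1, -1), (-1, -1)⟩, ⟨(1, 1), (1, -1), (1, 1), (1, -1)⟩, ⟨(1, 1), (1, 1), (-1, 1), (-1, 1)⟩],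
    [],
    [],
    [],
    [],
    [],
    [],
    [⟨(-1, -1), (-1, 1), (1, -1), (1, 1)⟩, ⟨(-1, -1), (1, -1), (1, 1), (-1, 1)⟩, ⟨(-1, -1), (1, 1), (-1, 1), (1, -1)⟩, ⟨(-1, 1), (-1, -1), (1, 1), (1, -1)⟩, ⟨(-1, 1), (1, -1), (-1, -1), (1, 1)⟩, ⟨(-1, 1), (1, 1), (1, -1), (-1, -1)⟩, ⟨(1, -1), (-1, -1), (-1, 1), (1, 1)⟩, ⟨(1, -1), (-1, 1), (1, 1), (-1, -1)⟩, ⟨(1, -1), (1, 1), (-1, -1), (-1, 1)⟩, ⟨(1, 1), (-1, -1), (1, -1), (-1, 1)⟩, ⟨(1, 1), (-1, 1), (-1, -1), (1, -1)⟩, ⟨(1, 1), (1, -1), (-1, 1), (-1, -1)⟩]]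

/-- Short icosians with given class and norm. -/
def tab4_7 : List (List Q) :=
  [[],
    [],
    [⟨(-2, 1), (0, -1), (-2, 1), (0, 1)⟩, ⟨(-2, 1), (0, 1), (0, 1), (2, -1)⟩, ⟨(-2, 1), (2, -1), (0, -1), (0, -1)⟩, ⟨(0, -1), (-2, 1), (0, -1), (2, -1)⟩, ⟨(0, -1), (0, 1), (-2, 1), (-2, 1)⟩, ⟨(0, -1), (2, -1), (2, -1), (0, 1)⟩, ⟨(0, 1), (-2, 1), (-2, 1), (0, -1)⟩, ⟨(0, 1), (0, -1), (2, -1), (2, -1)⟩, ⟨(0, 1), (2, -1), (0, 1), (-2, 1)⟩, ⟨(2, -1), (-2, 1), (0, 1), (0, 1)⟩, ⟨(2, -1), (0, -1), (0, -1), (-2, 1)⟩, ⟨(2, -1), (0, 1), (2, -1), (0, -1)⟩],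
    [],
    [],
    [⟨(-2, 1), (-2, 1), (0, -1), (0, 1)⟩, ⟨(-2, 1), (0, -1), (0, 1), (-2, 1)⟩, ⟨(-2, 1), (0, 1), (-2, 1), (0, -1)⟩, ⟨(0, -1), (-2, 1), (2, -1), (0, -1)⟩, ⟨(0, -1), (0, -1), (-2, 1), (2, -1)⟩, ⟨(0, -1), (2, -1), (0, -1), (-2, 1)⟩, ⟨(0, 1), (-2, 1), (0, 1), (2, -1)⟩, ⟨(0, 1), (0, 1), (2, -1), (-2, 1)⟩, ⟨(0, 1), (2, -1), (-2, 1), (0, 1)⟩, ⟨(2, -1), (0, -1), (2, -1), (0, 1)⟩, ⟨(2, -1), (0, 1), (0, -1), (2, -1)⟩, ⟨(2, -1), (2, -1), (0, 1), (0, -1)⟩],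
    [],
    [],
    [],
    [],
    [],
    [⟨(-2, 1), (-2, 1), (0, 1), (0, -1)⟩, ⟨(-2, 1), (0, -1), (0, -1), (2, -1)⟩, ⟨(-2, 1), (0, 1), (2, -1), (0, 1)⟩, ⟨(0, -1), (-2, 1), (-2, 1), (0, 1)⟩, ⟨(0, -1), (0, -1), (2, -1), (-2, 1)⟩, ⟨(0, -1), (2, -1), (0, 1), (2, -1)⟩, ⟨(0, 1), (-2, 1), (0, -1), (-2, 1)⟩, ⟨(0, 1), (0, 1), (-2, 1), (2, -1)⟩, ⟨(0, 1), (2, -1), (2, -1), (0, -1)⟩, ⟨(2, -1), (0, -1), (-2, 1), (0, -1)⟩, ⟨(2, -1), (0, 1), (0, 1), (-2, 1)⟩, ⟨(2, -1), (2, -1), (0, -1), (0, 1)⟩],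
    [⟨(-2, 1), (0, -1), (2, -1), (0, -1)⟩, ⟨(-2, 1), (0, 1), (0, -1), (-2, 1)⟩, ⟨(-2, 1), (2, -1), (0, 1), (0, 1)⟩, ⟨(0, -1), (-2, 1), (0, 1), (-2, 1)⟩, ⟨(0, -1), (0, 1), (2, -1), (2, -1)⟩, ⟨(0, -1), (2, -1), (-2, 1), (0, -1)⟩, ⟨(0, 1), (-2, 1), (2, -1), (0, 1)⟩, ⟨(0, 1), (0, -1), (-2, 1), (-2, 1)⟩, ⟨(0, 1), (2, -1), (0, -1), (2, -1)⟩, ⟨(2, -1), (-2, 1), (0, -1), (0, -1)⟩, ⟨(2, -1), (0, -1), (0, 1), (2, -1)⟩, ⟨(2, -1), (0, 1), (-2, 1), (0, 1)⟩],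
    [],
    [],
    []]

/-- Short icosians with given class and norm. -/
def tab4_8 : List (List Q) :=
  [[],
    [⟨(-1, 1), (1, -1), (-1, 1), (1, -1)⟩, ⟨(1, -1), (-1, 1), (1, -1), (-1, 1)⟩],
    [],
    [],
    [],
    [],
    [⟨(-1, 1), (-1, 1), (1, -1), (1, -1)⟩, ⟨(1, -1), (1, -1), (-1, 1), (-1, 1)⟩],
    [],
    [⟨(-1, 1), (1, -1), (1, -1), (-1, 1)⟩, ⟨(1, -1), (-1, 1), (-1, 1), (1, -1)⟩],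
    [],
    [],
    [],
    [],
    [],
    [],
    [⟨(-1, 1), (-1, 1), (-1, 1), (-1, 1)⟩, ⟨(1, -1), (1, -1), (1, -1), (1, -1)⟩]]

/-- Short icosians with given class. -/
def tab4 : List (List (List Q)) :=
  [tab4_0, tab4_1, tab4_2, tab4_3, tab4_4, tab4_5, tab4_6, tab4_7, tab4_8]

/-- Short icosians with given class and norm. -/
def tab5_0 : List (List Q) :=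
  [[],
    [],
    [],
    [],
    [],
    [],
    [],
    [],
    [],
    [],
    [],
    [],
    [],
    [],
    [],
    []]

/-- Short icosians with given class and norm. -/
def tab5_1 : List (List Q) :=
  [[],
    [⟨(0, 0), (-1, 0), (1, -1), (0, -1)⟩, ⟨(0, 0), (1, 0), (-1, 1), (0, 1)⟩],
    [],
    [⟨(-1, 1), (0, 1), (0, 0), (-1, 0)⟩, ⟨(1, -1), (0, -1), (0, 0), (1, 0)⟩],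
    [],
    [⟨(-1, 0), (0, 0), (0, 1), (1, -1)⟩, ⟨(1, 0), (0, 0), (0, -1), (-1, 1)⟩],
    [],
    [⟨(0, -1), (-1, 1), (-1, 0), (0, 0)⟩, ⟨(0, 1), (1, -1), (1, 0), (0, 0)⟩],
    [],
    [],
    [],
    [],
    [],
    [],
    [],
    []]

/-- Short icosians with given class and norm. -/
def tab5_2 : List (List Q) :=
  [[⟨(-2, 1), (-1, -1), (1, 0), (0, 0)⟩, ⟨(0, -1), (-1, 1), (1, 0), (-2, 0)⟩, ⟨(0, -1), (-1, 1), (1, 0), (2, 0)⟩, ⟨(0, -1), (1, -1), (1, -2), (0, 0)⟩, ⟨(0, 1), (-1, 1), (-1, 2), (0, 0)⟩, ⟨(0, 1), (1, -1), (-1, 0), (-2, 0)⟩, ⟨(0, 1), (1, -1), (-1, 0), (2, 0)⟩, ⟨(2, -1), (1, 1), (-1, 0), (0, 0)⟩],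
    [],
    [⟨(-1, 0), (-2, 0), (0, -1), (-1, 1)⟩, ⟨(-1, 0), (0, 0), (-2, 1), (-1, -1)⟩, ⟨(-1, 0), (2, 0), (0, -1), (-1, 1)⟩, ⟨(-1, 2), (0, 0), (0, -1), (1, -1)⟩, ⟨(1, -2), (0, 0), (0, 1), (-1, 1)⟩, ⟨(1, 0), (-2, 0), (0, 1), (1, -1)⟩, ⟨(1, 0), (0, 0), (2, -1), (1, 1)⟩, ⟨(1, 0), (2, 0), (0, 1), (1, -1)⟩],
    [],
    [⟨(-1, -1), (2, -1), (0, 0), (1, 0)⟩, ⟨(-1, 1), (0, -1), (0, 0), (-1, 2)⟩, ⟨(-1, 1), (0, 1), (-2, 0), (1, 0)⟩, ⟨(-1, 1), (0, 1), (2, 0), (1, 0)⟩, ⟨(1, -1), (0, -1), (-2, 0), (-1, 0)⟩, ⟨(1, -1), (0, -1), (2, 0), (-1, 0)⟩, ⟨(1, -1), (0, 1), (0, 0), (1, -2)⟩, ⟨(1, 1), (-2, 1), (0, 0), (-1, 0)⟩],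
    [],
    [⟨(-2, 0), (-1, 0), (-1, 1), (0, 1)⟩, ⟨(-2, 0), (1, 0), (1, -1), (0, -1)⟩, ⟨(0, 0), (-1, 0), (-1, -1), (2, -1)⟩, ⟨(0, 0), (-1, 2), (1, -1), (0, 1)⟩, ⟨(0, 0), (1, -2), (-1, 1), (0, -1)⟩, ⟨(0, 0), (1, 0), (1, 1), (-2, 1)⟩, ⟨(2, 0), (-1, 0), (-1, 1), (0, 1)⟩, ⟨(2, 0), (1, 0), (1, -1), (0, -1)⟩],
    [],
    [],
    [],
    [],
    [],
    [],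
    [],
    [],
    []]

/-- Short icosians with given class and norm. -/
def tab5_3 : List (List Q) :=
  [[],
    [⟨(-2, 0), (-1, 0), (1, 1), (-2, 1)⟩, ⟨(-2, 0), (-1, 2), (-1, 1), (0, -1)⟩, ⟨(-2, 0), (1, -2), (1, -1), (0, 1)⟩, ⟨(-2, 0), (1, 0), (-1, -1), (2, -1)⟩, ⟨(-2, 2), (-1, 0), (-1, -1), (0, 1)⟩, ⟨(-2, 2), (1, 0), (1, 1), (0, -1)⟩, ⟨(0, -2), (-1, 0), (-1, 1), (2, -1)⟩, ⟨(0, -2), (1, 0), (1, -1), (-2, 1)⟩, ⟨(0, 0), (-3, 0), (-1, 1), (0, 1)⟩, ⟨(0, 0), (-1, 2), (-1, -1), (-2, 1)⟩, ⟨(0, 0), (1, -2), (1, 1), (2, -1)⟩, ⟨(0, 0), (3, 0), (1, -1), (0, -1)⟩, ⟨(0, 2), (-1, 0), (-1, 1), (2, -1)⟩, ⟨(0, 2), (1, 0), (1, -1), (-2, 1)⟩, ⟨(2, -2), (-1, 0), (-1, -1), (0, 1)⟩, ⟨(2, -2), (1, 0), (1, 1), (0,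 -1)⟩, ⟨(2, 0), (-1, 0), (1, 1), (-2, 1)⟩, ⟨(2, 0), (-1, 2), (-1, 1), (0, -1)⟩, ⟨(2, 0), (1, -2), (1, -1), (0, 1)⟩, ⟨(2, 0), (1, 0), (-1, -1), (2, -1)⟩],
    [],
    [⟨(-1, -1), (-2, 1), (0, 0), (1, -2)⟩, ⟨(-1, -1), (0, 1), (-2, 2), (1, 0)⟩, ⟨(-1, -1), (0, 1), (2, -2), (1, 0)⟩, ⟨(-1, -1), (2, -1), (-2, 0), (-1, 0)⟩, ⟨(-1, -1), (2, -1), (2, 0), (-1, 0)⟩, ⟨(-1, 1), (0, -1), (-2, 0), (1, -2)⟩, ⟨(-1, 1), (0, -1), (2, 0), (1, -2)⟩, ⟨(-1, 1), (0, 1), (0, 0), (3, 0)⟩, ⟨(-1, 1), (2, -1), (0, -2), (1, 0)⟩, ⟨(-1, 1), (2, -1), (0, 2), (1, 0)⟩, ⟨(1, -1), (-2, 1), (0, -2), (-1, 0)⟩, ⟨(1, -1), (-2, 1), (0, 2), (-1, 0)⟩, ⟨(1, -1), (0, -1), (0, 0), (-3, 0)⟩, ⟨(1, -1), (0, 1), (-2, 0), (-1, 2)⟩, ⟨(1, -1), (0, 1),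 (2, 0), (-1, 2)⟩, ⟨(1, 1), (-2, 1), (-2, 0), (1, 0)⟩, ⟨(1, 1), (-2, 1), (2, 0), (1, 0)⟩, ⟨(1, 1), (0, -1), (-2, 2), (-1, 0)⟩, ⟨(1, 1), (0, -1), (2, -2), (-1, 0)⟩, ⟨(1, 1), (2, -1), (0, 0), (-1, 2)⟩],
    [],
    [⟨(-3, 0), (0, 0), (0, -1), (-1, 1)⟩, ⟨(-1, 0), (-2, 0), (2, -1), (1, 1)⟩, ⟨(-1, 0), (-2, 2), (0, -1), (-1, -1)⟩, ⟨(-1, 0), (0, -2), (-2, 1), (-1, 1)⟩, ⟨(-1, 0), (0, 2), (-2, 1), (-1, 1)⟩, ⟨(-1, 0), (2, -2), (0, -1), (-1, -1)⟩, ⟨(-1, 0), (2, 0), (2, -1), (1, 1)⟩, ⟨(-1, 2), (-2, 0), (0, 1), (-1, 1)⟩, ⟨(-1, 2), (0, 0), (2, -1), (-1, -1)⟩, ⟨(-1, 2), (2, 0), (0, 1), (-1, 1)⟩, ⟨(1, -2), (-2, 0), (0, -1), (1, -1)⟩, ⟨(1, -2), (0, 0), (-2, 1), (1, 1)⟩, ⟨(1, -2), (2, 0), (0, -1), (1, -1)⟩, ⟨(1,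 0), (-2, 0), (-2, 1), (-1, -1)⟩, ⟨(1, 0), (-2, 2), (0, 1), (1, 1)⟩, ⟨(1, 0), (0, -2), (2, -1), (1, -1)⟩, ⟨(1, 0), (0, 2), (2, -1), (1, -1)⟩, ⟨(1, 0), (2, -2), (0, 1), (1, 1)⟩, ⟨(1, 0), (2, 0), (-2, 1), (-1, -1)⟩, ⟨(3, 0), (0, 0), (0, 1), (1, -1)⟩],
    [],
    [⟨(-2, 1), (-1, -1), (-1, 0), (-2, 0)⟩, ⟨(-2, 1), (-1, -1), (-1, 0), (2, 0)⟩, ⟨(-2, 1), (-1, 1), (1, 0), (0, -2)⟩, ⟨(-2, 1), (-1, 1), (1, 0), (0, 2)⟩, ⟨(-2, 1), (1, 1), (-1, 2), (0, 0)⟩, ⟨(0, -1), (-1, -1), (1, 0), (-2, 2)⟩, ⟨(0, -1), (-1, -1), (1, 0), (2, -2)⟩, ⟨(0, -1), (-1, 1), (3, 0), (0, 0)⟩, ⟨(0, -1), (1, -1), (-1, 2), (-2, 0)⟩, ⟨(0, -1), (1, -1), (-1, 2), (2, 0)⟩, ⟨(0, 1), (-1, 1), (1, -2), (-2, 0)⟩, ⟨(0, 1), (-1, 1), (1, -2), (2,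 0)⟩, ⟨(0, 1), (1, -1), (-3, 0), (0, 0)⟩, ⟨(0, 1), (1, 1), (-1, 0), (-2, 2)⟩, ⟨(0, 1), (1, 1), (-1, 0), (2, -2)⟩, ⟨(2, -1), (-1, -1), (1, -2), (0, 0)⟩, ⟨(2, -1), (1, -1), (-1, 0), (0, -2)⟩, ⟨(2, -1), (1, -1), (-1, 0), (0, 2)⟩, ⟨(2, -1), (1, 1), (1, 0), (-2, 0)⟩, ⟨(2, -1), (1, 1), (1, 0), (2, 0)⟩],
    [],
    [],
    [],
    [],
    [],
    [],
    [],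
    []]

/-- Short icosians with given class and norm. -/
def tab5_4 : List (List Q) :=
  [[⟨(-2, -1), (-3, 1), (-1, 0), (0, 0)⟩, ⟨(-2, -1), (1, -1), (1, 0), (-2, 2)⟩, ⟨(-2, -1), (1, -1), (1, 0), (2, -2)⟩, ⟨(-2, 1), (-1, -1), (-3, 0), (0, 0)⟩, ⟨(-2, 1), (-1, 3), (1, 0), (0, 0)⟩, ⟨(-2, 1), (1, -1), (-1, 2), (0, -2)⟩, ⟨(-2, 1), (1, -1), (-1, 2), (0, 2)⟩, ⟨(-2, 1), (1, 1), (1, -2), (-2, 0)⟩, ⟨(-2, 1), (1, 1), (1, -2), (2, 0)⟩, ⟨(-2, 3), (1, 1), (-1, 0), (0, 0)⟩, ⟨(0, -1), (-1, 1), (-3, 0), (-2, 0)⟩, ⟨(0, -1), (-1, 1), (-3, 0), (2, 0)⟩, ⟨(0, -1), (1, 1), (-1, 2), (-2, 2)⟩, ⟨(0, -1), (1, 1), (-1, 2), (2, -2)⟩, ⟨(0, -1), (3, -1), (-1, 0), (0, -2)⟩, ⟨(0, -1), (3, -1), (-1, 0), (0, 2)⟩, ⟨(0, 1), (-3,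 1), (1, 0), (0, -2)⟩, ⟨(0, 1), (-3, 1), (1, 0), (0, 2)⟩, ⟨(0, 1), (-1, -1), (1, -2), (-2, 2)⟩, ⟨(0, 1), (-1, -1), (1, -2), (2, -2)⟩, ⟨(0, 1), (1, -1), (3, 0), (-2, 0)⟩, ⟨(0, 1), (1, -1), (3, 0), (2, 0)⟩, ⟨(2, -3), (-1, -1), (1, 0), (0, 0)⟩, ⟨(2, -1), (-1, -1), (-1, 2), (-2, 0)⟩, ⟨(2, -1), (-1, -1), (-1, 2), (2, 0)⟩, ⟨(2, -1), (-1, 1), (1, -2), (0, -2)⟩, ⟨(2, -1), (-1, 1), (1, -2), (0, 2)⟩, ⟨(2, -1), (1, -3), (-1, 0), (0, 0)⟩, ⟨(2, -1), (1, 1), (3, 0), (0, 0)⟩, ⟨(2, 1), (-1, 1), (-1, 0), (-2, 2)⟩, ⟨(2, 1), (-1, 1), (-1, 0), (2, -2)⟩, ⟨(2, 1), (3, -1), (1, 0), (0, 0)⟩],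
    [],
    [⟨(-3, 0), (-2, 0), (0, 1), (1, -1)⟩, ⟨(-3, 0), (0, 0), (2, -1), (1, 1)⟩, ⟨(-3, 0), (2, 0), (0, 1), (1, -1)⟩, ⟨(-1, 0), (-2, 2), (-2, -1), (1, -1)⟩, ⟨(-1, 0), (0, -2), (0, 1), (-3, 1)⟩, ⟨(-1, 0), (0, 0), (-2, 1), (-1, 3)⟩, ⟨(-1, 0), (0, 0), (2, -3), (-1, -1)⟩, ⟨(-1, 0), (0, 0), (2, 1), (3, -1)⟩, ⟨(-1, 0), (0, 2), (0, 1), (-3, 1)⟩, ⟨(-1, 0), (2, -2), (-2, -1), (1, -1)⟩, ⟨(-1, 2), (-2, 0), (-2, 1), (1, 1)⟩, ⟨(-1, 2), (-2, 2), (0, 1), (-1, -1)⟩, ⟨(-1, 2), (0, -2), (2, -1), (-1, 1)⟩, ⟨(-1, 2), (0, 2), (2, -1), (-1, 1)⟩, ⟨(-1, 2), (2, -2), (0, 1), (-1, -1)⟩, ⟨(-1, 2), (2, 0), (-2, 1), (1, 1)⟩, ⟨(1, -2), (-2, 0), (2, -1), (-1, -1)⟩, ⟨(1, -2), (-2, 2), (0, -1), (1, 1)⟩, ⟨(1, -2), (0, -2),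 (-2, 1), (1, -1)⟩, ⟨(1, -2), (0, 2), (-2, 1), (1, -1)⟩, ⟨(1, -2), (2, -2), (0, -1), (1, 1)⟩, ⟨(1, -2), (2, 0), (2, -1), (-1, -1)⟩, ⟨(1, 0), (-2, 2), (2, 1), (-1, 1)⟩, ⟨(1, 0), (0, -2), (0, -1), (3, -1)⟩, ⟨(1, 0), (0, 0), (-2, -1), (-3, 1)⟩, ⟨(1, 0), (0, 0), (-2, 3), (1, 1)⟩, ⟨(1, 0), (0, 0), (2, -1), (1, -3)⟩, ⟨(1, 0), (0, 2), (0, -1), (3, -1)⟩, ⟨(1, 0), (2, -2), (2, 1), (-1, 1)⟩, ⟨(3, 0), (-2, 0), (0, -1), (-1, 1)⟩, ⟨(3, 0), (0, 0), (-2, 1), (-1, -1)⟩, ⟨(3, 0), (2, 0), (0, -1), (-1, 1)⟩],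
    [],
    [⟨(-3, 1), (0, -1), (0, -2), (1, 0)⟩, ⟨(-3, 1), (0, -1), (0, 2), (1, 0)⟩, ⟨(-3, 1), (2, 1), (0, 0), (-1, 0)⟩, ⟨(-1, -1), (-2, 1), (-2, 0), (-1, 2)⟩, ⟨(-1, -1), (-2, 1), (2, 0), (-1, 2)⟩, ⟨(-1, -1), (-2, 3), (0, 0), (1, 0)⟩, ⟨(-1, -1), (0, -1), (-2, 2), (1, -2)⟩, ⟨(-1, -1), (0, -1), (2, -2), (1, -2)⟩, ⟨(-1, -1), (2, -1), (0, 0), (-3, 0)⟩, ⟨(-1, 1), (-2, -1), (-2, 2), (-1, 0)⟩, ⟨(-1, 1), (-2, -1), (2, -2), (-1, 0)⟩, ⟨(-1, 1), (-2, 1), (0, -2), (1, -2)⟩, ⟨(-1, 1), (-2, 1), (0, 2), (1, -2)⟩, ⟨(-1, 1), (0, 1), (-2, 0), (-3, 0)⟩, ⟨(-1, 1), (0, 1), (2, 0), (-3, 0)⟩, ⟨(-1, 3), (2, -1), (0, 0), (1, 0)⟩, ⟨(1, -3), (-2, 1), (0, 0), (-1, 0)⟩, ⟨(1, -1), (0, -1), (-2, 0), (3, 0)⟩, ⟨(1, -1), (0,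 -1), (2, 0), (3, 0)⟩, ⟨(1, -1), (2, -1), (0, -2), (-1, 2)⟩, ⟨(1, -1), (2, -1), (0, 2), (-1, 2)⟩, ⟨(1, -1), (2, 1), (-2, 2), (1, 0)⟩, ⟨(1, -1), (2, 1), (2, -2), (1, 0)⟩, ⟨(1, 1), (-2, 1), (0, 0), (3, 0)⟩, ⟨(1, 1), (0, 1), (-2, 2), (-1, 2)⟩, ⟨(1, 1), (0, 1), (2, -2), (-1, 2)⟩, ⟨(1, 1), (2, -3), (0, 0), (-1, 0)⟩, ⟨(1, 1), (2, -1), (-2, 0), (1, -2)⟩, ⟨(1, 1), (2, -1), (2, 0), (1, -2)⟩, ⟨(3, -1), (-2, -1), (0, 0), (1, 0)⟩, ⟨(3, -1), (0, 1), (0, -2), (-1, 0)⟩, ⟨(3, -1), (0, 1), (0, 2), (-1, 0)⟩],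
    [],
    [⟨(-2, 0), (-3, 0), (1, -1), (0, -1)⟩, ⟨(-2, 0), (-1, 2), (1, 1), (2, -1)⟩, ⟨(-2, 0), (1, -2), (-1, -1), (-2, 1)⟩, ⟨(-2, 0), (3, 0), (-1, 1), (0, 1)⟩, ⟨(-2, 2), (-1, 0), (1, -1), (2, 1)⟩, ⟨(-2, 2), (-1, 2), (-1, -1), (0, -1)⟩, ⟨(-2, 2), (1, -2), (1, 1), (0, 1)⟩, ⟨(-2, 2), (1, 0), (-1, 1), (-2, -1)⟩, ⟨(0, -2), (-1, 0), (-3, 1), (0, -1)⟩, ⟨(0, -2), (-1, 2), (-1, 1), (-2, 1)⟩, ⟨(0, -2), (1, -2), (1, -1), (2, -1)⟩, ⟨(0, -2), (1, 0), (3, -1), (0, 1)⟩, ⟨(0, 0), (-3, 0), (1, 1), (-2, 1)⟩, ⟨(0, 0), (-1, 0), (-1, -1), (-2, 3)⟩, ⟨(0, 0), (-1, 0), (-1, 3), (2, -1)⟩, ⟨(0, 0), (-1, 0), (3, -1), (-2, -1)⟩, ⟨(0, 0), (1, 0), (-3, 1), (2, 1)⟩, ⟨(0, 0), (1, 0), (1, -3), (-2, 1)⟩, ⟨(0, 0), (1, 0), (1,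 1), (2, -3)⟩, ⟨(0, 0), (3, 0), (-1, -1), (2, -1)⟩, ⟨(0, 2), (-1, 0), (-3, 1), (0, -1)⟩, ⟨(0, 2), (-1, 2), (-1, 1), (-2, 1)⟩, ⟨(0, 2), (1, -2), (1, -1), (2, -1)⟩, ⟨(0, 2), (1, 0), (3, -1), (0, 1)⟩, ⟨(2, -2), (-1, 0), (1, -1), (2, 1)⟩, ⟨(2, -2), (-1, 2), (-1, -1), (0, -1)⟩, ⟨(2, -2), (1, -2), (1, 1), (0, 1)⟩, ⟨(2, -2), (1, 0), (-1, 1), (-2, -1)⟩, ⟨(2, 0), (-3, 0), (1, -1), (0, -1)⟩, ⟨(2, 0), (-1, 2), (1, 1), (2, -1)⟩, ⟨(2, 0), (1, -2), (-1, -1), (-2, 1)⟩, ⟨(2, 0), (3, 0), (-1, 1), (0, 1)⟩],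
    [],
    [],
    [],
    [],
    [],
    [],
    [],
    [],
    []]

/-- Short icosians with given class and norm. -/
def tab5_5 : List (List Q) :=
  [[],
    [],
    [],
    [],
    [],
    [],
    [],
    [],
    [],
    [⟨(0, -1), (1, 1), (1, 0), (0, 0)⟩, ⟨(0, 1), (-1, -1), (-1, 0), (0, 0)⟩],
    [],
    [⟨(-1, 0), (0, 0), (0, -1), (1, 1)⟩, ⟨(1, 0), (0, 0), (0, 1), (-1, -1)⟩],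
    [],
    [⟨(-1, -1), (0, -1), (0, 0), (-1, 0)⟩, ⟨(1, 1), (0, 1), (0, 0), (1, 0)⟩],
    [],
    [⟨(0, 0), (-1, 0), (1, 1), (0, 1)⟩, ⟨(0, 0), (1, 0), (-1, -1), (0, -1)⟩]]

/-- Short icosians with given class and norm. -/
def tab5_6 : List (List Q) :=
  [[],
    [],
    [],
    [],
    [],
    [],
    [],
    [],
    [⟨(-2, 0), (-1, 0), (-1, -1), (0, -1)⟩, ⟨(-2, 0), (1, 0), (1, 1), (0, 1)⟩, ⟨(0, -2), (-1, 0), (1, -1), (0, 1)⟩, ⟨(0, -2), (1, 0), (-1, 1), (0, -1)⟩, ⟨(0, 0), (-1, 0), (-1, 1), (2, 1)⟩, ⟨(0, 0), (-1, 2), (1, 1), (0, -1)⟩, ⟨(0, 0), (1, -2), (-1, -1), (0, 1)⟩, ⟨(0, 0), (1, 0), (1, -1), (-2, -1)⟩, ⟨(0, 2), (-1, 0), (1, -1), (0, 1)⟩, ⟨(0, 2), (1, 0), (-1, 1), (0, -1)⟩, ⟨(2, 0), (-1, 0),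 (-1, -1), (0, -1)⟩, ⟨(2, 0), (1, 0), (1, 1), (0, 1)⟩],
    [],
    [⟨(-1, -1), (0, -1), (-2, 0), (1, 0)⟩, ⟨(-1, -1), (0, -1), (2, 0), (1, 0)⟩, ⟨(-1, -1), (0, 1), (0, 0), (-1, 2)⟩, ⟨(-1, 1), (0, -1), (0, -2), (-1, 0)⟩, ⟨(-1, 1), (0, -1), (0, 2), (-1, 0)⟩, ⟨(-1, 1), (2, 1), (0, 0), (1, 0)⟩, ⟨(1, -1), (-2, -1), (0, 0), (-1, 0)⟩, ⟨(1, -1), (0, 1), (0, -2), (1, 0)⟩, ⟨(1, -1), (0, 1), (0, 2), (1, 0)⟩, ⟨(1, 1), (0, -1), (0, 0), (1, -2)⟩, ⟨(1, 1), (0, 1), (-2, 0), (-1, 0)⟩, ⟨(1, 1), (0, 1), (2, 0), (-1, 0)⟩],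
    [],
    [⟨(-1, 0), (-2, 0), (0, 1), (-1, -1)⟩, ⟨(-1, 0), (0, -2), (0, -1), (1, -1)⟩, ⟨(-1, 0), (0, 0), (-2, -1), (-1, 1)⟩, ⟨(-1, 0), (0, 2), (0, -1), (1, -1)⟩, ⟨(-1, 0), (2, 0), (0, 1), (-1, -1)⟩, ⟨(-1, 2), (0, 0), (0, 1), (1, 1)⟩, ⟨(1, -2), (0, 0), (0, -1), (-1, -1)⟩, ⟨(1, 0), (-2, 0), (0, -1), (1, 1)⟩, ⟨(1, 0), (0, -2), (0, 1), (-1, 1)⟩, ⟨(1, 0), (0, 0), (2, 1), (1, -1)⟩, ⟨(1, 0), (0, 2), (0, 1), (-1, 1)⟩, ⟨(1, 0), (2, 0), (0, -1), (1, 1)⟩],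
    [],
    [⟨(-2, -1), (-1, 1), (1, 0), (0, 0)⟩, ⟨(0, -1), (-1, -1), (-1, 2), (0, 0)⟩, ⟨(0, -1), (1, -1), (1, 0), (0, -2)⟩, ⟨(0, -1), (1, -1), (1, 0), (0, 2)⟩, ⟨(0, -1), (1, 1), (-1, 0), (-2, 0)⟩, ⟨(0, -1), (1, 1), (-1, 0), (2, 0)⟩, ⟨(0, 1), (-1, -1), (1, 0), (-2, 0)⟩, ⟨(0, 1), (-1, -1), (1, 0), (2, 0)⟩, ⟨(0, 1), (-1, 1), (-1, 0), (0, -2)⟩, ⟨(0, 1), (-1, 1), (-1, 0), (0, 2)⟩, ⟨(0, 1), (1, 1), (1, -2), (0, 0)⟩, ⟨(2, 1), (1, -1), (-1, 0), (0, 0)⟩],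
    []]

/-- Short icosians with given class and norm. -/
def tab5_7 : List (List Q) :=
  [[],
    [],
    [],
    [],
    [],
    [],
    [],
    [],
    [],
    [⟨(-2, 1), (-1, 1), (1, -2), (0, 0)⟩, ⟨(-2, 1), (1, -1), (1, 0), (-2, 0)⟩, ⟨(-2, 1), (1, -1), (1, 0), (2, 0)⟩, ⟨(0, -1), (-3, 1), (1, 0), (0, 0)⟩, ⟨(0, -1), (1, -1), (-1, 0), (-2, 2)⟩, ⟨(0, -1), (1, -1), (-1, 0), (2, -2)⟩, ⟨(0, 1), (-1, 1), (1, 0), (-2, 2)⟩, ⟨(0, 1), (-1, 1), (1, 0), (2, -2)⟩, ⟨(0, 1), (3, -1), (-1, 0), (0, 0)⟩, ⟨(2, -1), (-1, 1), (-1, 0), (-2, 0)⟩, ⟨(2, -1), (-1, 1), (-1, 0), (2, 0)⟩, ⟨(2, -1), (1, -1), (-1, 2), (0, 0)⟩],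
    [],
    [⟨(-1, 0), (-2, 0), (-2, 1), (1, -1)⟩, ⟨(-1, 0), (-2, 2), (0, 1), (-1, 1)⟩, ⟨(-1, 0), (0, 0), (0, -1), (-3, 1)⟩, ⟨(-1, 0), (2, -2), (0, 1), (-1, 1)⟩, ⟨(-1, 0), (2, 0), (-2, 1), (1, -1)⟩, ⟨(-1, 2), (0, 0), (-2, 1), (-1, 1)⟩, ⟨(1, -2), (0, 0), (2, -1), (1, -1)⟩, ⟨(1, 0), (-2, 0), (2, -1), (-1, 1)⟩, ⟨(1, 0), (-2, 2), (0, -1), (1, -1)⟩, ⟨(1, 0), (0, 0), (0, 1), (3, -1)⟩, ⟨(1, 0), (2, -2), (0, -1), (1, -1)⟩, ⟨(1, 0), (2, 0), (2, -1), (-1, 1)⟩],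
    [],
    [⟨(-3, 1), (0, 1), (0, 0), (1, 0)⟩, ⟨(-1, 1), (-2, 1), (-2, 0), (-1, 0)⟩, ⟨(-1, 1), (-2, 1), (2, 0), (-1, 0)⟩, ⟨(-1, 1), (0, -1), (-2, 2), (1, 0)⟩, ⟨(-1, 1), (0, -1), (2, -2), (1, 0)⟩, ⟨(-1, 1), (2, -1), (0, 0), (1, -2)⟩, ⟨(1, -1), (-2, 1), (0, 0), (-1, 2)⟩, ⟨(1, -1), (0, 1), (-2, 2), (-1, 0)⟩, ⟨(1, -1), (0, 1), (2, -2), (-1, 0)⟩, ⟨(1, -1), (2, -1), (-2, 0), (1, 0)⟩, ⟨(1, -1), (2, -1), (2, 0), (1, 0)⟩, ⟨(3, -1), (0, -1), (0, 0), (-1, 0)⟩],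
    [],
    [⟨(-2, 0), (-1, 0), (1, -1), (2, -1)⟩, ⟨(-2, 0), (1, 0), (-1, 1), (-2, 1)⟩, ⟨(-2, 2), (-1, 0), (-1, 1), (0, -1)⟩, ⟨(-2, 2), (1, 0), (1, -1), (0, 1)⟩, ⟨(0, 0), (-1, 0), (-3, 1), (0, 1)⟩, ⟨(0, 0), (-1, 2), (-1, 1), (2, -1)⟩, ⟨(0, 0), (1, -2), (1, -1), (-2, 1)⟩, ⟨(0, 0), (1, 0), (3, -1), (0, -1)⟩, ⟨(2, -2), (-1, 0), (-1, 1), (0, -1)⟩, ⟨(2, -2), (1, 0), (1, -1), (0, 1)⟩, ⟨(2, 0), (-1, 0), (1, -1), (2, -1)⟩, ⟨(2, 0), (1, 0), (-1, 1), (-2, 1)⟩]]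

/-- Short icosians with given class and norm. -/
def tab5_8 : List (List Q) :=
  [[],
    [],
    [],
    [],
    [],
    [],
    [],
    [],
    [⟨(0, 0), (-1, 0), (-1, 1), (-2, 1)⟩, ⟨(0, 0), (1, 0), (1, -1), (2, -1)⟩],
    [],
    [⟨(-1, 1), (-2, 1), (0, 0), (1, 0)⟩, ⟨(1, -1), (2, -1), (0, 0), (-1, 0)⟩],
    [],
    [⟨(-1, 0), (0, 0), (2, -1), (-1, 1)⟩, ⟨(1, 0), (0, 0), (-2, 1), (1, -1)⟩],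
    [],
    [⟨(-2, 1), (1, -1), (-1, 0), (0, 0)⟩, ⟨(2, -1), (-1, 1), (1, 0), (0, 0)⟩],
    []]

/-- Short icosians with given class. -/
def tab5 : List (List (List Q)) :=
  [tab5_0, tab5_1, tab5_2, tab5_3, tab5_4, tab5_5, tab5_6, tab5_7, tab5_8]

/-- Short icosians with given class and norm. -/
def tab6_0 : List (List Q) :=
  [[],
    [],
    [],
    [],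
    [],
    [],
    [],
    [],
    [],
    [],
    [],
    [],
    [],
    [],
    [],
    []]

/-- Short icosians with given class and norm. -/
def tab6_1 : List (List Q) :=
  [[],
    [],
    [],
    [],
    [⟨(-1, 1), (-1, 0), (0, 1), (0, 0)⟩, ⟨(1, -1), (1, 0), (0, -1), (0, 0)⟩],
    [⟨(-1, 0), (1, -1), (0, 0), (0, 1)⟩, ⟨(1, 0), (-1, 1), (0, 0), (0, -1)⟩],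
    [],
    [],
    [⟨(0, 0), (0, -1), (-1, 0), (1, -1)⟩, ⟨(0, 0), (0, 1), (1, 0), (-1, 1)⟩],
    [⟨(0, -1), (0, 0), (-1, 1), (-1, 0)⟩, ⟨(0, 1), (0, 0), (1, -1), (1, 0)⟩],
    [],
    [],
    [],
    [],
    [],
    []]

/-- Short icosians with given class and norm. -/
def tab6_2 : List (List Q) :=
  [[⟨(-2, 1), (0, 0), (-1, -1), (1, 0)⟩, ⟨(0, -1), (-2, 0), (-1, 1), (1, 0)⟩, ⟨(0, -1), (0, 0), (1, -1), (1, -2)⟩, ⟨(0, -1), (2, 0), (-1, 1), (1, 0)⟩, ⟨(0, 1), (-2, 0), (1, -1), (-1, 0)⟩, ⟨(0, 1), (0, 0), (-1, 1), (-1, 2)⟩, ⟨(0, 1), (2, 0), (1, -1), (-1, 0)⟩, ⟨(2, -1), (0, 0), (1, 1), (-1, 0)⟩],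
    [⟨(-2, 0), (0, -1), (1, 0), (1, -1)⟩, ⟨(-2, 0), (0, 1), (-1, 0), (-1, 1)⟩, ⟨(0, 0), (-2, 1), (1, 0), (1, 1)⟩, ⟨(0, 0), (0, -1), (1, -2), (-1, 1)⟩, ⟨(0, 0), (0, 1), (-1, 2), (1, -1)⟩, ⟨(0, 0), (2, -1), (-1, 0), (-1, -1)⟩, ⟨(2, 0), (0, -1), (1, 0), (1, -1)⟩, ⟨(2, 0), (0, 1), (-1, 0), (-1, 1)⟩],
    [],
    [],
    [],
    [],
    [],
    [],
    [],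
    [],
    [],
    [],
    [⟨(-1, 0), (-1, -1), (0, 0), (-2, 1)⟩, ⟨(-1, 0), (-1, 1), (-2, 0), (0, -1)⟩, ⟨(-1, 0), (-1, 1), (2, 0), (0, -1)⟩, ⟨(-1, 2), (1, -1), (0, 0), (0, -1)⟩, ⟨(1, -2), (-1, 1), (0, 0), (0, 1)⟩, ⟨(1, 0), (1, -1), (-2, 0), (0, 1)⟩, ⟨(1, 0), (1, -1), (2, 0), (0, 1)⟩, ⟨(1, 0), (1, 1), (0, 0), (2, -1)⟩],
    [⟨(-1, -1), (1, 0), (2, -1), (0, 0)⟩, ⟨(-1, 1), (-1, 2), (0, -1), (0, 0)⟩, ⟨(-1, 1), (1, 0), (0, 1), (-2, 0)⟩, ⟨(-1, 1), (1, 0), (0, 1), (2, 0)⟩, ⟨(1, -1), (-1, 0), (0, -1), (-2, 0)⟩, ⟨(1, -1), (-1, 0), (0, -1), (2, 0)⟩, ⟨(1, -1), (1, -2), (0, 1), (0, 0)⟩, ⟨(1, 1), (-1, 0), (-2, 1), (0, 0)⟩],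
    [],
    []]

/-- Short icosians with given class and norm. -/
def tab6_3 : List (List Q) :=
  [[],
    [],
    [],
    [],
    [⟨(-1, -1), (-1, 0), (2, -1), (-2, 0)⟩, ⟨(-1, -1), (-1, 0), (2, -1), (2, 0)⟩, ⟨(-1, -1), (1, -2), (-2, 1), (0, 0)⟩, ⟨(-1, -1), (1, 0), (0, 1), (-2, 2)⟩, ⟨(-1, -1), (1, 0), (0, 1), (2, -2)⟩, ⟨(-1, 1), (1, -2), (0, -1), (-2, 0)⟩, ⟨(-1, 1), (1, -2), (0, -1), (2, 0)⟩, ⟨(-1, 1), (1, 0), (2, -1), (0, -2)⟩, ⟨(-1, 1), (1, 0), (2, -1), (0, 2)⟩, ⟨(-1, 1), (3, 0), (0, 1), (0, 0)⟩, ⟨(1, -1), (-3, 0), (0, -1), (0, 0)⟩, ⟨(1, -1), (-1, 0), (-2, 1), (0, -2)⟩, ⟨(1, -1), (-1, 0), (-2, 1), (0, 2)⟩, ⟨(1, -1), (-1, 2), (0, 1), (-2, 0)⟩, ⟨(1, -1), (-1, 2), (0, 1), (2, 0)⟩, ⟨(1, 1), (-1,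 0), (0, -1), (-2, 2)⟩, ⟨(1, 1), (-1, 0), (0, -1), (2, -2)⟩, ⟨(1, 1), (-1, 2), (2, -1), (0, 0)⟩, ⟨(1, 1), (1, 0), (-2, 1), (-2, 0)⟩, ⟨(1, 1), (1, 0), (-2, 1), (2, 0)⟩],
    [⟨(-3, 0), (-1, 1), (0, 0), (0, -1)⟩, ⟨(-1, 0), (-1, -1), (-2, 2), (0, -1)⟩, ⟨(-1, 0), (-1, -1), (2, -2), (0, -1)⟩, ⟨(-1, 0), (-1, 1), (0, -2), (-2, 1)⟩, ⟨(-1, 0), (-1, 1), (0, 2), (-2, 1)⟩, ⟨(-1, 0), (1, 1), (-2, 0), (2, -1)⟩, ⟨(-1, 0), (1, 1), (2, 0), (2, -1)⟩, ⟨(-1, 2), (-1, -1), (0, 0), (2, -1)⟩, ⟨(-1, 2), (-1, 1), (-2, 0), (0, 1)⟩, ⟨(-1, 2), (-1, 1), (2, 0), (0, 1)⟩, ⟨(1, -2), (1, -1), (-2, 0), (0, -1)⟩, ⟨(1, -2), (1, -1), (2, 0), (0, -1)⟩, ⟨(1, -2), (1, 1), (0, 0), (-2, 1)⟩, ⟨(1, 0), (-1, -1), (-2, 0), (-2, 1)⟩, ⟨(1, 0),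 (-1, -1), (2, 0), (-2, 1)⟩, ⟨(1, 0), (1, -1), (0, -2), (2, -1)⟩, ⟨(1, 0), (1, -1), (0, 2), (2, -1)⟩, ⟨(1, 0), (1, 1), (-2, 2), (0, 1)⟩, ⟨(1, 0), (1, 1), (2, -2), (0, 1)⟩, ⟨(3, 0), (1, -1), (0, 0), (0, 1)⟩],
    [],
    [],
    [⟨(-2, 0), (-2, 1), (-1, 0), (1, 1)⟩, ⟨(-2, 0), (0, -1), (-1, 2), (-1, 1)⟩, ⟨(-2, 0), (0, 1), (1, -2), (1, -1)⟩, ⟨(-2, 0), (2, -1), (1, 0), (-1, -1)⟩, ⟨(-2, 2), (0, -1), (1, 0), (1, 1)⟩, ⟨(-2, 2), (0, 1), (-1, 0), (-1, -1)⟩, ⟨(0, -2), (-2, 1), (1, 0), (1, -1)⟩, ⟨(0, -2), (2, -1), (-1, 0), (-1, 1)⟩, ⟨(0, 0), (-2, 1), (-1, 2), (-1, -1)⟩, ⟨(0, 0), (0, -1), (3, 0), (1, -1)⟩, ⟨(0, 0), (0, 1), (-3, 0), (-1, 1)⟩, ⟨(0, 0), (2, -1), (1, -2), (1, 1)⟩, ⟨(0, 2), (-2, 1), (1, 0), (1,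 -1)⟩, ⟨(0, 2), (2, -1), (-1, 0), (-1, 1)⟩, ⟨(2, -2), (0, -1), (1, 0), (1, 1)⟩, ⟨(2, -2), (0, 1), (-1, 0), (-1, -1)⟩, ⟨(2, 0), (-2, 1), (-1, 0), (1, 1)⟩, ⟨(2, 0), (0, -1), (-1, 2), (-1, 1)⟩, ⟨(2, 0), (0, 1), (1, -2), (1, -1)⟩, ⟨(2, 0), (2, -1), (1, 0), (-1, -1)⟩],
    [⟨(-2, 1), (-2, 0), (-1, -1), (-1, 0)⟩, ⟨(-2, 1), (0, -2), (-1, 1), (1, 0)⟩, ⟨(-2, 1), (0, 0), (1, 1), (-1, 2)⟩, ⟨(-2, 1), (0, 2), (-1, 1), (1, 0)⟩, ⟨(-2, 1), (2, 0), (-1, -1), (-1, 0)⟩, ⟨(0, -1), (-2, 0), (1, -1), (-1, 2)⟩, ⟨(0, -1), (-2, 2), (-1, -1), (1, 0)⟩, ⟨(0, -1), (0, 0), (-1, 1), (3, 0)⟩, ⟨(0, -1), (2, -2), (-1, -1), (1, 0)⟩, ⟨(0, -1), (2, 0), (1, -1), (-1, 2)⟩, ⟨(0, 1), (-2, 0), (-1, 1), (1, -2)⟩, ⟨(0, 1), (-2, 2), (1, 1),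 (-1, 0)⟩, ⟨(0, 1), (0, 0), (1, -1), (-3, 0)⟩, ⟨(0, 1), (2, -2), (1, 1), (-1, 0)⟩, ⟨(0, 1), (2, 0), (-1, 1), (1, -2)⟩, ⟨(2, -1), (-2, 0), (1, 1), (1, 0)⟩, ⟨(2, -1), (0, -2), (1, -1), (-1, 0)⟩, ⟨(2, -1), (0, 0), (-1, -1), (1, -2)⟩, ⟨(2, -1), (0, 2), (1, -1), (-1, 0)⟩, ⟨(2, -1), (2, 0), (1, 1), (1, 0)⟩],
    [],
    [],
    [],
    [],
    [],
    []]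

/-- Short icosians with given class and norm. -/
def tab6_4 : List (List Q) :=
  [[⟨(-2, -1), (-2, 2), (1, -1), (1, 0)⟩, ⟨(-2, -1), (0, 0), (-3, 1), (-1, 0)⟩, ⟨(-2, -1), (2, -2), (1, -1), (1, 0)⟩, ⟨(-2, 1), (-2, 0), (1, 1), (1, -2)⟩, ⟨(-2, 1), (0, -2), (1, -1), (-1, 2)⟩, ⟨(-2, 1), (0, 0), (-1, -1), (-3, 0)⟩, ⟨(-2, 1), (0, 0), (-1, 3), (1, 0)⟩, ⟨(-2, 1), (0, 2), (1, -1), (-1, 2)⟩, ⟨(-2, 1), (2, 0), (1, 1), (1, -2)⟩, ⟨(-2, 3), (0, 0), (1, 1), (-1, 0)⟩, ⟨(0, -1), (-2, 0), (-1, 1), (-3, 0)⟩, ⟨(0, -1), (-2, 2), (1, 1), (-1, 2)⟩, ⟨(0, -1), (0, -2), (3, -1), (-1, 0)⟩, ⟨(0, -1), (0, 2), (3, -1), (-1, 0)⟩, ⟨(0, -1), (2, -2), (1, 1), (-1, 2)⟩, ⟨(0, -1), (2, 0), (-1, 1), (-3, 0)⟩, ⟨(0, 1), (-2, 0), (1,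 -1), (3, 0)⟩, ⟨(0, 1), (-2, 2), (-1, -1), (1, -2)⟩, ⟨(0, 1), (0, -2), (-3, 1), (1, 0)⟩, ⟨(0, 1), (0, 2), (-3, 1), (1, 0)⟩, ⟨(0, 1), (2, -2), (-1, -1), (1, -2)⟩, ⟨(0, 1), (2, 0), (1, -1), (3, 0)⟩, ⟨(2, -3), (0, 0), (-1, -1), (1, 0)⟩, ⟨(2, -1), (-2, 0), (-1, -1), (-1, 2)⟩, ⟨(2, -1), (0, -2), (-1, 1), (1, -2)⟩, ⟨(2, -1), (0, 0), (1, -3), (-1, 0)⟩, ⟨(2, -1), (0, 0), (1, 1), (3, 0)⟩, ⟨(2, -1), (0, 2), (-1, 1), (1, -2)⟩, ⟨(2, -1), (2, 0), (-1, -1), (-1, 2)⟩, ⟨(2, 1), (-2, 2), (-1, 1), (-1, 0)⟩, ⟨(2, 1), (0, 0), (3, -1), (1, 0)⟩, ⟨(2, 1), (2, -2), (-1, 1), (-1, 0)⟩],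
    [⟨(-2, 0), (-2, 1), (1, -2), (-1, -1)⟩, ⟨(-2, 0), (0, -1), (-3, 0), (1, -1)⟩, ⟨(-2, 0), (0, 1), (3, 0), (-1, 1)⟩, ⟨(-2, 0), (2, -1), (-1, 2), (1, 1)⟩, ⟨(-2, 2), (-2, -1), (1, 0), (-1, 1)⟩, ⟨(-2, 2), (0, -1), (-1, 2), (-1, -1)⟩, ⟨(-2, 2), (0, 1), (1, -2), (1, 1)⟩, ⟨(-2, 2), (2, 1), (-1, 0), (1, -1)⟩, ⟨(0, -2), (-2, 1), (-1, 2), (-1, 1)⟩, ⟨(0, -2), (0, -1), (-1, 0), (-3, 1)⟩, ⟨(0, -2), (0, 1), (1, 0), (3, -1)⟩, ⟨(0, -2), (2, -1), (1, -2), (1, -1)⟩, ⟨(0, 0), (-2, -1), (-1, 0), (3, -1)⟩, ⟨(0, 0), (-2, 1), (-3, 0), (1, 1)⟩, ⟨(0, 0), (-2, 1), (1, 0), (1, -3)⟩, ⟨(0, 0), (-2, 3), (-1, 0), (-1, -1)⟩, ⟨(0, 0), (2, -3), (1, 0), (1, 1)⟩, ⟨(0, 0), (2, -1), (-1, 0), (-1, 3)⟩, ⟨(0, 0), (2, -1), (3, 0), (-1,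 -1)⟩, ⟨(0, 0), (2, 1), (1, 0), (-3, 1)⟩, ⟨(0, 2), (-2, 1), (-1, 2), (-1, 1)⟩, ⟨(0, 2), (0, -1), (-1, 0), (-3, 1)⟩, ⟨(0, 2), (0, 1), (1, 0), (3, -1)⟩, ⟨(0, 2), (2, -1), (1, -2), (1, -1)⟩, ⟨(2, -2), (-2, -1), (1, 0), (-1, 1)⟩, ⟨(2, -2), (0, -1), (-1, 2), (-1, -1)⟩, ⟨(2, -2), (0, 1), (1, -2), (1, 1)⟩, ⟨(2, -2), (2, 1), (-1, 0), (1, -1)⟩, ⟨(2, 0), (-2, 1), (1, -2), (-1, -1)⟩, ⟨(2, 0), (0, -1), (-3, 0), (1, -1)⟩, ⟨(2, 0), (0, 1), (3, 0), (-1, 1)⟩, ⟨(2, 0), (2, -1), (-1, 2), (1, 1)⟩],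
    [],
    [],
    [],
    [],
    [],
    [],
    [],
    [],
    [],
    [],
    [⟨(-3, 0), (1, -1), (-2, 0), (0, 1)⟩, ⟨(-3, 0), (1, -1), (2, 0), (0, 1)⟩, ⟨(-3, 0), (1, 1), (0, 0), (2, -1)⟩, ⟨(-1, 0), (-3, 1), (0, -2), (0, 1)⟩, ⟨(-1, 0), (-3, 1), (0, 2), (0, 1)⟩, ⟨(-1, 0), (-1, -1), (0, 0), (2, -3)⟩, ⟨(-1, 0), (-1, 3), (0, 0), (-2, 1)⟩, ⟨(-1, 0), (1, -1), (-2, 2), (-2, -1)⟩, ⟨(-1, 0), (1, -1), (2, -2), (-2, -1)⟩, ⟨(-1, 0), (3, -1), (0, 0), (2, 1)⟩, ⟨(-1, 2), (-1, -1), (-2, 2), (0, 1)⟩, ⟨(-1, 2), (-1, -1), (2, -2), (0, 1)⟩, ⟨(-1, 2), (-1, 1), (0, -2), (2, -1)⟩, ⟨(-1, 2), (-1, 1), (0, 2), (2, -1)⟩, ⟨(-1, 2), (1, 1), (-2, 0), (-2, 1)⟩, ⟨(-1, 2), (1, 1), (2, 0), (-2, 1)⟩, ⟨(1, -2), (-1, -1), (-2,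 0), (2, -1)⟩, ⟨(1, -2), (-1, -1), (2, 0), (2, -1)⟩, ⟨(1, -2), (1, -1), (0, -2), (-2, 1)⟩, ⟨(1, -2), (1, -1), (0, 2), (-2, 1)⟩, ⟨(1, -2), (1, 1), (-2, 2), (0, -1)⟩, ⟨(1, -2), (1, 1), (2, -2), (0, -1)⟩, ⟨(1, 0), (-3, 1), (0, 0), (-2, -1)⟩, ⟨(1, 0), (-1, 1), (-2, 2), (2, 1)⟩, ⟨(1, 0), (-1, 1), (2, -2), (2, 1)⟩, ⟨(1, 0), (1, -3), (0, 0), (2, -1)⟩, ⟨(1, 0), (1, 1), (0, 0), (-2, 3)⟩, ⟨(1, 0), (3, -1), (0, -2), (0, -1)⟩, ⟨(1, 0), (3, -1), (0, 2), (0, -1)⟩, ⟨(3, 0), (-1, -1), (0, 0), (-2, 1)⟩, ⟨(3, 0), (-1, 1), (-2, 0), (0, -1)⟩, ⟨(3, 0), (-1, 1), (2, 0), (0, -1)⟩],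
    [⟨(-3, 1), (-1, 0), (2, 1), (0, 0)⟩, ⟨(-3, 1), (1, 0), (0, -1), (0, -2)⟩, ⟨(-3, 1), (1, 0), (0, -1), (0, 2)⟩, ⟨(-1, -1), (-3, 0), (2, -1), (0, 0)⟩, ⟨(-1, -1), (-1, 2), (-2, 1), (-2, 0)⟩, ⟨(-1, -1), (-1, 2), (-2, 1), (2, 0)⟩, ⟨(-1, -1), (1, -2), (0, -1), (-2, 2)⟩, ⟨(-1, -1), (1, -2), (0, -1), (2, -2)⟩, ⟨(-1, -1), (1, 0), (-2, 3), (0, 0)⟩, ⟨(-1, 1), (-3, 0), (0, 1), (-2, 0)⟩, ⟨(-1, 1), (-3, 0), (0, 1), (2, 0)⟩, ⟨(-1, 1), (-1, 0), (-2, -1), (-2, 2)⟩, ⟨(-1, 1), (-1, 0), (-2, -1), (2, -2)⟩, ⟨(-1, 1), (1, -2), (-2, 1), (0, -2)⟩, ⟨(-1, 1), (1, -2), (-2, 1), (0, 2)⟩, ⟨(-1, 3), (1, 0), (2, -1), (0, 0)⟩, ⟨(1, -3), (-1, 0), (-2, 1), (0, 0)⟩, ⟨(1, -1), (-1, 2), (2, -1), (0, -2)⟩, ⟨(1, -1), (-1, 2), (2,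 -1), (0, 2)⟩, ⟨(1, -1), (1, 0), (2, 1), (-2, 2)⟩, ⟨(1, -1), (1, 0), (2, 1), (2, -2)⟩, ⟨(1, -1), (3, 0), (0, -1), (-2, 0)⟩, ⟨(1, -1), (3, 0), (0, -1), (2, 0)⟩, ⟨(1, 1), (-1, 0), (2, -3), (0, 0)⟩, ⟨(1, 1), (-1, 2), (0, 1), (-2, 2)⟩, ⟨(1, 1), (-1, 2), (0, 1), (2, -2)⟩, ⟨(1, 1), (1, -2), (2, -1), (-2, 0)⟩, ⟨(1, 1), (1, -2), (2, -1), (2, 0)⟩, ⟨(1, 1), (3, 0), (-2, 1), (0, 0)⟩, ⟨(3, -1), (-1, 0), (0, 1), (0, -2)⟩, ⟨(3, -1), (-1, 0), (0, 1), (0, 2)⟩, ⟨(3, -1), (1, 0), (-2, -1), (0, 0)⟩],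
    [],
    []]

/-- Short icosians with given class and norm. -/
def tab6_5 : List (List Q) :=
  [[],
    [],
    [⟨(-1, 0), (1, 1), (0, 0), (0, -1)⟩, ⟨(1, 0), (-1, -1), (0, 0), (0, 1)⟩],
    [⟨(-1, -1), (-1, 0), (0, -1), (0, 0)⟩, ⟨(1, 1), (1, 0), (0, 1), (0, 0)⟩],
    [],
    [],
    [],
    [],
    [],
    [],
    [],
    [],
    [],
    [],
    [⟨(0, -1), (0, 0), (1, 1), (1, 0)⟩, ⟨(0, 1), (0, 0), (-1, -1), (-1, 0)⟩],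
    [⟨(0, 0), (0, -1), (1, 0), (-1, -1)⟩, ⟨(0, 0), (0, 1), (-1, 0), (1, 1)⟩]]

/-- Short icosians with given class and norm. -/
def tab6_6 : List (List Q) :=
  [[],
    [],
    [],
    [],
    [],
    [],
    [⟨(-2, 0), (0, -1), (-1, 0), (-1, -1)⟩, ⟨(-2, 0), (0, 1), (1, 0), (1, 1)⟩, ⟨(0, -2), (0, -1), (1, 0), (-1, 1)⟩, ⟨(0, -2), (0, 1), (-1, 0), (1, -1)⟩, ⟨(0, 0), (-2, -1), (1, 0), (1, -1)⟩, ⟨(0, 0), (0, -1), (-1, 2), (1, 1)⟩, ⟨(0, 0), (0, 1), (1, -2), (-1, -1)⟩, ⟨(0, 0), (2, 1), (-1, 0), (-1, 1)⟩, ⟨(0, 2), (0, -1), (1, 0), (-1, 1)⟩, ⟨(0, 2), (0, 1), (-1, 0), (1, -1)⟩, ⟨(2, 0), (0, -1), (-1, 0), (-1, -1)⟩, ⟨(2, 0), (0, 1), (1, 0), (1, 1)⟩],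
    [⟨(-2, -1), (0, 0), (-1, 1), (1, 0)⟩, ⟨(0, -1), (-2, 0), (1, 1), (-1, 0)⟩, ⟨(0, -1), (0, -2), (1, -1), (1, 0)⟩, ⟨(0, -1), (0, 0), (-1, -1), (-1, 2)⟩, ⟨(0, -1), (0, 2), (1, -1), (1, 0)⟩, ⟨(0, -1), (2, 0), (1, 1), (-1, 0)⟩, ⟨(0, 1), (-2, 0), (-1, -1), (1, 0)⟩, ⟨(0, 1), (0, -2), (-1, 1), (-1, 0)⟩, ⟨(0, 1), (0, 0), (1, 1), (1, -2)⟩, ⟨(0, 1), (0, 2), (-1, 1), (-1, 0)⟩, ⟨(0, 1), (2, 0), (-1, -1), (1, 0)⟩, ⟨(2, 1), (0, 0), (1, -1), (-1, 0)⟩],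
    [],
    [],
    [⟨(-1, -1), (-1, 2), (0, 1), (0, 0)⟩, ⟨(-1, -1), (1, 0), (0, -1), (-2, 0)⟩, ⟨(-1, -1), (1, 0), (0, -1), (2, 0)⟩, ⟨(-1, 1), (-1, 0), (0, -1), (0, -2)⟩, ⟨(-1, 1), (-1, 0), (0, -1), (0, 2)⟩, ⟨(-1, 1), (1, 0), (2, 1), (0, 0)⟩, ⟨(1, -1), (-1, 0), (-2, -1), (0, 0)⟩, ⟨(1, -1), (1, 0), (0, 1), (0, -2)⟩, ⟨(1, -1), (1, 0), (0, 1), (0, 2)⟩, ⟨(1, 1), (-1, 0), (0, 1), (-2, 0)⟩, ⟨(1, 1), (-1, 0), (0, 1), (2, 0)⟩, ⟨(1, 1), (1, -2), (0, -1), (0, 0)⟩],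
    [⟨(-1, 0), (-1, -1), (-2, 0), (0, 1)⟩, ⟨(-1, 0), (-1, -1), (2, 0), (0, 1)⟩, ⟨(-1, 0), (-1, 1), (0, 0), (-2, -1)⟩, ⟨(-1, 0), (1, -1), (0, -2), (0, -1)⟩, ⟨(-1, 0), (1, -1), (0, 2), (0, -1)⟩, ⟨(-1, 2), (1, 1), (0, 0), (0, 1)⟩, ⟨(1, -2), (-1, -1), (0, 0), (0, -1)⟩, ⟨(1, 0), (-1, 1), (0, -2), (0, 1)⟩, ⟨(1, 0), (-1, 1), (0, 2), (0, 1)⟩, ⟨(1, 0), (1, -1), (0, 0), (2, 1)⟩, ⟨(1, 0), (1, 1), (-2, 0), (0, -1)⟩, ⟨(1, 0), (1, 1), (2, 0), (0, -1)⟩],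
    [],
    [],
    [],
    []]

/-- Short icosians with given class and norm. -/
def tab6_7 : List (List Q) :=
  [[],
    [],
    [⟨(-1, 0), (-3, 1), (0, 0), (0, -1)⟩, ⟨(-1, 0), (-1, 1), (-2, 2), (0, 1)⟩, ⟨(-1, 0), (-1, 1), (2, -2), (0, 1)⟩, ⟨(-1, 0), (1, -1), (-2, 0), (-2, 1)⟩, ⟨(-1, 0), (1, -1), (2, 0), (-2, 1)⟩, ⟨(-1, 2), (-1, 1), (0, 0), (-2, 1)⟩, ⟨(1, -2), (1, -1), (0, 0), (2, -1)⟩, ⟨(1, 0), (-1, 1), (-2, 0), (2, -1)⟩, ⟨(1, 0), (-1, 1), (2, 0), (2, -1)⟩, ⟨(1, 0), (1, -1), (-2, 2), (0, -1)⟩, ⟨(1, 0), (1, -1), (2, -2), (0, -1)⟩, ⟨(1, 0), (3, -1), (0, 0), (0, 1)⟩],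
    [⟨(-3, 1), (1, 0), (0, 1), (0, 0)⟩, ⟨(-1, 1), (-1, 0), (-2, 1), (-2, 0)⟩, ⟨(-1, 1), (-1, 0), (-2, 1), (2, 0)⟩, ⟨(-1, 1), (1, -2), (2, -1), (0, 0)⟩, ⟨(-1, 1), (1, 0), (0, -1), (-2, 2)⟩, ⟨(-1, 1), (1, 0), (0, -1), (2, -2)⟩, ⟨(1, -1), (-1, 0), (0, 1), (-2, 2)⟩, ⟨(1, -1), (-1, 0), (0, 1), (2, -2)⟩, ⟨(1, -1), (-1, 2), (-2, 1), (0, 0)⟩, ⟨(1, -1), (1, 0), (2, -1), (-2, 0)⟩, ⟨(1, -1), (1, 0), (2, -1), (2, 0)⟩, ⟨(3, -1), (-1, 0), (0, -1), (0, 0)⟩],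
    [],
    [],
    [],
    [],
    [],
    [],
    [],
    [],
    [],
    [],
    [⟨(-2, 1), (-2, 0), (1, -1), (1, 0)⟩, ⟨(-2, 1), (0, 0), (-1, 1), (1, -2)⟩, ⟨(-2, 1), (2, 0), (1, -1), (1, 0)⟩, ⟨(0, -1), (-2, 2), (1, -1), (-1, 0)⟩, ⟨(0, -1), (0, 0), (-3, 1), (1, 0)⟩, ⟨(0, -1), (2, -2), (1, -1), (-1, 0)⟩, ⟨(0, 1), (-2, 2), (-1, 1), (1, 0)⟩, ⟨(0, 1), (0, 0), (3, -1), (-1, 0)⟩, ⟨(0, 1), (2, -2), (-1, 1), (1, 0)⟩, ⟨(2, -1), (-2, 0), (-1, 1), (-1, 0)⟩, ⟨(2, -1), (0, 0), (1, -1), (-1, 2)⟩, ⟨(2, -1), (2, 0), (-1, 1), (-1, 0)⟩],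
    [⟨(-2, 0), (-2, 1), (1, 0), (-1, 1)⟩, ⟨(-2, 0), (2, -1), (-1, 0), (1, -1)⟩, ⟨(-2, 2), (0, -1), (-1, 0), (-1, 1)⟩, ⟨(-2, 2), (0, 1), (1, 0), (1, -1)⟩, ⟨(0, 0), (-2, 1), (1, -2), (1, -1)⟩, ⟨(0, 0), (0, -1), (1, 0), (3, -1)⟩, ⟨(0, 0), (0, 1), (-1, 0), (-3, 1)⟩, ⟨(0, 0), (2, -1), (-1, 2), (-1, 1)⟩, ⟨(2, -2), (0, -1), (-1, 0), (-1, 1)⟩, ⟨(2, -2), (0, 1), (1, 0), (1, -1)⟩, ⟨(2, 0), (-2, 1), (1, 0), (-1, 1)⟩, ⟨(2, 0), (2, -1), (-1, 0), (1, -1)⟩]]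

/-- Short icosians with given class and norm. -/
def tab6_8 : List (List Q) :=
  [[],
    [],
    [],
    [],
    [],
    [],
    [⟨(0, 0), (-2, 1), (-1, 0), (-1, 1)⟩, ⟨(0, 0), (2, -1), (1, 0), (1, -1)⟩],
    [⟨(-2, 1), (0, 0), (1, -1), (-1, 0)⟩, ⟨(2, -1), (0, 0), (-1, 1), (1, 0)⟩],
    [],
    [],
    [⟨(-1, 1), (1, 0), (-2, 1), (0, 0)⟩, ⟨(1, -1), (-1, 0), (2, -1), (0, 0)⟩],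
    [⟨(-1, 0), (-1, 1), (0, 0), (2, -1)⟩, ⟨(1, 0), (1, -1), (0, 0), (-2, 1)⟩],
    [],
    [],
    [],
    []]

/-- Short icosians with given class. -/
def tab6 : List (List (List Q)) :=
  [tab6_0, tab6_1, tab6_2, tab6_3, tab6_4, tab6_5, tab6_6, tab6_7, tab6_8]

/-- Short icosians with given class and norm. -/
def tab7_0 : List (List Q) :=
  [[],
    [],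
    [],
    [],
    [],
    [],
    [],
    [],
    [],
    [],
    [],
    [],
    [],
    [],
    [],
    []]

/-- Short icosians with given class and norm. -/
def tab7_1 : List (List Q) :=
  [[],
    [],
    [],
    [],
    [],
    [],
    [],
    [],
    [⟨(-1, 1), (0, 0), (1, 0), (0, -1)⟩, ⟨(1, -1), (0, 0), (-1, 0), (0, 1)⟩],
    [],
    [⟨(0, 0), (-1, 1), (0, -1), (-1, 0)⟩, ⟨(0, 0), (1, -1), (0, 1), (1, 0)⟩],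
    [],
    [⟨(0, -1), (-1, 0), (0, 0), (1, -1)⟩, ⟨(0, 1), (1, 0), (0, 0), (-1, 1)⟩],
    [],
    [⟨(-1, 0), (0, 1), (-1, 1), (0, 0)⟩, ⟨(1, 0), (0, -1), (1, -1), (0, 0)⟩],
    []]

/-- Short icosians with given class and norm. -/
def tab7_2 : List (List Q) :=
  [[⟨(-1, 0), (-2, 1), (1, 1), (0, 0)⟩, ⟨(-1, 0), (0, -1), (1, -1), (-2, 0)⟩, ⟨(-1, 0), (0, -1), (1, -1), (2, 0)⟩, ⟨(-1, 2), (0, -1), (-1, 1), (0, 0)⟩, ⟨(1, -2), (0, 1), (1, -1), (0, 0)⟩, ⟨(1, 0), (0, 1), (-1, 1), (-2, 0)⟩, ⟨(1, 0), (0, 1), (-1, 1), (2, 0)⟩, ⟨(1, 0), (2, -1), (-1, -1), (0, 0)⟩],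
    [],
    [⟨(-2, 1), (1, 0), (0, 0), (1, 1)⟩, ⟨(0, -1), (1, -2), (0, 0), (-1, 1)⟩, ⟨(0, -1), (1, 0), (-2, 0), (1, -1)⟩, ⟨(0, -1), (1, 0), (2, 0), (1, -1)⟩, ⟨(0, 1), (-1, 0), (-2, 0), (-1, 1)⟩, ⟨(0, 1), (-1, 0), (2, 0), (-1, 1)⟩, ⟨(0, 1), (-1, 2), (0, 0), (1, -1)⟩, ⟨(2, -1), (-1, 0), (0, 0), (-1, -1)⟩],
    [],
    [⟨(-2, 0), (-1, 1), (0, -1), (1, 0)⟩, ⟨(-2, 0), (1, -1), (0, 1), (-1, 0)⟩, ⟨(0, 0), (-1, -1), (-2, 1), (1, 0)⟩, ⟨(0, 0), (-1, 1), (0, 1), (-1, 2)⟩, ⟨(0, 0), (1, -1), (0, -1), (1, -2)⟩, ⟨(0, 0), (1, 1), (2, -1), (-1, 0)⟩, ⟨(2, 0), (-1, 1), (0, -1), (1, 0)⟩, ⟨(2, 0), (1, -1), (0, 1), (-1, 0)⟩],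
    [],
    [⟨(-1, -1), (0, 0), (-1, 0), (-2, 1)⟩, ⟨(-1, 1), (-2, 0), (-1, 0), (0, -1)⟩, ⟨(-1, 1), (0, 0), (1, -2), (0, 1)⟩, ⟨(-1, 1), (2, 0), (-1, 0), (0, -1)⟩, ⟨(1, -1), (-2, 0), (1, 0), (0, 1)⟩, ⟨(1, -1), (0, 0), (-1, 2), (0, -1)⟩, ⟨(1, -1), (2, 0), (1, 0), (0, 1)⟩, ⟨(1, 1), (0, 0), (1, 0), (2, -1)⟩],
    [],
    [],
    [],
    [],
    [],
    [],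
    [],
    [],
    []]

/-- Short icosians with given class and norm. -/
def tab7_3 : List (List Q) :=
  [[],
    [],
    [],
    [],
    [],
    [],
    [],
    [],
    [⟨(-1, -1), (-2, 0), (1, 0), (-2, 1)⟩, ⟨(-1, -1), (-2, 2), (-1, 0), (0, -1)⟩, ⟨(-1, -1), (0, 0), (-1, 2), (2, -1)⟩, ⟨(-1, -1), (2, -2), (-1, 0), (0, -1)⟩, ⟨(-1, -1), (2, 0), (1, 0), (-2, 1)⟩, ⟨(-1, 1), (-2, 0), (-1, 2), (0, 1)⟩, ⟨(-1, 1), (0, -2), (-1, 0), (-2, 1)⟩, ⟨(-1, 1), (0, 0), (-3, 0), (0, -1)⟩, ⟨(-1, 1), (0, 2), (-1, 0), (-2, 1)⟩, ⟨(-1, 1), (2, 0), (-1, 2), (0, 1)⟩, ⟨(1, -1), (-2, 0), (1, -2), (0, -1)⟩, ⟨(1, -1), (0, -2), (1, 0), (2, -1)⟩, ⟨(1, -1), (0, 0), (3, 0), (0, 1)⟩, ⟨(1, -1), (0, 2), (1, 0), (2, -1)⟩, ⟨(1, -1),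 (2, 0), (1, -2), (0, -1)⟩, ⟨(1, 1), (-2, 0), (-1, 0), (2, -1)⟩, ⟨(1, 1), (-2, 2), (1, 0), (0, 1)⟩, ⟨(1, 1), (0, 0), (1, -2), (-2, 1)⟩, ⟨(1, 1), (2, -2), (1, 0), (0, 1)⟩, ⟨(1, 1), (2, 0), (-1, 0), (2, -1)⟩],
    [],
    [⟨(-2, 0), (-1, -1), (-2, 1), (-1, 0)⟩, ⟨(-2, 0), (-1, 1), (0, 1), (1, -2)⟩, ⟨(-2, 0), (1, -1), (0, -1), (-1, 2)⟩, ⟨(-2, 0), (1, 1), (2, -1), (1, 0)⟩, ⟨(-2, 2), (-1, -1), (0, -1), (1, 0)⟩, ⟨(-2, 2), (1, 1), (0, 1), (-1, 0)⟩, ⟨(0, -2), (-1, 1), (-2, 1), (1, 0)⟩, ⟨(0, -2), (1, -1), (2, -1), (-1, 0)⟩, ⟨(0, 0), (-1, -1), (2, -1), (1, -2)⟩, ⟨(0, 0), (-1, 1), (0, -1), (3, 0)⟩, ⟨(0, 0), (1, -1), (0, 1), (-3, 0)⟩, ⟨(0, 0), (1, 1), (-2, 1), (-1, 2)⟩, ⟨(0, 2), (-1, 1), (-2, 1), (1, 0)⟩, ⟨(0,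 2), (1, -1), (2, -1), (-1, 0)⟩, ⟨(2, -2), (-1, -1), (0, -1), (1, 0)⟩, ⟨(2, -2), (1, 1), (0, 1), (-1, 0)⟩, ⟨(2, 0), (-1, -1), (-2, 1), (-1, 0)⟩, ⟨(2, 0), (-1, 1), (0, 1), (1, -2)⟩, ⟨(2, 0), (1, -1), (0, -1), (-1, 2)⟩, ⟨(2, 0), (1, 1), (2, -1), (1, 0)⟩],
    [],
    [⟨(-2, 1), (-1, 0), (-2, 0), (1, 1)⟩, ⟨(-2, 1), (-1, 0), (2, 0), (1, 1)⟩, ⟨(-2, 1), (-1, 2), (0, 0), (-1, -1)⟩, ⟨(-2, 1), (1, 0), (0, -2), (1, -1)⟩, ⟨(-2, 1), (1, 0), (0, 2), (1, -1)⟩, ⟨(0, -1), (-1, 2), (-2, 0), (-1, 1)⟩, ⟨(0, -1), (-1, 2), (2, 0), (-1, 1)⟩, ⟨(0, -1), (1, 0), (-2, 2), (1, 1)⟩, ⟨(0, -1), (1, 0), (2, -2), (1, 1)⟩, ⟨(0, -1), (3, 0), (0, 0), (1, -1)⟩, ⟨(0, 1), (-3, 0), (0, 0), (-1, 1)⟩, ⟨(0, 1), (-1, 0), (-2, 2), (-1, -1)⟩,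 ⟨(0, 1), (-1, 0), (2, -2), (-1, -1)⟩, ⟨(0, 1), (1, -2), (-2, 0), (1, -1)⟩, ⟨(0, 1), (1, -2), (2, 0), (1, -1)⟩, ⟨(2, -1), (-1, 0), (0, -2), (-1, 1)⟩, ⟨(2, -1), (-1, 0), (0, 2), (-1, 1)⟩, ⟨(2, -1), (1, -2), (0, 0), (1, 1)⟩, ⟨(2, -1), (1, 0), (-2, 0), (-1, -1)⟩, ⟨(2, -1), (1, 0), (2, 0), (-1, -1)⟩],
    [],
    [⟨(-3, 0), (0, -1), (1, -1), (0, 0)⟩, ⟨(-1, 0), (-2, 1), (1, -1), (0, -2)⟩, ⟨(-1, 0), (-2, 1), (1, -1), (0, 2)⟩, ⟨(-1, 0), (0, -1), (1, 1), (-2, 2)⟩, ⟨(-1, 0), (0, -1), (1, 1), (2, -2)⟩, ⟨(-1, 0), (2, -1), (-1, -1), (-2, 0)⟩, ⟨(-1, 0), (2, -1), (-1, -1), (2, 0)⟩, ⟨(-1, 2), (0, 1), (1, -1), (-2, 0)⟩, ⟨(-1, 2), (0, 1), (1, -1), (2, 0)⟩, ⟨(-1, 2), (2, -1), (1, 1), (0, 0)⟩, ⟨(1, -2), (-2, 1),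 (-1, -1), (0, 0)⟩, ⟨(1, -2), (0, -1), (-1, 1), (-2, 0)⟩, ⟨(1, -2), (0, -1), (-1, 1), (2, 0)⟩, ⟨(1, 0), (-2, 1), (1, 1), (-2, 0)⟩, ⟨(1, 0), (-2, 1), (1, 1), (2, 0)⟩, ⟨(1, 0), (0, 1), (-1, -1), (-2, 2)⟩, ⟨(1, 0), (0, 1), (-1, -1), (2, -2)⟩, ⟨(1, 0), (2, -1), (-1, 1), (0, -2)⟩, ⟨(1, 0), (2, -1), (-1, 1), (0, 2)⟩, ⟨(3, 0), (0, 1), (-1, 1), (0, 0)⟩],
    []]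

/-- Short icosians with given class and norm. -/
def tab7_4 : List (List Q) :=
  [[⟨(-3, 0), (0, 1), (-1, 1), (-2, 0)⟩, ⟨(-3, 0), (0, 1), (-1, 1), (2, 0)⟩, ⟨(-3, 0), (2, -1), (-1, -1), (0, 0)⟩, ⟨(-1, 0), (-2, -1), (-1, 1), (-2, 2)⟩, ⟨(-1, 0), (-2, -1), (-1, 1), (2, -2)⟩, ⟨(-1, 0), (-2, 1), (1, -3), (0, 0)⟩, ⟨(-1, 0), (0, 1), (3, -1), (0, -2)⟩, ⟨(-1, 0), (0, 1), (3, -1), (0, 2)⟩, ⟨(-1, 0), (2, -3), (1, 1), (0, 0)⟩, ⟨(-1, 0), (2, 1), (-3, 1), (0, 0)⟩, ⟨(-1, 2), (-2, 1), (-1, -1), (-2, 0)⟩, ⟨(-1, 2), (-2, 1), (-1, -1), (2, 0)⟩, ⟨(-1, 2), (0, 1), (1, 1), (-2, 2)⟩, ⟨(-1, 2), (0, 1), (1, 1), (2, -2)⟩, ⟨(-1, 2), (2, -1), (1, -1), (0, -2)⟩, ⟨(-1, 2), (2, -1), (1, -1), (0, 2)⟩, ⟨(1, -2), (-2, 1), (-1,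 1), (0, -2)⟩, ⟨(1, -2), (-2, 1), (-1, 1), (0, 2)⟩, ⟨(1, -2), (0, -1), (-1, -1), (-2, 2)⟩, ⟨(1, -2), (0, -1), (-1, -1), (2, -2)⟩, ⟨(1, -2), (2, -1), (1, 1), (-2, 0)⟩, ⟨(1, -2), (2, -1), (1, 1), (2, 0)⟩, ⟨(1, 0), (-2, -1), (3, -1), (0, 0)⟩, ⟨(1, 0), (-2, 3), (-1, -1), (0, 0)⟩, ⟨(1, 0), (0, -1), (-3, 1), (0, -2)⟩, ⟨(1, 0), (0, -1), (-3, 1), (0, 2)⟩, ⟨(1, 0), (2, -1), (-1, 3), (0, 0)⟩, ⟨(1, 0), (2, 1), (1, -1), (-2, 2)⟩, ⟨(1, 0), (2, 1), (1, -1), (2, -2)⟩, ⟨(3, 0), (-2, 1), (1, 1), (0, 0)⟩, ⟨(3, 0), (0, -1), (1, -1), (-2, 0)⟩, ⟨(3, 0), (0, -1), (1, -1), (2, 0)⟩],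
    [],
    [⟨(-2, -1), (-1, 0), (0, 0), (3, -1)⟩, ⟨(-2, -1), (1, 0), (-2, 2), (-1, 1)⟩, ⟨(-2, -1), (1, 0), (2, -2), (-1, 1)⟩, ⟨(-2, 1), (-3, 0), (0, 0), (1, 1)⟩, ⟨(-2, 1), (-1, 2), (0, -2), (-1, 1)⟩, ⟨(-2, 1), (-1, 2), (0, 2), (-1, 1)⟩, ⟨(-2, 1), (1, -2), (-2, 0), (-1, -1)⟩, ⟨(-2, 1), (1, -2), (2, 0), (-1, -1)⟩, ⟨(-2, 1), (1, 0), (0, 0), (1, -3)⟩, ⟨(-2, 3), (-1, 0), (0, 0), (-1, -1)⟩, ⟨(0, -1), (-3, 0), (-2, 0), (1, -1)⟩, ⟨(0, -1), (-3, 0), (2, 0), (1, -1)⟩, ⟨(0, -1), (-1, 0), (0, -2), (-3, 1)⟩, ⟨(0, -1), (-1, 0), (0, 2), (-3, 1)⟩, ⟨(0, -1), (-1, 2), (-2, 2), (-1, -1)⟩, ⟨(0, -1), (-1, 2), (2, -2), (-1, -1)⟩, ⟨(0, 1), (1, -2), (-2, 2), (1, 1)⟩, ⟨(0, 1), (1, -2), (2, -2), (1, 1)⟩, ⟨(0, 1), (1,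 0), (0, -2), (3, -1)⟩, ⟨(0, 1), (1, 0), (0, 2), (3, -1)⟩, ⟨(0, 1), (3, 0), (-2, 0), (-1, 1)⟩, ⟨(0, 1), (3, 0), (2, 0), (-1, 1)⟩, ⟨(2, -3), (1, 0), (0, 0), (1, 1)⟩, ⟨(2, -1), (-1, 0), (0, 0), (-1, 3)⟩, ⟨(2, -1), (-1, 2), (-2, 0), (1, 1)⟩, ⟨(2, -1), (-1, 2), (2, 0), (1, 1)⟩, ⟨(2, -1), (1, -2), (0, -2), (1, -1)⟩, ⟨(2, -1), (1, -2), (0, 2), (1, -1)⟩, ⟨(2, -1), (3, 0), (0, 0), (-1, -1)⟩, ⟨(2, 1), (-1, 0), (-2, 2), (1, -1)⟩, ⟨(2, 1), (-1, 0), (2, -2), (1, -1)⟩, ⟨(2, 1), (1, 0), (0, 0), (-3, 1)⟩],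
    [],
    [⟨(-2, 0), (-1, -1), (2, -1), (-1, 2)⟩, ⟨(-2, 0), (-1, 1), (0, -1), (-3, 0)⟩, ⟨(-2, 0), (1, -1), (0, 1), (3, 0)⟩, ⟨(-2, 0), (1, 1), (-2, 1), (1, -2)⟩, ⟨(-2, 2), (-1, -1), (0, 1), (1, -2)⟩, ⟨(-2, 2), (-1, 1), (2, 1), (-1, 0)⟩, ⟨(-2, 2), (1, -1), (-2, -1), (1, 0)⟩, ⟨(-2, 2), (1, 1), (0, -1), (-1, 2)⟩, ⟨(0, -2), (-3, 1), (0, 1), (1, 0)⟩, ⟨(0, -2), (-1, 1), (2, -1), (1, -2)⟩, ⟨(0, -2), (1, -1), (-2, 1), (-1, 2)⟩, ⟨(0, -2), (3, -1), (0, -1), (-1, 0)⟩, ⟨(0, 0), (-3, 1), (-2, -1), (-1, 0)⟩, ⟨(0, 0), (-1, -1), (-2, 1), (-3, 0)⟩, ⟨(0, 0), (-1, -1), (2, -3), (1, 0)⟩, ⟨(0, 0), (-1, 3), (-2, 1), (1, 0)⟩, ⟨(0, 0), (1, -3), (2, -1), (-1, 0)⟩, ⟨(0, 0), (1, 1), (-2, 3), (-1, 0)⟩, ⟨(0, 0), (1, 1),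 (2, -1), (3, 0)⟩, ⟨(0, 0), (3, -1), (2, 1), (1, 0)⟩, ⟨(0, 2), (-3, 1), (0, 1), (1, 0)⟩, ⟨(0, 2), (-1, 1), (2, -1), (1, -2)⟩, ⟨(0, 2), (1, -1), (-2, 1), (-1, 2)⟩, ⟨(0, 2), (3, -1), (0, -1), (-1, 0)⟩, ⟨(2, -2), (-1, -1), (0, 1), (1, -2)⟩, ⟨(2, -2), (-1, 1), (2, 1), (-1, 0)⟩, ⟨(2, -2), (1, -1), (-2, -1), (1, 0)⟩, ⟨(2, -2), (1, 1), (0, -1), (-1, 2)⟩, ⟨(2, 0), (-1, -1), (2, -1), (-1, 2)⟩, ⟨(2, 0), (-1, 1), (0, -1), (-3, 0)⟩, ⟨(2, 0), (1, -1), (0, 1), (3, 0)⟩, ⟨(2, 0), (1, 1), (-2, 1), (1, -2)⟩],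
    [],
    [⟨(-3, 1), (0, -2), (-1, 0), (0, 1)⟩, ⟨(-3, 1), (0, 0), (1, 0), (-2, -1)⟩, ⟨(-3, 1), (0, 2), (-1, 0), (0, 1)⟩, ⟨(-1, -1), (-2, 0), (1, -2), (2, -1)⟩, ⟨(-1, -1), (-2, 2), (-1, 2), (0, 1)⟩, ⟨(-1, -1), (0, 0), (-1, 0), (2, -3)⟩, ⟨(-1, -1), (0, 0), (3, 0), (-2, 1)⟩, ⟨(-1, -1), (2, -2), (-1, 2), (0, 1)⟩, ⟨(-1, -1), (2, 0), (1, -2), (2, -1)⟩, ⟨(-1, 1), (-2, 0), (3, 0), (0, -1)⟩, ⟨(-1, 1), (-2, 2), (1, 0), (2, 1)⟩, ⟨(-1, 1), (0, -2), (-1, 2), (2, -1)⟩, ⟨(-1, 1), (0, 2), (-1, 2), (2, -1)⟩, ⟨(-1, 1), (2, -2), (1, 0), (2, 1)⟩, ⟨(-1, 1), (2, 0), (3, 0), (0, -1)⟩, ⟨(-1, 3), (0, 0), (-1, 0), (-2, 1)⟩, ⟨(1, -3), (0, 0), (1, 0), (2, -1)⟩, ⟨(1, -1), (-2, 0), (-3, 0), (0, 1)⟩, ⟨(1, -1), (-2, 2), (-1,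 0), (-2, -1)⟩, ⟨(1, -1), (0, -2), (1, -2), (-2, 1)⟩, ⟨(1, -1), (0, 2), (1, -2), (-2, 1)⟩, ⟨(1, -1), (2, -2), (-1, 0), (-2, -1)⟩, ⟨(1, -1), (2, 0), (-3, 0), (0, 1)⟩, ⟨(1, 1), (-2, 0), (-1, 2), (-2, 1)⟩, ⟨(1, 1), (-2, 2), (1, -2), (0, -1)⟩, ⟨(1, 1), (0, 0), (-3, 0), (2, -1)⟩, ⟨(1, 1), (0, 0), (1, 0), (-2, 3)⟩, ⟨(1, 1), (2, -2), (1, -2), (0, -1)⟩, ⟨(1, 1), (2, 0), (-1, 2), (-2, 1)⟩, ⟨(3, -1), (0, -2), (1, 0), (0, -1)⟩, ⟨(3, -1), (0, 0), (-1, 0), (2, 1)⟩, ⟨(3, -1), (0, 2), (1, 0), (0, -1)⟩],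
    [],
    [],
    [],
    [],
    [],
    [],
    [],
    [],
    []]

/-- Short icosians with given class and norm. -/
def tab7_5 : List (List Q) :=
  [[],
    [⟨(-1, -1), (0, 0), (1, 0), (0, 1)⟩, ⟨(1, 1), (0, 0), (-1, 0), (0, -1)⟩],
    [],
    [⟨(0, 0), (-1, -1), (0, 1), (-1, 0)⟩, ⟨(0, 0), (1, 1), (0, -1), (1, 0)⟩],
    [],
    [⟨(0, -1), (1, 0), (0, 0), (-1, -1)⟩, ⟨(0, 1), (-1, 0), (0, 0), (1, 1)⟩],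
    [],
    [⟨(-1, 0), (0, -1), (-1, -1), (0, 0)⟩, ⟨(1, 0), (0, 1), (1, 1), (0, 0)⟩],
    [],
    [],
    [],
    [],
    [],
    [],
    [],
    []]

/-- Short icosians with given class and norm. -/
def tab7_6 : List (List Q) :=
  [[],
    [],
    [],
    [],
    [],
    [],
    [],
    [],
    [],
    [⟨(-1, 0), (-2, -1), (1, -1), (0, 0)⟩, ⟨(-1, 0), (0, -1), (-1, 1), (0, -2)⟩, ⟨(-1, 0), (0, -1), (-1, 1), (0, 2)⟩, ⟨(-1, 0), (0, 1), (1, 1), (-2, 0)⟩, ⟨(-1, 0), (0, 1), (1, 1), (2, 0)⟩, ⟨(-1, 2), (0, 1), (-1, -1), (0, 0)⟩, ⟨(1, -2), (0, -1), (1, 1), (0, 0)⟩, ⟨(1, 0), (0, -1), (-1, -1), (-2, 0)⟩, ⟨(1, 0), (0, -1), (-1, -1), (2, 0)⟩, ⟨(1, 0), (0, 1), (1, -1), (0, -2)⟩, ⟨(1, 0), (0, 1), (1, -1), (0,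 2)⟩, ⟨(1, 0), (2, 1), (-1, 1), (0, 0)⟩],
    [],
    [⟨(-2, -1), (1, 0), (0, 0), (1, -1)⟩, ⟨(0, -1), (-1, 0), (-2, 0), (-1, -1)⟩, ⟨(0, -1), (-1, 0), (2, 0), (-1, -1)⟩, ⟨(0, -1), (-1, 2), (0, 0), (1, 1)⟩, ⟨(0, -1), (1, 0), (0, -2), (-1, 1)⟩, ⟨(0, -1), (1, 0), (0, 2), (-1, 1)⟩, ⟨(0, 1), (-1, 0), (0, -2), (1, -1)⟩, ⟨(0, 1), (-1, 0), (0, 2), (1, -1)⟩, ⟨(0, 1), (1, -2), (0, 0), (-1, -1)⟩, ⟨(0, 1), (1, 0), (-2, 0), (1, 1)⟩, ⟨(0, 1), (1, 0), (2, 0), (1, 1)⟩, ⟨(2, 1), (-1, 0), (0, 0), (-1, 1)⟩],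
    [],
    [⟨(-2, 0), (-1, -1), (0, 1), (1, 0)⟩, ⟨(-2, 0), (1, 1), (0, -1), (-1, 0)⟩, ⟨(0, -2), (-1, 1), (0, 1), (-1, 0)⟩, ⟨(0, -2), (1, -1), (0, -1), (1, 0)⟩, ⟨(0, 0), (-1, -1), (0, -1), (-1, 2)⟩, ⟨(0, 0), (-1, 1), (-2, -1), (1, 0)⟩, ⟨(0, 0), (1, -1), (2, 1), (-1, 0)⟩, ⟨(0, 0), (1, 1), (0, 1), (1, -2)⟩, ⟨(0, 2), (-1, 1), (0, 1), (-1, 0)⟩, ⟨(0, 2), (1, -1), (0, -1), (1, 0)⟩, ⟨(2, 0), (-1, -1), (0, 1), (1, 0)⟩, ⟨(2, 0), (1, 1), (0, -1), (-1, 0)⟩],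
    [],
    [⟨(-1, -1), (-2, 0), (-1, 0), (0, 1)⟩, ⟨(-1, -1), (0, 0), (1, -2), (0, -1)⟩, ⟨(-1, -1), (2, 0), (-1, 0), (0, 1)⟩, ⟨(-1, 1), (0, -2), (1, 0), (0, 1)⟩, ⟨(-1, 1), (0, 0), (-1, 0), (-2, -1)⟩, ⟨(-1, 1), (0, 2), (1, 0), (0, 1)⟩, ⟨(1, -1), (0, -2), (-1, 0), (0, -1)⟩, ⟨(1, -1), (0, 0), (1, 0), (2, 1)⟩, ⟨(1, -1), (0, 2), (-1, 0), (0, -1)⟩, ⟨(1, 1), (-2, 0), (1, 0), (0, -1)⟩, ⟨(1, 1), (0, 0), (-1, 2), (0, 1)⟩, ⟨(1, 1), (2, 0), (1, 0), (0, -1)⟩]]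

/-- Short icosians with given class and norm. -/
def tab7_7 : List (List Q) :=
  [[],
    [⟨(-3, 1), (0, 0), (-1, 0), (0, -1)⟩, ⟨(-1, 1), (-2, 0), (1, 0), (2, -1)⟩, ⟨(-1, 1), (-2, 2), (-1, 0), (0, 1)⟩, ⟨(-1, 1), (0, 0), (-1, 2), (-2, 1)⟩, ⟨(-1, 1), (2, -2), (-1, 0), (0, 1)⟩, ⟨(-1, 1), (2, 0), (1, 0), (2, -1)⟩, ⟨(1, -1), (-2, 0), (-1, 0), (-2, 1)⟩, ⟨(1, -1), (-2, 2), (1, 0), (0, -1)⟩, ⟨(1, -1), (0, 0), (1, -2), (2, -1)⟩, ⟨(1, -1), (2, -2), (1, 0), (0, -1)⟩, ⟨(1, -1), (2, 0), (-1, 0), (-2, 1)⟩, ⟨(3, -1), (0, 0), (1, 0), (0, 1)⟩],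
    [],
    [⟨(-2, 0), (-1, 1), (2, -1), (-1, 0)⟩, ⟨(-2, 0), (1, -1), (-2, 1), (1, 0)⟩, ⟨(-2, 2), (-1, 1), (0, 1), (1, 0)⟩, ⟨(-2, 2), (1, -1), (0, -1), (-1, 0)⟩, ⟨(0, 0), (-3, 1), (0, -1), (1, 0)⟩, ⟨(0, 0), (-1, 1), (-2, 1), (1, -2)⟩, ⟨(0, 0), (1, -1), (2, -1), (-1, 2)⟩, ⟨(0, 0), (3, -1), (0, 1), (-1, 0)⟩, ⟨(2, -2), (-1, 1), (0, 1), (1, 0)⟩, ⟨(2, -2), (1, -1), (0, -1), (-1, 0)⟩, ⟨(2, 0), (-1, 1), (2, -1), (-1, 0)⟩, ⟨(2, 0), (1, -1), (-2, 1), (1, 0)⟩],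
    [],
    [⟨(-2, 1), (1, -2), (0, 0), (1, -1)⟩, ⟨(-2, 1), (1, 0), (-2, 0), (-1, 1)⟩, ⟨(-2, 1), (1, 0), (2, 0), (-1, 1)⟩, ⟨(0, -1), (-1, 0), (-2, 2), (-1, 1)⟩, ⟨(0, -1), (-1, 0), (2, -2), (-1, 1)⟩, ⟨(0, -1), (1, 0), (0, 0), (3, -1)⟩, ⟨(0, 1), (-1, 0), (0, 0), (-3, 1)⟩, ⟨(0, 1), (1, 0), (-2, 2), (1, -1)⟩, ⟨(0, 1), (1, 0), (2, -2), (1, -1)⟩, ⟨(2, -1), (-1, 0), (-2, 0), (1, -1)⟩, ⟨(2, -1), (-1, 0), (2, 0), (1, -1)⟩, ⟨(2, -1), (-1, 2), (0, 0), (-1, 1)⟩],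
    [],
    [⟨(-1, 0), (-2, 1), (-1, 1), (-2, 0)⟩, ⟨(-1, 0), (-2, 1), (-1, 1), (2, 0)⟩, ⟨(-1, 0), (0, -1), (3, -1), (0, 0)⟩, ⟨(-1, 0), (0, 1), (1, -1), (-2, 2)⟩, ⟨(-1, 0), (0, 1), (1, -1), (2, -2)⟩, ⟨(-1, 2), (-2, 1), (1, -1), (0, 0)⟩, ⟨(1, -2), (2, -1), (-1, 1), (0, 0)⟩, ⟨(1, 0), (0, -1), (-1, 1), (-2, 2)⟩, ⟨(1, 0), (0, -1), (-1, 1), (2, -2)⟩, ⟨(1, 0), (0, 1), (-3, 1), (0, 0)⟩, ⟨(1, 0), (2, -1), (1, -1), (-2, 0)⟩, ⟨(1, 0), (2, -1), (1, -1), (2, 0)⟩],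
    [],
    [],
    [],
    [],
    [],
    [],
    [],
    []]

/-- Short icosians with given class and norm. -/
def tab7_8 : List (List Q) :=
  [[],
    [],
    [],
    [],
    [],
    [],
    [],
    [],
    [],
    [⟨(-1, 0), (2, -1), (1, -1), (0, 0)⟩, ⟨(1, 0), (-2, 1), (-1, 1), (0, 0)⟩],
    [],
    [⟨(-2, 1), (-1, 0), (0, 0), (-1, 1)⟩, ⟨(2, -1), (1, 0), (0, 0), (1, -1)⟩],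
    [],
    [⟨(0, 0), (-1, 1), (2, -1), (1, 0)⟩, ⟨(0, 0), (1, -1), (-2, 1), (-1, 0)⟩],
    [],
    [⟨(-1, 1), (0, 0), (-1, 0), (2, -1)⟩, ⟨(1, -1), (0, 0), (1, 0), (-2, 1)⟩]]

/-- Short icosians with given class. -/
def tab7 : List (List (List Q)) :=
  [tab7_0, tab7_1, tab7_2, tab7_3, tab7_4, tab7_5, tab7_6, tab7_7, tab7_8]

end Cfsg.Agent.J2
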