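import Cfsg.Agent.Lib.J2.UnitData

/-! Short icosians sorted by residue and norm. -/

namespace Cfsg.Agent.J2

/-- Short icosians with given class and norm. -/
def tab8_0 : List (List Q) :=
  [[],
    [],
    [],
    [],
    [],
    [],
    [],
    [],
    [],
    [],
    [],
    [],
    [],
    [],
    [],
    []]

/-- Short icosians with given class and norm. -/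
def tab8_1 : List (List Q) :=
  [[],
    [],
    [⟨(-1, 0), (-1, 0), (1, 0), (1, 0)⟩, ⟨(1, 0), (1, 0), (-1, 0), (-1, 0)⟩],
    [],
    [],
    [⟨(-1, 0), (-1, 0), (-1, 0), (-1, 0)⟩, ⟨(1, 0), (1, 0), (1, 0), (1, 0)⟩],
    [],
    [],
    [],
    [],
    [],
    [⟨(-1, 0), (1, 0), (1, 0), (-1, 0)⟩, ⟨(1, 0), (-1, 0), (-1, 0), (1, 0)⟩],
    [⟨(-1, 0), (1, 0), (-1, 0), (1, 0)⟩, ⟨(1, 0), (-1, 0), (1, 0), (-1, 0)⟩],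
    [],
    [],
    []]

/-- Short icosians with given class and norm. -/
def tab8_2 : List (List Q) :=
  [[⟨(-2, 1), (0, 1), (0, 1), (0, 1)⟩, ⟨(0, -1), (-2, 1), (0, -1), (0, 1)⟩, ⟨(0, -1), (0, -1), (0, 1), (-2, 1)⟩, ⟨(0, -1), (0, 1), (-2, 1), (0, -1)⟩, ⟨(0, 1), (0, -1), (2, -1), (0, 1)⟩, ⟨(0, 1), (0, 1), (0, -1), (2, -1)⟩, ⟨(0, 1), (2, -1), (0, 1), (0, -1)⟩, ⟨(2, -1), (0, -1), (0, -1), (0, -1)⟩],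
    [],
    [],
    [],
    [],
    [],
    [],
    [⟨(-2, 1), (0, -1), (0, 1), (0, -1)⟩, ⟨(0, -1), (0, -1), (-2, 1), (0, 1)⟩, ⟨(0, -1), (0, 1), (0, 1), (2, -1)⟩, ⟨(0, -1), (2, -1), (0, -1), (0, -1)⟩, ⟨(0, 1), (-2, 1), (0, 1), (0, 1)⟩, ⟨(0, 1), (0, -1), (0, -1), (-2, 1)⟩, ⟨(0, 1), (0, 1), (2, -1), (0, -1)⟩, ⟨(2, -1), (0, 1), (0, -1), (0, 1)⟩],
    [],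
    [⟨(-2, 1), (0, -1), (0, -1), (0, 1)⟩, ⟨(0, -1), (0, -1), (2, -1), (0, -1)⟩, ⟨(0, -1), (0, 1), (0, -1), (-2, 1)⟩, ⟨(0, -1), (2, -1), (0, 1), (0, 1)⟩, ⟨(0, 1), (-2, 1), (0, -1), (0, -1)⟩, ⟨(0, 1), (0, -1), (0, 1), (2, -1)⟩, ⟨(0, 1), (0, 1), (-2, 1), (0, 1)⟩, ⟨(2, -1), (0, 1), (0, 1), (0, -1)⟩],
    [],
    [],
    [],
    [],
    [⟨(-2, 1), (0, 1), (0, -1), (0, -1)⟩, ⟨(0, -1), (-2, 1), (0, 1), (0, -1)⟩, ⟨(0, -1), (0, -1), (0, -1), (2, -1)⟩, ⟨(0, -1), (0, 1), (2, -1), (0, 1)⟩, ⟨(0, 1), (0, -1), (-2, 1), (0, -1)⟩, ⟨(0, 1), (0, 1), (0, 1), (-2, 1)⟩, ⟨(0, 1), (2, -1), (0, -1), (0, 1)⟩, ⟨(2, -1), (0, -1), (0, 1), (0, 1)⟩],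
    []]

/-- Short icosians with given class and norm. -/
def tab8_3 : List (List Q) :=
  [[],
    [],
    [⟨(-3, 0), (1, 0), (-1, 0), (-1, 0)⟩, ⟨(-1, 0), (-1, 0), (-3, 0), (1, 0)⟩, ⟨(-1, 0), (-1, 0), (1, 0), (-3, 0)⟩, ⟨(-1, 0), (-1, 2), (-1, 0), (-1, 2)⟩, ⟨(-1, 0), (1, -2), (1, -2), (-1, 0)⟩, ⟨(-1, 0), (1, 0), (-1, 2), (1, -2)⟩, ⟨(-1, 0), (3, 0), (1, 0), (1, 0)⟩, ⟨(-1, 2), (-1, 0), (-1, 2), (-1, 0)⟩, ⟨(-1, 2), (1, -2), (-1, 0), (1, 0)⟩, ⟨(-1, 2), (1, 0), (1, 0), (-1, 2)⟩, ⟨(1, -2), (-1, 0), (-1, 0), (1, -2)⟩, ⟨(1, -2), (-1, 2), (1, 0), (-1, 0)⟩, ⟨(1, -2), (1, 0), (1, -2), (1, 0)⟩, ⟨(1, 0), (-3, 0), (-1, 0), (-1, 0)⟩, ⟨(1, 0), (-1, 0), (1, -2), (-1, 2)⟩, ⟨(1, 0), (-1, 2), (-1, 2), (1, 0)⟩, ⟨(1,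 0), (1, -2), (1, 0), (1, -2)⟩, ⟨(1, 0), (1, 0), (-1, 0), (3, 0)⟩, ⟨(1, 0), (1, 0), (3, 0), (-1, 0)⟩, ⟨(3, 0), (-1, 0), (1, 0), (1, 0)⟩],
    [],
    [],
    [⟨(-3, 0), (1, 0), (1, 0), (1, 0)⟩, ⟨(-1, 0), (-1, 0), (-1, 0), (3, 0)⟩, ⟨(-1, 0), (-1, 0), (3, 0), (-1, 0)⟩, ⟨(-1, 0), (-1, 2), (1, 0), (1, -2)⟩, ⟨(-1, 0), (1, -2), (-1, 2), (1, 0)⟩, ⟨(-1, 0), (1, 0), (1, -2), (-1, 2)⟩, ⟨(-1, 0), (3, 0), (-1, 0), (-1, 0)⟩, ⟨(-1, 2), (-1, 0), (1, -2), (1, 0)⟩, ⟨(-1, 2), (1, -2), (1, 0), (-1, 0)⟩, ⟨(-1, 2), (1, 0), (-1, 0), (1, -2)⟩, ⟨(1, -2), (-1, 0), (1, 0), (-1, 2)⟩, ⟨(1, -2), (-1, 2), (-1, 0), (1, 0)⟩, ⟨(1, -2), (1, 0), (-1, 2), (-1, 0)⟩, ⟨(1, 0), (-3, 0), (1, 0), (1, 0)⟩, ⟨(1, 0), (-1, 0), (-1, 2), (1, -2)⟩,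 ⟨(1, 0), (-1, 2), (1, -2), (-1, 0)⟩, ⟨(1, 0), (1, -2), (-1, 0), (-1, 2)⟩, ⟨(1, 0), (1, 0), (-3, 0), (1, 0)⟩, ⟨(1, 0), (1, 0), (1, 0), (-3, 0)⟩, ⟨(3, 0), (-1, 0), (-1, 0), (-1, 0)⟩],
    [],
    [],
    [],
    [],
    [],
    [⟨(-3, 0), (-1, 0), (-1, 0), (1, 0)⟩, ⟨(-1, 0), (-3, 0), (1, 0), (-1, 0)⟩, ⟨(-1, 0), (-1, 0), (-1, 2), (-1, 2)⟩, ⟨(-1, 0), (-1, 2), (1, -2), (1, 0)⟩, ⟨(-1, 0), (1, -2), (-1, 0), (1, -2)⟩, ⟨(-1, 0), (1, 0), (-3, 0), (-1, 0)⟩, ⟨(-1, 0), (1, 0), (1, 0), (3, 0)⟩, ⟨(-1, 2), (-1, 0), (1, 0), (1, -2)⟩, ⟨(-1, 2), (-1, 2), (-1, 0), (-1, 0)⟩, ⟨(-1, 2), (1, 0), (-1, 2), (1, 0)⟩, ⟨(1, -2), (-1, 0), (1, -2), (-1, 0)⟩, ⟨(1, -2), (1, -2), (1, 0), (1, 0)⟩, ⟨(1, -2), (1, 0), (-1, 0), (-1, 2)⟩,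 ⟨(1, 0), (-1, 0), (-1, 0), (-3, 0)⟩, ⟨(1, 0), (-1, 0), (3, 0), (1, 0)⟩, ⟨(1, 0), (-1, 2), (1, 0), (-1, 2)⟩, ⟨(1, 0), (1, -2), (-1, 2), (-1, 0)⟩, ⟨(1, 0), (1, 0), (1, -2), (1, -2)⟩, ⟨(1, 0), (3, 0), (-1, 0), (1, 0)⟩, ⟨(3, 0), (1, 0), (1, 0), (-1, 0)⟩],
    [⟨(-3, 0), (-1, 0), (1, 0), (-1, 0)⟩, ⟨(-1, 0), (-3, 0), (-1, 0), (1, 0)⟩, ⟨(-1, 0), (-1, 0), (1, -2), (1, -2)⟩, ⟨(-1, 0), (-1, 2), (-1, 2), (-1, 0)⟩, ⟨(-1, 0), (1, -2), (1, 0), (-1, 2)⟩, ⟨(-1, 0), (1, 0), (-1, 0), (-3, 0)⟩, ⟨(-1, 0), (1, 0), (3, 0), (1, 0)⟩, ⟨(-1, 2), (-1, 0), (-1, 0), (-1, 2)⟩, ⟨(-1, 2), (-1, 2), (1, 0), (1, 0)⟩, ⟨(-1, 2), (1, 0), (1, -2), (-1, 0)⟩, ⟨(1, -2), (-1, 0), (-1, 2), (1, 0)⟩, ⟨(1, -2), (1, -2), (-1, 0), (-1, 0)⟩, ⟨(1,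 -2), (1, 0), (1, 0), (1, -2)⟩, ⟨(1, 0), (-1, 0), (-3, 0), (-1, 0)⟩, ⟨(1, 0), (-1, 0), (1, 0), (3, 0)⟩, ⟨(1, 0), (-1, 2), (-1, 0), (1, -2)⟩, ⟨(1, 0), (1, -2), (1, -2), (1, 0)⟩, ⟨(1, 0), (1, 0), (-1, 2), (-1, 2)⟩, ⟨(1, 0), (3, 0), (1, 0), (-1, 0)⟩, ⟨(3, 0), (1, 0), (-1, 0), (1, 0)⟩],
    [],
    [],
    []]

/-- Short icosians with given class and norm. -/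
def tab8_4 : List (List Q) :=
  [[⟨(-2, -1), (-2, 1), (0, 1), (2, -1)⟩, ⟨(-2, -1), (0, 1), (2, -1), (-2, 1)⟩, ⟨(-2, -1), (2, -1), (-2, 1), (0, 1)⟩, ⟨(-2, 1), (-2, -1), (0, -1), (-2, 1)⟩, ⟨(-2, 1), (-2, 1), (-2, -1), (0, -1)⟩, ⟨(-2, 1), (0, -1), (-2, 1), (-2, -1)⟩, ⟨(-2, 1), (0, -1), (2, 1), (2, -1)⟩, ⟨(-2, 1), (2, -1), (0, -1), (2, 1)⟩, ⟨(-2, 1), (2, 1), (2, -1), (0, -1)⟩, ⟨(-2, 3), (0, -1), (0, -1), (0, -1)⟩, ⟨(0, -1), (-2, -1), (2, -1), (2, -1)⟩, ⟨(0, -1), (0, -1), (0, 1), (2, -3)⟩, ⟨(0, -1), (0, 1), (2, -3), (0, -1)⟩, ⟨(0, -1), (2, -3), (0, -1), (0, 1)⟩, ⟨(0, -1), (2, -1), (-2, -1), (2, -1)⟩, ⟨(0, -1), (2, -1), (2, -1), (-2, -1)⟩, ⟨(0, 1), (-2, 1), (-2, 1), (2, 1)⟩, ⟨(0, 1), (-2, 1), (2, 1),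 (-2, 1)⟩, ⟨(0, 1), (-2, 3), (0, 1), (0, -1)⟩, ⟨(0, 1), (0, -1), (-2, 3), (0, 1)⟩, ⟨(0, 1), (0, 1), (0, -1), (-2, 3)⟩, ⟨(0, 1), (2, 1), (-2, 1), (-2, 1)⟩, ⟨(2, -3), (0, 1), (0, 1), (0, 1)⟩, ⟨(2, -1), (-2, -1), (-2, 1), (0, 1)⟩, ⟨(2, -1), (-2, 1), (0, 1), (-2, -1)⟩, ⟨(2, -1), (0, 1), (-2, -1), (-2, 1)⟩, ⟨(2, -1), (0, 1), (2, -1), (2, 1)⟩, ⟨(2, -1), (2, -1), (2, 1), (0, 1)⟩, ⟨(2, -1), (2, 1), (0, 1), (2, -1)⟩, ⟨(2, 1), (-2, 1), (2, -1), (0, -1)⟩, ⟨(2, 1), (0, -1), (-2, 1), (2, -1)⟩, ⟨(2, 1), (2, -1), (0, -1), (-2, 1)⟩],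
    [],
    [],
    [],
    [],
    [],
    [],
    [⟨(-2, -1), (-2, 1), (-2, 1), (0, -1)⟩, ⟨(-2, -1), (0, -1), (2, -1), (2, -1)⟩, ⟨(-2, -1), (2, -1), (0, 1), (-2, 1)⟩, ⟨(-2, 1), (-2, -1), (2, -1), (0, 1)⟩, ⟨(-2, 1), (-2, 1), (0, -1), (-2, -1)⟩, ⟨(-2, 1), (0, 1), (-2, 1), (2, 1)⟩, ⟨(-2, 1), (0, 1), (2, 1), (-2, 1)⟩, ⟨(-2, 1), (2, -1), (-2, -1), (0, 1)⟩, ⟨(-2, 1), (2, 1), (0, -1), (2, -1)⟩, ⟨(-2, 3), (0, 1), (0, -1), (0, 1)⟩, ⟨(0, -1), (-2, 1), (-2, -1), (-2, 1)⟩, ⟨(0, -1), (-2, 1), (2, -1), (2, 1)⟩, ⟨(0, -1), (-2, 3), (0, -1), (0, -1)⟩, ⟨(0, -1), (0, -1), (2, -3), (0, 1)⟩, ⟨(0, -1), (0, 1), (0, 1), (-2, 3)⟩, ⟨(0, -1), (2, 1), (2, -1), (-2, 1)⟩, ⟨(0, 1), (-2, -1), (-2, 1), (2, -1)⟩, ⟨(0, 1), (0,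 -1), (0, -1), (2, -3)⟩, ⟨(0, 1), (0, 1), (-2, 3), (0, -1)⟩, ⟨(0, 1), (2, -3), (0, 1), (0, 1)⟩, ⟨(0, 1), (2, -1), (-2, 1), (-2, -1)⟩, ⟨(0, 1), (2, -1), (2, 1), (2, -1)⟩, ⟨(2, -3), (0, -1), (0, 1), (0, -1)⟩, ⟨(2, -1), (-2, -1), (0, 1), (-2, 1)⟩, ⟨(2, -1), (-2, 1), (2, 1), (0, -1)⟩, ⟨(2, -1), (0, -1), (-2, -1), (2, -1)⟩, ⟨(2, -1), (0, -1), (2, -1), (-2, -1)⟩, ⟨(2, -1), (2, -1), (0, 1), (2, 1)⟩, ⟨(2, -1), (2, 1), (-2, 1), (0, -1)⟩, ⟨(2, 1), (-2, 1), (0, -1), (2, -1)⟩, ⟨(2, 1), (0, 1), (-2, 1), (-2, 1)⟩, ⟨(2, 1), (2, -1), (2, -1), (0, 1)⟩],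
    [],
    [⟨(-2, -1), (-2, 1), (2, -1), (0, 1)⟩, ⟨(-2, -1), (0, -1), (-2, 1), (-2, 1)⟩, ⟨(-2, -1), (2, -1), (0, -1), (2, -1)⟩, ⟨(-2, 1), (-2, -1), (-2, 1), (0, -1)⟩, ⟨(-2, 1), (-2, 1), (0, 1), (2, 1)⟩, ⟨(-2, 1), (0, 1), (-2, -1), (2, -1)⟩, ⟨(-2, 1), (0, 1), (2, -1), (-2, -1)⟩, ⟨(-2, 1), (2, -1), (2, 1), (0, -1)⟩, ⟨(-2, 1), (2, 1), (0, 1), (-2, 1)⟩, ⟨(-2, 3), (0, 1), (0, 1), (0, -1)⟩, ⟨(0, -1), (-2, 1), (-2, 1), (-2, -1)⟩, ⟨(0, -1), (-2, 1), (2, 1), (2, -1)⟩, ⟨(0, -1), (-2, 3), (0, 1), (0, 1)⟩, ⟨(0, -1), (0, -1), (-2, 3), (0, -1)⟩, ⟨(0, -1), (0, 1), (0, -1), (2, -3)⟩, ⟨(0, -1), (2, 1), (-2, 1), (2, -1)⟩, ⟨(0, 1), (-2, -1), (2, -1), (-2, 1)⟩, ⟨(0, 1), (0, -1), (0, 1), (-2, 3)⟩, ⟨(0, 1), (0, 1),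 (2, -3), (0, 1)⟩, ⟨(0, 1), (2, -3), (0, -1), (0, -1)⟩, ⟨(0, 1), (2, -1), (-2, -1), (-2, 1)⟩, ⟨(0, 1), (2, -1), (2, -1), (2, 1)⟩, ⟨(2, -3), (0, -1), (0, -1), (0, 1)⟩, ⟨(2, -1), (-2, -1), (0, -1), (2, -1)⟩, ⟨(2, -1), (-2, 1), (-2, -1), (0, 1)⟩, ⟨(2, -1), (0, -1), (-2, 1), (2, 1)⟩, ⟨(2, -1), (0, -1), (2, 1), (-2, 1)⟩, ⟨(2, -1), (2, -1), (0, -1), (-2, -1)⟩, ⟨(2, -1), (2, 1), (2, -1), (0, 1)⟩, ⟨(2, 1), (-2, 1), (0, 1), (-2, 1)⟩, ⟨(2, 1), (0, 1), (2, -1), (2, -1)⟩, ⟨(2, 1), (2, -1), (-2, 1), (0, -1)⟩],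
    [],
    [],
    [],
    [],
    [⟨(-2, -1), (-2, 1), (0, -1), (-2, 1)⟩, ⟨(-2, -1), (0, 1), (-2, 1), (2, -1)⟩, ⟨(-2, -1), (2, -1), (2, -1), (0, -1)⟩, ⟨(-2, 1), (-2, -1), (0, 1), (2, -1)⟩, ⟨(-2, 1), (-2, 1), (2, 1), (0, 1)⟩, ⟨(-2, 1), (0, -1), (-2, -1), (-2, 1)⟩, ⟨(-2, 1), (0, -1), (2, -1), (2, 1)⟩, ⟨(-2, 1), (2, -1), (0, 1), (-2, -1)⟩, ⟨(-2, 1), (2, 1), (-2, 1), (0, 1)⟩, ⟨(-2, 3), (0, -1), (0, 1), (0, 1)⟩, ⟨(0, -1), (-2, -1), (-2, 1), (-2, 1)⟩, ⟨(0, -1), (0, -1), (0, -1), (-2, 3)⟩, ⟨(0, -1), (0, 1), (-2, 3), (0, 1)⟩, ⟨(0, -1), (2, -3), (0, 1), (0, -1)⟩, ⟨(0, -1), (2, -1), (-2, 1), (2, 1)⟩, ⟨(0, -1), (2, -1), (2, 1), (-2, 1)⟩, ⟨(0, 1), (-2, 1), (-2, -1), (2, -1)⟩, ⟨(0, 1), (-2, 1), (2, -1), (-2,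 -1)⟩, ⟨(0, 1), (-2, 3), (0, -1), (0, 1)⟩, ⟨(0, 1), (0, -1), (2, -3), (0, -1)⟩, ⟨(0, 1), (0, 1), (0, 1), (2, -3)⟩, ⟨(0, 1), (2, 1), (2, -1), (2, -1)⟩, ⟨(2, -3), (0, 1), (0, -1), (0, -1)⟩, ⟨(2, -1), (-2, -1), (2, -1), (0, -1)⟩, ⟨(2, -1), (-2, 1), (0, -1), (2, 1)⟩, ⟨(2, -1), (0, 1), (-2, 1), (-2, -1)⟩, ⟨(2, -1), (0, 1), (2, 1), (2, -1)⟩, ⟨(2, -1), (2, -1), (-2, -1), (0, -1)⟩, ⟨(2, -1), (2, 1), (0, -1), (-2, 1)⟩, ⟨(2, 1), (-2, 1), (-2, 1), (0, 1)⟩, ⟨(2, 1), (0, -1), (2, -1), (-2, 1)⟩, ⟨(2, 1), (2, -1), (0, 1), (2, -1)⟩],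
    []]

/-- Short icosians with given class and norm. -/
def tab8_5 : List (List Q) :=
  [[],
    [⟨(0, 0), (0, -2), (0, 0), (0, 0)⟩, ⟨(0, 0), (0, 2), (0, 0), (0, 0)⟩],
    [],
    [],
    [],
    [],
    [⟨(0, 0), (0, 0), (0, 0), (0, -2)⟩, ⟨(0, 0), (0, 0), (0, 0), (0, 2)⟩],
    [],
    [⟨(0, 0), (0, 0), (0, -2), (0, 0)⟩, ⟨(0, 0), (0, 0), (0, 2), (0, 0)⟩],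
    [],
    [],
    [],
    [],
    [],
    [],
    [⟨(0, -2), (0, 0), (0, 0), (0, 0)⟩, ⟨(0, 2), (0, 0), (0, 0), (0, 0)⟩]]

/-- Short icosians with given class and norm. -/
def tab8_6 : List (List Q) :=
  [[],
    [],
    [],
    [⟨(-1, -1), (-1, -1), (-1, 1), (1, -1)⟩, ⟨(-1, -1), (-1, 1), (1, 1), (-1, 1)⟩, ⟨(-1, -1), (1, -1), (1, -1), (1, 1)⟩, ⟨(-1, 1), (-1, -1), (1, -1), (-1, -1)⟩, ⟨(-1, 1), (-1, 1), (-1, -1), (1, 1)⟩, ⟨(-1, 1), (1, 1), (1, 1), (1, -1)⟩, ⟨(1, -1), (-1, -1), (-1, -1), (-1, 1)⟩, ⟨(1, -1), (1, -1), (1, 1), (-1, -1)⟩, ⟨(1, -1), (1, 1), (-1, 1), (1, 1)⟩, ⟨(1, 1), (-1, 1), (-1, 1), (-1, -1)⟩, ⟨(1, 1), (1, -1), (-1, -1), (1, -1)⟩, ⟨(1, 1), (1, 1), (1, -1), (-1, 1)⟩],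
    [⟨(-1, -1), (-1, 1), (-1, 1), (1, 1)⟩, ⟨(-1, -1), (1, -1), (-1, -1), (-1, 1)⟩, ⟨(-1, -1), (1, 1), (1, -1), (1, -1)⟩, ⟨(-1, 1), (-1, -1), (-1, -1), (1, -1)⟩, ⟨(-1, 1), (1, -1), (1, 1), (1, 1)⟩, ⟨(-1, 1), (1, 1), (-1, 1), (-1, -1)⟩, ⟨(1, -1), (-1, -1), (1, -1), (1, 1)⟩, ⟨(1, -1), (-1, 1), (-1, -1), (-1, -1)⟩, ⟨(1, -1), (1, 1), (1, 1), (-1, 1)⟩, ⟨(1, 1), (-1, -1), (-1, 1), (-1, 1)⟩, ⟨(1, 1), (-1, 1), (1, 1), (1, -1)⟩, ⟨(1, 1), (1, -1), (1, -1), (-1, -1)⟩],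
    [],
    [],
    [],
    [],
    [],
    [⟨(-1, -1), (-1, -1), (1, -1), (-1, 1)⟩, ⟨(-1, -1), (-1, 1), (-1, -1), (1, -1)⟩, ⟨(-1, -1), (1, -1), (-1, 1), (-1, -1)⟩, ⟨(-1, 1), (-1, -1), (-1, 1), (1, 1)⟩, ⟨(-1, 1), (-1, 1), (1, 1), (-1, -1)⟩, ⟨(-1, 1), (1, 1), (-1, -1), (-1, 1)⟩, ⟨(1, -1), (-1, -1), (1, 1), (1, -1)⟩, ⟨(1, -1), (1, -1), (-1, -1), (1, 1)⟩, ⟨(1, -1), (1, 1), (1, -1), (-1, -1)⟩, ⟨(1, 1), (-1, 1), (1, -1), (1, 1)⟩, ⟨(1, 1), (1, -1), (1, 1), (-1, 1)⟩, ⟨(1, 1), (1, 1), (-1, 1), (1, -1)⟩],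
    [],
    [],
    [⟨(-1, -1), (-1, 1), (1, -1), (-1, -1)⟩, ⟨(-1, -1), (1, -1), (1, 1), (1, -1)⟩, ⟨(-1, -1), (1, 1), (-1, 1), (-1, 1)⟩, ⟨(-1, 1), (-1, -1), (1, 1), (-1, 1)⟩, ⟨(-1, 1), (1, -1), (-1, -1), (-1, -1)⟩, ⟨(-1, 1), (1, 1), (1, -1), (1, 1)⟩, ⟨(1, -1), (-1, -1), (-1, 1), (-1, -1)⟩, ⟨(1, -1), (-1, 1), (1, 1), (1, 1)⟩, ⟨(1, -1), (1, 1), (-1, -1), (1, -1)⟩, ⟨(1, 1), (-1, -1), (1, -1), (1, -1)⟩, ⟨(1, 1), (-1, 1), (-1, -1), (-1, 1)⟩, ⟨(1, 1), (1, -1), (-1, 1), (1, 1)⟩],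
    [],
    []]

/-- Short icosians with given class and norm. -/
def tab8_7 : List (List Q) :=
  [[],
    [⟨(-2, 0), (0, 0), (-2, 2), (0, 0)⟩, ⟨(-2, 0), (0, 0), (2, -2), (0, 0)⟩, ⟨(-2, 2), (0, 0), (0, 0), (-2, 0)⟩, ⟨(-2, 2), (0, 0), (0, 0), (2, 0)⟩, ⟨(0, 0), (0, 0), (-2, 0), (-2, 2)⟩, ⟨(0, 0), (0, 0), (-2, 0), (2, -2)⟩, ⟨(0, 0), (0, 0), (2, 0), (-2, 2)⟩, ⟨(0, 0), (0, 0), (2, 0), (2, -2)⟩, ⟨(2, -2), (0, 0), (0, 0), (-2, 0)⟩, ⟨(2, -2), (0, 0), (0, 0), (2, 0)⟩, ⟨(2, 0), (0, 0), (-2, 2), (0, 0)⟩, ⟨(2, 0), (0, 0), (2, -2), (0, 0)⟩],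
    [],
    [],
    [],
    [],
    [⟨(-2, 0), (-2, 2), (0, 0), (0, 0)⟩, ⟨(-2, 0), (2, -2), (0, 0), (0, 0)⟩, ⟨(-2, 2), (0, 0), (-2, 0), (0, 0)⟩, ⟨(-2, 2), (0, 0), (2, 0), (0, 0)⟩, ⟨(0, 0), (-2, 0), (-2, 2), (0, 0)⟩, ⟨(0, 0), (-2, 0), (2, -2), (0, 0)⟩, ⟨(0, 0), (2, 0), (-2, 2), (0, 0)⟩, ⟨(0, 0), (2, 0), (2, -2), (0, 0)⟩, ⟨(2, -2), (0, 0), (-2, 0), (0, 0)⟩, ⟨(2, -2), (0, 0), (2, 0), (0, 0)⟩, ⟨(2, 0), (-2, 2), (0, 0), (0, 0)⟩, ⟨(2, 0), (2, -2), (0, 0), (0, 0)⟩],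
    [],
    [⟨(-2, 0), (0, 0), (0, 0), (-2, 2)⟩, ⟨(-2, 0), (0, 0), (0, 0), (2, -2)⟩, ⟨(-2, 2), (-2, 0), (0, 0), (0, 0)⟩, ⟨(-2, 2), (2, 0), (0, 0), (0, 0)⟩, ⟨(0, 0), (-2, 2), (0, 0), (-2, 0)⟩, ⟨(0, 0), (-2, 2), (0, 0), (2, 0)⟩, ⟨(0, 0), (2, -2), (0, 0), (-2, 0)⟩, ⟨(0, 0), (2, -2), (0, 0), (2, 0)⟩, ⟨(2, -2), (-2, 0), (0, 0), (0, 0)⟩, ⟨(2, -2), (2, 0), (0, 0), (0, 0)⟩, ⟨(2, 0), (0, 0), (0, 0), (-2, 2)⟩, ⟨(2, 0), (0, 0), (0, 0), (2, -2)⟩],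
    [],
    [],
    [],
    [],
    [],
    [],
    [⟨(0, 0), (-2, 0), (0, 0), (-2, 2)⟩, ⟨(0, 0), (-2, 0), (0, 0), (2, -2)⟩, ⟨(0, 0), (-2, 2), (-2, 0), (0, 0)⟩, ⟨(0, 0), (-2, 2), (2, 0), (0, 0)⟩, ⟨(0, 0), (0, 0), (-2, 2), (-2, 0)⟩, ⟨(0, 0), (0, 0), (-2, 2), (2, 0)⟩, ⟨(0, 0), (0, 0), (2, -2), (-2, 0)⟩, ⟨(0, 0), (0, 0), (2, -2), (2, 0)⟩, ⟨(0, 0), (2, -2), (-2, 0), (0, 0)⟩, ⟨(0, 0), (2, -2), (2, 0), (0, 0)⟩, ⟨(0, 0), (2, 0), (0, 0), (-2, 2)⟩, ⟨(0, 0), (2, 0), (0, 0), (2, -2)⟩]]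

/-- Short icosians with given class and norm. -/
def tab8_8 : List (List Q) :=
  [[],
    [],
    [],
    [⟨(-1, 1), (1, -1), (-1, 1), (-1, 1)⟩, ⟨(1, -1), (-1, 1), (1, -1), (1, -1)⟩],
    [⟨(-1, 1), (-1, 1), (1, -1), (-1, 1)⟩, ⟨(1, -1), (1, -1), (-1, 1), (1, -1)⟩],
    [],
    [],
    [],
    [],
    [],
    [⟨(-1, 1), (1, -1), (1, -1), (1, -1)⟩, ⟨(1, -1), (-1, 1), (-1, 1), (-1, 1)⟩],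
    [],
    [],
    [⟨(-1, 1), (-1, 1), (-1, 1), (1, -1)⟩, ⟨(1, -1), (1, -1), (1, -1), (-1, 1)⟩],
    [],
    []]

/-- Short icosians with given class. -/
def tab8 : List (List (List Q)) :=
  [tab8_0, tab8_1, tab8_2, tab8_3, tab8_4, tab8_5, tab8_6, tab8_7, tab8_8]

/-- Short icosians with given class and norm. -/
def tab9_0 : List (List Q) :=
  [[],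
    [],
    [],
    [],
    [],
    [],
    [],
    [],
    [],
    [],
    [],
    [],
    [],
    [],
    [],
    []]

/-- Short icosians with given class and norm. -/
def tab9_1 : List (List Q) :=
  [[],
    [],
    [],
    [],
    [],
    [],
    [⟨(-1, 1), (0, -1), (0, 0), (1, 0)⟩, ⟨(1, -1), (0, 1), (0, 0), (-1, 0)⟩],
    [⟨(-1, 0), (0, 0), (0, 1), (-1, 1)⟩, ⟨(1, 0), (0, 0), (0, -1), (1, -1)⟩],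
    [],
    [],
    [⟨(0, 0), (-1, 0), (-1, 1), (0, -1)⟩, ⟨(0, 0), (1, 0), (1, -1), (0, 1)⟩],
    [⟨(0, -1), (1, -1), (-1, 0), (0, 0)⟩, ⟨(0, 1), (-1, 1), (1, 0), (0, 0)⟩],
    [],
    [],
    [],
    []]

/-- Short icosians with given class and norm. -/
def tab9_2 : List (List Q) :=
  [[⟨(-1, 0), (-2, 0), (0, -1), (1, -1)⟩, ⟨(-1, 0), (0, 0), (-2, 1), (1, 1)⟩, ⟨(-1, 0), (2, 0), (0, -1), (1, -1)⟩, ⟨(-1, 2), (0, 0), (0, -1), (-1, 1)⟩, ⟨(1, -2), (0, 0), (0, 1), (1, -1)⟩, ⟨(1, 0), (-2, 0), (0, 1), (-1, 1)⟩, ⟨(1, 0), (0, 0), (2, -1), (-1, -1)⟩, ⟨(1, 0), (2, 0), (0, 1), (-1, 1)⟩],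
    [⟨(-1, -1), (-2, 1), (0, 0), (-1, 0)⟩, ⟨(-1, 1), (0, -1), (-2, 0), (-1, 0)⟩, ⟨(-1, 1), (0, -1), (2, 0), (-1, 0)⟩, ⟨(-1, 1), (0, 1), (0, 0), (1, -2)⟩, ⟨(1, -1), (0, -1), (0, 0), (-1, 2)⟩, ⟨(1, -1), (0, 1), (-2, 0), (1, 0)⟩, ⟨(1, -1), (0, 1), (2, 0), (1, 0)⟩, ⟨(1, 1), (2, -1), (0, 0), (1, 0)⟩],
    [],
    [],
    [],
    [],
    [],
    [],
    [],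
    [],
    [],
    [],
    [⟨(-2, 1), (1, 1), (1, 0), (0, 0)⟩, ⟨(0, -1), (-1, 1), (1, -2), (0, 0)⟩, ⟨(0, -1), (1, -1), (1, 0), (-2, 0)⟩, ⟨(0, -1), (1, -1), (1, 0), (2, 0)⟩, ⟨(0, 1), (-1, 1), (-1, 0), (-2, 0)⟩, ⟨(0, 1), (-1, 1), (-1, 0), (2, 0)⟩, ⟨(0, 1), (1, -1), (-1, 2), (0, 0)⟩, ⟨(2, -1), (-1, -1), (-1, 0), (0, 0)⟩],
    [⟨(-2, 0), (-1, 0), (1, -1), (0, 1)⟩, ⟨(-2, 0), (1, 0), (-1, 1), (0, -1)⟩, ⟨(0, 0), (-1, 0), (1, 1), (2, -1)⟩, ⟨(0, 0), (-1, 2), (-1, 1), (0, 1)⟩, ⟨(0, 0), (1, -2), (1, -1), (0, -1)⟩, ⟨(0, 0), (1, 0), (-1, -1), (-2, 1)⟩, ⟨(2, 0), (-1, 0), (1, -1), (0, 1)⟩, ⟨(2, 0), (1, 0), (-1, 1), (0, -1)⟩],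
    [],
    []]

/-- Short icosians with given class and norm. -/
def tab9_3 : List (List Q) :=
  [[],
    [],
    [],
    [],
    [],
    [],
    [⟨(-1, -1), (-2, 1), (-2, 0), (1, 0)⟩, ⟨(-1, -1), (-2, 1), (2, 0), (1, 0)⟩, ⟨(-1, -1), (0, -1), (-2, 2), (-1, 0)⟩, ⟨(-1, -1), (0, -1), (2, -2), (-1, 0)⟩, ⟨(-1, -1), (2, -1), (0, 0), (-1, 2)⟩, ⟨(-1, 1), (-2, 1), (0, -2), (-1, 0)⟩, ⟨(-1, 1), (-2, 1), (0, 2), (-1, 0)⟩, ⟨(-1, 1), (0, -1), (0, 0), (-3, 0)⟩, ⟨(-1, 1), (0, 1), (-2, 0), (-1, 2)⟩, ⟨(-1, 1), (0, 1), (2, 0), (-1, 2)⟩, ⟨(1, -1), (0, -1), (-2, 0), (1, -2)⟩, ⟨(1, -1), (0, -1), (2, 0), (1, -2)⟩, ⟨(1, -1), (0, 1), (0, 0), (3, 0)⟩, ⟨(1, -1), (2, -1), (0, -2), (1, 0)⟩, ⟨(1, -1), (2, -1), (0, 2), (1, 0)⟩,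 ⟨(1, 1), (-2, 1), (0, 0), (1, -2)⟩, ⟨(1, 1), (0, 1), (-2, 2), (1, 0)⟩, ⟨(1, 1), (0, 1), (2, -2), (1, 0)⟩, ⟨(1, 1), (2, -1), (-2, 0), (-1, 0)⟩, ⟨(1, 1), (2, -1), (2, 0), (-1, 0)⟩],
    [⟨(-3, 0), (0, 0), (0, -1), (1, -1)⟩, ⟨(-1, 0), (-2, 0), (2, -1), (-1, -1)⟩, ⟨(-1, 0), (-2, 2), (0, -1), (1, 1)⟩, ⟨(-1, 0), (0, -2), (-2, 1), (1, -1)⟩, ⟨(-1, 0), (0, 2), (-2, 1), (1, -1)⟩, ⟨(-1, 0), (2, -2), (0, -1), (1, 1)⟩, ⟨(-1, 0), (2, 0), (2, -1), (-1, -1)⟩, ⟨(-1, 2), (-2, 0), (0, 1), (1, -1)⟩, ⟨(-1, 2), (0, 0), (2, -1), (1, 1)⟩, ⟨(-1, 2), (2, 0), (0, 1), (1, -1)⟩, ⟨(1, -2), (-2, 0), (0, -1), (-1, 1)⟩, ⟨(1, -2), (0, 0), (-2, 1), (-1, -1)⟩, ⟨(1, -2), (2, 0), (0, -1), (-1, 1)⟩, ⟨(1, 0), (-2, 0), (-2, 1), (1, 1)⟩,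 ⟨(1, 0), (-2, 2), (0, 1), (-1, -1)⟩, ⟨(1, 0), (0, -2), (2, -1), (-1, 1)⟩, ⟨(1, 0), (0, 2), (2, -1), (-1, 1)⟩, ⟨(1, 0), (2, -2), (0, 1), (-1, -1)⟩, ⟨(1, 0), (2, 0), (-2, 1), (1, 1)⟩, ⟨(3, 0), (0, 0), (0, 1), (-1, 1)⟩],
    [],
    [],
    [⟨(-2, 0), (-1, 0), (-1, -1), (-2, 1)⟩, ⟨(-2, 0), (-1, 2), (1, -1), (0, -1)⟩, ⟨(-2, 0), (1, -2), (-1, 1), (0, 1)⟩, ⟨(-2, 0), (1, 0), (1, 1), (2, -1)⟩, ⟨(-2, 2), (-1, 0), (1, 1), (0, 1)⟩, ⟨(-2, 2), (1, 0), (-1, -1), (0, -1)⟩, ⟨(0, -2), (-1, 0), (1, -1), (2, -1)⟩, ⟨(0, -2), (1, 0), (-1, 1), (-2, 1)⟩, ⟨(0, 0), (-3, 0), (1, -1), (0, 1)⟩, ⟨(0, 0), (-1, 2), (1, 1), (-2, 1)⟩, ⟨(0, 0), (1, -2), (-1, -1), (2, -1)⟩, ⟨(0, 0), (3, 0), (-1, 1), (0, -1)⟩, ⟨(0, 2), (-1, 0), (1,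 -1), (2, -1)⟩, ⟨(0, 2), (1, 0), (-1, 1), (-2, 1)⟩, ⟨(2, -2), (-1, 0), (1, 1), (0, 1)⟩, ⟨(2, -2), (1, 0), (-1, -1), (0, -1)⟩, ⟨(2, 0), (-1, 0), (-1, -1), (-2, 1)⟩, ⟨(2, 0), (-1, 2), (1, -1), (0, -1)⟩, ⟨(2, 0), (1, -2), (-1, 1), (0, 1)⟩, ⟨(2, 0), (1, 0), (1, 1), (2, -1)⟩],
    [⟨(-2, 1), (-1, -1), (-1, 2), (0, 0)⟩, ⟨(-2, 1), (1, -1), (1, 0), (0, -2)⟩, ⟨(-2, 1), (1, -1), (1, 0), (0, 2)⟩, ⟨(-2, 1), (1, 1), (-1, 0), (-2, 0)⟩, ⟨(-2, 1), (1, 1), (-1, 0), (2, 0)⟩, ⟨(0, -1), (-1, 1), (-1, 2), (-2, 0)⟩, ⟨(0, -1), (-1, 1), (-1, 2), (2, 0)⟩, ⟨(0, -1), (1, -1), (3, 0), (0, 0)⟩, ⟨(0, -1), (1, 1), (1, 0), (-2, 2)⟩, ⟨(0, -1), (1, 1), (1, 0), (2, -2)⟩, ⟨(0, 1), (-1, -1), (-1, 0), (-2, 2)⟩, ⟨(0, 1), (-1, -1), (-1,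 0), (2, -2)⟩, ⟨(0, 1), (-1, 1), (-3, 0), (0, 0)⟩, ⟨(0, 1), (1, -1), (1, -2), (-2, 0)⟩, ⟨(0, 1), (1, -1), (1, -2), (2, 0)⟩, ⟨(2, -1), (-1, -1), (1, 0), (-2, 0)⟩, ⟨(2, -1), (-1, -1), (1, 0), (2, 0)⟩, ⟨(2, -1), (-1, 1), (-1, 0), (0, -2)⟩, ⟨(2, -1), (-1, 1), (-1, 0), (0, 2)⟩, ⟨(2, -1), (1, 1), (1, -2), (0, 0)⟩],
    [],
    [],
    [],
    []]

/-- Short icosians with given class and norm. -/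
def tab9_4 : List (List Q) :=
  [[⟨(-3, 0), (-2, 0), (0, 1), (-1, 1)⟩, ⟨(-3, 0), (0, 0), (2, -1), (-1, -1)⟩, ⟨(-3, 0), (2, 0), (0, 1), (-1, 1)⟩, ⟨(-1, 0), (-2, 2), (-2, -1), (-1, 1)⟩, ⟨(-1, 0), (0, -2), (0, 1), (3, -1)⟩, ⟨(-1, 0), (0, 0), (-2, 1), (1, -3)⟩, ⟨(-1, 0), (0, 0), (2, -3), (1, 1)⟩, ⟨(-1, 0), (0, 0), (2, 1), (-3, 1)⟩, ⟨(-1, 0), (0, 2), (0, 1), (3, -1)⟩, ⟨(-1, 0), (2, -2), (-2, -1), (-1, 1)⟩, ⟨(-1, 2), (-2, 0), (-2, 1), (-1, -1)⟩, ⟨(-1, 2), (-2, 2), (0, 1), (1, 1)⟩, ⟨(-1, 2), (0, -2), (2, -1), (1, -1)⟩, ⟨(-1, 2), (0, 2), (2, -1), (1, -1)⟩, ⟨(-1, 2), (2, -2), (0, 1), (1, 1)⟩, ⟨(-1, 2), (2, 0), (-2, 1), (-1, -1)⟩, ⟨(1, -2), (-2, 0), (2, -1), (1, 1)⟩, ⟨(1, -2), (-2, 2), (0, -1), (-1, -1)⟩,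 ⟨(1, -2), (0, -2), (-2, 1), (-1, 1)⟩, ⟨(1, -2), (0, 2), (-2, 1), (-1, 1)⟩, ⟨(1, -2), (2, -2), (0, -1), (-1, -1)⟩, ⟨(1, -2), (2, 0), (2, -1), (1, 1)⟩, ⟨(1, 0), (-2, 2), (2, 1), (1, -1)⟩, ⟨(1, 0), (0, -2), (0, -1), (-3, 1)⟩, ⟨(1, 0), (0, 0), (-2, -1), (3, -1)⟩, ⟨(1, 0), (0, 0), (-2, 3), (-1, -1)⟩, ⟨(1, 0), (0, 0), (2, -1), (-1, 3)⟩, ⟨(1, 0), (0, 2), (0, -1), (-3, 1)⟩, ⟨(1, 0), (2, -2), (2, 1), (1, -1)⟩, ⟨(3, 0), (-2, 0), (0, -1), (1, -1)⟩, ⟨(3, 0), (0, 0), (-2, 1), (1, 1)⟩, ⟨(3, 0), (2, 0), (0, -1), (1, -1)⟩],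
    [⟨(-3, 1), (-2, -1), (0, 0), (1, 0)⟩, ⟨(-3, 1), (0, 1), (0, -2), (-1, 0)⟩, ⟨(-3, 1), (0, 1), (0, 2), (-1, 0)⟩, ⟨(-1, -1), (-2, 1), (0, 0), (3, 0)⟩, ⟨(-1, -1), (0, 1), (-2, 2), (-1, 2)⟩, ⟨(-1, -1), (0, 1), (2, -2), (-1, 2)⟩, ⟨(-1, -1), (2, -3), (0, 0), (-1, 0)⟩, ⟨(-1, -1), (2, -1), (-2, 0), (1, -2)⟩, ⟨(-1, -1), (2, -1), (2, 0), (1, -2)⟩, ⟨(-1, 1), (0, -1), (-2, 0), (3, 0)⟩, ⟨(-1, 1), (0, -1), (2, 0), (3, 0)⟩, ⟨(-1, 1), (2, -1), (0, -2), (-1, 2)⟩, ⟨(-1, 1), (2, -1), (0, 2), (-1, 2)⟩, ⟨(-1, 1), (2, 1), (-2, 2), (1, 0)⟩, ⟨(-1, 1), (2, 1), (2, -2), (1, 0)⟩, ⟨(-1, 3), (-2, 1), (0, 0), (-1, 0)⟩, ⟨(1, -3), (2, -1), (0, 0), (1, 0)⟩, ⟨(1, -1), (-2, -1), (-2, 2), (-1, 0)⟩, ⟨(1, -1), (-2, -1), (2, -2),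 (-1, 0)⟩, ⟨(1, -1), (-2, 1), (0, -2), (1, -2)⟩, ⟨(1, -1), (-2, 1), (0, 2), (1, -2)⟩, ⟨(1, -1), (0, 1), (-2, 0), (-3, 0)⟩, ⟨(1, -1), (0, 1), (2, 0), (-3, 0)⟩, ⟨(1, 1), (-2, 1), (-2, 0), (-1, 2)⟩, ⟨(1, 1), (-2, 1), (2, 0), (-1, 2)⟩, ⟨(1, 1), (-2, 3), (0, 0), (1, 0)⟩, ⟨(1, 1), (0, -1), (-2, 2), (1, -2)⟩, ⟨(1, 1), (0, -1), (2, -2), (1, -2)⟩, ⟨(1, 1), (2, -1), (0, 0), (-3, 0)⟩, ⟨(3, -1), (0, -1), (0, -2), (1, 0)⟩, ⟨(3, -1), (0, -1), (0, 2), (1, 0)⟩, ⟨(3, -1), (2, 1), (0, 0), (-1, 0)⟩],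
    [],
    [],
    [],
    [],
    [],
    [],
    [],
    [],
    [],
    [],
    [⟨(-2, -1), (-1, 1), (1, 0), (-2, 2)⟩, ⟨(-2, -1), (-1, 1), (1, 0), (2, -2)⟩, ⟨(-2, -1), (3, -1), (-1, 0), (0, 0)⟩, ⟨(-2, 1), (-1, -1), (1, -2), (-2, 0)⟩, ⟨(-2, 1), (-1, -1), (1, -2), (2, 0)⟩, ⟨(-2, 1), (-1, 1), (-1, 2), (0, -2)⟩, ⟨(-2, 1), (-1, 1), (-1, 2), (0, 2)⟩, ⟨(-2, 1), (1, -3), (1, 0), (0, 0)⟩, ⟨(-2, 1), (1, 1), (-3, 0), (0, 0)⟩, ⟨(-2, 3), (-1, -1), (-1, 0), (0, 0)⟩, ⟨(0, -1), (-3, 1), (-1, 0), (0, -2)⟩, ⟨(0, -1), (-3, 1), (-1, 0), (0, 2)⟩, ⟨(0, -1), (-1, -1), (-1, 2), (-2, 2)⟩, ⟨(0, -1), (-1, -1), (-1, 2), (2, -2)⟩, ⟨(0, -1), (1, -1), (-3, 0), (-2, 0)⟩, ⟨(0, -1), (1, -1), (-3, 0), (2, 0)⟩, ⟨(0, 1), (-1, 1),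 (3, 0), (-2, 0)⟩, ⟨(0, 1), (-1, 1), (3, 0), (2, 0)⟩, ⟨(0, 1), (1, 1), (1, -2), (-2, 2)⟩, ⟨(0, 1), (1, 1), (1, -2), (2, -2)⟩, ⟨(0, 1), (3, -1), (1, 0), (0, -2)⟩, ⟨(0, 1), (3, -1), (1, 0), (0, 2)⟩, ⟨(2, -3), (1, 1), (1, 0), (0, 0)⟩, ⟨(2, -1), (-1, -1), (3, 0), (0, 0)⟩, ⟨(2, -1), (-1, 3), (-1, 0), (0, 0)⟩, ⟨(2, -1), (1, -1), (1, -2), (0, -2)⟩, ⟨(2, -1), (1, -1), (1, -2), (0, 2)⟩, ⟨(2, -1), (1, 1), (-1, 2), (-2, 0)⟩, ⟨(2, -1), (1, 1), (-1, 2), (2, 0)⟩, ⟨(2, 1), (-3, 1), (1, 0), (0, 0)⟩, ⟨(2, 1), (1, -1), (-1, 0), (-2, 2)⟩, ⟨(2, 1), (1, -1), (-1, 0), (2, -2)⟩],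
    [⟨(-2, 0), (-3, 0), (-1, 1), (0, -1)⟩, ⟨(-2, 0), (-1, 2), (-1, -1), (2, -1)⟩, ⟨(-2, 0), (1, -2), (1, 1), (-2, 1)⟩, ⟨(-2, 0), (3, 0), (1, -1), (0, 1)⟩, ⟨(-2, 2), (-1, 0), (-1, 1), (2, 1)⟩, ⟨(-2, 2), (-1, 2), (1, 1), (0, -1)⟩, ⟨(-2, 2), (1, -2), (-1, -1), (0, 1)⟩, ⟨(-2, 2), (1, 0), (1, -1), (-2, -1)⟩, ⟨(0, -2), (-1, 0), (3, -1), (0, -1)⟩, ⟨(0, -2), (-1, 2), (1, -1), (-2, 1)⟩, ⟨(0, -2), (1, -2), (-1, 1), (2, -1)⟩, ⟨(0, -2), (1, 0), (-3, 1), (0, 1)⟩, ⟨(0, 0), (-3, 0), (-1, -1), (-2, 1)⟩, ⟨(0, 0), (-1, 0), (-3, 1), (-2, -1)⟩, ⟨(0, 0), (-1, 0), (1, -3), (2, -1)⟩, ⟨(0, 0), (-1, 0), (1, 1), (-2, 3)⟩, ⟨(0, 0), (1, 0), (-1, -1), (2, -3)⟩, ⟨(0, 0), (1, 0), (-1, 3), (-2, 1)⟩, ⟨(0, 0), (1, 0), (3, -1), (2,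 1)⟩, ⟨(0, 0), (3, 0), (1, 1), (2, -1)⟩, ⟨(0, 2), (-1, 0), (3, -1), (0, -1)⟩, ⟨(0, 2), (-1, 2), (1, -1), (-2, 1)⟩, ⟨(0, 2), (1, -2), (-1, 1), (2, -1)⟩, ⟨(0, 2), (1, 0), (-3, 1), (0, 1)⟩, ⟨(2, -2), (-1, 0), (-1, 1), (2, 1)⟩, ⟨(2, -2), (-1, 2), (1, 1), (0, -1)⟩, ⟨(2, -2), (1, -2), (-1, -1), (0, 1)⟩, ⟨(2, -2), (1, 0), (1, -1), (-2, -1)⟩, ⟨(2, 0), (-3, 0), (-1, 1), (0, -1)⟩, ⟨(2, 0), (-1, 2), (-1, -1), (2, -1)⟩, ⟨(2, 0), (1, -2), (1, 1), (-2, 1)⟩, ⟨(2, 0), (3, 0), (1, -1), (0, 1)⟩],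
    [],
    []]

/-- Short icosians with given class and norm. -/
def tab9_5 : List (List Q) :=
  [[],
    [],
    [],
    [],
    [⟨(0, 0), (-1, 0), (-1, -1), (0, 1)⟩, ⟨(0, 0), (1, 0), (1, 1), (0, -1)⟩],
    [⟨(0, -1), (-1, -1), (1, 0), (0, 0)⟩, ⟨(0, 1), (1, 1), (-1, 0), (0, 0)⟩],
    [],
    [],
    [⟨(-1, -1), (0, 1), (0, 0), (1, 0)⟩, ⟨(1, 1), (0, -1), (0, 0), (-1, 0)⟩],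
    [⟨(-1, 0), (0, 0), (0, -1), (-1, -1)⟩, ⟨(1, 0), (0, 0), (0, 1), (1, 1)⟩],
    [],
    [],
    [],
    [],
    [],
    []]

/-- Short icosians with given class and norm. -/
def tab9_6 : List (List Q) :=
  [[],
    [],
    [⟨(-2, -1), (1, -1), (1, 0), (0, 0)⟩, ⟨(0, -1), (-1, -1), (-1, 0), (-2, 0)⟩, ⟨(0, -1), (-1, -1), (-1, 0), (2, 0)⟩, ⟨(0, -1), (-1, 1), (1, 0), (0, -2)⟩, ⟨(0, -1), (-1, 1), (1, 0), (0, 2)⟩, ⟨(0, -1), (1, 1), (-1, 2), (0, 0)⟩, ⟨(0, 1), (-1, -1), (1, -2), (0, 0)⟩, ⟨(0, 1), (1, -1), (-1, 0), (0, -2)⟩, ⟨(0, 1), (1, -1), (-1, 0), (0, 2)⟩, ⟨(0, 1), (1, 1), (1, 0), (-2, 0)⟩, ⟨(0, 1), (1, 1), (1, 0), (2, 0)⟩, ⟨(2, 1), (-1, 1), (-1, 0), (0, 0)⟩],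
    [⟨(-2, 0), (-1, 0), (1, 1), (0, -1)⟩, ⟨(-2, 0), (1, 0), (-1, -1), (0, 1)⟩, ⟨(0, -2), (-1, 0), (-1, 1), (0, 1)⟩, ⟨(0, -2), (1, 0), (1, -1), (0, -1)⟩, ⟨(0, 0), (-1, 0), (1, -1), (2, 1)⟩, ⟨(0, 0), (-1, 2), (-1, -1), (0, -1)⟩, ⟨(0, 0), (1, -2), (1, 1), (0, 1)⟩, ⟨(0, 0), (1, 0), (-1, 1), (-2, -1)⟩, ⟨(0, 2), (-1, 0), (-1, 1), (0, 1)⟩, ⟨(0, 2), (1, 0), (1, -1), (0, -1)⟩, ⟨(2, 0), (-1, 0), (1, 1), (0, -1)⟩, ⟨(2, 0), (1, 0), (-1, -1), (0, 1)⟩],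
    [],
    [],
    [],
    [],
    [],
    [],
    [],
    [],
    [],
    [],
    [⟨(-1, 0), (-2, 0), (0, 1), (1, 1)⟩, ⟨(-1, 0), (0, -2), (0, -1), (-1, 1)⟩, ⟨(-1, 0), (0, 0), (-2, -1), (1, -1)⟩, ⟨(-1, 0), (0, 2), (0, -1), (-1, 1)⟩, ⟨(-1, 0), (2, 0), (0, 1), (1, 1)⟩, ⟨(-1, 2), (0, 0), (0, 1), (-1, -1)⟩, ⟨(1, -2), (0, 0), (0, -1), (1, 1)⟩, ⟨(1, 0), (-2, 0), (0, -1), (-1, -1)⟩, ⟨(1, 0), (0, -2), (0, 1), (1, -1)⟩, ⟨(1, 0), (0, 0), (2, 1), (-1, 1)⟩, ⟨(1, 0), (0, 2), (0, 1), (1, -1)⟩, ⟨(1, 0), (2, 0), (0, -1), (-1, -1)⟩],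
    [⟨(-1, -1), (0, -1), (0, 0), (1, -2)⟩, ⟨(-1, -1), (0, 1), (-2, 0), (-1, 0)⟩, ⟨(-1, -1), (0, 1), (2, 0), (-1, 0)⟩, ⟨(-1, 1), (-2, -1), (0, 0), (-1, 0)⟩, ⟨(-1, 1), (0, 1), (0, -2), (1, 0)⟩, ⟨(-1, 1), (0, 1), (0, 2), (1, 0)⟩, ⟨(1, -1), (0, -1), (0, -2), (-1, 0)⟩, ⟨(1, -1), (0, -1), (0, 2), (-1, 0)⟩, ⟨(1, -1), (2, 1), (0, 0), (1, 0)⟩, ⟨(1, 1), (0, -1), (-2, 0), (1, 0)⟩, ⟨(1, 1), (0, -1), (2, 0), (1, 0)⟩, ⟨(1, 1), (0, 1), (0, 0), (-1, 2)⟩]]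

/-- Short icosians with given class and norm. -/
def tab9_7 : List (List Q) :=
  [[],
    [],
    [],
    [],
    [⟨(-2, 0), (-1, 0), (-1, 1), (2, -1)⟩, ⟨(-2, 0), (1, 0), (1, -1), (-2, 1)⟩, ⟨(-2, 2), (-1, 0), (1, -1), (0, -1)⟩, ⟨(-2, 2), (1, 0), (-1, 1), (0, 1)⟩, ⟨(0, 0), (-1, 0), (3, -1), (0, 1)⟩, ⟨(0, 0), (-1, 2), (1, -1), (2, -1)⟩, ⟨(0, 0), (1, -2), (-1, 1), (-2, 1)⟩, ⟨(0, 0), (1, 0), (-3, 1), (0, -1)⟩, ⟨(2, -2), (-1, 0), (1, -1), (0, -1)⟩, ⟨(2, -2), (1, 0), (-1, 1), (0, 1)⟩, ⟨(2, 0), (-1, 0), (-1, 1), (2, -1)⟩, ⟨(2, 0), (1, 0), (1, -1), (-2, 1)⟩],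
    [⟨(-2, 1), (-1, 1), (1, 0), (-2, 0)⟩, ⟨(-2, 1), (-1, 1), (1, 0), (2, 0)⟩, ⟨(-2, 1), (1, -1), (1, -2), (0, 0)⟩, ⟨(0, -1), (-1, 1), (-1, 0), (-2, 2)⟩, ⟨(0, -1), (-1, 1), (-1, 0), (2, -2)⟩, ⟨(0, -1), (3, -1), (1, 0), (0, 0)⟩, ⟨(0, 1), (-3, 1), (-1, 0), (0, 0)⟩, ⟨(0, 1), (1, -1), (1, 0), (-2, 2)⟩, ⟨(0, 1), (1, -1), (1, 0), (2, -2)⟩, ⟨(2, -1), (-1, 1), (-1, 2), (0, 0)⟩, ⟨(2, -1), (1, -1), (-1, 0), (-2, 0)⟩, ⟨(2, -1), (1, -1), (-1, 0), (2, 0)⟩],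
    [],
    [],
    [⟨(-3, 1), (0, -1), (0, 0), (-1, 0)⟩, ⟨(-1, 1), (-2, 1), (0, 0), (-1, 2)⟩, ⟨(-1, 1), (0, 1), (-2, 2), (-1, 0)⟩, ⟨(-1, 1), (0, 1), (2, -2), (-1, 0)⟩, ⟨(-1, 1), (2, -1), (-2, 0), (1, 0)⟩, ⟨(-1, 1), (2, -1), (2, 0), (1, 0)⟩, ⟨(1, -1), (-2, 1), (-2, 0), (-1, 0)⟩, ⟨(1, -1), (-2, 1), (2, 0), (-1, 0)⟩, ⟨(1, -1), (0, -1), (-2, 2), (1, 0)⟩, ⟨(1, -1), (0, -1), (2, -2), (1, 0)⟩, ⟨(1, -1), (2, -1), (0, 0), (1, -2)⟩, ⟨(3, -1), (0, 1), (0, 0), (1, 0)⟩],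
    [⟨(-1, 0), (-2, 0), (-2, 1), (-1, 1)⟩, ⟨(-1, 0), (-2, 2), (0, 1), (1, -1)⟩, ⟨(-1, 0), (0, 0), (0, -1), (3, -1)⟩, ⟨(-1, 0), (2, -2), (0, 1), (1, -1)⟩, ⟨(-1, 0), (2, 0), (-2, 1), (-1, 1)⟩, ⟨(-1, 2), (0, 0), (-2, 1), (1, -1)⟩, ⟨(1, -2), (0, 0), (2, -1), (-1, 1)⟩, ⟨(1, 0), (-2, 0), (2, -1), (1, -1)⟩, ⟨(1, 0), (-2, 2), (0, -1), (-1, 1)⟩, ⟨(1, 0), (0, 0), (0, 1), (-3, 1)⟩, ⟨(1, 0), (2, -2), (0, -1), (-1, 1)⟩, ⟨(1, 0), (2, 0), (2, -1), (1, -1)⟩],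
    [],
    [],
    [],
    [],
    [],
    []]

/-- Short icosians with given class and norm. -/
def tab9_8 : List (List Q) :=
  [[],
    [],
    [⟨(-2, 1), (-1, 1), (-1, 0), (0, 0)⟩, ⟨(2, -1), (1, -1), (1, 0), (0, 0)⟩],
    [⟨(0, 0), (-1, 0), (1, -1), (-2, 1)⟩, ⟨(0, 0), (1, 0), (-1, 1), (2, -1)⟩],
    [],
    [],
    [],
    [],
    [],
    [],
    [],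
    [],
    [],
    [],
    [⟨(-1, 0), (0, 0), (2, -1), (1, -1)⟩, ⟨(1, 0), (0, 0), (-2, 1), (-1, 1)⟩],
    [⟨(-1, 1), (2, -1), (0, 0), (-1, 0)⟩, ⟨(1, -1), (-2, 1), (0, 0), (1, 0)⟩]]

/-- Short icosians with given class. -/
def tab9 : List (List (List Q)) :=
  [tab9_0, tab9_1, tab9_2, tab9_3, tab9_4, tab9_5, tab9_6, tab9_7, tab9_8]

/-- Short icosians with given class and norm. -/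
def tab10_0 : List (List Q) :=
  [[],
    [],
    [],
    [],
    [],
    [],
    [],
    [],
    [],
    [],
    [],
    [],
    [],
    [],
    [],
    []]

/-- Short icosians with given class and norm. -/
def tab10_1 : List (List Q) :=
  [[],
    [⟨(-1, 1), (1, 0), (0, -1), (0, 0)⟩, ⟨(1, -1), (-1, 0), (0, 1), (0, 0)⟩],
    [⟨(0, -1), (0, 0), (1, -1), (-1, 0)⟩, ⟨(0, 1), (0, 0), (-1, 1), (1, 0)⟩],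
    [],
    [],
    [],
    [],
    [],
    [],
    [⟨(-1, 0), (-1, 1), (0, 0), (0, 1)⟩, ⟨(1, 0), (1, -1), (0, 0), (0, -1)⟩],
    [⟨(0, 0), (0, -1), (-1, 0), (-1, 1)⟩, ⟨(0, 0), (0, 1), (1, 0), (1, -1)⟩],
    [],
    [],
    [],
    [],
    []]

/-- Short icosians with given class and norm. -/
def tab10_2 : List (List Q) :=
  [[⟨(-1, 0), (1, -1), (-2, 0), (0, -1)⟩, ⟨(-1, 0), (1, -1), (2, 0), (0, -1)⟩, ⟨(-1, 0), (1, 1), (0, 0), (-2, 1)⟩, ⟨(-1, 2), (-1, 1), (0, 0), (0, -1)⟩, ⟨(1, -2), (1, -1), (0, 0), (0, 1)⟩, ⟨(1, 0), (-1, -1), (0, 0), (2, -1)⟩, ⟨(1, 0), (-1, 1), (-2, 0), (0, 1)⟩, ⟨(1, 0), (-1, 1), (2, 0), (0, 1)⟩],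
    [],
    [],
    [⟨(-2, 0), (0, -1), (1, 0), (-1, 1)⟩, ⟨(-2, 0), (0, 1), (-1, 0), (1, -1)⟩, ⟨(0, 0), (-2, 1), (1, 0), (-1, -1)⟩, ⟨(0, 0), (0, -1), (1, -2), (1, -1)⟩, ⟨(0, 0), (0, 1), (-1, 2), (-1, 1)⟩, ⟨(0, 0), (2, -1), (-1, 0), (1, 1)⟩, ⟨(2, 0), (0, -1), (1, 0), (-1, 1)⟩, ⟨(2, 0), (0, 1), (-1, 0), (1, -1)⟩],
    [],
    [],
    [],
    [],
    [⟨(-1, -1), (-1, 0), (-2, 1), (0, 0)⟩, ⟨(-1, 1), (-1, 0), (0, -1), (-2, 0)⟩, ⟨(-1, 1), (-1, 0), (0, -1), (2, 0)⟩, ⟨(-1, 1), (1, -2), (0, 1), (0, 0)⟩, ⟨(1, -1), (-1, 2), (0, -1), (0, 0)⟩, ⟨(1, -1), (1, 0), (0, 1), (-2, 0)⟩, ⟨(1, -1), (1, 0), (0, 1), (2, 0)⟩, ⟨(1, 1), (1, 0), (2, -1), (0, 0)⟩],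
    [],
    [],
    [⟨(-2, 1), (0, 0), (1, 1), (1, 0)⟩, ⟨(0, -1), (-2, 0), (1, -1), (1, 0)⟩, ⟨(0, -1), (0, 0), (-1, 1), (1, -2)⟩, ⟨(0, -1), (2, 0), (1, -1), (1, 0)⟩, ⟨(0, 1), (-2, 0), (-1, 1), (-1, 0)⟩, ⟨(0, 1), (0, 0), (1, -1), (-1, 2)⟩, ⟨(0, 1), (2, 0), (-1, 1), (-1, 0)⟩, ⟨(2, -1), (0, 0), (-1, -1), (-1, 0)⟩],
    [],
    [],
    [],
    []]

/-- Short icosians with given class and norm. -/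
def tab10_3 : List (List Q) :=
  [[],
    [⟨(-1, -1), (-1, 0), (0, -1), (-2, 2)⟩, ⟨(-1, -1), (-1, 0), (0, -1), (2, -2)⟩, ⟨(-1, -1), (-1, 2), (2, -1), (0, 0)⟩, ⟨(-1, -1), (1, 0), (-2, 1), (-2, 0)⟩, ⟨(-1, -1), (1, 0), (-2, 1), (2, 0)⟩, ⟨(-1, 1), (-3, 0), (0, -1), (0, 0)⟩, ⟨(-1, 1), (-1, 0), (-2, 1), (0, -2)⟩, ⟨(-1, 1), (-1, 0), (-2, 1), (0, 2)⟩, ⟨(-1, 1), (-1, 2), (0, 1), (-2, 0)⟩, ⟨(-1, 1), (-1, 2), (0, 1), (2, 0)⟩, ⟨(1, -1), (1, -2), (0, -1), (-2, 0)⟩, ⟨(1, -1), (1, -2), (0, -1), (2, 0)⟩, ⟨(1, -1), (1, 0), (2, -1), (0, -2)⟩, ⟨(1, -1), (1, 0), (2, -1), (0, 2)⟩, ⟨(1, -1), (3, 0), (0, 1), (0, 0)⟩, ⟨(1, 1), (-1, 0), (2, -1), (-2, 0)⟩, ⟨(1, 1), (-1, 0), (2, -1), (2, 0)⟩, ⟨(1, 1), (1, -2), (-2, 1), (0,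 0)⟩, ⟨(1, 1), (1, 0), (0, 1), (-2, 2)⟩, ⟨(1, 1), (1, 0), (0, 1), (2, -2)⟩],
    [⟨(-2, 1), (-2, 0), (1, 1), (-1, 0)⟩, ⟨(-2, 1), (0, -2), (1, -1), (1, 0)⟩, ⟨(-2, 1), (0, 0), (-1, -1), (-1, 2)⟩, ⟨(-2, 1), (0, 2), (1, -1), (1, 0)⟩, ⟨(-2, 1), (2, 0), (1, 1), (-1, 0)⟩, ⟨(0, -1), (-2, 0), (-1, 1), (-1, 2)⟩, ⟨(0, -1), (-2, 2), (1, 1), (1, 0)⟩, ⟨(0, -1), (0, 0), (1, -1), (3, 0)⟩, ⟨(0, -1), (2, -2), (1, 1), (1, 0)⟩, ⟨(0, -1), (2, 0), (-1, 1), (-1, 2)⟩, ⟨(0, 1), (-2, 0), (1, -1), (1, -2)⟩, ⟨(0, 1), (-2, 2), (-1, -1), (-1, 0)⟩, ⟨(0, 1), (0, 0), (-1, 1), (-3, 0)⟩, ⟨(0, 1), (2, -2), (-1, -1), (-1, 0)⟩, ⟨(0, 1), (2, 0), (1, -1), (1, -2)⟩, ⟨(2, -1), (-2, 0), (-1, -1), (1, 0)⟩, ⟨(2, -1), (0, -2), (-1, 1), (-1,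 0)⟩, ⟨(2, -1), (0, 0), (1, 1), (1, -2)⟩, ⟨(2, -1), (0, 2), (-1, 1), (-1, 0)⟩, ⟨(2, -1), (2, 0), (-1, -1), (1, 0)⟩],
    [],
    [],
    [],
    [],
    [],
    [],
    [⟨(-3, 0), (1, -1), (0, 0), (0, -1)⟩, ⟨(-1, 0), (-1, -1), (-2, 0), (2, -1)⟩, ⟨(-1, 0), (-1, -1), (2, 0), (2, -1)⟩, ⟨(-1, 0), (1, -1), (0, -2), (-2, 1)⟩, ⟨(-1, 0), (1, -1), (0, 2), (-2, 1)⟩, ⟨(-1, 0), (1, 1), (-2, 2), (0, -1)⟩, ⟨(-1, 0), (1, 1), (2, -2), (0, -1)⟩, ⟨(-1, 2), (1, -1), (-2, 0), (0, 1)⟩, ⟨(-1, 2), (1, -1), (2, 0), (0, 1)⟩, ⟨(-1, 2), (1, 1), (0, 0), (2, -1)⟩, ⟨(1, -2), (-1, -1), (0, 0), (-2, 1)⟩, ⟨(1, -2), (-1, 1), (-2, 0), (0, -1)⟩, ⟨(1, -2), (-1, 1), (2, 0), (0, -1)⟩, ⟨(1, 0), (-1, -1), (-2, 2), (0, 1)⟩, ⟨(1, 0), (-1,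 -1), (2, -2), (0, 1)⟩, ⟨(1, 0), (-1, 1), (0, -2), (2, -1)⟩, ⟨(1, 0), (-1, 1), (0, 2), (2, -1)⟩, ⟨(1, 0), (1, 1), (-2, 0), (-2, 1)⟩, ⟨(1, 0), (1, 1), (2, 0), (-2, 1)⟩, ⟨(3, 0), (-1, 1), (0, 0), (0, 1)⟩],
    [⟨(-2, 0), (-2, 1), (-1, 0), (-1, -1)⟩, ⟨(-2, 0), (0, -1), (-1, 2), (1, -1)⟩, ⟨(-2, 0), (0, 1), (1, -2), (-1, 1)⟩, ⟨(-2, 0), (2, -1), (1, 0), (1, 1)⟩, ⟨(-2, 2), (0, -1), (1, 0), (-1, -1)⟩, ⟨(-2, 2), (0, 1), (-1, 0), (1, 1)⟩, ⟨(0, -2), (-2, 1), (1, 0), (-1, 1)⟩, ⟨(0, -2), (2, -1), (-1, 0), (1, -1)⟩, ⟨(0, 0), (-2, 1), (-1, 2), (1, 1)⟩, ⟨(0, 0), (0, -1), (3, 0), (-1, 1)⟩, ⟨(0, 0), (0, 1), (-3, 0), (1, -1)⟩, ⟨(0, 0), (2, -1), (1, -2), (-1, -1)⟩, ⟨(0, 2), (-2, 1), (1, 0), (-1, 1)⟩, ⟨(0, 2), (2, -1),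 (-1, 0), (1, -1)⟩, ⟨(2, -2), (0, -1), (1, 0), (-1, -1)⟩, ⟨(2, -2), (0, 1), (-1, 0), (1, 1)⟩, ⟨(2, 0), (-2, 1), (-1, 0), (-1, -1)⟩, ⟨(2, 0), (0, -1), (-1, 2), (1, -1)⟩, ⟨(2, 0), (0, 1), (1, -2), (-1, 1)⟩, ⟨(2, 0), (2, -1), (1, 0), (1, 1)⟩],
    [],
    [],
    [],
    [],
    []]

/-- Short icosians with given class and norm. -/
def tab10_4 : List (List Q) :=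
  [[⟨(-3, 0), (-1, -1), (0, 0), (2, -1)⟩, ⟨(-3, 0), (-1, 1), (-2, 0), (0, 1)⟩, ⟨(-3, 0), (-1, 1), (2, 0), (0, 1)⟩, ⟨(-1, 0), (-3, 1), (0, 0), (2, 1)⟩, ⟨(-1, 0), (-1, 1), (-2, 2), (-2, -1)⟩, ⟨(-1, 0), (-1, 1), (2, -2), (-2, -1)⟩, ⟨(-1, 0), (1, -3), (0, 0), (-2, 1)⟩, ⟨(-1, 0), (1, 1), (0, 0), (2, -3)⟩, ⟨(-1, 0), (3, -1), (0, -2), (0, 1)⟩, ⟨(-1, 0), (3, -1), (0, 2), (0, 1)⟩, ⟨(-1, 2), (-1, -1), (-2, 0), (-2, 1)⟩, ⟨(-1, 2), (-1, -1), (2, 0), (-2, 1)⟩, ⟨(-1, 2), (1, -1), (0, -2), (2, -1)⟩, ⟨(-1, 2), (1, -1), (0, 2), (2, -1)⟩, ⟨(-1, 2), (1, 1), (-2, 2), (0, 1)⟩, ⟨(-1, 2), (1, 1), (2, -2), (0, 1)⟩, ⟨(1, -2), (-1, -1), (-2, 2), (0, -1)⟩, ⟨(1, -2), (-1, -1), (2, -2), (0, -1)⟩, ⟨(1, -2), (-1, 1), (0, -2),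 (-2, 1)⟩, ⟨(1, -2), (-1, 1), (0, 2), (-2, 1)⟩, ⟨(1, -2), (1, 1), (-2, 0), (2, -1)⟩, ⟨(1, -2), (1, 1), (2, 0), (2, -1)⟩, ⟨(1, 0), (-3, 1), (0, -2), (0, -1)⟩, ⟨(1, 0), (-3, 1), (0, 2), (0, -1)⟩, ⟨(1, 0), (-1, -1), (0, 0), (-2, 3)⟩, ⟨(1, 0), (-1, 3), (0, 0), (2, -1)⟩, ⟨(1, 0), (1, -1), (-2, 2), (2, 1)⟩, ⟨(1, 0), (1, -1), (2, -2), (2, 1)⟩, ⟨(1, 0), (3, -1), (0, 0), (-2, -1)⟩, ⟨(3, 0), (1, -1), (-2, 0), (0, -1)⟩, ⟨(3, 0), (1, -1), (2, 0), (0, -1)⟩, ⟨(3, 0), (1, 1), (0, 0), (-2, 1)⟩],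
    [],
    [],
    [⟨(-2, 0), (-2, 1), (1, -2), (1, 1)⟩, ⟨(-2, 0), (0, -1), (-3, 0), (-1, 1)⟩, ⟨(-2, 0), (0, 1), (3, 0), (1, -1)⟩, ⟨(-2, 0), (2, -1), (-1, 2), (-1, -1)⟩, ⟨(-2, 2), (-2, -1), (1, 0), (1, -1)⟩, ⟨(-2, 2), (0, -1), (-1, 2), (1, 1)⟩, ⟨(-2, 2), (0, 1), (1, -2), (-1, -1)⟩, ⟨(-2, 2), (2, 1), (-1, 0), (-1, 1)⟩, ⟨(0, -2), (-2, 1), (-1, 2), (1, -1)⟩, ⟨(0, -2), (0, -1), (-1, 0), (3, -1)⟩, ⟨(0, -2), (0, 1), (1, 0), (-3, 1)⟩, ⟨(0, -2), (2, -1), (1, -2), (-1, 1)⟩, ⟨(0, 0), (-2, -1), (-1, 0), (-3, 1)⟩, ⟨(0, 0), (-2, 1), (-3, 0), (-1, -1)⟩, ⟨(0, 0), (-2, 1), (1, 0), (-1, 3)⟩, ⟨(0, 0), (-2, 3), (-1, 0), (1, 1)⟩, ⟨(0, 0), (2, -3), (1, 0), (-1, -1)⟩, ⟨(0, 0), (2, -1), (-1, 0), (1, -3)⟩, ⟨(0, 0), (2,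 -1), (3, 0), (1, 1)⟩, ⟨(0, 0), (2, 1), (1, 0), (3, -1)⟩, ⟨(0, 2), (-2, 1), (-1, 2), (1, -1)⟩, ⟨(0, 2), (0, -1), (-1, 0), (3, -1)⟩, ⟨(0, 2), (0, 1), (1, 0), (-3, 1)⟩, ⟨(0, 2), (2, -1), (1, -2), (-1, 1)⟩, ⟨(2, -2), (-2, -1), (1, 0), (1, -1)⟩, ⟨(2, -2), (0, -1), (-1, 2), (1, 1)⟩, ⟨(2, -2), (0, 1), (1, -2), (-1, -1)⟩, ⟨(2, -2), (2, 1), (-1, 0), (-1, 1)⟩, ⟨(2, 0), (-2, 1), (1, -2), (1, 1)⟩, ⟨(2, 0), (0, -1), (-3, 0), (-1, 1)⟩, ⟨(2, 0), (0, 1), (3, 0), (1, -1)⟩, ⟨(2, 0), (2, -1), (-1, 2), (-1, -1)⟩],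
    [],
    [],
    [],
    [],
    [⟨(-3, 1), (-1, 0), (0, 1), (0, -2)⟩, ⟨(-3, 1), (-1, 0), (0, 1), (0, 2)⟩, ⟨(-3, 1), (1, 0), (-2, -1), (0, 0)⟩, ⟨(-1, -1), (-1, 0), (2, -3), (0, 0)⟩, ⟨(-1, -1), (-1, 2), (0, 1), (-2, 2)⟩, ⟨(-1, -1), (-1, 2), (0, 1), (2, -2)⟩, ⟨(-1, -1), (1, -2), (2, -1), (-2, 0)⟩, ⟨(-1, -1), (1, -2), (2, -1), (2, 0)⟩, ⟨(-1, -1), (3, 0), (-2, 1), (0, 0)⟩, ⟨(-1, 1), (-1, 2), (2, -1), (0, -2)⟩, ⟨(-1, 1), (-1, 2), (2, -1), (0, 2)⟩, ⟨(-1, 1), (1, 0), (2, 1), (-2, 2)⟩, ⟨(-1, 1), (1, 0), (2, 1), (2, -2)⟩, ⟨(-1, 1), (3, 0), (0, -1), (-2, 0)⟩, ⟨(-1, 1), (3, 0), (0, -1), (2, 0)⟩, ⟨(-1, 3), (-1, 0), (-2, 1), (0, 0)⟩, ⟨(1, -3), (1, 0), (2, -1), (0, 0)⟩, ⟨(1, -1), (-3, 0), (0, 1), (-2, 0)⟩,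 ⟨(1, -1), (-3, 0), (0, 1), (2, 0)⟩, ⟨(1, -1), (-1, 0), (-2, -1), (-2, 2)⟩, ⟨(1, -1), (-1, 0), (-2, -1), (2, -2)⟩, ⟨(1, -1), (1, -2), (-2, 1), (0, -2)⟩, ⟨(1, -1), (1, -2), (-2, 1), (0, 2)⟩, ⟨(1, 1), (-3, 0), (2, -1), (0, 0)⟩, ⟨(1, 1), (-1, 2), (-2, 1), (-2, 0)⟩, ⟨(1, 1), (-1, 2), (-2, 1), (2, 0)⟩, ⟨(1, 1), (1, -2), (0, -1), (-2, 2)⟩, ⟨(1, 1), (1, -2), (0, -1), (2, -2)⟩, ⟨(1, 1), (1, 0), (-2, 3), (0, 0)⟩, ⟨(3, -1), (-1, 0), (2, 1), (0, 0)⟩, ⟨(3, -1), (1, 0), (0, -1), (0, -2)⟩, ⟨(3, -1), (1, 0), (0, -1), (0, 2)⟩],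
    [],
    [],
    [⟨(-2, -1), (-2, 2), (-1, 1), (1, 0)⟩, ⟨(-2, -1), (0, 0), (3, -1), (-1, 0)⟩, ⟨(-2, -1), (2, -2), (-1, 1), (1, 0)⟩, ⟨(-2, 1), (-2, 0), (-1, -1), (1, -2)⟩, ⟨(-2, 1), (0, -2), (-1, 1), (-1, 2)⟩, ⟨(-2, 1), (0, 0), (1, -3), (1, 0)⟩, ⟨(-2, 1), (0, 0), (1, 1), (-3, 0)⟩, ⟨(-2, 1), (0, 2), (-1, 1), (-1, 2)⟩, ⟨(-2, 1), (2, 0), (-1, -1), (1, -2)⟩, ⟨(-2, 3), (0, 0), (-1, -1), (-1, 0)⟩, ⟨(0, -1), (-2, 0), (1, -1), (-3, 0)⟩, ⟨(0, -1), (-2, 2), (-1, -1), (-1, 2)⟩, ⟨(0, -1), (0, -2), (-3, 1), (-1, 0)⟩, ⟨(0, -1), (0, 2), (-3, 1), (-1, 0)⟩, ⟨(0, -1), (2, -2), (-1, -1), (-1, 2)⟩, ⟨(0, -1), (2, 0), (1, -1), (-3, 0)⟩, ⟨(0, 1), (-2, 0), (-1, 1), (3, 0)⟩, ⟨(0, 1), (-2, 2), (1, 1), (1, -2)⟩, ⟨(0, 1),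 (0, -2), (3, -1), (1, 0)⟩, ⟨(0, 1), (0, 2), (3, -1), (1, 0)⟩, ⟨(0, 1), (2, -2), (1, 1), (1, -2)⟩, ⟨(0, 1), (2, 0), (-1, 1), (3, 0)⟩, ⟨(2, -3), (0, 0), (1, 1), (1, 0)⟩, ⟨(2, -1), (-2, 0), (1, 1), (-1, 2)⟩, ⟨(2, -1), (0, -2), (1, -1), (1, -2)⟩, ⟨(2, -1), (0, 0), (-1, -1), (3, 0)⟩, ⟨(2, -1), (0, 0), (-1, 3), (-1, 0)⟩, ⟨(2, -1), (0, 2), (1, -1), (1, -2)⟩, ⟨(2, -1), (2, 0), (1, 1), (-1, 2)⟩, ⟨(2, 1), (-2, 2), (1, -1), (-1, 0)⟩, ⟨(2, 1), (0, 0), (-3, 1), (1, 0)⟩, ⟨(2, 1), (2, -2), (1, -1), (-1, 0)⟩],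
    [],
    [],
    [],
    []]

/-- Short icosians with given class and norm. -/
def tab10_5 : List (List Q) :=
  [[],
    [],
    [],
    [],
    [],
    [⟨(0, -1), (0, 0), (-1, -1), (1, 0)⟩, ⟨(0, 1), (0, 0), (1, 1), (-1, 0)⟩],
    [⟨(-1, -1), (1, 0), (0, 1), (0, 0)⟩, ⟨(1, 1), (-1, 0), (0, -1), (0, 0)⟩],
    [],
    [],
    [],
    [],
    [],
    [],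
    [⟨(0, 0), (0, -1), (1, 0), (1, 1)⟩, ⟨(0, 0), (0, 1), (-1, 0), (-1, -1)⟩],
    [⟨(-1, 0), (-1, -1), (0, 0), (0, -1)⟩, ⟨(1, 0), (1, 1), (0, 0), (0, 1)⟩],
    []]

/-- Short icosians with given class and norm. -/
def tab10_6 : List (List Q) :=
  [[],
    [],
    [],
    [],
    [⟨(-2, 0), (0, -1), (-1, 0), (1, 1)⟩, ⟨(-2, 0), (0, 1), (1, 0), (-1, -1)⟩, ⟨(0, -2), (0, -1), (1, 0), (1, -1)⟩, ⟨(0, -2), (0, 1), (-1, 0), (-1, 1)⟩, ⟨(0, 0), (-2, -1), (1, 0), (-1, 1)⟩, ⟨(0, 0), (0, -1), (-1, 2), (-1, -1)⟩, ⟨(0, 0), (0, 1), (1, -2), (1, 1)⟩, ⟨(0, 0), (2, 1), (-1, 0), (1, -1)⟩, ⟨(0, 2), (0, -1), (1, 0), (1, -1)⟩, ⟨(0, 2), (0, 1), (-1, 0), (-1, 1)⟩, ⟨(2, 0), (0, -1), (-1, 0), (1, 1)⟩, ⟨(2, 0), (0, 1), (1,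 0), (-1, -1)⟩],
    [],
    [],
    [⟨(-1, 0), (-1, 1), (0, -2), (0, -1)⟩, ⟨(-1, 0), (-1, 1), (0, 2), (0, -1)⟩, ⟨(-1, 0), (1, -1), (0, 0), (-2, -1)⟩, ⟨(-1, 0), (1, 1), (-2, 0), (0, 1)⟩, ⟨(-1, 0), (1, 1), (2, 0), (0, 1)⟩, ⟨(-1, 2), (-1, -1), (0, 0), (0, 1)⟩, ⟨(1, -2), (1, 1), (0, 0), (0, -1)⟩, ⟨(1, 0), (-1, -1), (-2, 0), (0, -1)⟩, ⟨(1, 0), (-1, -1), (2, 0), (0, -1)⟩, ⟨(1, 0), (-1, 1), (0, 0), (2, 1)⟩, ⟨(1, 0), (1, -1), (0, -2), (0, 1)⟩, ⟨(1, 0), (1, -1), (0, 2), (0, 1)⟩],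
    [],
    [],
    [],
    [],
    [⟨(-2, -1), (0, 0), (1, -1), (1, 0)⟩, ⟨(0, -1), (-2, 0), (-1, -1), (-1, 0)⟩, ⟨(0, -1), (0, -2), (-1, 1), (1, 0)⟩, ⟨(0, -1), (0, 0), (1, 1), (-1, 2)⟩, ⟨(0, -1), (0, 2), (-1, 1), (1, 0)⟩, ⟨(0, -1), (2, 0), (-1, -1), (-1, 0)⟩, ⟨(0, 1), (-2, 0), (1, 1), (1, 0)⟩, ⟨(0, 1), (0, -2), (1, -1), (-1, 0)⟩, ⟨(0, 1), (0, 0), (-1, -1), (1, -2)⟩, ⟨(0, 1), (0, 2), (1, -1), (-1, 0)⟩, ⟨(0, 1), (2, 0), (1, 1), (1, 0)⟩, ⟨(2, 1), (0, 0), (-1, 1), (-1, 0)⟩],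
    [],
    [],
    [⟨(-1, -1), (-1, 0), (0, 1), (-2, 0)⟩, ⟨(-1, -1), (-1, 0), (0, 1), (2, 0)⟩, ⟨(-1, -1), (1, -2), (0, -1), (0, 0)⟩, ⟨(-1, 1), (-1, 0), (-2, -1), (0, 0)⟩, ⟨(-1, 1), (1, 0), (0, 1), (0, -2)⟩, ⟨(-1, 1), (1, 0), (0, 1), (0, 2)⟩, ⟨(1, -1), (-1, 0), (0, -1), (0, -2)⟩, ⟨(1, -1), (-1, 0), (0, -1), (0, 2)⟩, ⟨(1, -1), (1, 0), (2, 1), (0, 0)⟩, ⟨(1, 1), (-1, 2), (0, 1), (0, 0)⟩, ⟨(1, 1), (1, 0), (0, -1), (-2, 0)⟩, ⟨(1, 1), (1, 0), (0, -1), (2, 0)⟩]]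

/-- Short icosians with given class and norm. -/
def tab10_7 : List (List Q) :=
  [[],
    [],
    [],
    [],
    [],
    [⟨(-2, 1), (-2, 0), (-1, 1), (1, 0)⟩, ⟨(-2, 1), (0, 0), (1, -1), (1, -2)⟩, ⟨(-2, 1), (2, 0), (-1, 1), (1, 0)⟩, ⟨(0, -1), (-2, 2), (-1, 1), (-1, 0)⟩, ⟨(0, -1), (0, 0), (3, -1), (1, 0)⟩, ⟨(0, -1), (2, -2), (-1, 1), (-1, 0)⟩, ⟨(0, 1), (-2, 2), (1, -1), (1, 0)⟩, ⟨(0, 1), (0, 0), (-3, 1), (-1, 0)⟩, ⟨(0, 1), (2, -2), (1, -1), (1, 0)⟩, ⟨(2, -1), (-2, 0), (1, -1), (-1, 0)⟩, ⟨(2, -1), (0, 0), (-1, 1), (-1, 2)⟩, ⟨(2, -1), (2, 0), (1, -1), (-1, 0)⟩],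
    [⟨(-3, 1), (-1, 0), (0, -1), (0, 0)⟩, ⟨(-1, 1), (-1, 0), (0, 1), (-2, 2)⟩, ⟨(-1, 1), (-1, 0), (0, 1), (2, -2)⟩, ⟨(-1, 1), (-1, 2), (-2, 1), (0, 0)⟩, ⟨(-1, 1), (1, 0), (2, -1), (-2, 0)⟩, ⟨(-1, 1), (1, 0), (2, -1), (2, 0)⟩, ⟨(1, -1), (-1, 0), (-2, 1), (-2, 0)⟩, ⟨(1, -1), (-1, 0), (-2, 1), (2, 0)⟩, ⟨(1, -1), (1, -2), (2, -1), (0, 0)⟩, ⟨(1, -1), (1, 0), (0, -1), (-2, 2)⟩, ⟨(1, -1), (1, 0), (0, -1), (2, -2)⟩, ⟨(3, -1), (1, 0), (0, 1), (0, 0)⟩],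
    [],
    [],
    [],
    [],
    [],
    [],
    [⟨(-2, 0), (-2, 1), (1, 0), (1, -1)⟩, ⟨(-2, 0), (2, -1), (-1, 0), (-1, 1)⟩, ⟨(-2, 2), (0, -1), (-1, 0), (1, -1)⟩, ⟨(-2, 2), (0, 1), (1, 0), (-1, 1)⟩, ⟨(0, 0), (-2, 1), (1, -2), (-1, 1)⟩, ⟨(0, 0), (0, -1), (1, 0), (-3, 1)⟩, ⟨(0, 0), (0, 1), (-1, 0), (3, -1)⟩, ⟨(0, 0), (2, -1), (-1, 2), (1, -1)⟩, ⟨(2, -2), (0, -1), (-1, 0), (1, -1)⟩, ⟨(2, -2), (0, 1), (1, 0), (-1, 1)⟩, ⟨(2, 0), (-2, 1), (1, 0), (1, -1)⟩, ⟨(2, 0), (2, -1), (-1, 0), (-1, 1)⟩],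
    [⟨(-1, 0), (-1, 1), (-2, 0), (-2, 1)⟩, ⟨(-1, 0), (-1, 1), (2, 0), (-2, 1)⟩, ⟨(-1, 0), (1, -1), (-2, 2), (0, 1)⟩, ⟨(-1, 0), (1, -1), (2, -2), (0, 1)⟩, ⟨(-1, 0), (3, -1), (0, 0), (0, -1)⟩, ⟨(-1, 2), (1, -1), (0, 0), (-2, 1)⟩, ⟨(1, -2), (-1, 1), (0, 0), (2, -1)⟩, ⟨(1, 0), (-3, 1), (0, 0), (0, 1)⟩, ⟨(1, 0), (-1, 1), (-2, 2), (0, -1)⟩, ⟨(1, 0), (-1, 1), (2, -2), (0, -1)⟩, ⟨(1, 0), (1, -1), (-2, 0), (2, -1)⟩, ⟨(1, 0), (1, -1), (2, 0), (2, -1)⟩],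
    []]

/-- Short icosians with given class and norm. -/
def tab10_8 : List (List Q) :=
  [[],
    [],
    [],
    [],
    [⟨(0, 0), (-2, 1), (-1, 0), (1, -1)⟩, ⟨(0, 0), (2, -1), (1, 0), (-1, 1)⟩],
    [],
    [],
    [⟨(-1, 0), (1, -1), (0, 0), (2, -1)⟩, ⟨(1, 0), (-1, 1), (0, 0), (-2, 1)⟩],
    [],
    [],
    [],
    [],
    [⟨(-2, 1), (0, 0), (-1, 1), (-1, 0)⟩, ⟨(2, -1), (0, 0), (1, -1), (1, 0)⟩],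
    [],
    [],
    [⟨(-1, 1), (-1, 0), (2, -1), (0, 0)⟩, ⟨(1, -1), (1, 0), (-2, 1), (0, 0)⟩]]

/-- Short icosians with given class. -/
def tab10 : List (List (List Q)) :=
  [tab10_0, tab10_1, tab10_2, tab10_3, tab10_4, tab10_5, tab10_6, tab10_7, tab10_8]

/-- Short icosians with given class and norm. -/
def tab11_0 : List (List Q) :=
  [[],
    [],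
    [],
    [],
    [],
    [],
    [],
    [],
    [],
    [],
    [],
    [],
    [],
    [],
    [],
    []]

/-- Short icosians with given class and norm. -/
def tab11_1 : List (List Q) :=
  [[],
    [],
    [],
    [],
    [],
    [⟨(-1, 0), (0, 1), (1, -1), (0, 0)⟩, ⟨(1, 0), (0, -1), (-1, 1), (0, 0)⟩],
    [⟨(0, 0), (-1, 1), (0, 1), (1, 0)⟩, ⟨(0, 0), (1, -1), (0, -1), (-1, 0)⟩],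
    [],
    [],
    [],
    [],
    [],
    [],
    [⟨(-1, 1), (0, 0), (-1, 0), (0, 1)⟩, ⟨(1, -1), (0, 0), (1, 0), (0, -1)⟩],
    [⟨(0, -1), (-1, 0), (0, 0), (-1, 1)⟩, ⟨(0, 1), (1, 0), (0, 0), (1, -1)⟩],
    []]

/-- Short icosians with given class and norm. -/
def tab11_2 : List (List Q) :=
  [[⟨(-2, 1), (1, 0), (0, 0), (-1, -1)⟩, ⟨(0, -1), (1, -2), (0, 0), (1, -1)⟩, ⟨(0, -1), (1, 0), (-2, 0), (-1, 1)⟩, ⟨(0, -1), (1, 0), (2, 0), (-1, 1)⟩, ⟨(0, 1), (-1, 0), (-2, 0), (1, -1)⟩, ⟨(0, 1), (-1, 0), (2, 0), (1, -1)⟩, ⟨(0, 1), (-1, 2), (0, 0), (-1, 1)⟩, ⟨(2, -1), (-1, 0), (0, 0), (1, 1)⟩],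
    [],
    [],
    [⟨(-1, -1), (0, 0), (1, 0), (2, -1)⟩, ⟨(-1, 1), (-2, 0), (1, 0), (0, 1)⟩, ⟨(-1, 1), (0, 0), (-1, 2), (0, -1)⟩, ⟨(-1, 1), (2, 0), (1, 0), (0, 1)⟩, ⟨(1, -1), (-2, 0), (-1, 0), (0, -1)⟩, ⟨(1, -1), (0, 0), (1, -2), (0, 1)⟩, ⟨(1, -1), (2, 0), (-1, 0), (0, -1)⟩, ⟨(1, 1), (0, 0), (-1, 0), (-2, 1)⟩],
    [],
    [],
    [],
    [],
    [⟨(-2, 0), (-1, 1), (0, 1), (-1, 0)⟩, ⟨(-2, 0), (1, -1), (0, -1), (1, 0)⟩, ⟨(0, 0), (-1, -1), (2, -1), (-1, 0)⟩, ⟨(0, 0), (-1, 1), (0, -1), (1, -2)⟩, ⟨(0, 0), (1, -1), (0, 1), (-1, 2)⟩, ⟨(0, 0), (1, 1), (-2, 1), (1, 0)⟩, ⟨(2, 0), (-1, 1), (0, 1), (-1, 0)⟩, ⟨(2, 0), (1, -1), (0, -1), (1, 0)⟩],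
    [],
    [],
    [⟨(-1, 0), (-2, 1), (-1, -1), (0, 0)⟩, ⟨(-1, 0), (0, -1), (-1, 1), (-2, 0)⟩, ⟨(-1, 0), (0, -1), (-1, 1), (2, 0)⟩, ⟨(-1, 2), (0, -1), (1, -1), (0, 0)⟩, ⟨(1, -2), (0, 1), (-1, 1), (0, 0)⟩, ⟨(1, 0), (0, 1), (1, -1), (-2, 0)⟩, ⟨(1, 0), (0, 1), (1, -1), (2, 0)⟩, ⟨(1, 0), (2, -1), (1, 1), (0, 0)⟩],
    [],
    [],
    [],
    []]

/-- Short icosians with given class and norm. -/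
def tab11_3 : List (List Q) :=
  [[],
    [],
    [],
    [],
    [],
    [⟨(-3, 0), (0, -1), (-1, 1), (0, 0)⟩, ⟨(-1, 0), (-2, 1), (-1, 1), (0, -2)⟩, ⟨(-1, 0), (-2, 1), (-1, 1), (0, 2)⟩, ⟨(-1, 0), (0, -1), (-1, -1), (-2, 2)⟩, ⟨(-1, 0), (0, -1), (-1, -1), (2, -2)⟩, ⟨(-1, 0), (2, -1), (1, 1), (-2, 0)⟩, ⟨(-1, 0), (2, -1), (1, 1), (2, 0)⟩, ⟨(-1, 2), (0, 1), (-1, 1), (-2, 0)⟩, ⟨(-1, 2), (0, 1), (-1, 1), (2, 0)⟩, ⟨(-1, 2), (2, -1), (-1, -1), (0, 0)⟩, ⟨(1, -2), (-2, 1), (1, 1), (0, 0)⟩, ⟨(1, -2), (0, -1), (1, -1), (-2, 0)⟩, ⟨(1, -2), (0, -1), (1, -1), (2, 0)⟩, ⟨(1, 0), (-2, 1), (-1, -1), (-2, 0)⟩, ⟨(1, 0), (-2, 1), (-1, -1), (2, 0)⟩, ⟨(1, 0), (0, 1), (1, 1), (-2, 2)⟩, ⟨(1, 0), (0, 1), (1, 1), (2, -2)⟩,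 ⟨(1, 0), (2, -1), (1, -1), (0, -2)⟩, ⟨(1, 0), (2, -1), (1, -1), (0, 2)⟩, ⟨(3, 0), (0, 1), (1, -1), (0, 0)⟩],
    [⟨(-2, 0), (-1, -1), (2, -1), (1, 0)⟩, ⟨(-2, 0), (-1, 1), (0, -1), (-1, 2)⟩, ⟨(-2, 0), (1, -1), (0, 1), (1, -2)⟩, ⟨(-2, 0), (1, 1), (-2, 1), (-1, 0)⟩, ⟨(-2, 2), (-1, -1), (0, 1), (-1, 0)⟩, ⟨(-2, 2), (1, 1), (0, -1), (1, 0)⟩, ⟨(0, -2), (-1, 1), (2, -1), (-1, 0)⟩, ⟨(0, -2), (1, -1), (-2, 1), (1, 0)⟩, ⟨(0, 0), (-1, -1), (-2, 1), (-1, 2)⟩, ⟨(0, 0), (-1, 1), (0, 1), (-3, 0)⟩, ⟨(0, 0), (1, -1), (0, -1), (3, 0)⟩, ⟨(0, 0), (1, 1), (2, -1), (1, -2)⟩, ⟨(0, 2), (-1, 1), (2, -1), (-1, 0)⟩, ⟨(0, 2), (1, -1), (-2, 1), (1, 0)⟩, ⟨(2, -2), (-1, -1), (0, 1), (-1, 0)⟩, ⟨(2, -2), (1, 1), (0, -1), (1, 0)⟩,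 ⟨(2, 0), (-1, -1), (2, -1), (1, 0)⟩, ⟨(2, 0), (-1, 1), (0, -1), (-1, 2)⟩, ⟨(2, 0), (1, -1), (0, 1), (1, -2)⟩, ⟨(2, 0), (1, 1), (-2, 1), (-1, 0)⟩],
    [],
    [],
    [],
    [],
    [],
    [],
    [⟨(-1, -1), (-2, 0), (-1, 0), (2, -1)⟩, ⟨(-1, -1), (-2, 2), (1, 0), (0, 1)⟩, ⟨(-1, -1), (0, 0), (1, -2), (-2, 1)⟩, ⟨(-1, -1), (2, -2), (1, 0), (0, 1)⟩, ⟨(-1, -1), (2, 0), (-1, 0), (2, -1)⟩, ⟨(-1, 1), (-2, 0), (1, -2), (0, -1)⟩, ⟨(-1, 1), (0, -2), (1, 0), (2, -1)⟩, ⟨(-1, 1), (0, 0), (3, 0), (0, 1)⟩, ⟨(-1, 1), (0, 2), (1, 0), (2, -1)⟩, ⟨(-1, 1), (2, 0), (1, -2), (0, -1)⟩, ⟨(1, -1), (-2, 0), (-1, 2), (0, 1)⟩, ⟨(1, -1), (0, -2), (-1, 0), (-2, 1)⟩, ⟨(1, -1), (0, 0), (-3, 0), (0, -1)⟩, ⟨(1, -1), (0, 2), (-1,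 0), (-2, 1)⟩, ⟨(1, -1), (2, 0), (-1, 2), (0, 1)⟩, ⟨(1, 1), (-2, 0), (1, 0), (-2, 1)⟩, ⟨(1, 1), (-2, 2), (-1, 0), (0, -1)⟩, ⟨(1, 1), (0, 0), (-1, 2), (2, -1)⟩, ⟨(1, 1), (2, -2), (-1, 0), (0, -1)⟩, ⟨(1, 1), (2, 0), (1, 0), (-2, 1)⟩],
    [⟨(-2, 1), (-1, 0), (-2, 0), (-1, -1)⟩, ⟨(-2, 1), (-1, 0), (2, 0), (-1, -1)⟩, ⟨(-2, 1), (-1, 2), (0, 0), (1, 1)⟩, ⟨(-2, 1), (1, 0), (0, -2), (-1, 1)⟩, ⟨(-2, 1), (1, 0), (0, 2), (-1, 1)⟩, ⟨(0, -1), (-1, 2), (-2, 0), (1, -1)⟩, ⟨(0, -1), (-1, 2), (2, 0), (1, -1)⟩, ⟨(0, -1), (1, 0), (-2, 2), (-1, -1)⟩, ⟨(0, -1), (1, 0), (2, -2), (-1, -1)⟩, ⟨(0, -1), (3, 0), (0, 0), (-1, 1)⟩, ⟨(0, 1), (-3, 0), (0, 0), (1, -1)⟩, ⟨(0, 1), (-1, 0), (-2, 2), (1, 1)⟩, ⟨(0, 1), (-1, 0), (2,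 -2), (1, 1)⟩, ⟨(0, 1), (1, -2), (-2, 0), (-1, 1)⟩, ⟨(0, 1), (1, -2), (2, 0), (-1, 1)⟩, ⟨(2, -1), (-1, 0), (0, -2), (1, -1)⟩, ⟨(2, -1), (-1, 0), (0, 2), (1, -1)⟩, ⟨(2, -1), (1, -2), (0, 0), (-1, -1)⟩, ⟨(2, -1), (1, 0), (-2, 0), (1, 1)⟩, ⟨(2, -1), (1, 0), (2, 0), (1, 1)⟩],
    []]

/-- Short icosians with given class and norm. -/
def tab11_4 : List (List Q) :=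
  [[⟨(-2, -1), (-1, 0), (0, 0), (-3, 1)⟩, ⟨(-2, -1), (1, 0), (-2, 2), (1, -1)⟩, ⟨(-2, -1), (1, 0), (2, -2), (1, -1)⟩, ⟨(-2, 1), (-3, 0), (0, 0), (-1, -1)⟩, ⟨(-2, 1), (-1, 2), (0, -2), (1, -1)⟩, ⟨(-2, 1), (-1, 2), (0, 2), (1, -1)⟩, ⟨(-2, 1), (1, -2), (-2, 0), (1, 1)⟩, ⟨(-2, 1), (1, -2), (2, 0), (1, 1)⟩, ⟨(-2, 1), (1, 0), (0, 0), (-1, 3)⟩, ⟨(-2, 3), (-1, 0), (0, 0), (1, 1)⟩, ⟨(0, -1), (-3, 0), (-2, 0), (-1, 1)⟩, ⟨(0, -1), (-3, 0), (2, 0), (-1, 1)⟩, ⟨(0, -1), (-1, 0), (0, -2), (3, -1)⟩, ⟨(0, -1), (-1, 0), (0, 2), (3, -1)⟩, ⟨(0, -1), (-1, 2), (-2, 2), (1, 1)⟩, ⟨(0, -1), (-1, 2), (2, -2), (1, 1)⟩, ⟨(0, 1), (1, -2), (-2, 2), (-1, -1)⟩, ⟨(0, 1), (1, -2), (2, -2), (-1, -1)⟩, ⟨(0, 1), (1, 0), (0, -2), (-3,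 1)⟩, ⟨(0, 1), (1, 0), (0, 2), (-3, 1)⟩, ⟨(0, 1), (3, 0), (-2, 0), (1, -1)⟩, ⟨(0, 1), (3, 0), (2, 0), (1, -1)⟩, ⟨(2, -3), (1, 0), (0, 0), (-1, -1)⟩, ⟨(2, -1), (-1, 0), (0, 0), (1, -3)⟩, ⟨(2, -1), (-1, 2), (-2, 0), (-1, -1)⟩, ⟨(2, -1), (-1, 2), (2, 0), (-1, -1)⟩, ⟨(2, -1), (1, -2), (0, -2), (-1, 1)⟩, ⟨(2, -1), (1, -2), (0, 2), (-1, 1)⟩, ⟨(2, -1), (3, 0), (0, 0), (1, 1)⟩, ⟨(2, 1), (-1, 0), (-2, 2), (-1, 1)⟩, ⟨(2, 1), (-1, 0), (2, -2), (-1, 1)⟩, ⟨(2, 1), (1, 0), (0, 0), (3, -1)⟩],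
    [],
    [],
    [⟨(-3, 1), (0, -2), (1, 0), (0, -1)⟩, ⟨(-3, 1), (0, 0), (-1, 0), (2, 1)⟩, ⟨(-3, 1), (0, 2), (1, 0), (0, -1)⟩, ⟨(-1, -1), (-2, 0), (-1, 2), (-2, 1)⟩, ⟨(-1, -1), (-2, 2), (1, -2), (0, -1)⟩, ⟨(-1, -1), (0, 0), (-3, 0), (2, -1)⟩, ⟨(-1, -1), (0, 0), (1, 0), (-2, 3)⟩, ⟨(-1, -1), (2, -2), (1, -2), (0, -1)⟩, ⟨(-1, -1), (2, 0), (-1, 2), (-2, 1)⟩, ⟨(-1, 1), (-2, 0), (-3, 0), (0, 1)⟩, ⟨(-1, 1), (-2, 2), (-1, 0), (-2, -1)⟩, ⟨(-1, 1), (0, -2), (1, -2), (-2, 1)⟩, ⟨(-1, 1), (0, 2), (1, -2), (-2, 1)⟩, ⟨(-1, 1), (2, -2), (-1, 0), (-2, -1)⟩, ⟨(-1, 1), (2, 0), (-3, 0), (0, 1)⟩, ⟨(-1, 3), (0, 0), (1, 0), (2, -1)⟩, ⟨(1, -3), (0, 0), (-1, 0), (-2, 1)⟩, ⟨(1, -1), (-2, 0), (3, 0), (0, -1)⟩, ⟨(1, -1),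 (-2, 2), (1, 0), (2, 1)⟩, ⟨(1, -1), (0, -2), (-1, 2), (2, -1)⟩, ⟨(1, -1), (0, 2), (-1, 2), (2, -1)⟩, ⟨(1, -1), (2, -2), (1, 0), (2, 1)⟩, ⟨(1, -1), (2, 0), (3, 0), (0, -1)⟩, ⟨(1, 1), (-2, 0), (1, -2), (2, -1)⟩, ⟨(1, 1), (-2, 2), (-1, 2), (0, 1)⟩, ⟨(1, 1), (0, 0), (-1, 0), (2, -3)⟩, ⟨(1, 1), (0, 0), (3, 0), (-2, 1)⟩, ⟨(1, 1), (2, -2), (-1, 2), (0, 1)⟩, ⟨(1, 1), (2, 0), (1, -2), (2, -1)⟩, ⟨(3, -1), (0, -2), (-1, 0), (0, 1)⟩, ⟨(3, -1), (0, 0), (1, 0), (-2, -1)⟩, ⟨(3, -1), (0, 2), (-1, 0), (0, 1)⟩],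
    [],
    [],
    [],
    [],
    [⟨(-2, 0), (-1, -1), (-2, 1), (1, -2)⟩, ⟨(-2, 0), (-1, 1), (0, 1), (3, 0)⟩, ⟨(-2, 0), (1, -1), (0, -1), (-3, 0)⟩, ⟨(-2, 0), (1, 1), (2, -1), (-1, 2)⟩, ⟨(-2, 2), (-1, -1), (0, -1), (-1, 2)⟩, ⟨(-2, 2), (-1, 1), (-2, -1), (1, 0)⟩, ⟨(-2, 2), (1, -1), (2, 1), (-1, 0)⟩, ⟨(-2, 2), (1, 1), (0, 1), (1, -2)⟩, ⟨(0, -2), (-3, 1), (0, -1), (-1, 0)⟩, ⟨(0, -2), (-1, 1), (-2, 1), (-1, 2)⟩, ⟨(0, -2), (1, -1), (2, -1), (1, -2)⟩, ⟨(0, -2), (3, -1), (0, 1), (1, 0)⟩, ⟨(0, 0), (-3, 1), (2, 1), (1, 0)⟩, ⟨(0, 0), (-1, -1), (-2, 3), (-1, 0)⟩, ⟨(0, 0), (-1, -1), (2, -1), (3, 0)⟩, ⟨(0, 0), (-1, 3), (2, -1), (-1, 0)⟩, ⟨(0, 0), (1, -3), (-2, 1), (1, 0)⟩, ⟨(0, 0), (1, 1), (-2, 1), (-3, 0)⟩,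 ⟨(0, 0), (1, 1), (2, -3), (1, 0)⟩, ⟨(0, 0), (3, -1), (-2, -1), (-1, 0)⟩, ⟨(0, 2), (-3, 1), (0, -1), (-1, 0)⟩, ⟨(0, 2), (-1, 1), (-2, 1), (-1, 2)⟩, ⟨(0, 2), (1, -1), (2, -1), (1, -2)⟩, ⟨(0, 2), (3, -1), (0, 1), (1, 0)⟩, ⟨(2, -2), (-1, -1), (0, -1), (-1, 2)⟩, ⟨(2, -2), (-1, 1), (-2, -1), (1, 0)⟩, ⟨(2, -2), (1, -1), (2, 1), (-1, 0)⟩, ⟨(2, -2), (1, 1), (0, 1), (1, -2)⟩, ⟨(2, 0), (-1, -1), (-2, 1), (1, -2)⟩, ⟨(2, 0), (-1, 1), (0, 1), (3, 0)⟩, ⟨(2, 0), (1, -1), (0, -1), (-3, 0)⟩, ⟨(2, 0), (1, 1), (2, -1), (-1, 2)⟩],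
    [],
    [],
    [⟨(-3, 0), (0, 1), (1, -1), (-2, 0)⟩, ⟨(-3, 0), (0, 1), (1, -1), (2, 0)⟩, ⟨(-3, 0), (2, -1), (1, 1), (0, 0)⟩, ⟨(-1, 0), (-2, -1), (1, -1), (-2, 2)⟩, ⟨(-1, 0), (-2, -1), (1, -1), (2, -2)⟩, ⟨(-1, 0), (-2, 1), (-1, 3), (0, 0)⟩, ⟨(-1, 0), (0, 1), (-3, 1), (0, -2)⟩, ⟨(-1, 0), (0, 1), (-3, 1), (0, 2)⟩, ⟨(-1, 0), (2, -3), (-1, -1), (0, 0)⟩, ⟨(-1, 0), (2, 1), (3, -1), (0, 0)⟩, ⟨(-1, 2), (-2, 1), (1, 1), (-2, 0)⟩, ⟨(-1, 2), (-2, 1), (1, 1), (2, 0)⟩, ⟨(-1, 2), (0, 1), (-1, -1), (-2, 2)⟩, ⟨(-1, 2), (0, 1), (-1, -1), (2, -2)⟩, ⟨(-1, 2), (2, -1), (-1, 1), (0, -2)⟩, ⟨(-1, 2), (2, -1), (-1, 1), (0, 2)⟩, ⟨(1, -2), (-2, 1), (1, -1), (0, -2)⟩, ⟨(1, -2), (-2, 1), (1, -1), (0, 2)⟩, ⟨(1, -2), (0,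 -1), (1, 1), (-2, 2)⟩, ⟨(1, -2), (0, -1), (1, 1), (2, -2)⟩, ⟨(1, -2), (2, -1), (-1, -1), (-2, 0)⟩, ⟨(1, -2), (2, -1), (-1, -1), (2, 0)⟩, ⟨(1, 0), (-2, -1), (-3, 1), (0, 0)⟩, ⟨(1, 0), (-2, 3), (1, 1), (0, 0)⟩, ⟨(1, 0), (0, -1), (3, -1), (0, -2)⟩, ⟨(1, 0), (0, -1), (3, -1), (0, 2)⟩, ⟨(1, 0), (2, -1), (1, -3), (0, 0)⟩, ⟨(1, 0), (2, 1), (-1, 1), (-2, 2)⟩, ⟨(1, 0), (2, 1), (-1, 1), (2, -2)⟩, ⟨(3, 0), (-2, 1), (-1, -1), (0, 0)⟩, ⟨(3, 0), (0, -1), (-1, 1), (-2, 0)⟩, ⟨(3, 0), (0, -1), (-1, 1), (2, 0)⟩],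
    [],
    [],
    [],
    []]

/-- Short icosians with given class and norm. -/
def tab11_5 : List (List Q) :=
  [[],
    [],
    [],
    [],
    [⟨(-1, -1), (0, 0), (-1, 0), (0, -1)⟩, ⟨(1, 1), (0, 0), (1, 0), (0, 1)⟩],
    [],
    [],
    [⟨(0, -1), (1, 0), (0, 0), (1, 1)⟩, ⟨(0, 1), (-1, 0), (0, 0), (-1, -1)⟩],
    [],
    [],
    [],
    [],
    [⟨(-1, 0), (0, -1), (1, 1), (0, 0)⟩, ⟨(1, 0), (0, 1), (-1, -1), (0, 0)⟩],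
    [],
    [],
    [⟨(0, 0), (-1, -1), (0, -1), (1, 0)⟩, ⟨(0, 0), (1, 1), (0, 1), (-1, 0)⟩]]

/-- Short icosians with given class and norm. -/
def tab11_6 : List (List Q) :=
  [[],
    [⟨(-2, 0), (-1, -1), (0, -1), (-1, 0)⟩, ⟨(-2, 0), (1, 1), (0, 1), (1, 0)⟩, ⟨(0, -2), (-1, 1), (0, -1), (1, 0)⟩, ⟨(0, -2), (1, -1), (0, 1), (-1, 0)⟩, ⟨(0, 0), (-1, -1), (0, 1), (1, -2)⟩, ⟨(0, 0), (-1, 1), (2, 1), (-1, 0)⟩, ⟨(0, 0), (1, -1), (-2, -1), (1, 0)⟩, ⟨(0, 0), (1, 1), (0, -1), (-1, 2)⟩, ⟨(0, 2), (-1, 1), (0, -1), (1, 0)⟩, ⟨(0, 2), (1, -1), (0, 1), (-1, 0)⟩, ⟨(2, 0), (-1, -1), (0, -1), (-1, 0)⟩, ⟨(2, 0), (1, 1), (0, 1), (1, 0)⟩],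
    [⟨(-1, 0), (-2, -1), (-1, 1), (0, 0)⟩, ⟨(-1, 0), (0, -1), (1, -1), (0, -2)⟩, ⟨(-1, 0), (0, -1), (1, -1), (0, 2)⟩, ⟨(-1, 0), (0, 1), (-1, -1), (-2, 0)⟩, ⟨(-1, 0), (0, 1), (-1, -1), (2, 0)⟩, ⟨(-1, 2), (0, 1), (1, 1), (0, 0)⟩, ⟨(1, -2), (0, -1), (-1, -1), (0, 0)⟩, ⟨(1, 0), (0, -1), (1, 1), (-2, 0)⟩, ⟨(1, 0), (0, -1), (1, 1), (2, 0)⟩, ⟨(1, 0), (0, 1), (-1, 1), (0, -2)⟩, ⟨(1, 0), (0, 1), (-1, 1), (0, 2)⟩, ⟨(1, 0), (2, 1), (1, -1), (0, 0)⟩],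
    [],
    [],
    [],
    [],
    [],
    [],
    [⟨(-2, -1), (1, 0), (0, 0), (-1, 1)⟩, ⟨(0, -1), (-1, 0), (-2, 0), (1, 1)⟩, ⟨(0, -1), (-1, 0), (2, 0), (1, 1)⟩, ⟨(0, -1), (-1, 2), (0, 0), (-1, -1)⟩, ⟨(0, -1), (1, 0), (0, -2), (1, -1)⟩, ⟨(0, -1), (1, 0), (0, 2), (1, -1)⟩, ⟨(0, 1), (-1, 0), (0, -2), (-1, 1)⟩, ⟨(0, 1), (-1, 0), (0, 2), (-1, 1)⟩, ⟨(0, 1), (1, -2), (0, 0), (1, 1)⟩, ⟨(0, 1), (1, 0), (-2, 0), (-1, -1)⟩, ⟨(0, 1), (1, 0), (2, 0), (-1, -1)⟩, ⟨(2, 1), (-1, 0), (0, 0), (1, -1)⟩],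
    [⟨(-1, -1), (-2, 0), (1, 0), (0, -1)⟩, ⟨(-1, -1), (0, 0), (-1, 2), (0, 1)⟩, ⟨(-1, -1), (2, 0), (1, 0), (0, -1)⟩, ⟨(-1, 1), (0, -2), (-1, 0), (0, -1)⟩, ⟨(-1, 1), (0, 0), (1, 0), (2, 1)⟩, ⟨(-1, 1), (0, 2), (-1, 0), (0, -1)⟩, ⟨(1, -1), (0, -2), (1, 0), (0, 1)⟩, ⟨(1, -1), (0, 0), (-1, 0), (-2, -1)⟩, ⟨(1, -1), (0, 2), (1, 0), (0, 1)⟩, ⟨(1, 1), (-2, 0), (-1, 0), (0, 1)⟩, ⟨(1, 1), (0, 0), (1, -2), (0, -1)⟩, ⟨(1, 1), (2, 0), (-1, 0), (0, 1)⟩],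
    [],
    [],
    [],
    [],
    []]

/-- Short icosians with given class and norm. -/
def tab11_7 : List (List Q) :=
  [[],
    [],
    [],
    [],
    [⟨(-3, 1), (0, 0), (1, 0), (0, 1)⟩, ⟨(-1, 1), (-2, 0), (-1, 0), (-2, 1)⟩, ⟨(-1, 1), (-2, 2), (1, 0), (0, -1)⟩, ⟨(-1, 1), (0, 0), (1, -2), (2, -1)⟩, ⟨(-1, 1), (2, -2), (1, 0), (0, -1)⟩, ⟨(-1, 1), (2, 0), (-1, 0), (-2, 1)⟩, ⟨(1, -1), (-2, 0), (1, 0), (2, -1)⟩, ⟨(1, -1), (-2, 2), (-1, 0), (0, 1)⟩, ⟨(1, -1), (0, 0), (-1, 2), (-2, 1)⟩, ⟨(1, -1), (2, -2), (-1, 0), (0, 1)⟩, ⟨(1, -1), (2, 0), (1, 0), (2, -1)⟩, ⟨(3, -1), (0, 0), (-1, 0), (0, -1)⟩],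
    [],
    [],
    [⟨(-2, 1), (1, -2), (0, 0), (-1, 1)⟩, ⟨(-2, 1), (1, 0), (-2, 0), (1, -1)⟩, ⟨(-2, 1), (1, 0), (2, 0), (1, -1)⟩, ⟨(0, -1), (-1, 0), (-2, 2), (1, -1)⟩, ⟨(0, -1), (-1, 0), (2, -2), (1, -1)⟩, ⟨(0, -1), (1, 0), (0, 0), (-3, 1)⟩, ⟨(0, 1), (-1, 0), (0, 0), (3, -1)⟩, ⟨(0, 1), (1, 0), (-2, 2), (-1, 1)⟩, ⟨(0, 1), (1, 0), (2, -2), (-1, 1)⟩, ⟨(2, -1), (-1, 0), (-2, 0), (-1, 1)⟩, ⟨(2, -1), (-1, 0), (2, 0), (-1, 1)⟩, ⟨(2, -1), (-1, 2), (0, 0), (1, -1)⟩],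
    [],
    [],
    [],
    [],
    [⟨(-1, 0), (-2, 1), (1, -1), (-2, 0)⟩, ⟨(-1, 0), (-2, 1), (1, -1), (2, 0)⟩, ⟨(-1, 0), (0, -1), (-3, 1), (0, 0)⟩, ⟨(-1, 0), (0, 1), (-1, 1), (-2, 2)⟩, ⟨(-1, 0), (0, 1), (-1, 1), (2, -2)⟩, ⟨(-1, 2), (-2, 1), (-1, 1), (0, 0)⟩, ⟨(1, -2), (2, -1), (1, -1), (0, 0)⟩, ⟨(1, 0), (0, -1), (1, -1), (-2, 2)⟩, ⟨(1, 0), (0, -1), (1, -1), (2, -2)⟩, ⟨(1, 0), (0, 1), (3, -1), (0, 0)⟩, ⟨(1, 0), (2, -1), (-1, 1), (-2, 0)⟩, ⟨(1, 0), (2, -1), (-1, 1), (2, 0)⟩],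
    [],
    [],
    [⟨(-2, 0), (-1, 1), (-2, 1), (1, 0)⟩, ⟨(-2, 0), (1, -1), (2, -1), (-1, 0)⟩, ⟨(-2, 2), (-1, 1), (0, -1), (-1, 0)⟩, ⟨(-2, 2), (1, -1), (0, 1), (1, 0)⟩, ⟨(0, 0), (-3, 1), (0, 1), (-1, 0)⟩, ⟨(0, 0), (-1, 1), (2, -1), (-1, 2)⟩, ⟨(0, 0), (1, -1), (-2, 1), (1, -2)⟩, ⟨(0, 0), (3, -1), (0, -1), (1, 0)⟩, ⟨(2, -2), (-1, 1), (0, -1), (-1, 0)⟩, ⟨(2, -2), (1, -1), (0, 1), (1, 0)⟩, ⟨(2, 0), (-1, 1), (-2, 1), (1, 0)⟩, ⟨(2, 0), (1, -1), (2, -1), (-1, 0)⟩]]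

/-- Short icosians with given class and norm. -/
def tab11_8 : List (List Q) :=
  [[],
    [⟨(0, 0), (-1, 1), (-2, 1), (-1, 0)⟩, ⟨(0, 0), (1, -1), (2, -1), (1, 0)⟩],
    [⟨(-1, 0), (2, -1), (-1, 1), (0, 0)⟩, ⟨(1, 0), (-2, 1), (1, -1), (0, 0)⟩],
    [],
    [],
    [],
    [],
    [],
    [],
    [⟨(-2, 1), (-1, 0), (0, 0), (1, -1)⟩, ⟨(2, -1), (1, 0), (0, 0), (-1, 1)⟩],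
    [⟨(-1, 1), (0, 0), (1, 0), (-2, 1)⟩, ⟨(1, -1), (0, 0), (-1, 0), (2, -1)⟩],
    [],
    [],
    [],
    [],
    []]

/-- Short icosians with given class. -/
def tab11 : List (List (List Q)) :=
  [tab11_0, tab11_1, tab11_2, tab11_3, tab11_4, tab11_5, tab11_6, tab11_7, tab11_8]

end Cfsg.Agent.J2
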