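import Cfsg.Agent.Lib.J2.UnitData

/-! Short icosians sorted by residue and norm. -/

namespace Cfsg.Agent.J2

/-- Short icosians with given class and norm. -/
def tab12_0 : List (List Q) :=
  [[],
    [],
    [],
    [],
    [],
    [],
    [],
    [],
    [],
    [],
    [],
    [],
    [],
    [],
    [],
    []]

/-- Short icosians with given class and norm. -/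
def tab12_1 : List (List Q) :=
  [[],
    [⟨(-1, 0), (-1, 0), (-1, 0), (1, 0)⟩, ⟨(1, 0), (1, 0), (1, 0), (-1, 0)⟩],
    [],
    [],
    [],
    [],
    [⟨(-1, 0), (-1, 0), (1, 0), (-1, 0)⟩, ⟨(1, 0), (1, 0), (-1, 0), (1, 0)⟩],
    [],
    [⟨(-1, 0), (1, 0), (-1, 0), (-1, 0)⟩, ⟨(1, 0), (-1, 0), (1, 0), (1, 0)⟩],
    [],
    [],
    [],
    [],
    [],
    [],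
    [⟨(-1, 0), (1, 0), (1, 0), (1, 0)⟩, ⟨(1, 0), (-1, 0), (-1, 0), (-1, 0)⟩]]

/-- Short icosians with given class and norm. -/
def tab12_2 : List (List Q) :=
  [[⟨(-1, -1), (-1, 1), (-1, 1), (-1, 1)⟩, ⟨(-1, 1), (-1, 1), (1, -1), (1, 1)⟩, ⟨(-1, 1), (1, -1), (1, 1), (-1, 1)⟩, ⟨(-1, 1), (1, 1), (-1, 1), (1, -1)⟩, ⟨(1, -1), (-1, -1), (1, -1), (-1, 1)⟩, ⟨(1, -1), (-1, 1), (-1, -1), (1, -1)⟩, ⟨(1, -1), (1, -1), (-1, 1), (-1, -1)⟩, ⟨(1, 1), (1, -1), (1, -1), (1, -1)⟩],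
    [],
    [],
    [],
    [],
    [],
    [],
    [⟨(-1, -1), (1, -1), (1, -1), (-1, 1)⟩, ⟨(-1, 1), (-1, -1), (1, -1), (1, -1)⟩, ⟨(-1, 1), (-1, 1), (-1, -1), (-1, 1)⟩, ⟨(-1, 1), (1, -1), (-1, 1), (1, 1)⟩, ⟨(1, -1), (-1, 1), (1, -1), (-1, -1)⟩, ⟨(1, -1), (1, -1), (1, 1), (1, -1)⟩, ⟨(1, -1), (1, 1), (-1, 1), (-1, 1)⟩, ⟨(1, 1), (-1, 1), (-1, 1), (1, -1)⟩],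
    [],
    [⟨(-1, -1), (-1, 1), (1, -1), (1, -1)⟩, ⟨(-1, 1), (-1, 1), (-1, 1), (-1, -1)⟩, ⟨(-1, 1), (1, -1), (-1, -1), (1, -1)⟩, ⟨(-1, 1), (1, 1), (1, -1), (-1, 1)⟩, ⟨(1, -1), (-1, -1), (-1, 1), (1, -1)⟩, ⟨(1, -1), (-1, 1), (1, 1), (-1, 1)⟩, ⟨(1, -1), (1, -1), (1, -1), (1, 1)⟩, ⟨(1, 1), (1, -1), (-1, 1), (-1, 1)⟩],
    [],
    [],
    [],
    [],
    [⟨(-1, -1), (1, -1), (-1, 1), (1, -1)⟩, ⟨(-1, 1), (-1, -1), (-1, 1), (-1, 1)⟩, ⟨(-1, 1), (-1, 1), (1, 1), (1, -1)⟩, ⟨(-1, 1), (1, -1), (1, -1), (-1, -1)⟩, ⟨(1, -1), (-1, 1), (-1, 1), (1, 1)⟩, ⟨(1, -1), (1, -1), (-1, -1), (-1, 1)⟩, ⟨(1, -1), (1, 1), (1, -1), (1, -1)⟩, ⟨(1, 1), (-1, 1), (1, -1), (-1, 1)⟩],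
    []]

/-- Short icosians with given class and norm. -/
def tab12_3 : List (List Q) :=
  [[],
    [⟨(-3, 0), (1, 0), (1, 0), (-1, 0)⟩, ⟨(-1, 0), (-1, 0), (-1, 0), (-3, 0)⟩, ⟨(-1, 0), (-1, 0), (3, 0), (1, 0)⟩, ⟨(-1, 0), (-1, 2), (1, 0), (-1, 2)⟩, ⟨(-1, 0), (1, -2), (-1, 2), (-1, 0)⟩, ⟨(-1, 0), (1, 0), (1, -2), (1, -2)⟩, ⟨(-1, 0), (3, 0), (-1, 0), (1, 0)⟩, ⟨(-1, 2), (-1, 0), (1, -2), (-1, 0)⟩, ⟨(-1, 2), (1, -2), (1, 0), (1, 0)⟩, ⟨(-1, 2), (1, 0), (-1, 0), (-1, 2)⟩, ⟨(1, -2), (-1, 0), (1, 0), (1, -2)⟩, ⟨(1, -2), (-1, 2), (-1, 0), (-1, 0)⟩, ⟨(1, -2), (1, 0), (-1, 2), (1, 0)⟩, ⟨(1, 0), (-3, 0), (1, 0), (-1, 0)⟩, ⟨(1, 0), (-1, 0), (-1, 2), (-1, 2)⟩, ⟨(1, 0), (-1, 2), (1, -2), (1, 0)⟩, ⟨(1, 0), (1, -2),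 (-1, 0), (1, -2)⟩, ⟨(1, 0), (1, 0), (-3, 0), (-1, 0)⟩, ⟨(1, 0), (1, 0), (1, 0), (3, 0)⟩, ⟨(3, 0), (-1, 0), (-1, 0), (1, 0)⟩],
    [],
    [],
    [],
    [],
    [⟨(-3, 0), (1, 0), (-1, 0), (1, 0)⟩, ⟨(-1, 0), (-1, 0), (-3, 0), (-1, 0)⟩, ⟨(-1, 0), (-1, 0), (1, 0), (3, 0)⟩, ⟨(-1, 0), (-1, 2), (-1, 0), (1, -2)⟩, ⟨(-1, 0), (1, -2), (1, -2), (1, 0)⟩, ⟨(-1, 0), (1, 0), (-1, 2), (-1, 2)⟩, ⟨(-1, 0), (3, 0), (1, 0), (-1, 0)⟩, ⟨(-1, 2), (-1, 0), (-1, 2), (1, 0)⟩, ⟨(-1, 2), (1, -2), (-1, 0), (-1, 0)⟩, ⟨(-1, 2), (1, 0), (1, 0), (1, -2)⟩, ⟨(1, -2), (-1, 0), (-1, 0), (-1, 2)⟩, ⟨(1, -2), (-1, 2), (1, 0), (1, 0)⟩, ⟨(1, -2), (1, 0), (1, -2), (-1, 0)⟩, ⟨(1, 0), (-3, 0), (-1, 0), (1, 0)⟩, ⟨(1, 0), (-1, 0), (1, -2),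 (1, -2)⟩, ⟨(1, 0), (-1, 2), (-1, 2), (-1, 0)⟩, ⟨(1, 0), (1, -2), (1, 0), (-1, 2)⟩, ⟨(1, 0), (1, 0), (-1, 0), (-3, 0)⟩, ⟨(1, 0), (1, 0), (3, 0), (1, 0)⟩, ⟨(3, 0), (-1, 0), (1, 0), (-1, 0)⟩],
    [],
    [⟨(-3, 0), (-1, 0), (1, 0), (1, 0)⟩, ⟨(-1, 0), (-3, 0), (-1, 0), (-1, 0)⟩, ⟨(-1, 0), (-1, 0), (1, -2), (-1, 2)⟩, ⟨(-1, 0), (-1, 2), (-1, 2), (1, 0)⟩, ⟨(-1, 0), (1, -2), (1, 0), (1, -2)⟩, ⟨(-1, 0), (1, 0), (-1, 0), (3, 0)⟩, ⟨(-1, 0), (1, 0), (3, 0), (-1, 0)⟩, ⟨(-1, 2), (-1, 0), (-1, 0), (1, -2)⟩, ⟨(-1, 2), (-1, 2), (1, 0), (-1, 0)⟩, ⟨(-1, 2), (1, 0), (1, -2), (1, 0)⟩, ⟨(1, -2), (-1, 0), (-1, 2), (-1, 0)⟩, ⟨(1, -2), (1, -2), (-1, 0), (1, 0)⟩, ⟨(1, -2), (1, 0), (1, 0), (-1, 2)⟩, ⟨(1, 0), (-1, 0), (-3,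 0), (1, 0)⟩, ⟨(1, 0), (-1, 0), (1, 0), (-3, 0)⟩, ⟨(1, 0), (-1, 2), (-1, 0), (-1, 2)⟩, ⟨(1, 0), (1, -2), (1, -2), (-1, 0)⟩, ⟨(1, 0), (1, 0), (-1, 2), (1, -2)⟩, ⟨(1, 0), (3, 0), (1, 0), (1, 0)⟩, ⟨(3, 0), (1, 0), (-1, 0), (-1, 0)⟩],
    [],
    [],
    [],
    [],
    [],
    [],
    [⟨(-3, 0), (-1, 0), (-1, 0), (-1, 0)⟩, ⟨(-1, 0), (-3, 0), (1, 0), (1, 0)⟩, ⟨(-1, 0), (-1, 0), (-1, 2), (1, -2)⟩, ⟨(-1, 0), (-1, 2), (1, -2), (-1, 0)⟩, ⟨(-1, 0), (1, -2), (-1, 0), (-1, 2)⟩, ⟨(-1, 0), (1, 0), (-3, 0), (1, 0)⟩, ⟨(-1, 0), (1, 0), (1, 0), (-3, 0)⟩, ⟨(-1, 2), (-1, 0), (1, 0), (-1, 2)⟩, ⟨(-1, 2), (-1, 2), (-1, 0), (1, 0)⟩, ⟨(-1, 2), (1, 0), (-1, 2), (-1, 0)⟩, ⟨(1, -2), (-1, 0), (1, -2), (1, 0)⟩, ⟨(1, -2), (1,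 -2), (1, 0), (-1, 0)⟩, ⟨(1, -2), (1, 0), (-1, 0), (1, -2)⟩, ⟨(1, 0), (-1, 0), (-1, 0), (3, 0)⟩, ⟨(1, 0), (-1, 0), (3, 0), (-1, 0)⟩, ⟨(1, 0), (-1, 2), (1, 0), (1, -2)⟩, ⟨(1, 0), (1, -2), (-1, 2), (1, 0)⟩, ⟨(1, 0), (1, 0), (1, -2), (-1, 2)⟩, ⟨(1, 0), (3, 0), (-1, 0), (-1, 0)⟩, ⟨(3, 0), (1, 0), (1, 0), (1, 0)⟩]]

/-- Short icosians with given class and norm. -/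
def tab12_4 : List (List Q) :=
  [[⟨(-3, 1), (-1, -1), (-1, 1), (1, 1)⟩, ⟨(-3, 1), (-1, 1), (1, 1), (-1, -1)⟩, ⟨(-3, 1), (1, 1), (-1, -1), (-1, 1)⟩, ⟨(-1, -1), (-3, 1), (1, -1), (-1, -1)⟩, ⟨(-1, -1), (-1, -1), (-3, 1), (1, -1)⟩, ⟨(-1, -1), (1, -1), (-1, -1), (-3, 1)⟩, ⟨(-1, -1), (1, -1), (3, -1), (1, 1)⟩, ⟨(-1, -1), (1, 1), (1, -1), (3, -1)⟩, ⟨(-1, -1), (3, -1), (1, 1), (1, -1)⟩, ⟨(-1, 1), (-1, -1), (-1, -1), (3, -1)⟩, ⟨(-1, 1), (-1, -1), (3, -1), (-1, -1)⟩, ⟨(-1, 1), (-1, 1), (1, -1), (1, -3)⟩, ⟨(-1, 1), (1, -3), (-1, 1), (1, -1)⟩, ⟨(-1, 1), (1, -1), (1, -3), (-1, 1)⟩, ⟨(-1, 1), (3, -1), (-1, -1), (-1, -1)⟩, ⟨(-1, 3), (-1, 1), (-1, 1), (-1, 1)⟩, ⟨(1, -3), (1, -1), (1, -1), (1, -1)⟩, ⟨(1, -1), (-3,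 1), (1, 1), (1, 1)⟩, ⟨(1, -1), (-1, 1), (-1, 3), (1, -1)⟩, ⟨(1, -1), (-1, 3), (1, -1), (-1, 1)⟩, ⟨(1, -1), (1, -1), (-1, 1), (-1, 3)⟩, ⟨(1, -1), (1, 1), (-3, 1), (1, 1)⟩, ⟨(1, -1), (1, 1), (1, 1), (-3, 1)⟩, ⟨(1, 1), (-3, 1), (-1, -1), (-1, 1)⟩, ⟨(1, 1), (-1, -1), (-1, 1), (-3, 1)⟩, ⟨(1, 1), (-1, 1), (-3, 1), (-1, -1)⟩, ⟨(1, 1), (-1, 1), (1, 1), (3, -1)⟩, ⟨(1, 1), (1, 1), (3, -1), (-1, 1)⟩, ⟨(1, 1), (3, -1), (-1, 1), (1, 1)⟩, ⟨(3, -1), (-1, -1), (1, 1), (1, -1)⟩, ⟨(3, -1), (1, -1), (-1, -1), (1, 1)⟩, ⟨(3, -1), (1, 1), (1, -1), (-1, -1)⟩],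
    [],
    [],
    [],
    [],
    [],
    [],
    [⟨(-3, 1), (-1, -1), (1, 1), (-1, 1)⟩, ⟨(-3, 1), (1, -1), (-1, -1), (-1, -1)⟩, ⟨(-3, 1), (1, 1), (1, -1), (1, 1)⟩, ⟨(-1, -1), (-3, 1), (-1, -1), (1, -1)⟩, ⟨(-1, -1), (-1, -1), (-1, 1), (3, -1)⟩, ⟨(-1, -1), (-1, 1), (-3, 1), (1, 1)⟩, ⟨(-1, -1), (-1, 1), (1, 1), (-3, 1)⟩, ⟨(-1, -1), (1, 1), (3, -1), (1, -1)⟩, ⟨(-1, -1), (3, -1), (-1, 1), (-1, -1)⟩, ⟨(-1, 1), (-3, 1), (1, 1), (-1, -1)⟩, ⟨(-1, 1), (-1, 1), (-1, 3), (-1, 1)⟩, ⟨(-1, 1), (-1, 3), (1, -1), (1, -1)⟩, ⟨(-1, 1), (1, -1), (-1, 1), (1, -3)⟩, ⟨(-1, 1), (1, 1), (-3, 1), (-1, -1)⟩, ⟨(-1, 1), (1, 1), (1, 1), (3, -1)⟩, ⟨(-1, 3), (1, -1), (1, -1), (-1, 1)⟩, ⟨(1, -3), (-1, 1), (-1, 1), (1, -1)⟩, ⟨(1,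 -1), (-1, -1), (-1, -1), (-3, 1)⟩, ⟨(1, -1), (-1, -1), (3, -1), (1, 1)⟩, ⟨(1, -1), (-1, 1), (1, -1), (-1, 3)⟩, ⟨(1, -1), (1, -3), (-1, 1), (-1, 1)⟩, ⟨(1, -1), (1, -1), (1, -3), (1, -1)⟩, ⟨(1, -1), (3, -1), (-1, -1), (1, 1)⟩, ⟨(1, 1), (-3, 1), (1, -1), (1, 1)⟩, ⟨(1, 1), (-1, -1), (-3, 1), (-1, 1)⟩, ⟨(1, 1), (1, -1), (-1, -1), (3, -1)⟩, ⟨(1, 1), (1, -1), (3, -1), (-1, -1)⟩, ⟨(1, 1), (1, 1), (1, -1), (-3, 1)⟩, ⟨(1, 1), (3, -1), (1, 1), (-1, 1)⟩, ⟨(3, -1), (-1, -1), (-1, 1), (-1, -1)⟩, ⟨(3, -1), (-1, 1), (1, 1), (1, 1)⟩, ⟨(3, -1), (1, 1), (-1, -1), (1, -1)⟩],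
    [],
    [⟨(-3, 1), (-1, -1), (1, -1), (-1, -1)⟩, ⟨(-3, 1), (-1, 1), (-1, -1), (1, 1)⟩, ⟨(-3, 1), (1, 1), (1, 1), (1, -1)⟩, ⟨(-1, -1), (-3, 1), (-1, 1), (1, 1)⟩, ⟨(-1, -1), (-1, -1), (3, -1), (-1, 1)⟩, ⟨(-1, -1), (1, -1), (-3, 1), (-1, -1)⟩, ⟨(-1, -1), (1, -1), (1, 1), (3, -1)⟩, ⟨(-1, -1), (1, 1), (-1, 1), (-3, 1)⟩, ⟨(-1, -1), (3, -1), (-1, -1), (-1, 1)⟩, ⟨(-1, 1), (-1, -1), (-3, 1), (1, 1)⟩, ⟨(-1, 1), (-1, -1), (1, 1), (-3, 1)⟩, ⟨(-1, 1), (-1, 1), (-1, 1), (-1, 3)⟩, ⟨(-1, 1), (1, -3), (1, -1), (-1, 1)⟩, ⟨(-1, 1), (1, -1), (-1, 3), (1, -1)⟩, ⟨(-1, 1), (3, -1), (1, 1), (1, 1)⟩, ⟨(-1, 3), (-1, 1), (1, -1), (1, -1)⟩, ⟨(1, -3), (1, -1), (-1, 1), (-1, 1)⟩, ⟨(1, -1), (-3, 1), (-1, -1), (-1, -1)⟩, ⟨(1,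 -1), (-1, 1), (1, -3), (-1, 1)⟩, ⟨(1, -1), (-1, 3), (-1, 1), (1, -1)⟩, ⟨(1, -1), (1, -1), (1, -1), (1, -3)⟩, ⟨(1, -1), (1, 1), (-1, -1), (3, -1)⟩, ⟨(1, -1), (1, 1), (3, -1), (-1, -1)⟩, ⟨(1, 1), (-3, 1), (1, 1), (1, -1)⟩, ⟨(1, 1), (-1, -1), (1, -1), (3, -1)⟩, ⟨(1, 1), (-1, 1), (-1, -1), (-3, 1)⟩, ⟨(1, 1), (-1, 1), (3, -1), (1, 1)⟩, ⟨(1, 1), (1, 1), (-3, 1), (1, -1)⟩, ⟨(1, 1), (3, -1), (1, -1), (-1, -1)⟩, ⟨(3, -1), (-1, -1), (-1, -1), (-1, 1)⟩, ⟨(3, -1), (1, -1), (1, 1), (-1, -1)⟩, ⟨(3, -1), (1, 1), (-1, 1), (1, 1)⟩],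
    [],
    [],
    [],
    [],
    [⟨(-3, 1), (-1, -1), (-1, -1), (1, -1)⟩, ⟨(-3, 1), (1, -1), (1, 1), (1, 1)⟩, ⟨(-3, 1), (1, 1), (-1, 1), (-1, -1)⟩, ⟨(-1, -1), (-3, 1), (1, 1), (-1, 1)⟩, ⟨(-1, -1), (-1, -1), (1, -1), (-3, 1)⟩, ⟨(-1, -1), (-1, 1), (-1, -1), (3, -1)⟩, ⟨(-1, -1), (-1, 1), (3, -1), (-1, -1)⟩, ⟨(-1, -1), (1, 1), (-3, 1), (-1, 1)⟩, ⟨(-1, -1), (3, -1), (1, -1), (1, 1)⟩, ⟨(-1, 1), (-3, 1), (-1, -1), (1, 1)⟩, ⟨(-1, 1), (-1, 1), (1, -3), (1, -1)⟩, ⟨(-1, 1), (-1, 3), (-1, 1), (-1, 1)⟩, ⟨(-1, 1), (1, -1), (1, -1), (-1, 3)⟩, ⟨(-1, 1), (1, 1), (-1, -1), (-3, 1)⟩, ⟨(-1, 1), (1, 1), (3, -1), (1, 1)⟩, ⟨(-1, 3), (1, -1), (-1, 1), (1, -1)⟩, ⟨(1, -3), (-1, 1), (1, -1), (-1, 1)⟩, ⟨(1, -1), (-1, -1),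 (-3, 1), (-1, -1)⟩, ⟨(1, -1), (-1, -1), (1, 1), (3, -1)⟩, ⟨(1, -1), (-1, 1), (-1, 1), (1, -3)⟩, ⟨(1, -1), (1, -3), (1, -1), (1, -1)⟩, ⟨(1, -1), (1, -1), (-1, 3), (-1, 1)⟩, ⟨(1, -1), (3, -1), (1, 1), (-1, -1)⟩, ⟨(1, 1), (-3, 1), (-1, 1), (-1, -1)⟩, ⟨(1, 1), (-1, -1), (3, -1), (1, -1)⟩, ⟨(1, 1), (1, -1), (-3, 1), (1, 1)⟩, ⟨(1, 1), (1, -1), (1, 1), (-3, 1)⟩, ⟨(1, 1), (1, 1), (-1, 1), (3, -1)⟩, ⟨(1, 1), (3, -1), (-1, -1), (1, -1)⟩, ⟨(3, -1), (-1, -1), (1, -1), (1, 1)⟩, ⟨(3, -1), (-1, 1), (-1, -1), (-1, -1)⟩, ⟨(3, -1), (1, 1), (1, 1), (-1, 1)⟩],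
    []]

/-- Short icosians with given class and norm. -/
def tab12_5 : List (List Q) :=
  [[],
    [],
    [],
    [⟨(0, -1), (0, 1), (0, 1), (0, -1)⟩, ⟨(0, 1), (0, -1), (0, -1), (0, 1)⟩],
    [⟨(0, -1), (0, -1), (0, 1), (0, 1)⟩, ⟨(0, 1), (0, 1), (0, -1), (0, -1)⟩],
    [],
    [],
    [],
    [],
    [],
    [⟨(0, -1), (0, -1), (0, -1), (0, -1)⟩, ⟨(0, 1), (0, 1), (0, 1), (0, 1)⟩],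
    [],
    [],
    [⟨(0, -1), (0, 1), (0, -1), (0, 1)⟩, ⟨(0, 1), (0, -1), (0, 1), (0, -1)⟩],
    [],
    []]

/-- Short icosians with given class and norm. -/
def tab12_6 : List (List Q) :=
  [[],
    [],
    [⟨(-2, 0), (0, 0), (0, -2), (0, 0)⟩, ⟨(-2, 0), (0, 0), (0, 2), (0, 0)⟩, ⟨(0, -2), (-2, 0), (0, 0), (0, 0)⟩, ⟨(0, -2), (2, 0), (0, 0), (0, 0)⟩, ⟨(0, 0), (0, -2), (-2, 0), (0, 0)⟩, ⟨(0, 0), (0, -2), (2, 0), (0, 0)⟩, ⟨(0, 0), (0, 2), (-2, 0), (0, 0)⟩, ⟨(0, 0), (0, 2), (2, 0), (0, 0)⟩, ⟨(0, 2), (-2, 0), (0, 0), (0, 0)⟩, ⟨(0, 2), (2, 0), (0, 0), (0, 0)⟩, ⟨(2, 0), (0, 0), (0, -2), (0, 0)⟩, ⟨(2, 0), (0, 0), (0, 2), (0, 0)⟩],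
    [],
    [],
    [⟨(0, 0), (-2, 0), (0, -2), (0, 0)⟩, ⟨(0, 0), (-2, 0), (0, 2), (0, 0)⟩, ⟨(0, 0), (0, -2), (0, 0), (-2, 0)⟩, ⟨(0, 0), (0, -2), (0, 0), (2, 0)⟩, ⟨(0, 0), (0, 0), (-2, 0), (0, -2)⟩, ⟨(0, 0), (0, 0), (-2, 0), (0, 2)⟩, ⟨(0, 0), (0, 0), (2, 0), (0, -2)⟩, ⟨(0, 0), (0, 0), (2, 0), (0, 2)⟩, ⟨(0, 0), (0, 2), (0, 0), (-2, 0)⟩, ⟨(0, 0), (0, 2), (0, 0), (2, 0)⟩, ⟨(0, 0), (2, 0), (0, -2), (0, 0)⟩, ⟨(0, 0), (2, 0), (0, 2), (0, 0)⟩],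
    [],
    [],
    [],
    [],
    [],
    [⟨(-2, 0), (0, -2), (0, 0), (0, 0)⟩, ⟨(-2, 0), (0, 2), (0, 0), (0, 0)⟩, ⟨(0, -2), (0, 0), (0, 0), (-2, 0)⟩, ⟨(0, -2), (0, 0), (0, 0), (2, 0)⟩, ⟨(0, 0), (-2, 0), (0, 0), (0, -2)⟩, ⟨(0, 0), (-2, 0), (0, 0), (0, 2)⟩, ⟨(0, 0), (2, 0), (0, 0), (0, -2)⟩, ⟨(0, 0), (2, 0), (0, 0), (0, 2)⟩, ⟨(0, 2), (0, 0), (0, 0), (-2, 0)⟩, ⟨(0, 2), (0, 0), (0, 0), (2, 0)⟩, ⟨(2, 0), (0, -2), (0, 0), (0, 0)⟩, ⟨(2, 0), (0, 2), (0, 0), (0, 0)⟩],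
    [⟨(-2, 0), (0, 0), (0, 0), (0, -2)⟩, ⟨(-2, 0), (0, 0), (0, 0), (0, 2)⟩, ⟨(0, -2), (0, 0), (-2, 0), (0, 0)⟩, ⟨(0, -2), (0, 0), (2, 0), (0, 0)⟩, ⟨(0, 0), (0, 0), (0, -2), (-2, 0)⟩, ⟨(0, 0), (0, 0), (0, -2), (2, 0)⟩, ⟨(0, 0), (0, 0), (0, 2), (-2, 0)⟩, ⟨(0, 0), (0, 0), (0, 2), (2, 0)⟩, ⟨(0, 2), (0, 0), (-2, 0), (0, 0)⟩, ⟨(0, 2), (0, 0), (2, 0), (0, 0)⟩, ⟨(2, 0), (0, 0), (0, 0), (0, -2)⟩, ⟨(2, 0), (0, 0), (0, 0), (0, 2)⟩],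
    [],
    [],
    []]

/-- Short icosians with given class and norm. -/
def tab12_7 : List (List Q) :=
  [[],
    [],
    [],
    [⟨(-2, 1), (-2, 1), (0, -1), (0, -1)⟩, ⟨(-2, 1), (0, -1), (0, 1), (2, -1)⟩, ⟨(-2, 1), (0, 1), (-2, 1), (0, 1)⟩, ⟨(0, -1), (-2, 1), (2, -1), (0, 1)⟩, ⟨(0, -1), (0, -1), (-2, 1), (-2, 1)⟩, ⟨(0, -1), (2, -1), (0, -1), (2, -1)⟩, ⟨(0, 1), (-2, 1), (0, 1), (-2, 1)⟩, ⟨(0, 1), (0, 1), (2, -1), (2, -1)⟩, ⟨(0, 1), (2, -1), (-2, 1), (0, -1)⟩, ⟨(2, -1), (0, -1), (2, -1), (0, -1)⟩, ⟨(2, -1), (0, 1), (0, -1), (-2, 1)⟩, ⟨(2, -1), (2, -1), (0, 1), (0, 1)⟩],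
    [⟨(-2, 1), (0, -1), (-2, 1), (0, -1)⟩, ⟨(-2, 1), (0, 1), (0, 1), (-2, 1)⟩, ⟨(-2, 1), (2, -1), (0, -1), (0, 1)⟩, ⟨(0, -1), (-2, 1), (0, -1), (-2, 1)⟩, ⟨(0, -1), (0, 1), (-2, 1), (2, -1)⟩, ⟨(0, -1), (2, -1), (2, -1), (0, -1)⟩, ⟨(0, 1), (-2, 1), (-2, 1), (0, 1)⟩, ⟨(0, 1), (0, -1), (2, -1), (-2, 1)⟩, ⟨(0, 1), (2, -1), (0, 1), (2, -1)⟩, ⟨(2, -1), (-2, 1), (0, 1), (0, -1)⟩, ⟨(2, -1), (0, -1), (0, -1), (2, -1)⟩, ⟨(2, -1), (0, 1), (2, -1), (0, 1)⟩],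
    [],
    [],
    [],
    [],
    [],
    [⟨(-2, 1), (0, -1), (2, -1), (0, 1)⟩, ⟨(-2, 1), (0, 1), (0, -1), (2, -1)⟩, ⟨(-2, 1), (2, -1), (0, 1), (0, -1)⟩, ⟨(0, -1), (-2, 1), (0, 1), (2, -1)⟩, ⟨(0, -1), (0, 1), (2, -1), (-2, 1)⟩, ⟨(0, -1), (2, -1), (-2, 1), (0, 1)⟩, ⟨(0, 1), (-2, 1), (2, -1), (0, -1)⟩, ⟨(0, 1), (0, -1), (-2, 1), (2, -1)⟩, ⟨(0, 1), (2, -1), (0, -1), (-2, 1)⟩, ⟨(2, -1), (-2, 1), (0, -1), (0, 1)⟩, ⟨(2, -1), (0, -1), (0, 1), (-2, 1)⟩, ⟨(2, -1), (0, 1), (-2, 1), (0, -1)⟩],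
    [],
    [],
    [⟨(-2, 1), (-2, 1), (0, 1), (0, 1)⟩, ⟨(-2, 1), (0, -1), (0, -1), (-2, 1)⟩, ⟨(-2, 1), (0, 1), (2, -1), (0, -1)⟩, ⟨(0, -1), (-2, 1), (-2, 1), (0, -1)⟩, ⟨(0, -1), (0, -1), (2, -1), (2, -1)⟩, ⟨(0, -1), (2, -1), (0, 1), (-2, 1)⟩, ⟨(0, 1), (-2, 1), (0, -1), (2, -1)⟩, ⟨(0, 1), (0, 1), (-2, 1), (-2, 1)⟩, ⟨(0, 1), (2, -1), (2, -1), (0, 1)⟩, ⟨(2, -1), (0, -1), (-2, 1), (0, 1)⟩, ⟨(2, -1), (0, 1), (0, 1), (2, -1)⟩, ⟨(2, -1), (2, -1), (0, -1), (0, -1)⟩],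
    [],
    []]

/-- Short icosians with given class and norm. -/
def tab12_8 : List (List Q) :=
  [[],
    [],
    [⟨(0, 0), (0, 0), (0, 0), (-2, 2)⟩, ⟨(0, 0), (0, 0), (0, 0), (2, -2)⟩],
    [],
    [],
    [⟨(-2, 2), (0, 0), (0, 0), (0, 0)⟩, ⟨(2, -2), (0, 0), (0, 0), (0, 0)⟩],
    [],
    [],
    [],
    [],
    [],
    [⟨(0, 0), (0, 0), (-2, 2), (0, 0)⟩, ⟨(0, 0), (0, 0), (2, -2), (0, 0)⟩],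
    [⟨(0, 0), (-2, 2), (0, 0), (0, 0)⟩, ⟨(0, 0), (2, -2), (0, 0), (0, 0)⟩],
    [],
    [],
    []]

/-- Short icosians with given class. -/
def tab12 : List (List (List Q)) :=
  [tab12_0, tab12_1, tab12_2, tab12_3, tab12_4, tab12_5, tab12_6, tab12_7, tab12_8]

/-- Short icosians with given class and norm. -/
def tab13_0 : List (List Q) :=
  [[],
    [],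
    [],
    [],
    [],
    [],
    [],
    [],
    [],
    [],
    [],
    [],
    [],
    [],
    [],
    []]

/-- Short icosians with given class and norm. -/
def tab13_1 : List (List Q) :=
  [[],
    [],
    [⟨(-1, 1), (0, -1), (0, 0), (-1, 0)⟩, ⟨(1, -1), (0, 1), (0, 0), (1, 0)⟩],
    [],
    [],
    [],
    [],
    [⟨(0, 0), (-1, 0), (1, -1), (0, 1)⟩, ⟨(0, 0), (1, 0), (-1, 1), (0, -1)⟩],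
    [⟨(0, -1), (1, -1), (1, 0), (0, 0)⟩, ⟨(0, 1), (-1, 1), (-1, 0), (0, 0)⟩],
    [],
    [],
    [],
    [],
    [⟨(-1, 0), (0, 0), (0, -1), (1, -1)⟩, ⟨(1, 0), (0, 0), (0, 1), (-1, 1)⟩],
    [],
    []]

/-- Short icosians with given class and norm. -/
def tab13_2 : List (List Q) :=
  [[⟨(-2, 0), (-1, 0), (-1, 1), (0, -1)⟩, ⟨(-2, 0), (1, 0), (1, -1), (0, 1)⟩, ⟨(0, 0), (-1, 0), (-1, -1), (-2, 1)⟩, ⟨(0, 0), (-1, 2), (1, -1), (0, -1)⟩, ⟨(0, 0), (1, -2), (-1, 1), (0, 1)⟩, ⟨(0, 0), (1, 0), (1, 1), (2, -1)⟩, ⟨(2, 0), (-1, 0), (-1, 1), (0, -1)⟩, ⟨(2, 0), (1, 0), (1, -1), (0, 1)⟩],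
    [],
    [],
    [],
    [],
    [⟨(-1, -1), (-2, 1), (0, 0), (1, 0)⟩, ⟨(-1, 1), (0, -1), (-2, 0), (1, 0)⟩, ⟨(-1, 1), (0, -1), (2, 0), (1, 0)⟩, ⟨(-1, 1), (0, 1), (0, 0), (-1, 2)⟩, ⟨(1, -1), (0, -1), (0, 0), (1, -2)⟩, ⟨(1, -1), (0, 1), (-2, 0), (-1, 0)⟩, ⟨(1, -1), (0, 1), (2, 0), (-1, 0)⟩, ⟨(1, 1), (2, -1), (0, 0), (-1, 0)⟩],
    [],
    [],
    [],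
    [],
    [⟨(-1, 0), (-2, 0), (0, 1), (-1, 1)⟩, ⟨(-1, 0), (0, 0), (2, -1), (-1, -1)⟩, ⟨(-1, 0), (2, 0), (0, 1), (-1, 1)⟩, ⟨(-1, 2), (0, 0), (0, 1), (1, -1)⟩, ⟨(1, -2), (0, 0), (0, -1), (-1, 1)⟩, ⟨(1, 0), (-2, 0), (0, -1), (1, -1)⟩, ⟨(1, 0), (0, 0), (-2, 1), (1, 1)⟩, ⟨(1, 0), (2, 0), (0, -1), (1, -1)⟩],
    [],
    [],
    [],
    [],
    [⟨(-2, 1), (1, 1), (-1, 0), (0, 0)⟩, ⟨(0, -1), (-1, 1), (-1, 2), (0, 0)⟩, ⟨(0, -1), (1, -1), (-1, 0), (-2, 0)⟩, ⟨(0, -1), (1, -1), (-1, 0), (2, 0)⟩, ⟨(0, 1), (-1, 1), (1, 0), (-2, 0)⟩, ⟨(0, 1), (-1, 1), (1, 0), (2, 0)⟩, ⟨(0, 1), (1, -1), (1, -2), (0, 0)⟩, ⟨(2, -1), (-1, -1), (1, 0), (0, 0)⟩]]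

/-- Short icosians with given class and norm. -/
def tab13_3 : List (List Q) :=
  [[],
    [],
    [⟨(-1, -1), (-2, 1), (-2, 0), (-1, 0)⟩, ⟨(-1, -1), (-2, 1), (2, 0), (-1, 0)⟩, ⟨(-1, -1), (0, -1), (-2, 2), (1, 0)⟩, ⟨(-1, -1), (0, -1), (2, -2), (1, 0)⟩, ⟨(-1, -1), (2, -1), (0, 0), (1, -2)⟩, ⟨(-1, 1), (-2, 1), (0, -2), (1, 0)⟩, ⟨(-1, 1), (-2, 1), (0, 2), (1, 0)⟩, ⟨(-1, 1), (0, -1), (0, 0), (3, 0)⟩, ⟨(-1, 1), (0, 1), (-2, 0), (1, -2)⟩, ⟨(-1, 1), (0, 1), (2, 0), (1, -2)⟩, ⟨(1, -1), (0, -1), (-2, 0), (-1, 2)⟩, ⟨(1, -1), (0, -1), (2, 0), (-1, 2)⟩, ⟨(1, -1), (0, 1), (0, 0), (-3, 0)⟩, ⟨(1, -1), (2, -1), (0, -2), (-1, 0)⟩, ⟨(1, -1), (2, -1), (0, 2), (-1, 0)⟩, ⟨(1, 1), (-2, 1), (0, 0), (-1, 2)⟩, ⟨(1, 1),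 (0, 1), (-2, 2), (-1, 0)⟩, ⟨(1, 1), (0, 1), (2, -2), (-1, 0)⟩, ⟨(1, 1), (2, -1), (-2, 0), (1, 0)⟩, ⟨(1, 1), (2, -1), (2, 0), (1, 0)⟩],
    [],
    [],
    [],
    [],
    [⟨(-2, 0), (-1, 0), (1, 1), (2, -1)⟩, ⟨(-2, 0), (-1, 2), (-1, 1), (0, 1)⟩, ⟨(-2, 0), (1, -2), (1, -1), (0, -1)⟩, ⟨(-2, 0), (1, 0), (-1, -1), (-2, 1)⟩, ⟨(-2, 2), (-1, 0), (-1, -1), (0, -1)⟩, ⟨(-2, 2), (1, 0), (1, 1), (0, 1)⟩, ⟨(0, -2), (-1, 0), (-1, 1), (-2, 1)⟩, ⟨(0, -2), (1, 0), (1, -1), (2, -1)⟩, ⟨(0, 0), (-3, 0), (-1, 1), (0, -1)⟩, ⟨(0, 0), (-1, 2), (-1, -1), (2, -1)⟩, ⟨(0, 0), (1, -2), (1, 1), (-2, 1)⟩, ⟨(0, 0), (3, 0), (1, -1), (0, 1)⟩, ⟨(0, 2), (-1, 0), (-1, 1), (-2, 1)⟩, ⟨(0, 2), (1, 0), (1, -1), (2, -1)⟩, ⟨(2, -2), (-1,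 0), (-1, -1), (0, -1)⟩, ⟨(2, -2), (1, 0), (1, 1), (0, 1)⟩, ⟨(2, 0), (-1, 0), (1, 1), (2, -1)⟩, ⟨(2, 0), (-1, 2), (-1, 1), (0, 1)⟩, ⟨(2, 0), (1, -2), (1, -1), (0, -1)⟩, ⟨(2, 0), (1, 0), (-1, -1), (-2, 1)⟩],
    [⟨(-2, 1), (-1, -1), (1, -2), (0, 0)⟩, ⟨(-2, 1), (1, -1), (-1, 0), (0, -2)⟩, ⟨(-2, 1), (1, -1), (-1, 0), (0, 2)⟩, ⟨(-2, 1), (1, 1), (1, 0), (-2, 0)⟩, ⟨(-2, 1), (1, 1), (1, 0), (2, 0)⟩, ⟨(0, -1), (-1, 1), (1, -2), (-2, 0)⟩, ⟨(0, -1), (-1, 1), (1, -2), (2, 0)⟩, ⟨(0, -1), (1, -1), (-3, 0), (0, 0)⟩, ⟨(0, -1), (1, 1), (-1, 0), (-2, 2)⟩, ⟨(0, -1), (1, 1), (-1, 0), (2, -2)⟩, ⟨(0, 1), (-1, -1), (1, 0), (-2, 2)⟩, ⟨(0, 1), (-1, -1), (1, 0), (2, -2)⟩, ⟨(0, 1), (-1, 1), (3, 0), (0, 0)⟩, ⟨(0, 1), (1, -1),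 (-1, 2), (-2, 0)⟩, ⟨(0, 1), (1, -1), (-1, 2), (2, 0)⟩, ⟨(2, -1), (-1, -1), (-1, 0), (-2, 0)⟩, ⟨(2, -1), (-1, -1), (-1, 0), (2, 0)⟩, ⟨(2, -1), (-1, 1), (1, 0), (0, -2)⟩, ⟨(2, -1), (-1, 1), (1, 0), (0, 2)⟩, ⟨(2, -1), (1, 1), (-1, 2), (0, 0)⟩],
    [],
    [],
    [],
    [],
    [⟨(-3, 0), (0, 0), (0, 1), (-1, 1)⟩, ⟨(-1, 0), (-2, 0), (-2, 1), (1, 1)⟩, ⟨(-1, 0), (-2, 2), (0, 1), (-1, -1)⟩, ⟨(-1, 0), (0, -2), (2, -1), (-1, 1)⟩, ⟨(-1, 0), (0, 2), (2, -1), (-1, 1)⟩, ⟨(-1, 0), (2, -2), (0, 1), (-1, -1)⟩, ⟨(-1, 0), (2, 0), (-2, 1), (1, 1)⟩, ⟨(-1, 2), (-2, 0), (0, -1), (-1, 1)⟩, ⟨(-1, 2), (0, 0), (-2, 1), (-1, -1)⟩, ⟨(-1, 2), (2, 0), (0, -1), (-1, 1)⟩, ⟨(1, -2), (-2, 0), (0, 1), (1, -1)⟩, ⟨(1, -2), (0, 0),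 (2, -1), (1, 1)⟩, ⟨(1, -2), (2, 0), (0, 1), (1, -1)⟩, ⟨(1, 0), (-2, 0), (2, -1), (-1, -1)⟩, ⟨(1, 0), (-2, 2), (0, -1), (1, 1)⟩, ⟨(1, 0), (0, -2), (-2, 1), (1, -1)⟩, ⟨(1, 0), (0, 2), (-2, 1), (1, -1)⟩, ⟨(1, 0), (2, -2), (0, -1), (1, 1)⟩, ⟨(1, 0), (2, 0), (2, -1), (-1, -1)⟩, ⟨(3, 0), (0, 0), (0, -1), (1, -1)⟩],
    [],
    []]

/-- Short icosians with given class and norm. -/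
def tab13_4 : List (List Q) :=
  [[⟨(-2, 0), (-3, 0), (1, -1), (0, 1)⟩, ⟨(-2, 0), (-1, 2), (1, 1), (-2, 1)⟩, ⟨(-2, 0), (1, -2), (-1, -1), (2, -1)⟩, ⟨(-2, 0), (3, 0), (-1, 1), (0, -1)⟩, ⟨(-2, 2), (-1, 0), (1, -1), (-2, -1)⟩, ⟨(-2, 2), (-1, 2), (-1, -1), (0, 1)⟩, ⟨(-2, 2), (1, -2), (1, 1), (0, -1)⟩, ⟨(-2, 2), (1, 0), (-1, 1), (2, 1)⟩, ⟨(0, -2), (-1, 0), (-3, 1), (0, 1)⟩, ⟨(0, -2), (-1, 2), (-1, 1), (2, -1)⟩, ⟨(0, -2), (1, -2), (1, -1), (-2, 1)⟩, ⟨(0, -2), (1, 0), (3, -1), (0, -1)⟩, ⟨(0, 0), (-3, 0), (1, 1), (2, -1)⟩, ⟨(0, 0), (-1, 0), (-1, -1), (2, -3)⟩, ⟨(0, 0), (-1, 0), (-1, 3), (-2, 1)⟩, ⟨(0, 0), (-1, 0), (3, -1), (2, 1)⟩, ⟨(0, 0), (1, 0), (-3, 1), (-2, -1)⟩, ⟨(0, 0), (1, 0), (1, -3), (2, -1)⟩,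 ⟨(0, 0), (1, 0), (1, 1), (-2, 3)⟩, ⟨(0, 0), (3, 0), (-1, -1), (-2, 1)⟩, ⟨(0, 2), (-1, 0), (-3, 1), (0, 1)⟩, ⟨(0, 2), (-1, 2), (-1, 1), (2, -1)⟩, ⟨(0, 2), (1, -2), (1, -1), (-2, 1)⟩, ⟨(0, 2), (1, 0), (3, -1), (0, -1)⟩, ⟨(2, -2), (-1, 0), (1, -1), (-2, -1)⟩, ⟨(2, -2), (-1, 2), (-1, -1), (0, 1)⟩, ⟨(2, -2), (1, -2), (1, 1), (0, -1)⟩, ⟨(2, -2), (1, 0), (-1, 1), (2, 1)⟩, ⟨(2, 0), (-3, 0), (1, -1), (0, 1)⟩, ⟨(2, 0), (-1, 2), (1, 1), (-2, 1)⟩, ⟨(2, 0), (1, -2), (-1, -1), (2, -1)⟩, ⟨(2, 0), (3, 0), (-1, 1), (0, -1)⟩],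
    [],
    [],
    [],
    [],
    [⟨(-3, 1), (-2, -1), (0, 0), (-1, 0)⟩, ⟨(-3, 1), (0, 1), (0, -2), (1, 0)⟩, ⟨(-3, 1), (0, 1), (0, 2), (1, 0)⟩, ⟨(-1, -1), (-2, 1), (0, 0), (-3, 0)⟩, ⟨(-1, -1), (0, 1), (-2, 2), (1, -2)⟩, ⟨(-1, -1), (0, 1), (2, -2), (1, -2)⟩, ⟨(-1, -1), (2, -3), (0, 0), (1, 0)⟩, ⟨(-1, -1), (2, -1), (-2, 0), (-1, 2)⟩, ⟨(-1, -1), (2, -1), (2, 0), (-1, 2)⟩, ⟨(-1, 1), (0, -1), (-2, 0), (-3, 0)⟩, ⟨(-1, 1), (0, -1), (2, 0), (-3, 0)⟩, ⟨(-1, 1), (2, -1), (0, -2), (1, -2)⟩, ⟨(-1, 1), (2, -1), (0, 2), (1, -2)⟩, ⟨(-1, 1), (2, 1), (-2, 2), (-1, 0)⟩, ⟨(-1, 1), (2, 1), (2, -2), (-1, 0)⟩, ⟨(-1, 3), (-2, 1), (0, 0), (1, 0)⟩, ⟨(1, -3), (2, -1), (0, 0), (-1, 0)⟩, ⟨(1, -1), (-2, -1), (-2, 2), (1, 0)⟩,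 ⟨(1, -1), (-2, -1), (2, -2), (1, 0)⟩, ⟨(1, -1), (-2, 1), (0, -2), (-1, 2)⟩, ⟨(1, -1), (-2, 1), (0, 2), (-1, 2)⟩, ⟨(1, -1), (0, 1), (-2, 0), (3, 0)⟩, ⟨(1, -1), (0, 1), (2, 0), (3, 0)⟩, ⟨(1, 1), (-2, 1), (-2, 0), (1, -2)⟩, ⟨(1, 1), (-2, 1), (2, 0), (1, -2)⟩, ⟨(1, 1), (-2, 3), (0, 0), (-1, 0)⟩, ⟨(1, 1), (0, -1), (-2, 2), (-1, 2)⟩, ⟨(1, 1), (0, -1), (2, -2), (-1, 2)⟩, ⟨(1, 1), (2, -1), (0, 0), (3, 0)⟩, ⟨(3, -1), (0, -1), (0, -2), (-1, 0)⟩, ⟨(3, -1), (0, -1), (0, 2), (-1, 0)⟩, ⟨(3, -1), (2, 1), (0, 0), (1, 0)⟩],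
    [],
    [],
    [],
    [],
    [⟨(-3, 0), (-2, 0), (0, -1), (1, -1)⟩, ⟨(-3, 0), (0, 0), (-2, 1), (1, 1)⟩, ⟨(-3, 0), (2, 0), (0, -1), (1, -1)⟩, ⟨(-1, 0), (-2, 2), (2, 1), (1, -1)⟩, ⟨(-1, 0), (0, -2), (0, -1), (-3, 1)⟩, ⟨(-1, 0), (0, 0), (-2, -1), (3, -1)⟩, ⟨(-1, 0), (0, 0), (-2, 3), (-1, -1)⟩, ⟨(-1, 0), (0, 0), (2, -1), (-1, 3)⟩, ⟨(-1, 0), (0, 2), (0, -1), (-3, 1)⟩, ⟨(-1, 0), (2, -2), (2, 1), (1, -1)⟩, ⟨(-1, 2), (-2, 0), (2, -1), (1, 1)⟩, ⟨(-1, 2), (-2, 2), (0, -1), (-1, -1)⟩, ⟨(-1, 2), (0, -2), (-2, 1), (-1, 1)⟩, ⟨(-1, 2), (0, 2), (-2, 1), (-1, 1)⟩, ⟨(-1, 2), (2, -2), (0, -1), (-1, -1)⟩, ⟨(-1, 2), (2, 0), (2, -1), (1, 1)⟩, ⟨(1, -2), (-2, 0), (-2, 1), (-1, -1)⟩, ⟨(1, -2), (-2, 2), (0, 1), (1,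 1)⟩, ⟨(1, -2), (0, -2), (2, -1), (1, -1)⟩, ⟨(1, -2), (0, 2), (2, -1), (1, -1)⟩, ⟨(1, -2), (2, -2), (0, 1), (1, 1)⟩, ⟨(1, -2), (2, 0), (-2, 1), (-1, -1)⟩, ⟨(1, 0), (-2, 2), (-2, -1), (-1, 1)⟩, ⟨(1, 0), (0, -2), (0, 1), (3, -1)⟩, ⟨(1, 0), (0, 0), (-2, 1), (1, -3)⟩, ⟨(1, 0), (0, 0), (2, -3), (1, 1)⟩, ⟨(1, 0), (0, 0), (2, 1), (-3, 1)⟩, ⟨(1, 0), (0, 2), (0, 1), (3, -1)⟩, ⟨(1, 0), (2, -2), (-2, -1), (-1, 1)⟩, ⟨(3, 0), (-2, 0), (0, 1), (-1, 1)⟩, ⟨(3, 0), (0, 0), (2, -1), (-1, -1)⟩, ⟨(3, 0), (2, 0), (0, 1), (-1, 1)⟩],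
    [],
    [],
    [],
    [],
    [⟨(-2, -1), (-1, 1), (-1, 0), (-2, 2)⟩, ⟨(-2, -1), (-1, 1), (-1, 0), (2, -2)⟩, ⟨(-2, -1), (3, -1), (1, 0), (0, 0)⟩, ⟨(-2, 1), (-1, -1), (-1, 2), (-2, 0)⟩, ⟨(-2, 1), (-1, -1), (-1, 2), (2, 0)⟩, ⟨(-2, 1), (-1, 1), (1, -2), (0, -2)⟩, ⟨(-2, 1), (-1, 1), (1, -2), (0, 2)⟩, ⟨(-2, 1), (1, -3), (-1, 0), (0, 0)⟩, ⟨(-2, 1), (1, 1), (3, 0), (0, 0)⟩, ⟨(-2, 3), (-1, -1), (1, 0), (0, 0)⟩, ⟨(0, -1), (-3, 1), (1, 0), (0, -2)⟩, ⟨(0, -1), (-3, 1), (1, 0), (0, 2)⟩, ⟨(0, -1), (-1, -1), (1, -2), (-2, 2)⟩, ⟨(0, -1), (-1, -1), (1, -2), (2, -2)⟩, ⟨(0, -1), (1, -1), (3, 0), (-2, 0)⟩, ⟨(0, -1), (1, -1), (3, 0), (2, 0)⟩, ⟨(0, 1), (-1, 1), (-3, 0), (-2, 0)⟩, ⟨(0, 1), (-1, 1), (-3, 0), (2,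 0)⟩, ⟨(0, 1), (1, 1), (-1, 2), (-2, 2)⟩, ⟨(0, 1), (1, 1), (-1, 2), (2, -2)⟩, ⟨(0, 1), (3, -1), (-1, 0), (0, -2)⟩, ⟨(0, 1), (3, -1), (-1, 0), (0, 2)⟩, ⟨(2, -3), (1, 1), (-1, 0), (0, 0)⟩, ⟨(2, -1), (-1, -1), (-3, 0), (0, 0)⟩, ⟨(2, -1), (-1, 3), (1, 0), (0, 0)⟩, ⟨(2, -1), (1, -1), (-1, 2), (0, -2)⟩, ⟨(2, -1), (1, -1), (-1, 2), (0, 2)⟩, ⟨(2, -1), (1, 1), (1, -2), (-2, 0)⟩, ⟨(2, -1), (1, 1), (1, -2), (2, 0)⟩, ⟨(2, 1), (-3, 1), (-1, 0), (0, 0)⟩, ⟨(2, 1), (1, -1), (1, 0), (-2, 2)⟩, ⟨(2, 1), (1, -1), (1, 0), (2, -2)⟩]]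

/-- Short icosians with given class and norm. -/
def tab13_5 : List (List Q) :=
  [[],
    [],
    [],
    [⟨(-1, 0), (0, 0), (0, 1), (1, 1)⟩, ⟨(1, 0), (0, 0), (0, -1), (-1, -1)⟩],
    [],
    [],
    [⟨(0, -1), (-1, -1), (-1, 0), (0, 0)⟩, ⟨(0, 1), (1, 1), (1, 0), (0, 0)⟩],
    [],
    [],
    [⟨(0, 0), (-1, 0), (1, 1), (0, -1)⟩, ⟨(0, 0), (1, 0), (-1, -1), (0, 1)⟩],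
    [],
    [],
    [⟨(-1, -1), (0, 1), (0, 0), (-1, 0)⟩, ⟨(1, 1), (0, -1), (0, 0), (1, 0)⟩],
    [],
    [],
    []]

/-- Short icosians with given class and norm. -/
def tab13_6 : List (List Q) :=
  [[],
    [⟨(-2, -1), (1, -1), (-1, 0), (0, 0)⟩, ⟨(0, -1), (-1, -1), (1, 0), (-2, 0)⟩, ⟨(0, -1), (-1, -1), (1, 0), (2, 0)⟩, ⟨(0, -1), (-1, 1), (-1, 0), (0, -2)⟩, ⟨(0, -1), (-1, 1), (-1, 0), (0, 2)⟩, ⟨(0, -1), (1, 1), (1, -2), (0, 0)⟩, ⟨(0, 1), (-1, -1), (-1, 2), (0, 0)⟩, ⟨(0, 1), (1, -1), (1, 0), (0, -2)⟩, ⟨(0, 1), (1, -1), (1, 0), (0, 2)⟩, ⟨(0, 1), (1, 1), (-1, 0), (-2, 0)⟩, ⟨(0, 1), (1, 1), (-1, 0), (2, 0)⟩, ⟨(2, 1), (-1, 1), (1, 0), (0, 0)⟩],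
    [],
    [],
    [⟨(-1, 0), (-2, 0), (0, -1), (-1, -1)⟩, ⟨(-1, 0), (0, -2), (0, 1), (1, -1)⟩, ⟨(-1, 0), (0, 0), (2, 1), (-1, 1)⟩, ⟨(-1, 0), (0, 2), (0, 1), (1, -1)⟩, ⟨(-1, 0), (2, 0), (0, -1), (-1, -1)⟩, ⟨(-1, 2), (0, 0), (0, -1), (1, 1)⟩, ⟨(1, -2), (0, 0), (0, 1), (-1, -1)⟩, ⟨(1, 0), (-2, 0), (0, 1), (1, 1)⟩, ⟨(1, 0), (0, -2), (0, -1), (-1, 1)⟩, ⟨(1, 0), (0, 0), (-2, -1), (1, -1)⟩, ⟨(1, 0), (0, 2), (0, -1), (-1, 1)⟩, ⟨(1, 0), (2, 0), (0, 1), (1, 1)⟩],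
    [],
    [],
    [],
    [],
    [],
    [],
    [⟨(-1, -1), (0, -1), (0, 0), (-1, 2)⟩, ⟨(-1, -1), (0, 1), (-2, 0), (1, 0)⟩, ⟨(-1, -1), (0, 1), (2, 0), (1, 0)⟩, ⟨(-1, 1), (-2, -1), (0, 0), (1, 0)⟩, ⟨(-1, 1), (0, 1), (0, -2), (-1, 0)⟩, ⟨(-1, 1), (0, 1), (0, 2), (-1, 0)⟩, ⟨(1, -1), (0, -1), (0, -2), (1, 0)⟩, ⟨(1, -1), (0, -1), (0, 2), (1, 0)⟩, ⟨(1, -1), (2, 1), (0, 0), (-1, 0)⟩, ⟨(1, 1), (0, -1), (-2, 0), (-1, 0)⟩, ⟨(1, 1), (0, -1), (2, 0), (-1, 0)⟩, ⟨(1, 1), (0, 1), (0, 0), (1, -2)⟩],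
    [],
    [],
    [⟨(-2, 0), (-1, 0), (-1, -1), (0, 1)⟩, ⟨(-2, 0), (1, 0), (1, 1), (0, -1)⟩, ⟨(0, -2), (-1, 0), (1, -1), (0, -1)⟩, ⟨(0, -2), (1, 0), (-1, 1), (0, 1)⟩, ⟨(0, 0), (-1, 0), (-1, 1), (-2, -1)⟩, ⟨(0, 0), (-1, 2), (1, 1), (0, 1)⟩, ⟨(0, 0), (1, -2), (-1, -1), (0, -1)⟩, ⟨(0, 0), (1, 0), (1, -1), (2, 1)⟩, ⟨(0, 2), (-1, 0), (1, -1), (0, -1)⟩, ⟨(0, 2), (1, 0), (-1, 1), (0, 1)⟩, ⟨(2, 0), (-1, 0), (-1, -1), (0, 1)⟩, ⟨(2, 0), (1, 0), (1, 1), (0, -1)⟩],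
    []]

/-- Short icosians with given class and norm. -/
def tab13_7 : List (List Q) :=
  [[],
    [],
    [],
    [⟨(-1, 0), (-2, 0), (2, -1), (1, -1)⟩, ⟨(-1, 0), (-2, 2), (0, -1), (-1, 1)⟩, ⟨(-1, 0), (0, 0), (0, 1), (-3, 1)⟩, ⟨(-1, 0), (2, -2), (0, -1), (-1, 1)⟩, ⟨(-1, 0), (2, 0), (2, -1), (1, -1)⟩, ⟨(-1, 2), (0, 0), (2, -1), (-1, 1)⟩, ⟨(1, -2), (0, 0), (-2, 1), (1, -1)⟩, ⟨(1, 0), (-2, 0), (-2, 1), (-1, 1)⟩, ⟨(1, 0), (-2, 2), (0, 1), (1, -1)⟩, ⟨(1, 0), (0, 0), (0, -1), (3, -1)⟩, ⟨(1, 0), (2, -2), (0, 1), (1, -1)⟩, ⟨(1, 0), (2, 0), (-2, 1), (-1, 1)⟩],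
    [],
    [],
    [⟨(-2, 1), (-1, 1), (-1, 0), (-2, 0)⟩, ⟨(-2, 1), (-1, 1), (-1, 0), (2, 0)⟩, ⟨(-2, 1), (1, -1), (-1, 2), (0, 0)⟩, ⟨(0, -1), (-1, 1), (1, 0), (-2, 2)⟩, ⟨(0, -1), (-1, 1), (1, 0), (2, -2)⟩, ⟨(0, -1), (3, -1), (-1, 0), (0, 0)⟩, ⟨(0, 1), (-3, 1), (1, 0), (0, 0)⟩, ⟨(0, 1), (1, -1), (-1, 0), (-2, 2)⟩, ⟨(0, 1), (1, -1), (-1, 0), (2, -2)⟩, ⟨(2, -1), (-1, 1), (1, -2), (0, 0)⟩, ⟨(2, -1), (1, -1), (1, 0), (-2, 0)⟩, ⟨(2, -1), (1, -1), (1, 0), (2, 0)⟩],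
    [],
    [],
    [⟨(-2, 0), (-1, 0), (1, -1), (-2, 1)⟩, ⟨(-2, 0), (1, 0), (-1, 1), (2, -1)⟩, ⟨(-2, 2), (-1, 0), (-1, 1), (0, 1)⟩, ⟨(-2, 2), (1, 0), (1, -1), (0, -1)⟩, ⟨(0, 0), (-1, 0), (-3, 1), (0, -1)⟩, ⟨(0, 0), (-1, 2), (-1, 1), (-2, 1)⟩, ⟨(0, 0), (1, -2), (1, -1), (2, -1)⟩, ⟨(0, 0), (1, 0), (3, -1), (0, 1)⟩, ⟨(2, -2), (-1, 0), (-1, 1), (0, 1)⟩, ⟨(2, -2), (1, 0), (1, -1), (0, -1)⟩, ⟨(2, 0), (-1, 0), (1, -1), (-2, 1)⟩, ⟨(2, 0), (1, 0), (-1, 1), (2, -1)⟩],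
    [],
    [],
    [⟨(-3, 1), (0, -1), (0, 0), (1, 0)⟩, ⟨(-1, 1), (-2, 1), (0, 0), (1, -2)⟩, ⟨(-1, 1), (0, 1), (-2, 2), (1, 0)⟩, ⟨(-1, 1), (0, 1), (2, -2), (1, 0)⟩, ⟨(-1, 1), (2, -1), (-2, 0), (-1, 0)⟩, ⟨(-1, 1), (2, -1), (2, 0), (-1, 0)⟩, ⟨(1, -1), (-2, 1), (-2, 0), (1, 0)⟩, ⟨(1, -1), (-2, 1), (2, 0), (1, 0)⟩, ⟨(1, -1), (0, -1), (-2, 2), (-1, 0)⟩, ⟨(1, -1), (0, -1), (2, -2), (-1, 0)⟩, ⟨(1, -1), (2, -1), (0, 0), (-1, 2)⟩, ⟨(3, -1), (0, 1), (0, 0), (-1, 0)⟩],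
    [],
    [],
    []]

/-- Short icosians with given class and norm. -/
def tab13_8 : List (List Q) :=
  [[],
    [⟨(-2, 1), (-1, 1), (1, 0), (0, 0)⟩, ⟨(2, -1), (1, -1), (-1, 0), (0, 0)⟩],
    [],
    [],
    [⟨(-1, 0), (0, 0), (-2, 1), (-1, 1)⟩, ⟨(1, 0), (0, 0), (2, -1), (1, -1)⟩],
    [],
    [],
    [],
    [],
    [],
    [],
    [⟨(-1, 1), (2, -1), (0, 0), (1, 0)⟩, ⟨(1, -1), (-2, 1), (0, 0), (-1, 0)⟩],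
    [],
    [],
    [⟨(0, 0), (-1, 0), (-1, 1), (2, -1)⟩, ⟨(0, 0), (1, 0), (1, -1), (-2, 1)⟩],
    []]

/-- Short icosians with given class. -/
def tab13 : List (List (List Q)) :=
  [tab13_0, tab13_1, tab13_2, tab13_3, tab13_4, tab13_5, tab13_6, tab13_7, tab13_8]

/-- Short icosians with given class and norm. -/
def tab14_0 : List (List Q) :=
  [[],
    [],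
    [],
    [],
    [],
    [],
    [],
    [],
    [],
    [],
    [],
    [],
    [],
    [],
    [],
    []]

/-- Short icosians with given class and norm. -/
def tab14_1 : List (List Q) :=
  [[],
    [],
    [],
    [⟨(-1, 0), (1, -1), (0, 0), (0, -1)⟩, ⟨(1, 0), (-1, 1), (0, 0), (0, 1)⟩],
    [],
    [],
    [⟨(0, -1), (0, 0), (1, -1), (1, 0)⟩, ⟨(0, 1), (0, 0), (-1, 1), (-1, 0)⟩],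
    [],
    [],
    [⟨(0, 0), (0, -1), (1, 0), (-1, 1)⟩, ⟨(0, 0), (0, 1), (-1, 0), (1, -1)⟩],
    [],
    [],
    [⟨(-1, 1), (-1, 0), (0, -1), (0, 0)⟩, ⟨(1, -1), (1, 0), (0, 1), (0, 0)⟩],
    [],
    [],
    []]

/-- Short icosians with given class and norm. -/
def tab14_2 : List (List Q) :=
  [[⟨(-2, 0), (0, -1), (-1, 0), (-1, 1)⟩, ⟨(-2, 0), (0, 1), (1, 0), (1, -1)⟩, ⟨(0, 0), (-2, 1), (-1, 0), (-1, -1)⟩, ⟨(0, 0), (0, -1), (-1, 2), (1, -1)⟩, ⟨(0, 0), (0, 1), (1, -2), (-1, 1)⟩, ⟨(0, 0), (2, -1), (1, 0), (1, 1)⟩, ⟨(2, 0), (0, -1), (-1, 0), (-1, 1)⟩, ⟨(2, 0), (0, 1), (1, 0), (1, -1)⟩],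
    [],
    [],
    [],
    [],
    [⟨(-1, -1), (1, 0), (-2, 1), (0, 0)⟩, ⟨(-1, 1), (-1, 2), (0, 1), (0, 0)⟩, ⟨(-1, 1), (1, 0), (0, -1), (-2, 0)⟩, ⟨(-1, 1), (1, 0), (0, -1), (2, 0)⟩, ⟨(1, -1), (-1, 0), (0, 1), (-2, 0)⟩, ⟨(1, -1), (-1, 0), (0, 1), (2, 0)⟩, ⟨(1, -1), (1, -2), (0, -1), (0, 0)⟩, ⟨(1, 1), (-1, 0), (2, -1), (0, 0)⟩],
    [],
    [],
    [],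
    [],
    [⟨(-1, 0), (-1, -1), (0, 0), (2, -1)⟩, ⟨(-1, 0), (-1, 1), (-2, 0), (0, 1)⟩, ⟨(-1, 0), (-1, 1), (2, 0), (0, 1)⟩, ⟨(-1, 2), (1, -1), (0, 0), (0, 1)⟩, ⟨(1, -2), (-1, 1), (0, 0), (0, -1)⟩, ⟨(1, 0), (1, -1), (-2, 0), (0, -1)⟩, ⟨(1, 0), (1, -1), (2, 0), (0, -1)⟩, ⟨(1, 0), (1, 1), (0, 0), (-2, 1)⟩],
    [],
    [],
    [],
    [],
    [⟨(-2, 1), (0, 0), (1, 1), (-1, 0)⟩, ⟨(0, -1), (-2, 0), (1, -1), (-1, 0)⟩, ⟨(0, -1), (0, 0), (-1, 1), (-1, 2)⟩, ⟨(0, -1), (2, 0), (1, -1), (-1, 0)⟩, ⟨(0, 1), (-2, 0), (-1, 1), (1, 0)⟩, ⟨(0, 1), (0, 0), (1, -1), (1, -2)⟩, ⟨(0, 1), (2, 0), (-1, 1), (1, 0)⟩, ⟨(2, -1), (0, 0), (-1, -1), (1, 0)⟩]]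

/-- Short icosians with given class and norm. -/
def tab14_3 : List (List Q) :=
  [[],
    [],
    [],
    [⟨(-3, 0), (-1, 1), (0, 0), (0, 1)⟩, ⟨(-1, 0), (-1, -1), (-2, 2), (0, 1)⟩, ⟨(-1, 0), (-1, -1), (2, -2), (0, 1)⟩, ⟨(-1, 0), (-1, 1), (0, -2), (2, -1)⟩, ⟨(-1, 0), (-1, 1), (0, 2), (2, -1)⟩, ⟨(-1, 0), (1, 1), (-2, 0), (-2, 1)⟩, ⟨(-1, 0), (1, 1), (2, 0), (-2, 1)⟩, ⟨(-1, 2), (-1, -1), (0, 0), (-2, 1)⟩, ⟨(-1, 2), (-1, 1), (-2, 0), (0, -1)⟩, ⟨(-1, 2), (-1, 1), (2, 0), (0, -1)⟩, ⟨(1, -2), (1, -1), (-2, 0), (0, 1)⟩, ⟨(1, -2), (1, -1), (2, 0), (0, 1)⟩, ⟨(1, -2), (1, 1), (0, 0), (2, -1)⟩, ⟨(1, 0), (-1, -1), (-2, 0), (2, -1)⟩, ⟨(1, 0), (-1, -1), (2, 0), (2, -1)⟩, ⟨(1, 0), (1, -1), (0, -2), (-2, 1)⟩, ⟨(1,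 0), (1, -1), (0, 2), (-2, 1)⟩, ⟨(1, 0), (1, 1), (-2, 2), (0, -1)⟩, ⟨(1, 0), (1, 1), (2, -2), (0, -1)⟩, ⟨(3, 0), (1, -1), (0, 0), (0, -1)⟩],
    [],
    [],
    [⟨(-2, 1), (-2, 0), (1, 1), (1, 0)⟩, ⟨(-2, 1), (0, -2), (1, -1), (-1, 0)⟩, ⟨(-2, 1), (0, 0), (-1, -1), (1, -2)⟩, ⟨(-2, 1), (0, 2), (1, -1), (-1, 0)⟩, ⟨(-2, 1), (2, 0), (1, 1), (1, 0)⟩, ⟨(0, -1), (-2, 0), (-1, 1), (1, -2)⟩, ⟨(0, -1), (-2, 2), (1, 1), (-1, 0)⟩, ⟨(0, -1), (0, 0), (1, -1), (-3, 0)⟩, ⟨(0, -1), (2, -2), (1, 1), (-1, 0)⟩, ⟨(0, -1), (2, 0), (-1, 1), (1, -2)⟩, ⟨(0, 1), (-2, 0), (1, -1), (-1, 2)⟩, ⟨(0, 1), (-2, 2), (-1, -1), (1, 0)⟩, ⟨(0, 1), (0, 0), (-1, 1), (3, 0)⟩, ⟨(0, 1), (2, -2), (-1, -1), (1, 0)⟩, ⟨(0, 1), (2, 0), (1, -1), (-1,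 2)⟩, ⟨(2, -1), (-2, 0), (-1, -1), (-1, 0)⟩, ⟨(2, -1), (0, -2), (-1, 1), (1, 0)⟩, ⟨(2, -1), (0, 0), (1, 1), (-1, 2)⟩, ⟨(2, -1), (0, 2), (-1, 1), (1, 0)⟩, ⟨(2, -1), (2, 0), (-1, -1), (-1, 0)⟩],
    [],
    [],
    [⟨(-2, 0), (-2, 1), (1, 0), (-1, -1)⟩, ⟨(-2, 0), (0, -1), (1, -2), (1, -1)⟩, ⟨(-2, 0), (0, 1), (-1, 2), (-1, 1)⟩, ⟨(-2, 0), (2, -1), (-1, 0), (1, 1)⟩, ⟨(-2, 2), (0, -1), (-1, 0), (-1, -1)⟩, ⟨(-2, 2), (0, 1), (1, 0), (1, 1)⟩, ⟨(0, -2), (-2, 1), (-1, 0), (-1, 1)⟩, ⟨(0, -2), (2, -1), (1, 0), (1, -1)⟩, ⟨(0, 0), (-2, 1), (1, -2), (1, 1)⟩, ⟨(0, 0), (0, -1), (-3, 0), (-1, 1)⟩, ⟨(0, 0), (0, 1), (3, 0), (1, -1)⟩, ⟨(0, 0), (2, -1), (-1, 2), (-1, -1)⟩, ⟨(0, 2), (-2, 1), (-1, 0), (-1, 1)⟩, ⟨(0, 2), (2,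 -1), (1, 0), (1, -1)⟩, ⟨(2, -2), (0, -1), (-1, 0), (-1, -1)⟩, ⟨(2, -2), (0, 1), (1, 0), (1, 1)⟩, ⟨(2, 0), (-2, 1), (1, 0), (-1, -1)⟩, ⟨(2, 0), (0, -1), (1, -2), (1, -1)⟩, ⟨(2, 0), (0, 1), (-1, 2), (-1, 1)⟩, ⟨(2, 0), (2, -1), (-1, 0), (1, 1)⟩],
    [],
    [],
    [⟨(-1, -1), (-1, 0), (-2, 1), (-2, 0)⟩, ⟨(-1, -1), (-1, 0), (-2, 1), (2, 0)⟩, ⟨(-1, -1), (1, -2), (2, -1), (0, 0)⟩, ⟨(-1, -1), (1, 0), (0, -1), (-2, 2)⟩, ⟨(-1, -1), (1, 0), (0, -1), (2, -2)⟩, ⟨(-1, 1), (1, -2), (0, 1), (-2, 0)⟩, ⟨(-1, 1), (1, -2), (0, 1), (2, 0)⟩, ⟨(-1, 1), (1, 0), (-2, 1), (0, -2)⟩, ⟨(-1, 1), (1, 0), (-2, 1), (0, 2)⟩, ⟨(-1, 1), (3, 0), (0, -1), (0, 0)⟩, ⟨(1, -1), (-3, 0), (0, 1), (0, 0)⟩, ⟨(1, -1), (-1, 0), (2, -1), (0,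 -2)⟩, ⟨(1, -1), (-1, 0), (2, -1), (0, 2)⟩, ⟨(1, -1), (-1, 2), (0, -1), (-2, 0)⟩, ⟨(1, -1), (-1, 2), (0, -1), (2, 0)⟩, ⟨(1, 1), (-1, 0), (0, 1), (-2, 2)⟩, ⟨(1, 1), (-1, 0), (0, 1), (2, -2)⟩, ⟨(1, 1), (-1, 2), (-2, 1), (0, 0)⟩, ⟨(1, 1), (1, 0), (2, -1), (-2, 0)⟩, ⟨(1, 1), (1, 0), (2, -1), (2, 0)⟩],
    [],
    [],
    []]

/-- Short icosians with given class and norm. -/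
def tab14_4 : List (List Q) :=
  [[⟨(-2, 0), (-2, 1), (-1, 2), (1, 1)⟩, ⟨(-2, 0), (0, -1), (3, 0), (-1, 1)⟩, ⟨(-2, 0), (0, 1), (-3, 0), (1, -1)⟩, ⟨(-2, 0), (2, -1), (1, -2), (-1, -1)⟩, ⟨(-2, 2), (-2, -1), (-1, 0), (1, -1)⟩, ⟨(-2, 2), (0, -1), (1, -2), (1, 1)⟩, ⟨(-2, 2), (0, 1), (-1, 2), (-1, -1)⟩, ⟨(-2, 2), (2, 1), (1, 0), (-1, 1)⟩, ⟨(0, -2), (-2, 1), (1, -2), (1, -1)⟩, ⟨(0, -2), (0, -1), (1, 0), (3, -1)⟩, ⟨(0, -2), (0, 1), (-1, 0), (-3, 1)⟩, ⟨(0, -2), (2, -1), (-1, 2), (-1, 1)⟩, ⟨(0, 0), (-2, -1), (1, 0), (-3, 1)⟩, ⟨(0, 0), (-2, 1), (-1, 0), (-1, 3)⟩, ⟨(0, 0), (-2, 1), (3, 0), (-1, -1)⟩, ⟨(0, 0), (-2, 3), (1, 0), (1, 1)⟩, ⟨(0, 0), (2, -3), (-1, 0), (-1, -1)⟩, ⟨(0, 0), (2, -1), (-3, 0), (1, 1)⟩,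 ⟨(0, 0), (2, -1), (1, 0), (1, -3)⟩, ⟨(0, 0), (2, 1), (-1, 0), (3, -1)⟩, ⟨(0, 2), (-2, 1), (1, -2), (1, -1)⟩, ⟨(0, 2), (0, -1), (1, 0), (3, -1)⟩, ⟨(0, 2), (0, 1), (-1, 0), (-3, 1)⟩, ⟨(0, 2), (2, -1), (-1, 2), (-1, 1)⟩, ⟨(2, -2), (-2, -1), (-1, 0), (1, -1)⟩, ⟨(2, -2), (0, -1), (1, -2), (1, 1)⟩, ⟨(2, -2), (0, 1), (-1, 2), (-1, -1)⟩, ⟨(2, -2), (2, 1), (1, 0), (-1, 1)⟩, ⟨(2, 0), (-2, 1), (-1, 2), (1, 1)⟩, ⟨(2, 0), (0, -1), (3, 0), (-1, 1)⟩, ⟨(2, 0), (0, 1), (-3, 0), (1, -1)⟩, ⟨(2, 0), (2, -1), (1, -2), (-1, -1)⟩],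
    [],
    [],
    [],
    [],
    [⟨(-3, 1), (-1, 0), (-2, -1), (0, 0)⟩, ⟨(-3, 1), (1, 0), (0, 1), (0, -2)⟩, ⟨(-3, 1), (1, 0), (0, 1), (0, 2)⟩, ⟨(-1, -1), (-3, 0), (-2, 1), (0, 0)⟩, ⟨(-1, -1), (-1, 2), (2, -1), (-2, 0)⟩, ⟨(-1, -1), (-1, 2), (2, -1), (2, 0)⟩, ⟨(-1, -1), (1, -2), (0, 1), (-2, 2)⟩, ⟨(-1, -1), (1, -2), (0, 1), (2, -2)⟩, ⟨(-1, -1), (1, 0), (2, -3), (0, 0)⟩, ⟨(-1, 1), (-3, 0), (0, -1), (-2, 0)⟩, ⟨(-1, 1), (-3, 0), (0, -1), (2, 0)⟩, ⟨(-1, 1), (-1, 0), (2, 1), (-2, 2)⟩, ⟨(-1, 1), (-1, 0), (2, 1), (2, -2)⟩, ⟨(-1, 1), (1, -2), (2, -1), (0, -2)⟩, ⟨(-1, 1), (1, -2), (2, -1), (0, 2)⟩, ⟨(-1, 3), (1, 0), (-2, 1), (0, 0)⟩, ⟨(1, -3), (-1, 0), (2, -1), (0, 0)⟩, ⟨(1, -1), (-1, 2), (-2, 1), (0, -2)⟩,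 ⟨(1, -1), (-1, 2), (-2, 1), (0, 2)⟩, ⟨(1, -1), (1, 0), (-2, -1), (-2, 2)⟩, ⟨(1, -1), (1, 0), (-2, -1), (2, -2)⟩, ⟨(1, -1), (3, 0), (0, 1), (-2, 0)⟩, ⟨(1, -1), (3, 0), (0, 1), (2, 0)⟩, ⟨(1, 1), (-1, 0), (-2, 3), (0, 0)⟩, ⟨(1, 1), (-1, 2), (0, -1), (-2, 2)⟩, ⟨(1, 1), (-1, 2), (0, -1), (2, -2)⟩, ⟨(1, 1), (1, -2), (-2, 1), (-2, 0)⟩, ⟨(1, 1), (1, -2), (-2, 1), (2, 0)⟩, ⟨(1, 1), (3, 0), (2, -1), (0, 0)⟩, ⟨(3, -1), (-1, 0), (0, -1), (0, -2)⟩, ⟨(3, -1), (-1, 0), (0, -1), (0, 2)⟩, ⟨(3, -1), (1, 0), (2, 1), (0, 0)⟩],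
    [],
    [],
    [],
    [],
    [⟨(-3, 0), (1, -1), (-2, 0), (0, -1)⟩, ⟨(-3, 0), (1, -1), (2, 0), (0, -1)⟩, ⟨(-3, 0), (1, 1), (0, 0), (-2, 1)⟩, ⟨(-1, 0), (-3, 1), (0, -2), (0, -1)⟩, ⟨(-1, 0), (-3, 1), (0, 2), (0, -1)⟩, ⟨(-1, 0), (-1, -1), (0, 0), (-2, 3)⟩, ⟨(-1, 0), (-1, 3), (0, 0), (2, -1)⟩, ⟨(-1, 0), (1, -1), (-2, 2), (2, 1)⟩, ⟨(-1, 0), (1, -1), (2, -2), (2, 1)⟩, ⟨(-1, 0), (3, -1), (0, 0), (-2, -1)⟩, ⟨(-1, 2), (-1, -1), (-2, 2), (0, -1)⟩, ⟨(-1, 2), (-1, -1), (2, -2), (0, -1)⟩, ⟨(-1, 2), (-1, 1), (0, -2), (-2, 1)⟩, ⟨(-1, 2), (-1, 1), (0, 2), (-2, 1)⟩, ⟨(-1, 2), (1, 1), (-2, 0), (2, -1)⟩, ⟨(-1, 2), (1, 1), (2, 0), (2, -1)⟩, ⟨(1, -2), (-1, -1), (-2, 0), (-2, 1)⟩, ⟨(1, -2), (-1, -1), (2, 0), (-2,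 1)⟩, ⟨(1, -2), (1, -1), (0, -2), (2, -1)⟩, ⟨(1, -2), (1, -1), (0, 2), (2, -1)⟩, ⟨(1, -2), (1, 1), (-2, 2), (0, 1)⟩, ⟨(1, -2), (1, 1), (2, -2), (0, 1)⟩, ⟨(1, 0), (-3, 1), (0, 0), (2, 1)⟩, ⟨(1, 0), (-1, 1), (-2, 2), (-2, -1)⟩, ⟨(1, 0), (-1, 1), (2, -2), (-2, -1)⟩, ⟨(1, 0), (1, -3), (0, 0), (-2, 1)⟩, ⟨(1, 0), (1, 1), (0, 0), (2, -3)⟩, ⟨(1, 0), (3, -1), (0, -2), (0, 1)⟩, ⟨(1, 0), (3, -1), (0, 2), (0, 1)⟩, ⟨(3, 0), (-1, -1), (0, 0), (2, -1)⟩, ⟨(3, 0), (-1, 1), (-2, 0), (0, 1)⟩, ⟨(3, 0), (-1, 1), (2, 0), (0, 1)⟩],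
    [],
    [],
    [],
    [],
    [⟨(-2, -1), (-2, 2), (-1, 1), (-1, 0)⟩, ⟨(-2, -1), (0, 0), (3, -1), (1, 0)⟩, ⟨(-2, -1), (2, -2), (-1, 1), (-1, 0)⟩, ⟨(-2, 1), (-2, 0), (-1, -1), (-1, 2)⟩, ⟨(-2, 1), (0, -2), (-1, 1), (1, -2)⟩, ⟨(-2, 1), (0, 0), (1, -3), (-1, 0)⟩, ⟨(-2, 1), (0, 0), (1, 1), (3, 0)⟩, ⟨(-2, 1), (0, 2), (-1, 1), (1, -2)⟩, ⟨(-2, 1), (2, 0), (-1, -1), (-1, 2)⟩, ⟨(-2, 3), (0, 0), (-1, -1), (1, 0)⟩, ⟨(0, -1), (-2, 0), (1, -1), (3, 0)⟩, ⟨(0, -1), (-2, 2), (-1, -1), (1, -2)⟩, ⟨(0, -1), (0, -2), (-3, 1), (1, 0)⟩, ⟨(0, -1), (0, 2), (-3, 1), (1, 0)⟩, ⟨(0, -1), (2, -2), (-1, -1), (1, -2)⟩, ⟨(0, -1), (2, 0), (1, -1), (3, 0)⟩, ⟨(0, 1), (-2, 0), (-1, 1), (-3, 0)⟩, ⟨(0, 1), (-2, 2), (1, 1), (-1,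 2)⟩, ⟨(0, 1), (0, -2), (3, -1), (-1, 0)⟩, ⟨(0, 1), (0, 2), (3, -1), (-1, 0)⟩, ⟨(0, 1), (2, -2), (1, 1), (-1, 2)⟩, ⟨(0, 1), (2, 0), (-1, 1), (-3, 0)⟩, ⟨(2, -3), (0, 0), (1, 1), (-1, 0)⟩, ⟨(2, -1), (-2, 0), (1, 1), (1, -2)⟩, ⟨(2, -1), (0, -2), (1, -1), (-1, 2)⟩, ⟨(2, -1), (0, 0), (-1, -1), (-3, 0)⟩, ⟨(2, -1), (0, 0), (-1, 3), (1, 0)⟩, ⟨(2, -1), (0, 2), (1, -1), (-1, 2)⟩, ⟨(2, -1), (2, 0), (1, 1), (1, -2)⟩, ⟨(2, 1), (-2, 2), (1, -1), (1, 0)⟩, ⟨(2, 1), (0, 0), (-3, 1), (-1, 0)⟩, ⟨(2, 1), (2, -2), (1, -1), (1, 0)⟩]]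

/-- Short icosians with given class and norm. -/
def tab14_5 : List (List Q) :=
  [[],
    [⟨(0, -1), (0, 0), (-1, -1), (-1, 0)⟩, ⟨(0, 1), (0, 0), (1, 1), (1, 0)⟩],
    [],
    [],
    [⟨(-1, 0), (1, 1), (0, 0), (0, 1)⟩, ⟨(1, 0), (-1, -1), (0, 0), (0, -1)⟩],
    [],
    [],
    [],
    [],
    [],
    [],
    [⟨(-1, -1), (-1, 0), (0, 1), (0, 0)⟩, ⟨(1, 1), (1, 0), (0, -1), (0, 0)⟩],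
    [],
    [],
    [⟨(0, 0), (0, -1), (-1, 0), (1, 1)⟩, ⟨(0, 0), (0, 1), (1, 0), (-1, -1)⟩],
    []]

/-- Short icosians with given class and norm. -/
def tab14_6 : List (List Q) :=
  [[],
    [],
    [⟨(-1, -1), (-1, 2), (0, -1), (0, 0)⟩, ⟨(-1, -1), (1, 0), (0, 1), (-2, 0)⟩, ⟨(-1, -1), (1, 0), (0, 1), (2, 0)⟩, ⟨(-1, 1), (-1, 0), (0, 1), (0, -2)⟩, ⟨(-1, 1), (-1, 0), (0, 1), (0, 2)⟩, ⟨(-1, 1), (1, 0), (-2, -1), (0, 0)⟩, ⟨(1, -1), (-1, 0), (2, 1), (0, 0)⟩, ⟨(1, -1), (1, 0), (0, -1), (0, -2)⟩, ⟨(1, -1), (1, 0), (0, -1), (0, 2)⟩, ⟨(1, 1), (-1, 0), (0, -1), (-2, 0)⟩, ⟨(1, 1), (-1, 0), (0, -1), (2, 0)⟩, ⟨(1, 1), (1, -2), (0, 1), (0, 0)⟩],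
    [],
    [],
    [],
    [],
    [⟨(-2, 0), (0, -1), (1, 0), (1, 1)⟩, ⟨(-2, 0), (0, 1), (-1, 0), (-1, -1)⟩, ⟨(0, -2), (0, -1), (-1, 0), (1, -1)⟩, ⟨(0, -2), (0, 1), (1, 0), (-1, 1)⟩, ⟨(0, 0), (-2, -1), (-1, 0), (-1, 1)⟩, ⟨(0, 0), (0, -1), (1, -2), (-1, -1)⟩, ⟨(0, 0), (0, 1), (-1, 2), (1, 1)⟩, ⟨(0, 0), (2, 1), (1, 0), (1, -1)⟩, ⟨(0, 2), (0, -1), (-1, 0), (1, -1)⟩, ⟨(0, 2), (0, 1), (1, 0), (-1, 1)⟩, ⟨(2, 0), (0, -1), (1, 0), (1, 1)⟩, ⟨(2, 0), (0, 1), (-1, 0), (-1, -1)⟩],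
    [⟨(-2, -1), (0, 0), (1, -1), (-1, 0)⟩, ⟨(0, -1), (-2, 0), (-1, -1), (1, 0)⟩, ⟨(0, -1), (0, -2), (-1, 1), (-1, 0)⟩, ⟨(0, -1), (0, 0), (1, 1), (1, -2)⟩, ⟨(0, -1), (0, 2), (-1, 1), (-1, 0)⟩, ⟨(0, -1), (2, 0), (-1, -1), (1, 0)⟩, ⟨(0, 1), (-2, 0), (1, 1), (-1, 0)⟩, ⟨(0, 1), (0, -2), (1, -1), (1, 0)⟩, ⟨(0, 1), (0, 0), (-1, -1), (-1, 2)⟩, ⟨(0, 1), (0, 2), (1, -1), (1, 0)⟩, ⟨(0, 1), (2, 0), (1, 1), (-1, 0)⟩, ⟨(2, 1), (0, 0), (-1, 1), (1, 0)⟩],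
    [],
    [],
    [],
    [],
    [⟨(-1, 0), (-1, -1), (-2, 0), (0, -1)⟩, ⟨(-1, 0), (-1, -1), (2, 0), (0, -1)⟩, ⟨(-1, 0), (-1, 1), (0, 0), (2, 1)⟩, ⟨(-1, 0), (1, -1), (0, -2), (0, 1)⟩, ⟨(-1, 0), (1, -1), (0, 2), (0, 1)⟩, ⟨(-1, 2), (1, 1), (0, 0), (0, -1)⟩, ⟨(1, -2), (-1, -1), (0, 0), (0, 1)⟩, ⟨(1, 0), (-1, 1), (0, -2), (0, -1)⟩, ⟨(1, 0), (-1, 1), (0, 2), (0, -1)⟩, ⟨(1, 0), (1, -1), (0, 0), (-2, -1)⟩, ⟨(1, 0), (1, 1), (-2, 0), (0, 1)⟩, ⟨(1, 0), (1, 1), (2, 0), (0, 1)⟩],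
    [],
    []]

/-- Short icosians with given class and norm. -/
def tab14_7 : List (List Q) :=
  [[],
    [⟨(-2, 1), (-2, 0), (-1, 1), (-1, 0)⟩, ⟨(-2, 1), (0, 0), (1, -1), (-1, 2)⟩, ⟨(-2, 1), (2, 0), (-1, 1), (-1, 0)⟩, ⟨(0, -1), (-2, 2), (-1, 1), (1, 0)⟩, ⟨(0, -1), (0, 0), (3, -1), (-1, 0)⟩, ⟨(0, -1), (2, -2), (-1, 1), (1, 0)⟩, ⟨(0, 1), (-2, 2), (1, -1), (-1, 0)⟩, ⟨(0, 1), (0, 0), (-3, 1), (1, 0)⟩, ⟨(0, 1), (2, -2), (1, -1), (-1, 0)⟩, ⟨(2, -1), (-2, 0), (1, -1), (1, 0)⟩, ⟨(2, -1), (0, 0), (-1, 1), (1, -2)⟩, ⟨(2, -1), (2, 0), (1, -1), (1, 0)⟩],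
    [],
    [],
    [⟨(-1, 0), (-3, 1), (0, 0), (0, 1)⟩, ⟨(-1, 0), (-1, 1), (-2, 2), (0, -1)⟩, ⟨(-1, 0), (-1, 1), (2, -2), (0, -1)⟩, ⟨(-1, 0), (1, -1), (-2, 0), (2, -1)⟩, ⟨(-1, 0), (1, -1), (2, 0), (2, -1)⟩, ⟨(-1, 2), (-1, 1), (0, 0), (2, -1)⟩, ⟨(1, -2), (1, -1), (0, 0), (-2, 1)⟩, ⟨(1, 0), (-1, 1), (-2, 0), (-2, 1)⟩, ⟨(1, 0), (-1, 1), (2, 0), (-2, 1)⟩, ⟨(1, 0), (1, -1), (-2, 2), (0, 1)⟩, ⟨(1, 0), (1, -1), (2, -2), (0, 1)⟩, ⟨(1, 0), (3, -1), (0, 0), (0, -1)⟩],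
    [],
    [],
    [],
    [],
    [],
    [],
    [⟨(-3, 1), (1, 0), (0, -1), (0, 0)⟩, ⟨(-1, 1), (-1, 0), (2, -1), (-2, 0)⟩, ⟨(-1, 1), (-1, 0), (2, -1), (2, 0)⟩, ⟨(-1, 1), (1, -2), (-2, 1), (0, 0)⟩, ⟨(-1, 1), (1, 0), (0, 1), (-2, 2)⟩, ⟨(-1, 1), (1, 0), (0, 1), (2, -2)⟩, ⟨(1, -1), (-1, 0), (0, -1), (-2, 2)⟩, ⟨(1, -1), (-1, 0), (0, -1), (2, -2)⟩, ⟨(1, -1), (-1, 2), (2, -1), (0, 0)⟩, ⟨(1, -1), (1, 0), (-2, 1), (-2, 0)⟩, ⟨(1, -1), (1, 0), (-2, 1), (2, 0)⟩, ⟨(3, -1), (-1, 0), (0, 1), (0, 0)⟩],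
    [],
    [],
    [⟨(-2, 0), (-2, 1), (-1, 0), (1, -1)⟩, ⟨(-2, 0), (2, -1), (1, 0), (-1, 1)⟩, ⟨(-2, 2), (0, -1), (1, 0), (1, -1)⟩, ⟨(-2, 2), (0, 1), (-1, 0), (-1, 1)⟩, ⟨(0, 0), (-2, 1), (-1, 2), (-1, 1)⟩, ⟨(0, 0), (0, -1), (-1, 0), (-3, 1)⟩, ⟨(0, 0), (0, 1), (1, 0), (3, -1)⟩, ⟨(0, 0), (2, -1), (1, -2), (1, -1)⟩, ⟨(2, -2), (0, -1), (1, 0), (1, -1)⟩, ⟨(2, -2), (0, 1), (-1, 0), (-1, 1)⟩, ⟨(2, 0), (-2, 1), (-1, 0), (1, -1)⟩, ⟨(2, 0), (2, -1), (1, 0), (-1, 1)⟩],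
    []]

/-- Short icosians with given class and norm. -/
def tab14_8 : List (List Q) :=
  [[],
    [],
    [⟨(-1, 1), (1, 0), (2, -1), (0, 0)⟩, ⟨(1, -1), (-1, 0), (-2, 1), (0, 0)⟩],
    [],
    [],
    [],
    [],
    [⟨(0, 0), (-2, 1), (1, 0), (1, -1)⟩, ⟨(0, 0), (2, -1), (-1, 0), (-1, 1)⟩],
    [⟨(-2, 1), (0, 0), (-1, 1), (1, 0)⟩, ⟨(2, -1), (0, 0), (1, -1), (-1, 0)⟩],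
    [],
    [],
    [],
    [],
    [⟨(-1, 0), (-1, 1), (0, 0), (-2, 1)⟩, ⟨(1, 0), (1, -1), (0, 0), (2, -1)⟩],
    [],
    []]

/-- Short icosians with given class. -/
def tab14 : List (List (List Q)) :=
  [tab14_0, tab14_1, tab14_2, tab14_3, tab14_4, tab14_5, tab14_6, tab14_7, tab14_8]

/-- Short icosians with given class and norm. -/
def tab15_0 : List (List Q) :=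
  [[],
    [],
    [],
    [],
    [],
    [],
    [],
    [],
    [],
    [],
    [],
    [],
    [],
    [],
    [],
    []]

/-- Short icosians with given class and norm. -/
def tab15_1 : List (List Q) :=
  [[],
    [],
    [⟨(0, 0), (-1, 1), (0, 1), (-1, 0)⟩, ⟨(0, 0), (1, -1), (0, -1), (1, 0)⟩],
    [⟨(0, -1), (1, 0), (0, 0), (-1, 1)⟩, ⟨(0, 1), (-1, 0), (0, 0), (1, -1)⟩],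
    [],
    [],
    [],
    [],
    [],
    [],
    [],
    [],
    [],
    [],
    [⟨(-1, 1), (0, 0), (1, 0), (0, 1)⟩, ⟨(1, -1), (0, 0), (-1, 0), (0, -1)⟩],
    [⟨(-1, 0), (0, -1), (-1, 1), (0, 0)⟩, ⟨(1, 0), (0, 1), (1, -1), (0, 0)⟩]]

/-- Short icosians with given class and norm. -/
def tab15_2 : List (List Q) :=
  [[⟨(-1, -1), (0, 0), (-1, 0), (2, -1)⟩, ⟨(-1, 1), (-2, 0), (-1, 0), (0, 1)⟩, ⟨(-1, 1), (0, 0), (1, -2), (0, -1)⟩, ⟨(-1, 1), (2, 0), (-1, 0), (0, 1)⟩, ⟨(1, -1), (-2, 0), (1, 0), (0, -1)⟩, ⟨(1, -1), (0, 0), (-1, 2), (0, 1)⟩, ⟨(1, -1), (2, 0), (1, 0), (0, -1)⟩, ⟨(1, 1), (0, 0), (1, 0), (-2, 1)⟩],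
    [⟨(-1, 0), (0, 1), (1, -1), (-2, 0)⟩, ⟨(-1, 0), (0, 1), (1, -1), (2, 0)⟩, ⟨(-1, 0), (2, -1), (1, 1), (0, 0)⟩, ⟨(-1, 2), (0, 1), (-1, 1), (0, 0)⟩, ⟨(1, -2), (0, -1), (1, -1), (0, 0)⟩, ⟨(1, 0), (-2, 1), (-1, -1), (0, 0)⟩, ⟨(1, 0), (0, -1), (-1, 1), (-2, 0)⟩, ⟨(1, 0), (0, -1), (-1, 1), (2, 0)⟩],
    [],
    [],
    [],
    [],
    [],
    [],
    [],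
    [],
    [],
    [],
    [⟨(-2, 0), (-1, 1), (0, 1), (1, 0)⟩, ⟨(-2, 0), (1, -1), (0, -1), (-1, 0)⟩, ⟨(0, 0), (-1, -1), (2, -1), (1, 0)⟩, ⟨(0, 0), (-1, 1), (0, -1), (-1, 2)⟩, ⟨(0, 0), (1, -1), (0, 1), (1, -2)⟩, ⟨(0, 0), (1, 1), (-2, 1), (-1, 0)⟩, ⟨(2, 0), (-1, 1), (0, 1), (1, 0)⟩, ⟨(2, 0), (1, -1), (0, -1), (-1, 0)⟩],
    [⟨(-2, 1), (-1, 0), (0, 0), (-1, -1)⟩, ⟨(0, -1), (-1, 0), (-2, 0), (-1, 1)⟩, ⟨(0, -1), (-1, 0), (2, 0), (-1, 1)⟩, ⟨(0, -1), (-1, 2), (0, 0), (1, -1)⟩, ⟨(0, 1), (1, -2), (0, 0), (-1, 1)⟩, ⟨(0, 1), (1, 0), (-2, 0), (1, -1)⟩, ⟨(0, 1), (1, 0), (2, 0), (1, -1)⟩, ⟨(2, -1), (1, 0), (0, 0), (1, 1)⟩],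
    [],
    []]

/-- Short icosians with given class and norm. -/
def tab15_3 : List (List Q) :=
  [[],
    [],
    [⟨(-2, 0), (-1, -1), (2, -1), (-1, 0)⟩, ⟨(-2, 0), (-1, 1), (0, -1), (1, -2)⟩, ⟨(-2, 0), (1, -1), (0, 1), (-1, 2)⟩, ⟨(-2, 0), (1, 1), (-2, 1), (1, 0)⟩, ⟨(-2, 2), (-1, -1), (0, 1), (1, 0)⟩, ⟨(-2, 2), (1, 1), (0, -1), (-1, 0)⟩, ⟨(0, -2), (-1, 1), (2, -1), (1, 0)⟩, ⟨(0, -2), (1, -1), (-2, 1), (-1, 0)⟩, ⟨(0, 0), (-1, -1), (-2, 1), (1, -2)⟩, ⟨(0, 0), (-1, 1), (0, 1), (3, 0)⟩, ⟨(0, 0), (1, -1), (0, -1), (-3, 0)⟩, ⟨(0, 0), (1, 1), (2, -1), (-1, 2)⟩, ⟨(0, 2), (-1, 1), (2, -1), (1, 0)⟩, ⟨(0, 2), (1, -1), (-2, 1), (-1, 0)⟩, ⟨(2, -2), (-1, -1), (0, 1), (1, 0)⟩, ⟨(2, -2), (1, 1), (0, -1), (-1, 0)⟩,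 ⟨(2, 0), (-1, -1), (2, -1), (-1, 0)⟩, ⟨(2, 0), (-1, 1), (0, -1), (1, -2)⟩, ⟨(2, 0), (1, -1), (0, 1), (-1, 2)⟩, ⟨(2, 0), (1, 1), (-2, 1), (1, 0)⟩],
    [⟨(-2, 1), (-1, 0), (0, -2), (-1, 1)⟩, ⟨(-2, 1), (-1, 0), (0, 2), (-1, 1)⟩, ⟨(-2, 1), (1, -2), (0, 0), (1, 1)⟩, ⟨(-2, 1), (1, 0), (-2, 0), (-1, -1)⟩, ⟨(-2, 1), (1, 0), (2, 0), (-1, -1)⟩, ⟨(0, -1), (-3, 0), (0, 0), (-1, 1)⟩, ⟨(0, -1), (-1, 0), (-2, 2), (-1, -1)⟩, ⟨(0, -1), (-1, 0), (2, -2), (-1, -1)⟩, ⟨(0, -1), (1, -2), (-2, 0), (1, -1)⟩, ⟨(0, -1), (1, -2), (2, 0), (1, -1)⟩, ⟨(0, 1), (-1, 2), (-2, 0), (-1, 1)⟩, ⟨(0, 1), (-1, 2), (2, 0), (-1, 1)⟩, ⟨(0, 1), (1, 0), (-2, 2), (1, 1)⟩, ⟨(0, 1), (1, 0), (2, -2), (1, 1)⟩, ⟨(0, 1), (3, 0), (0, 0), (1, -1)⟩,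 ⟨(2, -1), (-1, 0), (-2, 0), (1, 1)⟩, ⟨(2, -1), (-1, 0), (2, 0), (1, 1)⟩, ⟨(2, -1), (-1, 2), (0, 0), (-1, -1)⟩, ⟨(2, -1), (1, 0), (0, -2), (1, -1)⟩, ⟨(2, -1), (1, 0), (0, 2), (1, -1)⟩],
    [],
    [],
    [],
    [],
    [],
    [],
    [],
    [],
    [],
    [],
    [⟨(-1, -1), (-2, 0), (1, 0), (2, -1)⟩, ⟨(-1, -1), (-2, 2), (-1, 0), (0, 1)⟩, ⟨(-1, -1), (0, 0), (-1, 2), (-2, 1)⟩, ⟨(-1, -1), (2, -2), (-1, 0), (0, 1)⟩, ⟨(-1, -1), (2, 0), (1, 0), (2, -1)⟩, ⟨(-1, 1), (-2, 0), (-1, 2), (0, -1)⟩, ⟨(-1, 1), (0, -2), (-1, 0), (2, -1)⟩, ⟨(-1, 1), (0, 0), (-3, 0), (0, 1)⟩, ⟨(-1, 1), (0, 2), (-1, 0), (2, -1)⟩, ⟨(-1, 1), (2, 0), (-1, 2), (0, -1)⟩, ⟨(1, -1), (-2, 0), (1, -2), (0, 1)⟩, ⟨(1, -1), (0, -2), (1,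 0), (-2, 1)⟩, ⟨(1, -1), (0, 0), (3, 0), (0, -1)⟩, ⟨(1, -1), (0, 2), (1, 0), (-2, 1)⟩, ⟨(1, -1), (2, 0), (1, -2), (0, 1)⟩, ⟨(1, 1), (-2, 0), (-1, 0), (-2, 1)⟩, ⟨(1, 1), (-2, 2), (1, 0), (0, -1)⟩, ⟨(1, 1), (0, 0), (1, -2), (2, -1)⟩, ⟨(1, 1), (2, -2), (1, 0), (0, -1)⟩, ⟨(1, 1), (2, 0), (-1, 0), (-2, 1)⟩],
    [⟨(-3, 0), (0, 1), (1, -1), (0, 0)⟩, ⟨(-1, 0), (-2, 1), (-1, -1), (-2, 0)⟩, ⟨(-1, 0), (-2, 1), (-1, -1), (2, 0)⟩, ⟨(-1, 0), (0, 1), (1, 1), (-2, 2)⟩, ⟨(-1, 0), (0, 1), (1, 1), (2, -2)⟩, ⟨(-1, 0), (2, -1), (1, -1), (0, -2)⟩, ⟨(-1, 0), (2, -1), (1, -1), (0, 2)⟩, ⟨(-1, 2), (-2, 1), (1, 1), (0, 0)⟩, ⟨(-1, 2), (0, -1), (1, -1), (-2, 0)⟩, ⟨(-1, 2), (0, -1), (1, -1), (2, 0)⟩, ⟨(1, -2), (0, 1), (-1, 1),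 (-2, 0)⟩, ⟨(1, -2), (0, 1), (-1, 1), (2, 0)⟩, ⟨(1, -2), (2, -1), (-1, -1), (0, 0)⟩, ⟨(1, 0), (-2, 1), (-1, 1), (0, -2)⟩, ⟨(1, 0), (-2, 1), (-1, 1), (0, 2)⟩, ⟨(1, 0), (0, -1), (-1, -1), (-2, 2)⟩, ⟨(1, 0), (0, -1), (-1, -1), (2, -2)⟩, ⟨(1, 0), (2, -1), (1, 1), (-2, 0)⟩, ⟨(1, 0), (2, -1), (1, 1), (2, 0)⟩, ⟨(3, 0), (0, -1), (-1, 1), (0, 0)⟩]]

/-- Short icosians with given class and norm. -/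
def tab15_4 : List (List Q) :=
  [[⟨(-3, 1), (0, -2), (-1, 0), (0, -1)⟩, ⟨(-3, 1), (0, 0), (1, 0), (2, 1)⟩, ⟨(-3, 1), (0, 2), (-1, 0), (0, -1)⟩, ⟨(-1, -1), (-2, 0), (1, -2), (-2, 1)⟩, ⟨(-1, -1), (-2, 2), (-1, 2), (0, -1)⟩, ⟨(-1, -1), (0, 0), (-1, 0), (-2, 3)⟩, ⟨(-1, -1), (0, 0), (3, 0), (2, -1)⟩, ⟨(-1, -1), (2, -2), (-1, 2), (0, -1)⟩, ⟨(-1, -1), (2, 0), (1, -2), (-2, 1)⟩, ⟨(-1, 1), (-2, 0), (3, 0), (0, 1)⟩, ⟨(-1, 1), (-2, 2), (1, 0), (-2, -1)⟩, ⟨(-1, 1), (0, -2), (-1, 2), (-2, 1)⟩, ⟨(-1, 1), (0, 2), (-1, 2), (-2, 1)⟩, ⟨(-1, 1), (2, -2), (1, 0), (-2, -1)⟩, ⟨(-1, 1), (2, 0), (3, 0), (0, 1)⟩, ⟨(-1, 3), (0, 0), (-1, 0), (2, -1)⟩, ⟨(1, -3), (0, 0), (1, 0), (-2, 1)⟩, ⟨(1, -1), (-2, 0), (-3, 0), (0, -1)⟩,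 ⟨(1, -1), (-2, 2), (-1, 0), (2, 1)⟩, ⟨(1, -1), (0, -2), (1, -2), (2, -1)⟩, ⟨(1, -1), (0, 2), (1, -2), (2, -1)⟩, ⟨(1, -1), (2, -2), (-1, 0), (2, 1)⟩, ⟨(1, -1), (2, 0), (-3, 0), (0, -1)⟩, ⟨(1, 1), (-2, 0), (-1, 2), (2, -1)⟩, ⟨(1, 1), (-2, 2), (1, -2), (0, 1)⟩, ⟨(1, 1), (0, 0), (-3, 0), (-2, 1)⟩, ⟨(1, 1), (0, 0), (1, 0), (2, -3)⟩, ⟨(1, 1), (2, -2), (1, -2), (0, 1)⟩, ⟨(1, 1), (2, 0), (-1, 2), (2, -1)⟩, ⟨(3, -1), (0, -2), (1, 0), (0, 1)⟩, ⟨(3, -1), (0, 0), (-1, 0), (-2, -1)⟩, ⟨(3, -1), (0, 2), (1, 0), (0, 1)⟩],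
    [⟨(-3, 0), (-2, 1), (-1, -1), (0, 0)⟩, ⟨(-3, 0), (0, -1), (-1, 1), (-2, 0)⟩, ⟨(-3, 0), (0, -1), (-1, 1), (2, 0)⟩, ⟨(-1, 0), (-2, -1), (-3, 1), (0, 0)⟩, ⟨(-1, 0), (-2, 3), (1, 1), (0, 0)⟩, ⟨(-1, 0), (0, -1), (3, -1), (0, -2)⟩, ⟨(-1, 0), (0, -1), (3, -1), (0, 2)⟩, ⟨(-1, 0), (2, -1), (1, -3), (0, 0)⟩, ⟨(-1, 0), (2, 1), (-1, 1), (-2, 2)⟩, ⟨(-1, 0), (2, 1), (-1, 1), (2, -2)⟩, ⟨(-1, 2), (-2, 1), (1, -1), (0, -2)⟩, ⟨(-1, 2), (-2, 1), (1, -1), (0, 2)⟩, ⟨(-1, 2), (0, -1), (1, 1), (-2, 2)⟩, ⟨(-1, 2), (0, -1), (1, 1), (2, -2)⟩, ⟨(-1, 2), (2, -1), (-1, -1), (-2, 0)⟩, ⟨(-1, 2), (2, -1), (-1, -1), (2, 0)⟩, ⟨(1, -2), (-2, 1), (1, 1), (-2, 0)⟩, ⟨(1, -2), (-2, 1), (1, 1), (2, 0)⟩, ⟨(1, -2), (0, 1), (-1, -1),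 (-2, 2)⟩, ⟨(1, -2), (0, 1), (-1, -1), (2, -2)⟩, ⟨(1, -2), (2, -1), (-1, 1), (0, -2)⟩, ⟨(1, -2), (2, -1), (-1, 1), (0, 2)⟩, ⟨(1, 0), (-2, -1), (1, -1), (-2, 2)⟩, ⟨(1, 0), (-2, -1), (1, -1), (2, -2)⟩, ⟨(1, 0), (-2, 1), (-1, 3), (0, 0)⟩, ⟨(1, 0), (0, 1), (-3, 1), (0, -2)⟩, ⟨(1, 0), (0, 1), (-3, 1), (0, 2)⟩, ⟨(1, 0), (2, -3), (-1, -1), (0, 0)⟩, ⟨(1, 0), (2, 1), (3, -1), (0, 0)⟩, ⟨(3, 0), (0, 1), (1, -1), (-2, 0)⟩, ⟨(3, 0), (0, 1), (1, -1), (2, 0)⟩, ⟨(3, 0), (2, -1), (1, 1), (0, 0)⟩],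
    [],
    [],
    [],
    [],
    [],
    [],
    [],
    [],
    [],
    [],
    [⟨(-2, 0), (-1, -1), (-2, 1), (-1, 2)⟩, ⟨(-2, 0), (-1, 1), (0, 1), (-3, 0)⟩, ⟨(-2, 0), (1, -1), (0, -1), (3, 0)⟩, ⟨(-2, 0), (1, 1), (2, -1), (1, -2)⟩, ⟨(-2, 2), (-1, -1), (0, -1), (1, -2)⟩, ⟨(-2, 2), (-1, 1), (-2, -1), (-1, 0)⟩, ⟨(-2, 2), (1, -1), (2, 1), (1, 0)⟩, ⟨(-2, 2), (1, 1), (0, 1), (-1, 2)⟩, ⟨(0, -2), (-3, 1), (0, -1), (1, 0)⟩, ⟨(0, -2), (-1, 1), (-2, 1), (1, -2)⟩, ⟨(0, -2), (1, -1), (2, -1), (-1, 2)⟩, ⟨(0, -2), (3, -1), (0, 1), (-1, 0)⟩, ⟨(0, 0), (-3, 1), (2, 1), (-1, 0)⟩, ⟨(0, 0), (-1, -1), (-2, 3), (1, 0)⟩, ⟨(0, 0), (-1, -1), (2, -1), (-3, 0)⟩, ⟨(0, 0), (-1, 3), (2, -1), (1, 0)⟩, ⟨(0, 0), (1, -3), (-2,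 1), (-1, 0)⟩, ⟨(0, 0), (1, 1), (-2, 1), (3, 0)⟩, ⟨(0, 0), (1, 1), (2, -3), (-1, 0)⟩, ⟨(0, 0), (3, -1), (-2, -1), (1, 0)⟩, ⟨(0, 2), (-3, 1), (0, -1), (1, 0)⟩, ⟨(0, 2), (-1, 1), (-2, 1), (1, -2)⟩, ⟨(0, 2), (1, -1), (2, -1), (-1, 2)⟩, ⟨(0, 2), (3, -1), (0, 1), (-1, 0)⟩, ⟨(2, -2), (-1, -1), (0, -1), (1, -2)⟩, ⟨(2, -2), (-1, 1), (-2, -1), (-1, 0)⟩, ⟨(2, -2), (1, -1), (2, 1), (1, 0)⟩, ⟨(2, -2), (1, 1), (0, 1), (-1, 2)⟩, ⟨(2, 0), (-1, -1), (-2, 1), (-1, 2)⟩, ⟨(2, 0), (-1, 1), (0, 1), (-3, 0)⟩, ⟨(2, 0), (1, -1), (0, -1), (3, 0)⟩, ⟨(2, 0), (1, 1), (2, -1), (1, -2)⟩],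
    [⟨(-2, -1), (-1, 0), (-2, 2), (1, -1)⟩, ⟨(-2, -1), (-1, 0), (2, -2), (1, -1)⟩, ⟨(-2, -1), (1, 0), (0, 0), (-3, 1)⟩, ⟨(-2, 1), (-1, 0), (0, 0), (-1, 3)⟩, ⟨(-2, 1), (-1, 2), (-2, 0), (1, 1)⟩, ⟨(-2, 1), (-1, 2), (2, 0), (1, 1)⟩, ⟨(-2, 1), (1, -2), (0, -2), (1, -1)⟩, ⟨(-2, 1), (1, -2), (0, 2), (1, -1)⟩, ⟨(-2, 1), (3, 0), (0, 0), (-1, -1)⟩, ⟨(-2, 3), (1, 0), (0, 0), (1, 1)⟩, ⟨(0, -1), (1, -2), (-2, 2), (1, 1)⟩, ⟨(0, -1), (1, -2), (2, -2), (1, 1)⟩, ⟨(0, -1), (1, 0), (0, -2), (3, -1)⟩, ⟨(0, -1), (1, 0), (0, 2), (3, -1)⟩, ⟨(0, -1), (3, 0), (-2, 0), (-1, 1)⟩, ⟨(0, -1), (3, 0), (2, 0), (-1, 1)⟩, ⟨(0, 1), (-3, 0), (-2, 0), (1, -1)⟩, ⟨(0, 1), (-3, 0), (2, 0), (1, -1)⟩, ⟨(0, 1), (-1, 0), (0, -2), (-3, 1)⟩,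 ⟨(0, 1), (-1, 0), (0, 2), (-3, 1)⟩, ⟨(0, 1), (-1, 2), (-2, 2), (-1, -1)⟩, ⟨(0, 1), (-1, 2), (2, -2), (-1, -1)⟩, ⟨(2, -3), (-1, 0), (0, 0), (-1, -1)⟩, ⟨(2, -1), (-3, 0), (0, 0), (1, 1)⟩, ⟨(2, -1), (-1, 2), (0, -2), (-1, 1)⟩, ⟨(2, -1), (-1, 2), (0, 2), (-1, 1)⟩, ⟨(2, -1), (1, -2), (-2, 0), (-1, -1)⟩, ⟨(2, -1), (1, -2), (2, 0), (-1, -1)⟩, ⟨(2, -1), (1, 0), (0, 0), (1, -3)⟩, ⟨(2, 1), (-1, 0), (0, 0), (3, -1)⟩, ⟨(2, 1), (1, 0), (-2, 2), (-1, 1)⟩, ⟨(2, 1), (1, 0), (2, -2), (-1, 1)⟩],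
    [],
    []]

/-- Short icosians with given class and norm. -/
def tab15_5 : List (List Q) :=
  [[],
    [],
    [],
    [],
    [],
    [],
    [⟨(-1, 0), (0, 1), (-1, -1), (0, 0)⟩, ⟨(1, 0), (0, -1), (1, 1), (0, 0)⟩],
    [⟨(-1, -1), (0, 0), (1, 0), (0, -1)⟩, ⟨(1, 1), (0, 0), (-1, 0), (0, 1)⟩],
    [],
    [],
    [⟨(0, -1), (-1, 0), (0, 0), (1, 1)⟩, ⟨(0, 1), (1, 0), (0, 0), (-1, -1)⟩],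
    [⟨(0, 0), (-1, -1), (0, -1), (-1, 0)⟩, ⟨(0, 0), (1, 1), (0, 1), (1, 0)⟩],
    [],
    [],
    [],
    []]

/-- Short icosians with given class and norm. -/
def tab15_6 : List (List Q) :=
  [[],
    [],
    [],
    [],
    [⟨(-2, -1), (-1, 0), (0, 0), (-1, 1)⟩, ⟨(0, -1), (-1, 0), (0, -2), (1, -1)⟩, ⟨(0, -1), (-1, 0), (0, 2), (1, -1)⟩, ⟨(0, -1), (1, -2), (0, 0), (-1, -1)⟩, ⟨(0, -1), (1, 0), (-2, 0), (1, 1)⟩, ⟨(0, -1), (1, 0), (2, 0), (1, 1)⟩, ⟨(0, 1), (-1, 0), (-2, 0), (-1, -1)⟩, ⟨(0, 1), (-1, 0), (2, 0), (-1, -1)⟩, ⟨(0, 1), (-1, 2), (0, 0), (1, 1)⟩, ⟨(0, 1), (1, 0), (0, -2), (-1, 1)⟩, ⟨(0, 1), (1, 0), (0, 2), (-1, 1)⟩, ⟨(2, 1), (1, 0), (0, 0), (1, -1)⟩],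
    [⟨(-2, 0), (-1, -1), (0, -1), (1, 0)⟩, ⟨(-2, 0), (1, 1), (0, 1), (-1, 0)⟩, ⟨(0, -2), (-1, 1), (0, -1), (-1, 0)⟩, ⟨(0, -2), (1, -1), (0, 1), (1, 0)⟩, ⟨(0, 0), (-1, -1), (0, 1), (-1, 2)⟩, ⟨(0, 0), (-1, 1), (2, 1), (1, 0)⟩, ⟨(0, 0), (1, -1), (-2, -1), (-1, 0)⟩, ⟨(0, 0), (1, 1), (0, -1), (1, -2)⟩, ⟨(0, 2), (-1, 1), (0, -1), (-1, 0)⟩, ⟨(0, 2), (1, -1), (0, 1), (1, 0)⟩, ⟨(2, 0), (-1, -1), (0, -1), (1, 0)⟩, ⟨(2, 0), (1, 1), (0, 1), (-1, 0)⟩],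
    [],
    [],
    [⟨(-1, 0), (0, -1), (1, 1), (-2, 0)⟩, ⟨(-1, 0), (0, -1), (1, 1), (2, 0)⟩, ⟨(-1, 0), (0, 1), (-1, 1), (0, -2)⟩, ⟨(-1, 0), (0, 1), (-1, 1), (0, 2)⟩, ⟨(-1, 0), (2, 1), (1, -1), (0, 0)⟩, ⟨(-1, 2), (0, -1), (-1, -1), (0, 0)⟩, ⟨(1, -2), (0, 1), (1, 1), (0, 0)⟩, ⟨(1, 0), (-2, -1), (-1, 1), (0, 0)⟩, ⟨(1, 0), (0, -1), (1, -1), (0, -2)⟩, ⟨(1, 0), (0, -1), (1, -1), (0, 2)⟩, ⟨(1, 0), (0, 1), (-1, -1), (-2, 0)⟩, ⟨(1, 0), (0, 1), (-1, -1), (2, 0)⟩],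
    [⟨(-1, -1), (-2, 0), (-1, 0), (0, -1)⟩, ⟨(-1, -1), (0, 0), (1, -2), (0, 1)⟩, ⟨(-1, -1), (2, 0), (-1, 0), (0, -1)⟩, ⟨(-1, 1), (0, -2), (1, 0), (0, -1)⟩, ⟨(-1, 1), (0, 0), (-1, 0), (2, 1)⟩, ⟨(-1, 1), (0, 2), (1, 0), (0, -1)⟩, ⟨(1, -1), (0, -2), (-1, 0), (0, 1)⟩, ⟨(1, -1), (0, 0), (1, 0), (-2, -1)⟩, ⟨(1, -1), (0, 2), (-1, 0), (0, 1)⟩, ⟨(1, 1), (-2, 0), (1, 0), (0, 1)⟩, ⟨(1, 1), (0, 0), (-1, 2), (0, -1)⟩, ⟨(1, 1), (2, 0), (1, 0), (0, 1)⟩],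
    [],
    [],
    [],
    [],
    [],
    []]

/-- Short icosians with given class and norm. -/
def tab15_7 : List (List Q) :=
  [[],
    [],
    [],
    [],
    [],
    [],
    [⟨(-1, 0), (0, -1), (1, -1), (-2, 2)⟩, ⟨(-1, 0), (0, -1), (1, -1), (2, -2)⟩, ⟨(-1, 0), (0, 1), (3, -1), (0, 0)⟩, ⟨(-1, 0), (2, -1), (-1, 1), (-2, 0)⟩, ⟨(-1, 0), (2, -1), (-1, 1), (2, 0)⟩, ⟨(-1, 2), (2, -1), (1, -1), (0, 0)⟩, ⟨(1, -2), (-2, 1), (-1, 1), (0, 0)⟩, ⟨(1, 0), (-2, 1), (1, -1), (-2, 0)⟩, ⟨(1, 0), (-2, 1), (1, -1), (2, 0)⟩, ⟨(1, 0), (0, -1), (-3, 1), (0, 0)⟩, ⟨(1, 0), (0, 1), (-1, 1), (-2, 2)⟩, ⟨(1, 0), (0, 1), (-1, 1), (2, -2)⟩],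
    [⟨(-3, 1), (0, 0), (-1, 0), (0, 1)⟩, ⟨(-1, 1), (-2, 0), (1, 0), (-2, 1)⟩, ⟨(-1, 1), (-2, 2), (-1, 0), (0, -1)⟩, ⟨(-1, 1), (0, 0), (-1, 2), (2, -1)⟩, ⟨(-1, 1), (2, -2), (-1, 0), (0, -1)⟩, ⟨(-1, 1), (2, 0), (1, 0), (-2, 1)⟩, ⟨(1, -1), (-2, 0), (-1, 0), (2, -1)⟩, ⟨(1, -1), (-2, 2), (1, 0), (0, 1)⟩, ⟨(1, -1), (0, 0), (1, -2), (-2, 1)⟩, ⟨(1, -1), (2, -2), (1, 0), (0, 1)⟩, ⟨(1, -1), (2, 0), (-1, 0), (2, -1)⟩, ⟨(3, -1), (0, 0), (1, 0), (0, -1)⟩],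
    [],
    [],
    [⟨(-2, 1), (-1, 0), (-2, 0), (1, -1)⟩, ⟨(-2, 1), (-1, 0), (2, 0), (1, -1)⟩, ⟨(-2, 1), (-1, 2), (0, 0), (-1, 1)⟩, ⟨(0, -1), (-1, 0), (0, 0), (-3, 1)⟩, ⟨(0, -1), (1, 0), (-2, 2), (1, -1)⟩, ⟨(0, -1), (1, 0), (2, -2), (1, -1)⟩, ⟨(0, 1), (-1, 0), (-2, 2), (-1, 1)⟩, ⟨(0, 1), (-1, 0), (2, -2), (-1, 1)⟩, ⟨(0, 1), (1, 0), (0, 0), (3, -1)⟩, ⟨(2, -1), (1, -2), (0, 0), (1, -1)⟩, ⟨(2, -1), (1, 0), (-2, 0), (-1, 1)⟩, ⟨(2, -1), (1, 0), (2, 0), (-1, 1)⟩],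
    [⟨(-2, 0), (-1, 1), (-2, 1), (-1, 0)⟩, ⟨(-2, 0), (1, -1), (2, -1), (1, 0)⟩, ⟨(-2, 2), (-1, 1), (0, -1), (1, 0)⟩, ⟨(-2, 2), (1, -1), (0, 1), (-1, 0)⟩, ⟨(0, 0), (-3, 1), (0, 1), (1, 0)⟩, ⟨(0, 0), (-1, 1), (2, -1), (1, -2)⟩, ⟨(0, 0), (1, -1), (-2, 1), (-1, 2)⟩, ⟨(0, 0), (3, -1), (0, -1), (-1, 0)⟩, ⟨(2, -2), (-1, 1), (0, -1), (1, 0)⟩, ⟨(2, -2), (1, -1), (0, 1), (-1, 0)⟩, ⟨(2, 0), (-1, 1), (-2, 1), (-1, 0)⟩, ⟨(2, 0), (1, -1), (2, -1), (1, 0)⟩],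
    [],
    [],
    [],
    []]

/-- Short icosians with given class and norm. -/
def tab15_8 : List (List Q) :=
  [[],
    [],
    [],
    [],
    [⟨(-2, 1), (1, 0), (0, 0), (1, -1)⟩, ⟨(2, -1), (-1, 0), (0, 0), (-1, 1)⟩],
    [⟨(0, 0), (-1, 1), (-2, 1), (1, 0)⟩, ⟨(0, 0), (1, -1), (2, -1), (-1, 0)⟩],
    [],
    [],
    [⟨(-1, 0), (-2, 1), (1, -1), (0, 0)⟩, ⟨(1, 0), (2, -1), (-1, 1), (0, 0)⟩],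
    [⟨(-1, 1), (0, 0), (-1, 0), (-2, 1)⟩, ⟨(1, -1), (0, 0), (1, 0), (2, -1)⟩],
    [],
    [],
    [],
    [],
    [],
    []]

/-- Short icosians with given class. -/
def tab15 : List (List (List Q)) :=
  [tab15_0, tab15_1, tab15_2, tab15_3, tab15_4, tab15_5, tab15_6, tab15_7, tab15_8]

end Cfsg.Agent.J2
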