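import Cfsg.Agent.Lib.J2.Data
import Cfsg.Agent.Lib.J2.CensusData
import Cfsg.Agent.Lib.J2.Table0
import Cfsg.Agent.Lib.J2.Table1
import Cfsg.Agent.Lib.J2.Table2
import Cfsg.Agent.Lib.J2.Table3

/-! The finite search for minimal vectors: definitions. -/

set_option autoImplicit false

namespace Cfsg.Agent.J2

/-- The trace form of one coordinate. -/
def qf (x : ℤ × ℤ) : ℤ := 2 * x.1 * x.1 + 2 * x.1 * x.2 + 3 * x.2 * x.2

namespace Q

/-- Four times the rational part of the norm. -/
def nA (p : Q) : ℤ :=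
  (p.a.1 * p.a.1 + p.a.2 * p.a.2) + (p.b.1 * p.b.1 + p.b.2 * p.b.2) +
    (p.c.1 * p.c.1 + p.c.2 * p.c.2) + (p.d.1 * p.d.1 + p.d.2 * p.d.2)

/-- Four times the `τ` part of the norm. -/
def nB (p : Q) : ℤ :=
  (2 * p.a.1 * p.a.2 + p.a.2 * p.a.2) + (2 * p.b.1 * p.b.2 + p.b.2 * p.b.2) +
    (2 * p.c.1 * p.c.2 + p.c.2 * p.c.2) + (2 * p.d.1 * p.d.2 + p.d.2 * p.d.2)

/-- A residue modulo 2. -/
def par (z : ℤ) : ℕ := (z % 2).toNat

/-- The first key: the class modulo `I h`. -/
def kh (p : Q) : ℕ :=
  par (p.b.1 + p.a.1) + 2 * par (p.b.2 + p.a.2) +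
    4 * par (p.a.2 + (p.c.1 - p.b.2 - p.b.1 - p.a.2) / 2 + (p.d.1 - p.b.2 - p.a.2 - p.a.1) / 2) +
    8 * par (p.a.2 + p.a.1 + (p.c.2 - p.b.1 - p.a.2 - p.a.1) / 2 +
      (p.d.2 - p.b.2 - p.b.1 - p.a.1) / 2)

/-- The second key: the class modulo `I h̄`. -/
def khb (p : Q) : ℕ :=
  par (p.a.2 + p.a.1 + (p.c.1 - p.b.2 - p.b.1 - p.a.2) / 2) +
    2 * par (p.b.1 + (p.c.1 - p.b.2 - p.b.1 - p.a.2) / 2 + (p.d.2 - p.b.2 - p.b.1 - p.a.1) / 2) +
    4 * par (p.b.2 + (p.d.1 - p.b.2 - p.a.2 - p.a.1) / 2 + (p.d.2 - p.b.2 - p.b.1 - p.a.1) / 2) +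
    8 * par (p.b.2 + p.a.1 + (p.c.2 - p.b.1 - p.a.2 - p.a.1) / 2)

end Q

/-- `a + bτ` and its conjugate are non-negative. -/
def totNonneg (a b : ℤ) : Bool := decide (0 ≤ 2 * a + b) && decide (0 ≤ a * a + a * b - b * b)

/-- The norm can occur in a vector with `r·r = 4`. -/
def allowed (p : Q) : Bool := totNonneg p.nA p.nB && totNonneg (16 - p.nA) (-p.nB)

/-- The pairs in one parity class. -/
def parityBucket (x y : ℤ) : List (ℤ × ℤ) :=
  scPairs.filter fun p => (p.1 - x) % 2 == 0 && (p.2 - y) % 2 == 0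

/-- The four buckets. -/
def bucketOf (x y : ℤ) : List (ℤ × ℤ) :=
  match (x % 2 == 0, y % 2 == 0) with
  | (true, true) => parityBucket 0 0
  | (false, true) => parityBucket 1 0
  | (true, false) => parityBucket 0 1
  | (false, false) => parityBucket 1 1

/-- The icosians with first coordinate `a` and trace norm at most 32 (in doubled coordinates). -/
def icoEnumAt (a : ℤ × ℤ) : List Q :=
  (scPairs.filter fun b => decide (qf a + qf b ≤ 32)).flatMap fun b =>
    ((bucketOf (b.2 + b.1 + a.2) (b.1 + a.2 + a.1)).filter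
        fun c => decide (qf a + qf b + qf c ≤ 32)).flatMap fun c =>
      ((bucketOf (b.2 + a.2 + a.1) (b.2 + b.1 + a.1)).filter
          fun d => decide (qf a + qf b + qf c + qf d ≤ 32)).map fun d => Q.mk a b c d

/-- The possible norms. -/
def normVals : List (ℤ × ℤ) :=
  [(0, 0), (4, 0), (8, 0), (12, 0), (16, 0), (4, 4), (8, 4), (12, -4), (8, -4)]

/-- The table of short icosians. -/
def icoTable : List (List (List (List Q))) :=
  [tab0, tab1, tab2, tab3, tab4, tab5, tab6, tab7, tab8, tab9, tab10, tab11, tab12, tab13, tab14,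
    tab15]

/-- A bucket of the table. -/
def bucket (k : ℕ) (n : ℤ × ℤ) (k' : ℕ) : List Q :=
  ((icoTable.getD k []).getD (normVals.idxOf n) []).getD k' []

/-- Membership in the table at the right position. -/
def inTable (p : Q) : Bool := (bucket p.kh (p.nA, p.nB) p.khb).any fun q => decide (q = p)

/-- Aligned scalar witnesses. -/
def witCheck : List Q → List (ℕ × ℕ) → Bool
  | [], _ => true
  | _ :: _, [] => false
  | p :: ps, (u, k) :: ws =>
    inTable p && Nat.blt u 120 && Nat.blt k 52 &&
      decide ((Q.unit u).mul (repList.getD k Q.one) = p) && witCheck ps ws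

/-- The check for the `i`-th first coordinate. -/
def witAt (i : ℕ) : Bool :=
  witCheck ((icoEnumAt (scPairs.getD i (0, 0))).filter allowed) (witBlocks.getD i [])

/-- The second coordinate is admissible after the first. -/
def okSecond (x y : Q) : Bool := !decide (x = Q.zero) || repList.any fun q => decide (q = y)

/-- The third coordinate is admissible after the first two. -/
def okThird (x y z : Q) : Bool :=
  !(decide (x = Q.zero) && decide (y = Q.zero)) || repList.any fun q => decide (q = z)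

/-- The candidates for the second coordinate. -/
def seconds (x : Q) : List Q :=
  ((icoTable.getD x.kh []).flatMap fun t => t.flatMap id).filter (okSecond x)

/-- The norm needed for the third coordinate. -/
def need (x y : Q) : ℤ × ℤ := (16 - x.nA - y.nA, -(x.nB + y.nB))

/-- All completions of `x` are in the list `L`. -/
def searchOK (x : Q) (L : List V) : Bool :=
  (seconds x).all fun y =>
    (bucket x.kh (need x y) (x.add y).khb).all fun z =>
      !okThird x y z || L.any fun l => decide (l.y = y) && decide (l.z = z)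

/-- The search for representative `k`. -/
def searchAt (k : ℕ) : Bool :=
  searchOK (repList.getD k Q.one)
    (lineList.filter fun l => decide (l.x = repList.getD k Q.one))

end Cfsg.Agent.J2
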