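import Cfsg.Agent.Lib.J2.Group

/-! The centre `{±1}` of the icosian reflection group. -/

set_option autoImplicit false
set_option linter.unusedSimpArgs false
set_option maxHeartbeats 1000000

noncomputable section

namespace Cfsg.Agent.J2

open Cfsg.Spor Quaternion Cfsg.Agent.PermCert

theorem leech_add {x y : Fin 3 → ℍ[ℝ]} (hx : x ∈ icoLeech) (hy : y ∈ icoLeech) :
    x + y ∈ icoLeech := by
  have := leech_sub hx (leech_sub (leech_sub hy hy) hy)
  simpa using this

/-- Twice a coordinate vector. -/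
def twoE (t : Fin 3) : Fin 3 → ℍ[ℝ] := fun s => if s = t then 2 else 0

/-- Twice a coordinate vector, with integer coordinates. -/
def twoEV (t : Fin 3) : V :=
  let two : Q := ⟨(4, 0), (0, 0), (0, 0), (0, 0)⟩
  if (t : ℕ) = 0 then ⟨two, Q.zero, Q.zero⟩ else
    if (t : ℕ) = 1 then ⟨Q.zero, two, Q.zero⟩ else ⟨Q.zero, Q.zero, two⟩

theorem toV_twoEV (t : Fin 3) : toV (twoEV t) = twoE t := by
  have e2 : toH ⟨(4, 0), (0, 0), (0, 0), (0, 0)⟩ = (2 : ℍ[ℝ]) := by
    rw [show (2 : ℍ[ℝ]) = ((2 : ℝ) : ℍ[ℝ]) from by norm_cast]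
    ext <;> simp [sval] <;> norm_num
  funext s
  fin_cases t <;> fin_cases s <;> simp [twoEV, twoE, e2, toH_zero]

theorem axis (t : Fin 3) : ∃ (e : Fin 315) (w : ℕ), w < 120 ∧
    twoE t = fun s => toH (Q.unit w) * toV (line e) s := by
  have h0 := axes_ok
  unfold axesOK at h0
  have h := allBelow_spec _ _ h0 t t.2
  simp only [Bool.and_eq_true, Nat.blt_eq, List.any_eq_true, List.mem_range, decide_eq_true_eq,
    lineAt_eq] at h
  obtain ⟨he, w, hw, e⟩ := h
  clear h0
  generalize axes.getD (t : ℕ) 0 = E at he e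
  refine ⟨⟨E, he⟩, w, hw, ?_⟩
  rw [← toV_twoEV, show twoEV t = _ from (of_decide_eq_true e).symm]
  have hI := (V.inI_iff _).1 (lineAt_spec ⟨_, he⟩).2.1
  funext s
  fin_cases s <;> simp [V.lmul, toH_mul (unit_inI hw) hI.1, toH_mul (unit_inI hw) hI.2.1,
    toH_mul (unit_inI hw) hI.2.2]

theorem unit_mem' (k : ℕ) : toH (Q.unit k) ∈ icosians := unit_mem k

theorem twoE_mem (t : Fin 3) : twoE t ∈ icoLeech := by
  obtain ⟨e, w, -, h⟩ := axis t
  rw [h]
  exact leech_smul (unit_mem w) (lineVec e).2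

theorem qip_twoE (x : Fin 3 → ℍ[ℝ]) (t : Fin 3) : qip x (twoE t) = x t + x t := by
  fin_cases t <;> simp [qip, twoE, Fin.sum_univ_three, mul_two]

theorem qrefl_twoE (x : Fin 3 → ℍ[ℝ]) (t : Fin 3) :
    qrefl (twoE t) x = fun s => if s = t then -x s else x s := by
  funext s
  simp only [qrefl, qip_twoE, twoE]
  split
  · next h =>
    subst h
    rw [smul_add, ← add_smul]
    norm_num
    rw [mul_two]; abel
  · simp

/-- Negation, as a product of the three coordinate reflections. -/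
def negP : Equiv.Perm icoLeech :=
  F (axis 0).choose * F (axis 1).choose * F (axis 2).choose

theorem negP_mem : negP ∈ twoJ2 := mul_mem (mul_mem (F_mem _) (F_mem _)) (F_mem _)

theorem F_axis (t : Fin 3) (x : icoLeech) :
    ((F (axis t).choose x : icoLeech) : Fin 3 → ℍ[ℝ]) =
      fun s => if s = t then -(x : Fin 3 → ℍ[ℝ]) s else (x : Fin 3 → ℍ[ℝ]) s := by
  obtain ⟨w, hw, h⟩ := (axis t).choose_spec
  generalize (axis t).choose = E at h ⊢
  rw [← qrefl_twoE, F_apply, h, qrefl_scalar _ (unit_mul_star hw).2]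

theorem negP_apply (x : icoLeech) : ((negP x : icoLeech) : Fin 3 → ℍ[ℝ]) = -(x : Fin 3 → ℍ[ℝ]) := by
  funext s
  simp only [negP, Equiv.Perm.mul_apply, F_axis, Pi.neg_apply]
  fin_cases s <;> simp

theorem negP_central : (⟨negP, negP_mem⟩ : twoJ2) ∈ Subgroup.center twoJ2 := by
  refine Subgroup.mem_center_iff.2 fun g => Subtype.ext (Equiv.ext fun x => Subtype.ext ?_)
  show (((g : Equiv.Perm icoLeech) (negP x) : icoLeech) : Fin 3 → ℍ[ℝ]) =
    ((negP ((g : Equiv.Perm icoLeech) x) : icoLeech) : Fin 3 → ℍ[ℝ])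
  rw [negP_apply, (isAut_of_mem g.2).map_smul (-1) (neg_mem (one_mem _)) x (negP x)
    (by rw [negP_apply]; funext t; simp)]
  funext t
  simp

theorem fix_line {g : Equiv.Perm icoLeech} (hg : IsAut g)
    (hc : ∀ i, g * F i * g⁻¹ = F i) (i : Fin 315) :
    ∃ u < 120, ((g (lineVec i) : icoLeech) : Fin 3 → ℍ[ℝ]) = fun s => toH (Q.unit u) * toV (line i) s := by
  obtain ⟨u, hu, j, e⟩ := census (g (lineVec i)).2
    ((hg.map_qip _ _).trans (lineAt_spec i).2.2.1)
  have := conj_F hg (unit_mul_star hu).2 e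
  rw [hc] at this
  obtain rfl := F_injective this
  exact ⟨u, hu, e⟩

theorem scalar_facts :
    toV (line 10) 0 = -1 ∧ toV (line 10) 1 = -1 ∧ toV (line 10) 2 ≠ 0 ∧ toV (line 18) 0 = -1 ∧
      toV (line 26) 0 = -1 ∧ toH (Q.unit 0) = 1 ∧ toH (Q.unit 3) = -1 ∧
      ∀ a < 120, toV (line 18) 1 * toH (Q.unit a) = toH (Q.unit a) * toV (line 18) 1 →
        toV (line 26) 1 * toH (Q.unit a) = toH (Q.unit a) * toV (line 26) 1 → a = 0 ∨ a = 3 := by
  have h0 := scalar_ok
  unfold scalarOK at h0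
  simp only [Bool.and_eq_true, decide_eq_true_eq, Bool.not_eq_true', decide_eq_false_iff_not,
    lineAt_eq] at h0
  obtain ⟨⟨⟨⟨⟨⟨⟨x10, y10⟩, x18⟩, x26⟩, z10⟩, u0⟩, u3⟩, hall⟩ := h0
  replace x10 := of_decide_eq_true x10
  replace y10 := of_decide_eq_true y10
  replace x18 := of_decide_eq_true x18
  replace x26 := of_decide_eq_true x26
  replace z10 := of_decide_eq_false z10
  have hn : toH Q.one.neg = -1 := by rw [toH_neg, toH_one]
  refine ⟨by simp [x10, hn], by simp [y10, hn], ?_, by simp [x18, hn], by simp [x26, hn],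
    by rw [u0, toH_one], by rw [u3, hn], fun a ha h1 h2 => ?_⟩
  · intro h
    exact z10 (toH_injective ((toV_two _).symm.trans (h.trans toH_zero.symm)))
  · have := allBelow_spec _ _ hall a ha
    simp only [Bool.or_eq_true, Nat.beq_eq, Bool.not_eq_true'] at this
    rcases this with ((h | h) | h) | h
    · exact Or.inl h
    · exact Or.inr h
    · exfalso
      apply of_decide_eq_false h
      apply toH_injective
      rw [toH_raw, toH_raw]
      simp only [toV_one] at h1
      rw [h1]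
    · exfalso
      apply of_decide_eq_false h
      apply toH_injective
      rw [toH_raw, toH_raw]
      simp only [toV_one] at h2
      rw [h2]

theorem coord_scale {g : Equiv.Perm icoLeech} (hg : IsAut g) {a : Fin 3 → ℍ[ℝ]}
    (h : ∀ (t : Fin 3), ((g ⟨twoE t, twoE_mem t⟩ : icoLeech) : Fin 3 → ℍ[ℝ]) =
      fun s => a t * twoE t s) (x : icoLeech) :
    ((g x : icoLeech) : Fin 3 → ℍ[ℝ]) = fun t => (x : Fin 3 → ℍ[ℝ]) t * a t := by
  let v : Fin 3 → icoLeech := fun t =>
    ⟨fun s => (x : Fin 3 → ℍ[ℝ]) t * twoE t s, leech_smul (x.2.1 t) (twoE_mem t)⟩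
  have e1 : ∀ t, ((g (v t) : icoLeech) : Fin 3 → ℍ[ℝ]) =
      fun s => (x : Fin 3 → ℍ[ℝ]) t * (a t * twoE t s) := fun t => by
    rw [hg.map_smul _ (x.2.1 t) ⟨twoE t, twoE_mem t⟩ (v t) rfl, h]
  let z1 : icoLeech := ⟨_, leech_add (v 0).2 (v 1).2⟩
  let z : icoLeech := ⟨_, leech_add z1.2 (v 2).2⟩
  have e2 : (z : Fin 3 → ℍ[ℝ]) = (x : Fin 3 → ℍ[ℝ]) + (x : Fin 3 → ℍ[ℝ]) := by
    funext s
    simp only [z, z1, v, Pi.add_apply, twoE]
    fin_cases s <;> simp [mul_two]
  have e3 := hg.map_add x x z e2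
  rw [hg.map_add z1 (v 2) z rfl, hg.map_add (v 0) (v 1) z1 rfl, e1, e1, e1] at e3
  funext s
  have e4 := congrFun e3 s
  simp only [Pi.add_apply, twoE] at e4
  have key : (x : Fin 3 → ℍ[ℝ]) s * a s + (x : Fin 3 → ℍ[ℝ]) s * a s =
      ((g x : icoLeech) : Fin 3 → ℍ[ℝ]) s + ((g x : icoLeech) : Fin 3 → ℍ[ℝ]) s := by
    rw [← e4]
    fin_cases s <;> simp [mul_two, mul_add]
  have := congrArg (fun q : ℍ[ℝ] => (1 / 2 : ℝ) • q) key
  simp only [smul_add, ← add_smul] at this
  norm_num at this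
  exact this.symm

theorem center_elems (g : twoJ2) (hg : g ∈ Subgroup.center twoJ2) :
    g = 1 ∨ g = ⟨negP, negP_mem⟩ := by
  obtain ⟨g, hgm⟩ := g
  have ha := isAut_of_mem hgm
  have hc : ∀ i, g * F i * g⁻¹ = F i := fun i => by
    have e := congrArg Subtype.val (Subgroup.mem_center_iff.1 hg ⟨F i, F_mem i⟩)
    simp only [Subgroup.coe_mul] at e
    rw [← e, mul_inv_cancel_right]
  have hax : ∀ t, ∃ a : ℍ[ℝ], ((g ⟨twoE t, twoE_mem t⟩ : icoLeech) : Fin 3 → ℍ[ℝ]) =
      fun s => a * twoE t s := by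
    intro t
    obtain ⟨e, w, hw, he⟩ := axis t
    obtain ⟨u, -, hu⟩ := fix_line ha hc e
    refine ⟨toH (Q.unit w) * toH (Q.unit u) * star (toH (Q.unit w)), ?_⟩
    rw [ha.map_smul _ (unit_mem w) (lineVec e) ⟨twoE t, twoE_mem t⟩ he, hu]
    funext s
    rw [he]
    simp only [mul_assoc]
    rw [← mul_assoc (star (toH (Q.unit w))), (unit_mul_star hw).2, one_mul]
  choose a hax using hax
  have hx := coord_scale ha hax
  have hline : ∀ i : Fin 315, ∃ u < 120,
      ∀ t, toV (line i) t * a t = toH (Q.unit u) * toV (line i) t := by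
    intro i
    obtain ⟨u, hu, e⟩ := fix_line ha hc i
    exact ⟨u, hu, fun t => congrFun ((hx (lineVec i)).symm.trans e) t⟩
  obtain ⟨x10, y10, z10, x18, x26, h0, h3, hkill⟩ := scalar_facts
  obtain ⟨u, hu, eu⟩ := hline 10
  obtain ⟨u', -, eu'⟩ := hline 18
  obtain ⟨u'', -, eu''⟩ := hline 26
  have a0 : a 0 = toH (Q.unit u) := by
    have := eu 0
    change toV (line 10) 0 * a 0 = _ * toV (line 10) 0 at this
    rw [x10] at this
    simpa using this
  have a1 : a 1 = toH (Q.unit u) := by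
    have := eu 1
    change toV (line 10) 1 * a 1 = _ * toV (line 10) 1 at this
    rw [y10] at this
    simpa using this
  have b0 : a 0 = toH (Q.unit u') := by
    have := eu' 0
    change toV (line 18) 0 * a 0 = _ * toV (line 18) 0 at this
    rw [x18] at this
    simpa using this
  have c0 : a 0 = toH (Q.unit u'') := by
    have := eu'' 0
    change toV (line 26) 0 * a 0 = _ * toV (line 26) 0 at this
    rw [x26] at this
    simpa using this
  have k1 : toV (line 18) 1 * toH (Q.unit u) = toH (Q.unit u) * toV (line 18) 1 := by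
    have := eu' 1
    rw [← b0, a0, a1] at this
    exact this
  have k2 : toV (line 26) 1 * toH (Q.unit u) = toH (Q.unit u) * toV (line 26) 1 := by
    have := eu'' 1
    rw [← c0, a0, a1] at this
    exact this
  have a2 : u = 0 ∨ u = 3 := hkill u hu k1 k2
  have e2 := eu 2
  change toV (line 10) 2 * a 2 = _ * toV (line 10) 2 at e2
  rcases a2 with rfl | rfl
  · left
    rw [h0] at a0 a1 e2
    have a2' : a 2 = 1 := mul_left_cancel₀ z10 (by rw [e2, one_mul, mul_one])
    refine Subtype.ext (Equiv.ext fun x => Subtype.ext ?_)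
    show ((g x : icoLeech) : Fin 3 → ℍ[ℝ]) = (x : Fin 3 → ℍ[ℝ])
    rw [hx]
    funext t
    fin_cases t <;> simp [a0, a1, a2']
  · right
    rw [h3] at a0 a1 e2
    have a2' : a 2 = -1 := mul_left_cancel₀ z10 (by rw [e2, neg_one_mul, mul_neg, mul_one])
    refine Subtype.ext (Equiv.ext fun x => Subtype.ext ?_)
    show ((g x : icoLeech) : Fin 3 → ℍ[ℝ]) = ((negP x : icoLeech) : Fin 3 → ℍ[ℝ])
    rw [hx, negP_apply]
    funext t
    fin_cases t <;> simp [a0, a1, a2']

theorem negP_ne_one : (⟨negP, negP_mem⟩ : twoJ2) ≠ 1 := by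
  intro h
  have := negP_apply ⟨twoE 0, twoE_mem 0⟩
  rw [show negP = 1 from congrArg Subtype.val h] at this
  have := congrArg QuaternionAlgebra.re (congrFun this 0)
  simp [twoE, show (2 : ℍ[ℝ]) = ((2 : ℝ) : ℍ[ℝ]) from by norm_cast] at this
  norm_num at this

theorem card_center : Nat.card (Subgroup.center twoJ2) = 2 := by
  rw [Nat.card_eq_two_iff]
  refine ⟨1, ⟨⟨negP, negP_mem⟩, negP_central⟩, fun h => negP_ne_one (congrArg Subtype.val h).symm, ?_⟩
  ext x
  simp only [Set.mem_insert_iff, Set.mem_singleton_iff, Set.mem_univ, iff_true]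
  rcases center_elems x.1 x.2 with h | h
  · exact Or.inl (Subtype.ext h)
  · exact Or.inr (Subtype.ext h)

theorem card_twoJ2 : Nat.card twoJ2 = 1209600 := by
  have h := Subgroup.card_eq_card_quotient_mul_card_subgroup (Subgroup.center twoJ2)
  rw [card_center] at h
  rw [h, show Nat.card (twoJ2 ⧸ Subgroup.center twoJ2) = 604800 from card_J2]

end Cfsg.Agent.J2
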