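import Cfsg.Agent.Lib.J2.SpecData
import Cfsg.Agent.Lib.J2.Chain

/-! Definitions for the kernel check of element orders in J₂ on 100 points. -/

set_option autoImplicit false

namespace Cfsg.Agent.J2

open Cfsg.Agent.PermCert

/-- Iterate an element given by codes. -/
def iterCodes (w : ℕ) (cs : List ℕ) : ℕ → ℕ → ℕ
  | 0, x => x
  | m + 1, x => iterCodes w cs m (applyCodes w cs x)

/-- The base. -/
def j2Base : List ℕ := [0, 5, 1, 2]

/-- The orders in the spectrum. -/
def j2Orders : List ℕ := [1, 2, 3, 4, 5, 6, 7, 8, 10, 12, 15]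

/-- The orders of the listed elements are as claimed (up to divisors). -/
def rowOK (pre : List ℕ) : List (List ℕ) → List ℕ → Bool
  | [], _ => true
  | _ :: _, [] => false
  | cs :: css, m :: ms =>
    j2Orders.any (fun x => Nat.beq x m) &&
      j2Base.all (fun b => Nat.beq (iterCodes 7 (pre ++ cs) m b) b) && rowOK pre css ms

/-- One case of the order check: first image `p`, second point `q`. -/
def caseOK (p q : ℕ) (L : List CLevel) (tree : List (ℕ × ℕ × ℕ))
    (roots : List (ℕ × ℕ × List ℕ)) : Bool :=
  match j2Level0.2.2.find? (fun t => Nat.beq t.1 p), L with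
  | some ct, (b, _, T) :: L' =>
    let c := ct.2.1.1
    let rs := roots.map fun r => r.1
    let full := rs ++ tree.map fun t => t.1
    Nat.beq b q && Nat.blt p 100 && Nat.blt q 100 &&
    (topCodes L').all (fun g => Nat.beq (get 7 g.1 0) 0 && Nat.beq (get 7 g.1 p) p &&
      Nat.beq (get 7 g.1 q) q) &&
    treeOK 7 (topCodes L') rs tree &&
    T.all (fun t => full.any fun s => Nat.beq (get 7 c t.1) s) &&
    roots.all (fun r =>
      match T[r.2.1]? with
      | some u => Nat.beq (get 7 c u.1) r.1 && rowOK [c, u.2.1.1] (allProds L') r.2.2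
      | none => false)
  | _, _ => false

/-- The orbits of the stabiliser cover everything. -/
def hTreeOK : Bool :=
  treeOK 7 hGens hRoots hTree &&
    allBelow (fun x => (hRoots ++ hTree.map fun t => t.1).any fun s => Nat.beq x s) 100

end Cfsg.Agent.J2
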