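import Cfsg.Agent.Lib.J2.InvData
import Cfsg.Agent.Lib.J2.SpecDefs

/-! Definitions of the checks for the centraliser of a reflection. -/

set_option autoImplicit false

namespace Cfsg.Agent.J2

open Cfsg.Agent.PermCert

/-- The reflection used as base. -/
def tauE : Elt := j2Gens.getD 0 (0, 0)

/-- The centraliser data: inside the group, commuting with the reflection, normalising the subgroup. -/
def centOK : Bool :=
  validElt 7 100 tauE && sift 7 100 qLevels tauE.1 && sift 7 100 cLevels tauE.1 &&
  cGens.all (fun c => validElt 7 100 c && sift 7 100 j2Levels c.1 &&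
    Nat.beq (comp 7 100 c.1 tauE.1) (comp 7 100 tauE.1 c.1) &&
    qGens.all fun q =>
      let e := mul 7 100 c (mul 7 100 q (c.2, c.1))
      validElt 7 100 e && sift 7 100 qLevels e.1) &&
  qGens.all (fun q => validElt 7 100 q && sift 7 100 cLevels q.1)

/-- Squares and centre of the subgroup of order 32. -/
def squaresOK : Bool :=
  (allProds qLevels).all fun cs =>
    (j2Base.all (fun b => Nat.beq (applyCodes 7 cs (applyCodes 7 cs b)) b) ||
      j2Base.all (fun b => Nat.beq (applyCodes 7 cs (applyCodes 7 cs b)) (get 7 tauE.1 b))) &&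
    (j2Base.all (fun b => Nat.beq (applyCodes 7 cs b) b) ||
      j2Base.all (fun b => Nat.beq (applyCodes 7 cs b) (get 7 tauE.1 b)) ||
      qGens.any fun q => j2Base.any fun b =>
        !Nat.beq (applyCodes 7 cs (get 7 q.1 b)) (get 7 q.1 (applyCodes 7 cs b))) &&
    qGens.all fun q => Nat.beq (get 7 tauE.1 (get 7 q.1 0)) (get 7 q.1 (get 7 tauE.1 0))

/-- The action on the five sets. -/
def fiveOK : Bool :=
  Nat.beq fiveList.length 5 && distinctKeys fiveList && fiveList.all (fun s => Nat.blt s (2 ^ 100)) &&
  allBelow (fun k => allBelow (fun a => allBelow (fun i =>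
    (fiveList.getD a 0).testBit i ==
      (fiveList.getD (get 3 (a5Gens.getD k (0, 0)).1 a) 0).testBit (get 7 (cGens.getD k (0, 0)).1 i))
    100) 5) 2 &&
  qGens.all fun q => allBelow (fun a => allBelow (fun i =>
    (fiveList.getD a 0).testBit i == (fiveList.getD a 0).testBit (get 7 q.1 i)) 100) 5

end Cfsg.Agent.J2
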