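import Cfsg.Agent.Lib.J2.ClassData
import Cfsg.Agent.Lib.J2.InvDefs

/-! Kernel check of the conjugacy class of a reflection. -/

set_option autoImplicit false

namespace Cfsg.Agent.J2

open Cfsg.Agent.PermCert

/-- The class list is built by conjugating earlier entries by generators, without repetition. -/
def classOK : Bool :=
  Nat.beq classList.length 315 && distinctKeys (classList.map fun t => t.1.1) &&
  allBelow (fun p =>
    let t := classList.getD p ((0, 0), 0, 0)
    if p = 0 then Nat.beq t.1.1 tauE.1 && Nat.beq t.1.2 tauE.2
    else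
      Nat.blt t.2.1 p && Nat.blt t.2.2 4 &&
        (let g := j2Gens.getD t.2.2 (0, 0)
         let u := (classList.getD t.2.1 ((0, 0), 0, 0)).1
         Nat.beq t.1.1 (comp 7 100 g.1 (comp 7 100 u.1 g.2)) &&
           Nat.beq t.1.2 (comp 7 100 (comp 7 100 g.1 u.2) g.2))) 315

theorem class_ok : classOK = true := by decide +kernel

end Cfsg.Agent.J2
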