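import Cfsg.Agent.Lib.J2.FusDefs

/-! Kernel checks for the 2-fusion system of J₂. -/

set_option autoImplicit false

namespace Cfsg.Agent.J2

open Cfsg.Agent.PermCert

theorem qa_cert : checkCert 7 100 qaGens qaDerived qaLevels = true := by decide +kernel

theorem qa_order : certOrder qaLevels = 32 := by decide +kernel

theorem s_cert : checkCert 7 100 sGens sDerived sLevels = true := by decide +kernel

theorem s_order : certOrder sLevels = 128 := by decide +kernel

theorem c2_cert : checkCert 7 100 c2Gens c2Derived c2Levels = true := by decide +kernel

theorem c2_order : certOrder c2Levels = 1920 := by decide +kernel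

theorem fusInc_ok : fusIncOK = true := by decide +kernel

theorem fusWit_ok : fusWitOK = true := by decide +kernel

theorem sCentre_ok : sCentreOK = true := by decide +kernel

theorem qCent_ok : qCentOK = true := by decide +kernel

end Cfsg.Agent.J2
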