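import Cfsg.Agent.Lib.J2.FusData
import Cfsg.Agent.Lib.J2.ClassData
import Cfsg.Agent.Lib.J2.InvDefs

/-! Definitions of the checks for the 2-fusion system of J₂. -/

set_option autoImplicit false

namespace Cfsg.Agent.J2

open Cfsg.Agent.PermCert

/-- Equality of two code pairs. -/
def eltBeq (a b : Elt) : Bool := Nat.beq a.1 b.1 && Nat.beq a.2 b.2

/-- The class elements in the extraspecial subgroup and the Sylow subgroup between it and the centraliser. -/
def fusIncOK : Bool :=
  qaGens.all (fun x => validElt 7 100 x && sift 7 100 qLevels x.1 &&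
    aIdx.any fun i => Nat.blt i 315 && eltBeq x (classList.getD i ((0, 0), 0, 0)).1) &&
  sGens.all (fun x => validElt 7 100 x && sift 7 100 cLevels x.1) &&
  qGens.all (fun x => validElt 7 100 x && sift 7 100 sLevels x.1) &&
  c2Gens.all (fun x => validElt 7 100 x && sift 7 100 cLevels x.1 &&
    j2Base.all fun b => Nat.beq (applyCodes 7 [x.1, x.1, x.1, x.1] b) b)

/-- The fusion witnesses: an element of the subgroup conjugated to a generator. -/
def fusWitOK : Bool :=
  fusWit.all (fun t => validElt 7 100 t.1 && validElt 7 100 t.2.1 && validElt 7 100 t.2.2 &&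
    sift 7 100 j2Levels t.1.1 && sift 7 100 qLevels t.2.1.1 &&
    Nat.beq (comp 7 100 t.1.1 t.2.1.1) (comp 7 100 t.2.2.1 t.1.1) && sift 7 100 sLevels t.2.2.1) &&
  sGens.all (fun x => sift 7 100 qLevels x.1 || fusWit.any fun t => eltBeq x t.2.2)

/-- The centre of the Sylow subgroup. -/
def sCentreOK : Bool :=
  (allProds sLevels).all fun cs =>
    j2Base.all (fun b => Nat.beq (applyCodes 7 cs b) b) ||
      j2Base.all (fun b => Nat.beq (applyCodes 7 cs b) (get 7 tauE.1 b)) ||
      sGens.any fun q => j2Base.any fun b =>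
        !Nat.beq (applyCodes 7 cs (get 7 q.1 b)) (get 7 q.1 (applyCodes 7 cs b))

/-- The centraliser of the extraspecial subgroup. -/
def qCentOK : Bool :=
  (allProds cLevels).all fun cs =>
    j2Base.all (fun b => Nat.beq (applyCodes 7 cs b) b) ||
      j2Base.all (fun b => Nat.beq (applyCodes 7 cs b) (get 7 tauE.1 b)) ||
      qGens.any fun q => j2Base.any fun b =>
        !Nat.beq (applyCodes 7 cs (get 7 q.1 b)) (get 7 q.1 (applyCodes 7 cs b))

end Cfsg.Agent.J2
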