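import Cfsg.Agent.Lib.J2.InvCert
import Cfsg.Agent.Lib.J2.ClassCert
import Cfsg.Agent.Lib.J2.Spec
import Cfsg.Agent.Lib.Transfer.PGroup
import Mathlib.GroupTheory.SpecificGroups.Alternating
import Mathlib.GroupTheory.GroupAction.ConjAct

/-! The centraliser of a reflection image: an extension of an extraspecial group of order 32 by A₅. -/

set_option autoImplicit false
set_option maxRecDepth 20000
set_option maxHeartbeats 1000000

namespace Cfsg.Agent.J2

open Cfsg.Agent.PermCert
open scoped commutatorElement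

/-- The permutation of the base reflection. -/
def tauP : Equiv.Perm (Fin 100) := toPerm 7 100 tauE

/-- The centraliser group. -/
abbrev C100 : Subgroup (Equiv.Perm (Fin 100)) := genGroup 7 100 cGens

/-- The normal subgroup of order 32. -/
abbrev Q100 : Subgroup (Equiv.Perm (Fin 100)) := genGroup 7 100 qGens

theorem card_C100 : Nat.card C100 = 1920 := by rw [cert_card c_cert, c_order]

theorem card_Q100 : Nat.card Q100 = 32 := by rw [cert_card q_cert, q_order]

theorem tau_valid : validElt 7 100 tauE = true ∧ tauP ∈ Q100 ∧ tauP ∈ C100 := by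
  have h := cent_ok
  simp only [centOK, Bool.and_eq_true] at h
  exact ⟨h.1.1.1.1, cert_mem q_cert h.1.1.1.1 h.1.1.1.2, cert_mem c_cert h.1.1.1.1 h.1.1.2⟩

theorem tau_rep : Rep 7 tauE tauP := rep_toPerm tau_valid.1

theorem tau_pack : pack 7 (fun i => get 7 tauE.1 i) 100 = tauE.1 := by decide +kernel

theorem tau_moves : ¬ (get 7 tauE.1 0 = 0 ∧ get 7 tauE.1 5 = 5) := by decide +kernel

theorem cGen_facts : ∀ c ∈ cGens, validElt 7 100 c = true ∧ toPerm 7 100 c ∈ P100 ∧
    toPerm 7 100 c * tauP = tauP * toPerm 7 100 c ∧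
    ∀ q ∈ qGens, toPerm 7 100 c * toPerm 7 100 q * (toPerm 7 100 c)⁻¹ ∈ Q100 := by
  intro c hc
  have h := cent_ok
  simp only [centOK, Bool.and_eq_true, List.all_eq_true, Nat.beq_eq] at h
  obtain ⟨⟨⟨hv, hs⟩, hcomm⟩, hn⟩ := h.1.2 c hc
  have hr := rep_toPerm hv
  refine ⟨hv, cert_mem cert_ok hv hs, rep_eq_code (rep_mul hr tau_rep) (rep_mul tau_rep hr) hcomm,
    fun q hq => ?_⟩
  have hq' := (h.2 q hq).1
  have hrq := rep_toPerm hq'
  have hinv : Rep 7 (c.2, c.1) (toPerm 7 100 c)⁻¹ := fun i => by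
    rw [inv_inv]; exact ⟨(hr i).2, (hr i).1⟩
  have hrp := rep_mul hr (rep_mul hrq hinv)
  obtain ⟨hv', hs'⟩ := hn q hq
  rw [mul_assoc, rep_unique hrp (rep_toPerm hv')]
  exact cert_mem q_cert hv' hs'

theorem Q100_le_C100 : Q100 ≤ C100 := by
  refine (Subgroup.closure_le _).2 fun σ hσ => ?_
  obtain ⟨q, hq, rfl⟩ := List.mem_map.1 hσ
  have h := cent_ok
  simp only [centOK, Bool.and_eq_true, List.all_eq_true] at h
  exact cert_mem c_cert (h.2 q hq).1 (h.2 q hq).2

theorem C100_le_P100 : C100 ≤ P100 := by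
  refine (Subgroup.closure_le _).2 fun σ hσ => ?_
  obtain ⟨c, hc, rfl⟩ := List.mem_map.1 hσ
  exact (cGen_facts c hc).2.1

theorem C100_comm {x : Equiv.Perm (Fin 100)} (hx : x ∈ C100) : x * tauP = tauP * x := by
  have hle : C100 ≤ Subgroup.centralizer {tauP} := by
    refine (Subgroup.closure_le _).2 fun σ hσ => ?_
    obtain ⟨c, hc, rfl⟩ := List.mem_map.1 hσ
    rw [SetLike.mem_coe, Subgroup.mem_centralizer_singleton_iff]
    exact (cGen_facts c hc).2.2.1
  exact Subgroup.mem_centralizer_singleton_iff.1 (hle hx)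

theorem Q100_conj {x y : Equiv.Perm (Fin 100)} (hx : x ∈ C100) (hy : y ∈ Q100) :
    x * y * x⁻¹ ∈ Q100 := by
  let T : Submonoid (Equiv.Perm (Fin 100)) :=
    { carrier := {x | ∀ y ∈ Q100, x * y * x⁻¹ ∈ Q100}
      one_mem' := fun y hy => by simpa using hy
      mul_mem' := fun {a b} ha hb y hy => by
        rw [show a * b * y * (a * b)⁻¹ = a * (b * y * b⁻¹) * a⁻¹ by group]
        exact ha _ (hb y hy) }
  have hgen : {σ | σ ∈ cGens.map (toPerm 7 100)} ⊆ (T : Set (Equiv.Perm (Fin 100))) := by
    intro σ hσ y hy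
    obtain ⟨c, hc, rfl⟩ := List.mem_map.1 hσ
    have hle : Q100 ≤ Q100.comap (MulAut.conj (toPerm 7 100 c)).toMonoidHom := by
      refine (Subgroup.closure_le _).2 fun τ hτ => ?_
      obtain ⟨q, hq, rfl⟩ := List.mem_map.1 hτ
      exact (cGen_facts c hc).2.2.2 q hq
    exact hle hy
  have hx' : x ∈ (Submonoid.closure {σ | σ ∈ cGens.map (toPerm 7 100)} : Set (Equiv.Perm (Fin 100))) := by
    rw [← closure_carrier]; exact hx
  exact Submonoid.closure_le.2 hgen hx' y hy

/-! ### The conjugacy class -/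

theorem tau_eq_gen : tauP = toPerm 7 100 (j2Gens.getD 0 (0, 0)) := rfl

theorem class_elts (p : ℕ) (hp : p < 315) : ∃ g ∈ P100,
    Rep 7 (classList.getD p ((0, 0), 0, 0)).1 (g * tauP * g⁻¹) := by
  induction p using Nat.strong_induction_on with
  | _ p ih =>
    have h := class_ok
    simp only [classOK, Bool.and_eq_true] at h
    have hc := allBelow_spec _ _ h.2 p hp
    by_cases hp0 : p = 0
    · subst hp0
      simp only [if_true, Bool.and_eq_true, Nat.beq_eq] at hc
      refine ⟨1, one_mem _, ?_⟩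
      rw [one_mul, inv_one, mul_one,
        show (classList.getD 0 ((0, 0), 0, 0)).1 = tauE from Prod.ext hc.1 hc.2]
      exact tau_rep
    · simp only [hp0, if_false, Bool.and_eq_true, Nat.blt_eq, Nat.beq_eq] at hc
      obtain ⟨⟨h1, h2⟩, h3, h4⟩ := hc
      obtain ⟨g, hg, hrep⟩ := ih _ h1 (h1.trans hp)
      set k := (classList.getD p ((0, 0), 0, 0)).2.2
      have hk : k < j2Gens.length := h2
      have hcv := cert_ok
      simp only [checkCert, Bool.and_eq_true, List.all_eq_true] at hcv
      have hv : validElt 7 100 (j2Gens.getD k (0, 0)) = true := by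
        rw [List.getD_eq_getElem _ _ hk]
        exact hcv.1.1.1.1.2 _ (List.getElem_mem hk)
      have hr := rep_toPerm hv
      have hσP : toPerm 7 100 (j2Gens.getD k (0, 0)) ∈ P100 := by
        refine Subgroup.subset_closure (List.mem_map.2 ⟨_, ?_, rfl⟩)
        rw [List.getD_eq_getElem _ _ hk]
        exact List.getElem_mem hk
      have hinv : Rep 7 ((j2Gens.getD k (0, 0)).2, (j2Gens.getD k (0, 0)).1)
          (toPerm 7 100 (j2Gens.getD k (0, 0)))⁻¹ := fun i => by
        rw [inv_inv]; exact ⟨(hr i).2, (hr i).1⟩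
      refine ⟨toPerm 7 100 (j2Gens.getD k (0, 0)) * g, mul_mem hσP hg, ?_⟩
      intro i
      have e1 := rep_mul hr (rep_mul hrep hinv) i
      simp only [PermCert.mul] at e1
      constructor
      · rw [h3]
        refine e1.1.trans ?_
        simp [mul_assoc]
      · rw [h4]
        refine e1.2.trans ?_
        simp [mul_assoc]

theorem centralizer_eq (x : Equiv.Perm (Fin 100)) (hx : x ∈ P100) (h : x * tauP = tauP * x) :
    x ∈ C100 := by
  have hQP : tauP ∈ P100 := C100_le_P100 tau_valid.2.2
  let t : P100 := ⟨tauP, hQP⟩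
  let Cz : Subgroup P100 := Subgroup.centralizer {t}
  have hle : C100.subgroupOf P100 ≤ Cz := fun y hy =>
    Subgroup.mem_centralizer_singleton_iff.2 (Subtype.ext (C100_comm hy))
  have hcl := class_ok
  simp only [classOK, Bool.and_eq_true, Nat.beq_eq] at hcl
  obtain ⟨⟨hlen, hd⟩, -⟩ := hcl
  have hnd := distinctKeys_spec _ hd
  haveI : Finite (ConjAct P100) := Finite.of_equiv P100 ConjAct.toConjAct.toEquiv
  have horb : 315 ≤ Nat.card (MulAction.orbit (ConjAct P100) t) := by
    choose g hg hrep using class_elts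
    let F : Fin 315 → MulAction.orbit (ConjAct P100) t := fun p =>
      ⟨⟨g p p.2, hg p p.2⟩ * t * (⟨g p p.2, hg p p.2⟩ : P100)⁻¹,
        ⟨ConjAct.toConjAct ⟨g p p.2, hg p p.2⟩, rfl⟩⟩
    have hF : Function.Injective F := by
      intro a b e
      have e' : g a a.2 * tauP * (g a a.2)⁻¹ = g b b.2 * tauP * (g b b.2)⁻¹ :=
        congrArg (fun z : MulAction.orbit (ConjAct P100) t => ((z : P100) : Equiv.Perm (Fin 100))) e
      have ha : (a : ℕ) < classList.length := by rw [hlen]; exact a.2
      have hb : (b : ℕ) < classList.length := by rw [hlen]; exact b.2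
      have hcode : (classList.getD a ((0, 0), 0, 0)).1.1 = (classList.getD b ((0, 0), 0, 0)).1.1 := by
        have r1 := hrep a a.2
        have r2 := hrep b b.2
        rw [e'] at r1
        obtain ⟨A, hA⟩ : ∃ A, A = (classList.getD a ((0, 0), 0, 0)).1 := ⟨_, rfl⟩
        have hpack : ∀ (u : ℕ) (hu : u < 315), pack 7 (fun i => get 7
            (classList.getD u ((0, 0), 0, 0)).1.1 i) 100 = (classList.getD u ((0, 0), 0, 0)).1.1 := by
          intro u hu
          have h := class_ok
          simp only [classOK, Bool.and_eq_true] at h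
          have hc := allBelow_spec _ _ h.2 u hu
          have key : ∀ p q : ℕ, pack 7 (fun i => get 7 (comp 7 100 p q) i) 100 = comp 7 100 p q := by
            intro p q
            have hext : ∀ (f f' : ℕ → ℕ) (n : ℕ), (∀ i < n, f i = f' i) → pack 7 f n = pack 7 f' n := by
              intro f f' n
              induction n with
              | zero => intro _; rfl
              | succ n ihn =>
                intro hh
                rw [pack_succ, pack_succ, ihn fun i hi => hh i (Nat.lt_succ_of_lt hi),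
                  hh n n.lt_succ_self]
            exact hext _ _ 100 fun i hi => get_comp 7 100 p q i hi
          by_cases hu0 : u = 0
          · subst hu0
            simp only [if_true, Bool.and_eq_true, Nat.beq_eq] at hc
            rw [hc.1]
            exact tau_pack
          · simp only [hu0, if_false, Bool.and_eq_true, Nat.beq_eq] at hc
            rw [hc.2.1]
            exact key _ _
        rw [← hpack a a.2, ← hpack b b.2]
        have hext : ∀ (f f' : ℕ → ℕ) (n : ℕ), (∀ i < n, f i = f' i) → pack 7 f n = pack 7 f' n := by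
          intro f f' n
          induction n with
          | zero => intro _; rfl
          | succ n ihn =>
            intro hh
            rw [pack_succ, pack_succ, ihn fun i hi => hh i (Nat.lt_succ_of_lt hi),
              hh n n.lt_succ_self]
        exact hext _ _ 100 fun i hi => (r1 ⟨i, hi⟩).1.trans (r2 ⟨i, hi⟩).1.symm
      refine Fin.ext ((hnd.getElem_inj_iff (hi := by simpa using ha) (hj := by simpa using hb)).1 ?_)
      rw [List.getD_eq_getElem _ _ ha, List.getD_eq_getElem _ _ hb] at hcode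
      simpa using hcode
    have := Nat.card_le_card_of_injective F hF
    rwa [Nat.card_fin] at this
  have hos : Nat.card (MulAction.orbit (ConjAct P100) t) *
      Nat.card (MulAction.stabilizer (ConjAct P100) t) = Nat.card (ConjAct P100) := by
    rw [← Nat.card_prod]
    exact Nat.card_congr (MulAction.orbitProdStabilizerEquivGroup (ConjAct P100) t)
  have hst : Nat.card (MulAction.stabilizer (ConjAct P100) t) = Nat.card Cz := by
    refine Nat.card_congr
      { toFun := fun g => ⟨ConjAct.ofConjAct g.1, ?_⟩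
        invFun := fun g => ⟨ConjAct.toConjAct g.1, ?_⟩
        left_inv := fun _ => rfl
        right_inv := fun _ => rfl }
    · rw [Subgroup.mem_centralizer_singleton_iff]
      have := g.2
      rw [MulAction.mem_stabilizer_iff, ConjAct.smul_def, mul_inv_eq_iff_eq_mul] at this
      exact this
    · rw [MulAction.mem_stabilizer_iff, ConjAct.smul_def, ConjAct.ofConjAct_toConjAct,
        mul_inv_eq_iff_eq_mul]
      exact Subgroup.mem_centralizer_singleton_iff.1 g.2
  have hP : Nat.card (ConjAct P100) = 604800 := by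
    rw [← Nat.card_congr (ConjAct.toConjAct : P100 ≃* _).toEquiv, cert_card cert_ok]
    decide +kernel
  have hC : Nat.card (C100.subgroupOf P100) = 1920 := by
    rw [Nat.card_congr (Subgroup.subgroupOfEquivOfLe C100_le_P100).toEquiv, card_C100]
  have hCz : Nat.card Cz ≤ 1920 := by
    rw [hst, hP] at hos
    nlinarith
  have := Subgroup.eq_of_le_of_card_ge hle (by rw [hC]; exact hCz)
  have hxm : (⟨x, hx⟩ : P100) ∈ Cz := Subgroup.mem_centralizer_singleton_iff.2 (Subtype.ext h)
  rw [← this] at hxm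
  exact hxm

/-! ### The extraspecial subgroup -/

theorem eq_of_base {x y : Equiv.Perm (Fin 100)} (hx : x ∈ P100) (hy : y ∈ P100)
    (h : ∀ b ∈ j2Base, ((x (Fin.ofNat 100 b) : Fin 100) : ℕ) = (y (Fin.ofNat 100 b) : ℕ)) : x = y := by
  refine (inv_mul_eq_one.1 (eq_one_of_base (mul_mem (inv_mem hy) hx) fun b hb => ?_)).symm
  have e : (y⁻¹ * x) (Fin.ofNat 100 b) = Fin.ofNat 100 b := by
    rw [Equiv.Perm.mul_apply, Fin.ext (h b hb)]
    exact y.symm_apply_apply _
  rw [e, Fin.val_ofNat, Nat.mod_eq_of_lt]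
  simp [j2Base] at hb
  omega

theorem base_val {b : ℕ} (hb : b ∈ j2Base) : ((Fin.ofNat 100 b : Fin 100) : ℕ) = b := by
  rw [Fin.val_ofNat, Nat.mod_eq_of_lt]
  simp [j2Base] at hb
  omega

theorem Q_elem {x : Equiv.Perm (Fin 100)} (hx : x ∈ Q100) :
    (x * x = 1 ∨ x * x = tauP) ∧
      ((∀ y ∈ Q100, x * y = y * x) → x = 1 ∨ x = tauP) := by
  have hle := Q100_le_C100.trans C100_le_P100
  obtain ⟨cs, hcs, happ⟩ := exists_codes (cert_allRep q_cert) x ((cert_prodSet q_cert x).1 hx)
  have h := squares_ok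
  simp only [squaresOK, List.all_eq_true, Bool.and_eq_true, Bool.or_eq_true, Nat.beq_eq,
    List.any_eq_true, Bool.not_eq_true'] at h
  obtain ⟨⟨hsq, hcen⟩, -⟩ := h cs hcs
  have hP := hle hx
  have htP := hle tau_valid.2.1
  constructor
  · rcases hsq with h1 | h1
    · left
      refine eq_of_base (mul_mem hP hP) (one_mem _) fun b hb => ?_
      rw [Equiv.Perm.mul_apply, ← happ, ← happ, base_val hb, Equiv.Perm.one_apply, base_val hb]
      exact h1 b hb
    · right
      refine eq_of_base (mul_mem hP hP) htP fun b hb => ?_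
      rw [Equiv.Perm.mul_apply, ← happ, ← happ, ← (tau_rep _).1, base_val hb]
      exact h1 b hb
  · intro hc
    rcases hcen with (h1 | h1) | ⟨q, hq, b, hb, hne⟩
    · left
      refine eq_of_base hP (one_mem _) fun b hb => ?_
      rw [← happ, Equiv.Perm.one_apply, base_val hb]
      exact h1 b hb
    · right
      refine eq_of_base hP htP fun b hb => ?_
      rw [← happ, ← (tau_rep _).1, base_val hb]
      exact h1 b hb
    · exfalso
      have hv : validElt 7 100 q = true := by
        have h := cent_ok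
        simp only [centOK, Bool.and_eq_true, List.all_eq_true] at h
        exact (h.2 q hq).1
      have hqQ : toPerm 7 100 q ∈ Q100 := Subgroup.subset_closure (List.mem_map.2 ⟨q, hq, rfl⟩)
      have hr := rep_toPerm hv
      have e := congrArg (fun z : Equiv.Perm (Fin 100) => ((z (Fin.ofNat 100 b) : Fin 100) : ℕ))
        (hc _ hqQ)
      simp only [Equiv.Perm.mul_apply] at e
      rw [← happ, ← (hr _).1, ← (hr _).1, ← happ, base_val hb] at e
      rw [e] at hne
      simp at hne

theorem isExtraspecial_Q100 : Cfsg.IsExtraspecial 2 Q100 := by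
  haveI : Fact (Nat.Prime 2) := ⟨Nat.prime_two⟩
  have hpg : IsPGroup 2 Q100 := IsPGroup.of_card (n := 5) card_Q100
  let z : Q100 := ⟨tauP, tau_valid.2.1⟩
  have hzc : z ∈ Subgroup.center Q100 :=
    Subgroup.mem_center_iff.2 fun y => Subtype.ext (C100_comm (Q100_le_C100 y.2))
  have hsq : ∀ x : Q100, x * x = 1 ∨ x * x = z := fun x =>
    (Q_elem x.2).1.imp (fun h => Subtype.ext h) (fun h => Subtype.ext h)
  have hcen : ∀ x : Q100, x ∈ Subgroup.center Q100 → x = 1 ∨ x = z := fun x hx =>
    ((Q_elem x.2).2 fun y hy => congrArg Subtype.val (Subgroup.mem_center_iff.1 hx ⟨y, hy⟩).symm).imp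
      (fun h => Subtype.ext h) (fun h => Subtype.ext h)
  have hz1 : z ≠ 1 := by
    intro h
    have e : tauP = 1 := congrArg Subtype.val h
    have e0 : get 7 tauE.1 0 = 0 := by
      rw [show (0 : ℕ) = ((0 : Fin 100) : ℕ) from rfl, (tau_rep 0).1, e]; rfl
    have e1 : get 7 tauE.1 5 = 5 := by
      rw [show (5 : ℕ) = ((5 : Fin 100) : ℕ) from rfl, (tau_rep 5).1, e]; rfl
    exact tau_moves ⟨e0, e1⟩
  have hcard : Nat.card (Subgroup.center Q100) = 2 := by
    rw [Nat.card_eq_two_iff]
    refine ⟨1, ⟨z, hzc⟩, fun h => hz1 (congrArg Subtype.val h).symm, ?_⟩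
    ext x
    simp only [Set.mem_insert_iff, Set.mem_singleton_iff, Set.mem_univ, iff_true]
    exact (hcen x.1 x.2).imp (fun h => Subtype.ext h) (fun h => Subtype.ext h)
  have hsqc : ∀ x : Q100, x * x ∈ Subgroup.center Q100 := fun x => by
    rcases hsq x with h | h <;> rw [h]
    · exact one_mem _
    · exact hzc
  have hcomm : commutator Q100 = Subgroup.center Q100 := by
    have hle : commutator Q100 ≤ Subgroup.center Q100 := by
      rw [commutator_def, Subgroup.commutator_le]
      intro a _ b _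
      have e : ⁅a, b⁆ = (a * a) * ((a⁻¹ * b) * (a⁻¹ * b)) * (b * b)⁻¹ := by
        rw [commutatorElement_def]; group
      rw [e]
      exact mul_mem (mul_mem (hsqc a) (hsqc _)) (inv_mem (hsqc b))
    refine le_antisymm hle fun x hx => ?_
    rcases hcen x hx with rfl | rfl
    · exact one_mem _
    · by_contra hz
      have hbot : commutator Q100 = ⊥ := by
        rw [Subgroup.eq_bot_iff_forall]
        intro y hy
        rcases hcen y (hle hy) with h | h
        · exact h
        · exact absurd (h ▸ hy) hz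
      have htop : Subgroup.center Q100 = ⊤ := (Subgroup.eq_top_iff' _).2 fun y =>
        Subgroup.mem_center_iff.2 fun w => by
          have : ⁅w, y⁆ ∈ commutator Q100 :=
            Subgroup.commutator_mem_commutator (Subgroup.mem_top _) (Subgroup.mem_top _)
          rw [hbot, Subgroup.mem_bot] at this
          exact commutatorElement_eq_one_iff_mul_comm.1 this
      rw [htop, Subgroup.card_top, card_Q100] at hcard
      norm_num at hcard
  refine ⟨⟨hpg, ?_, hcomm⟩, hcard⟩
  refine le_antisymm (fun x hx => ?_) ?_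
  · by_contra hxZ
    let 𝒮 : Set (Subgroup Q100) := {M | Subgroup.center Q100 ≤ M ∧ x ∉ M}
    obtain ⟨M, hM⟩ := (Set.toFinite 𝒮).exists_maximal ⟨_, le_rfl, hxZ⟩
    obtain ⟨hMZ, hxM⟩ := hM.prop
    have hcoset : ∀ y : Q100, y ∉ M → x⁻¹ * y ∈ M := by
      intro y hy
      haveI hMn : M.Normal := ⟨fun a ha g => by
        have hc : ⁅g, a⁆ ∈ M := hMZ (hcomm ▸
          Subgroup.commutator_mem_commutator (Subgroup.mem_top g) (Subgroup.mem_top a))
        rw [show g * a * g⁻¹ = ⁅g, a⁆ * a by rw [commutatorElement_def]; group]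
        exact mul_mem hc ha⟩
      have hxin : x ∈ M ⊔ Subgroup.zpowers y := by
        by_contra hx'
        have hlt : M < M ⊔ Subgroup.zpowers y :=
          lt_of_le_of_ne le_sup_left fun e => hy (e ▸ le_sup_right (b := Subgroup.zpowers y)
            (Subgroup.mem_zpowers y))
        exact hlt.not_ge (hM.le_of_ge ⟨hMZ.trans le_sup_left, hx'⟩ le_sup_left)
      rw [Subgroup.mem_sup_of_normal_left] at hxin
      obtain ⟨m, hm, w, hw, e⟩ := hxin
      obtain ⟨k, rfl⟩ := Subgroup.mem_zpowers_iff.1 hw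
      obtain ⟨j, hj⟩ := Int.even_or_odd' k
      have hy2 : (y ^ (2 : ℤ)) ^ j ∈ M := zpow_mem (hMZ (by rw [zpow_two]; exact hsqc y)) _
      rcases hj with rfl | rfl
      · exact absurd (e ▸ mul_mem hm (by rw [zpow_mul]; exact hy2)) hxM
      · have hx_eq : x = (m * (y ^ (2 : ℤ)) ^ j) * y := by
          rw [← e, zpow_add_one, zpow_mul, mul_assoc]
        rw [hx_eq, mul_inv_rev, mul_assoc]
        have := hMn.conj_mem _ (inv_mem (mul_mem hm hy2)) y⁻¹
        rwa [inv_inv, mul_assoc] at this
    have hco : IsCoatom M := by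
      refine ⟨fun h => hxM (h ▸ Subgroup.mem_top x), fun K hK => ?_⟩
      obtain ⟨y, hyK, hyM⟩ := SetLike.exists_of_lt hK
      have hxK : x ∈ K := by
        have h1 := hK.le (hcoset y hyM)
        have : x = y * (x⁻¹ * y)⁻¹ := by group
        rw [this]
        exact mul_mem hyK (inv_mem h1)
      rw [Subgroup.eq_top_iff']
      intro w
      by_cases hw : w ∈ M
      · exact hK.le hw
      · have := mul_mem hxK (hK.le (hcoset w hw))
        rwa [mul_inv_cancel_left] at this
    exact hxM (frattini_le_coatom hco hx)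
  · rw [← hcomm, commutator_def, Subgroup.commutator_le]
    intro a _ b _
    have e : ⁅a, b⁆ = a ^ 2 * (a⁻¹ * b) ^ 2 * (b ^ 2)⁻¹ := by
      rw [commutatorElement_def, pow_two, pow_two, pow_two]; group
    rw [e]
    exact mul_mem (mul_mem (PGroupBasics.pow_mem_frattini hpg a)
      (PGroupBasics.pow_mem_frattini hpg _)) (inv_mem (PGroupBasics.pow_mem_frattini hpg b))

/-! ### The quotient -/

/-- Pairs compatible with the five sets. -/
def fiveT : Subgroup (Equiv.Perm (Fin 100) × Equiv.Perm (Fin 5)) where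
  carrier := {p | ∀ (a : Fin 5) (i : Fin 100),
    (fiveList.getD a 0).testBit i = (fiveList.getD (p.2 a) 0).testBit (p.1 i)}
  one_mem' _ _ := rfl
  mul_mem' {p q} hp hq a i := (hq a i).trans (hp _ _)
  inv_mem' {p} hp a i := by
    have := hp (p.2⁻¹ a) (p.1⁻¹ i)
    rw [show p.2 (p.2⁻¹ a) = a from p.2.apply_symm_apply a,
      show p.1 (p.1⁻¹ i) = i from p.1.apply_symm_apply i] at this
    exact this.symm

theorem fiveT_unique {σ : Equiv.Perm (Fin 100)} {τ τ' : Equiv.Perm (Fin 5)}
    (h₁ : (σ, τ) ∈ fiveT) (h₂ : (σ, τ') ∈ fiveT) : τ = τ' := by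
  refine Equiv.ext fun a => ?_
  have h := five_ok
  simp only [fiveOK, Bool.and_eq_true, Nat.beq_eq, List.all_eq_true, Nat.blt_eq] at h
  obtain ⟨⟨⟨⟨hlen, hd⟩, hb⟩, -⟩, -⟩ := h
  have ha : (τ a : ℕ) < fiveList.length := by rw [hlen]; exact (τ a).2
  have ha' : (τ' a : ℕ) < fiveList.length := by rw [hlen]; exact (τ' a).2
  refine Fin.ext (((distinctKeys_spec _ hd).getElem_inj_iff (hi := ha) (hj := ha')).1
    (Nat.eq_of_testBit_eq fun j => ?_))
  rcases Nat.lt_or_ge j 100 with hj | hj
  · have e1 := h₁ a (σ⁻¹ ⟨j, hj⟩)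
    have e2 := h₂ a (σ⁻¹ ⟨j, hj⟩)
    simp only [show σ (σ⁻¹ ⟨j, hj⟩) = ⟨j, hj⟩ from σ.apply_symm_apply _] at e1 e2
    have := e1.symm.trans e2
    rw [List.getD_eq_getElem _ _ ha, List.getD_eq_getElem _ _ ha'] at this
    exact this
  · rw [Nat.testBit_lt_two_pow ((hb _ (List.getElem_mem ha)).trans_le
        (Nat.pow_le_pow_right (by norm_num) hj)),
      Nat.testBit_lt_two_pow ((hb _ (List.getElem_mem ha')).trans_le
        (Nat.pow_le_pow_right (by norm_num) hj))]

/-- The generator pairs. -/
def fiveK : Subgroup (Equiv.Perm (Fin 100) × Equiv.Perm (Fin 5)) :=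
  Subgroup.closure (Set.range fun k : Fin 2 =>
    (toPerm 7 100 (cGens.getD k (0, 0)), toPerm 3 5 (a5Gens.getD k (0, 0))))

theorem length_cGens : cGens.length = 2 ∧ a5Gens.length = 2 := ⟨rfl, rfl⟩

theorem fiveK_le : fiveK ≤ fiveT := by
  refine (Subgroup.closure_le _).2 ?_
  rintro _ ⟨k, rfl⟩ a i
  have h := five_ok
  simp only [fiveOK, Bool.and_eq_true] at h
  have hk := allBelow_spec _ _ (allBelow_spec _ _ (allBelow_spec _ _ h.1.2 k k.2) a a.2) i i.2
  rw [beq_iff_eq] at hk
  have hc : (k : ℕ) < cGens.length := by rw [length_cGens.1]; exact k.2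
  have ha : (k : ℕ) < a5Gens.length := by rw [length_cGens.2]; exact k.2
  have h5 := a5_cert
  simp only [checkCert, Bool.and_eq_true, List.all_eq_true] at h5
  have r7 := rep_toPerm (show validElt 7 100 (cGens.getD k (0, 0)) = true by
    rw [List.getD_eq_getElem _ _ hc]; exact (cGen_facts _ (List.getElem_mem hc)).1)
  have r3 := rep_toPerm (show validElt 3 5 (a5Gens.getD k (0, 0)) = true by
    rw [List.getD_eq_getElem _ _ ha]; exact h5.1.1.1.1.2 _ (List.getElem_mem ha))
  rw [hk, (r3 a).1, (r7 i).1]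

theorem range_gens2 {w n : ℕ} (L : List Elt) (hL : L.length = 2) :
    Set.range (fun k : Fin 2 => toPerm w n (L.getD k (0, 0))) = {σ | σ ∈ L.map (toPerm w n)} := by
  ext σ
  constructor
  · rintro ⟨k, rfl⟩
    refine List.mem_map.2 ⟨_, ?_, rfl⟩
    rw [List.getD_eq_getElem _ _ (show (k : ℕ) < L.length by rw [hL]; exact k.2)]
    exact List.getElem_mem _
  · intro hσ
    obtain ⟨e, he, rfl⟩ := List.mem_map.1 hσ
    obtain ⟨i, hi, rfl⟩ := List.getElem_of_mem he
    exact ⟨⟨i, hL ▸ hi⟩, by simp only [List.getD_eq_getElem _ _ hi]⟩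

theorem exists_five (g : C100) : ∃ τ, ((g : Equiv.Perm (Fin 100)), τ) ∈ fiveK := by
  have hmap : fiveK.map (MonoidHom.fst _ _) = C100 := by
    rw [fiveK, MonoidHom.map_closure, ← Set.range_comp, C100, genGroup,
      ← range_gens2 _ length_cGens.1]
    rfl
  have hg : (g : Equiv.Perm (Fin 100)) ∈ fiveK.map (MonoidHom.fst _ _) := by rw [hmap]; exact g.2
  obtain ⟨⟨a, τ⟩, hp, e⟩ := hg
  exact ⟨τ, (show a = _ from e) ▸ hp⟩

/-- The action on the five sets. -/
noncomputable def fiveHom : C100 →* Equiv.Perm (Fin 5) where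
  toFun g := (exists_five g).choose
  map_one' := fiveT_unique (fiveK_le (exists_five 1).choose_spec) (one_mem fiveT)
  map_mul' a b := fiveT_unique (fiveK_le (exists_five (a * b)).choose_spec)
    (mul_mem (fiveK_le (exists_five a).choose_spec) (fiveK_le (exists_five b).choose_spec))

theorem fiveHom_mem (g : C100) : ((g : Equiv.Perm (Fin 100)), fiveHom g) ∈ fiveK :=
  (exists_five g).choose_spec

theorem fiveHom_range : fiveHom.range = alternatingGroup (Fin 5) := by
  have hsnd : fiveK.map (MonoidHom.snd _ _) = genGroup 3 5 a5Gens := by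
    rw [fiveK, MonoidHom.map_closure, ← Set.range_comp, genGroup, ← range_gens2 _ length_cGens.2]
    rfl
  have hr : fiveHom.range = genGroup 3 5 a5Gens := by
    refine le_antisymm ?_ ?_
    · rintro _ ⟨g, rfl⟩
      rw [← hsnd]
      exact ⟨_, fiveHom_mem g, rfl⟩
    · rw [← hsnd]
      rintro _ ⟨⟨σ, τ⟩, hp, rfl⟩
      have hσ : σ ∈ C100 := by
        have hle : fiveK ≤ C100.comap (MonoidHom.fst _ _) := by
          refine (Subgroup.closure_le _).2 ?_
          rintro _ ⟨k, rfl⟩
          refine Subgroup.subset_closure (List.mem_map.2 ⟨_, ?_, rfl⟩)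
          rw [List.getD_eq_getElem _ _ (show (k : ℕ) < cGens.length by rw [length_cGens.1]; exact k.2)]
          exact List.getElem_mem _
        exact hle hp
      exact ⟨⟨σ, hσ⟩, fiveT_unique (fiveK_le (fiveHom_mem ⟨σ, hσ⟩)) (fiveK_le hp)⟩
  have hA : genGroup 3 5 a5Gens ≤ alternatingGroup (Fin 5) := by
    refine (Subgroup.closure_le _).2 fun σ hσ => ?_
    rw [SetLike.mem_coe, Equiv.Perm.mem_alternatingGroup]
    have hs : ∀ e ∈ a5Gens, Equiv.Perm.sign (toPerm 3 5 e) = 1 := by decide +kernel
    obtain ⟨e, he, rfl⟩ := List.mem_map.1 hσ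
    exact hs e he
  rw [hr]
  refine Subgroup.eq_of_le_of_card_ge hA (le_of_eq ?_)
  rw [cert_card a5_cert, a5_order, Nat.card_eq_fintype_card]
  decide +kernel

theorem fiveHom_ker : fiveHom.ker = Q100.subgroupOf C100 := by
  have hle : Q100.subgroupOf C100 ≤ fiveHom.ker := by
    intro g hg
    refine MonoidHom.mem_ker.2 (fiveT_unique (fiveK_le (fiveHom_mem g)) ?_)
    have hQ : Q100 ≤ fiveT.comap (MonoidHom.inl _ _) := by
      refine (Subgroup.closure_le _).2 fun σ hσ => ?_
      obtain ⟨q, hq, rfl⟩ := List.mem_map.1 hσ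
      intro a i
      have h := five_ok
      simp only [fiveOK, Bool.and_eq_true, List.all_eq_true] at h
      have hk := allBelow_spec _ _ (allBelow_spec _ _ (h.2 q hq) a a.2) i i.2
      rw [beq_iff_eq] at hk
      have h' := cent_ok
      simp only [centOK, Bool.and_eq_true, List.all_eq_true] at h'
      show _ = (fiveList.getD a 0).testBit (toPerm 7 100 q i : ℕ)
      rw [← ((rep_toPerm (h'.2 q hq).1) i).1]
      exact hk
    exact hQ hg
  refine (Subgroup.eq_of_le_of_card_ge hle ?_).symm
  have h := Subgroup.card_mul_index fiveHom.ker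
  rw [Subgroup.index_ker, fiveHom_range, card_C100] at h
  rw [Nat.card_congr (Subgroup.subgroupOfEquivOfLe Q100_le_C100).toEquiv, card_Q100]
  have h60 : Nat.card (alternatingGroup (Fin 5)) = 60 := by
    rw [Nat.card_eq_fintype_card]; decide +kernel
  rw [h60] at h
  omega

end Cfsg.Agent.J2
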