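import Cfsg.Agent.Lib.J2.FusCert
import Cfsg.Agent.Lib.J2.Inv
import Cfsg.Agent.Lib.Fusion.Simple
import Cfsg.Agent.Lib.Solvable.Structure

/-! The 2-fusion system of a group isomorphic to the permutation model of J₂ is simple. -/

set_option autoImplicit false
set_option maxRecDepth 20000
set_option maxHeartbeats 1000000

namespace Cfsg.Agent.J2

open Cfsg Cfsg.FusionSystem Cfsg.Agent.PermCert Cfsg.Agent.FusionSys

/-- A Sylow 2-subgroup of the permutation group. -/
abbrev S100 : Subgroup (Equiv.Perm (Fin 100)) := genGroup 7 100 sGens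

theorem card_S100 : Nat.card S100 = 128 := by rw [cert_card s_cert, s_order]

theorem eltBeq_eq {a b : Elt} (h : eltBeq a b = true) : a = b := by
  simp only [eltBeq, Bool.and_eq_true, Nat.beq_eq] at h
  exact Prod.ext h.1 h.2

theorem Q100_le_S100 : Q100 ≤ S100 := by
  refine (Subgroup.closure_le _).2 fun σ hσ => ?_
  obtain ⟨q, hq, rfl⟩ := List.mem_map.1 hσ
  have h := fusInc_ok
  simp only [fusIncOK, Bool.and_eq_true, List.all_eq_true] at h
  exact cert_mem s_cert (h.1.2 q hq).1 (h.1.2 q hq).2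

theorem S100_le_C100 : S100 ≤ C100 := by
  refine (Subgroup.closure_le _).2 fun σ hσ => ?_
  obtain ⟨q, hq, rfl⟩ := List.mem_map.1 hσ
  have h := fusInc_ok
  simp only [fusIncOK, Bool.and_eq_true, List.all_eq_true] at h
  exact cert_mem c_cert (h.1.1.2 q hq).1 (h.1.1.2 q hq).2

theorem S100_le_P100 : S100 ≤ P100 := S100_le_C100.trans C100_le_P100

theorem Q100_eq_closure : genGroup 7 100 qaGens = Q100 := by
  refine Subgroup.eq_of_le_of_card_ge ?_ ?_
  · refine (Subgroup.closure_le _).2 fun σ hσ => ?_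
    obtain ⟨q, hq, rfl⟩ := List.mem_map.1 hσ
    have h := fusInc_ok
    simp only [fusIncOK, Bool.and_eq_true, List.all_eq_true] at h
    exact cert_mem q_cert (h.1.1.1 q hq).1.1 (h.1.1.1 q hq).1.2
  · rw [card_Q100, cert_card qa_cert, qa_order]

theorem qaGen_conj {q : Elt} (hq : q ∈ qaGens) :
    ∃ g ∈ P100, toPerm 7 100 q = g * tauP * g⁻¹ := by
  have h := fusInc_ok
  simp only [fusIncOK, Bool.and_eq_true, List.all_eq_true, List.any_eq_true, Nat.blt_eq] at h
  obtain ⟨⟨hv, -⟩, i, -, hi, he⟩ := h.1.1.1 q hq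
  obtain ⟨g, hg, hrep⟩ := class_elts i hi
  rw [← eltBeq_eq he] at hrep
  exact ⟨g, hg, rep_unique (rep_toPerm hv) hrep⟩

theorem sGen_witness {y : Elt} (hy : y ∈ sGens) : toPerm 7 100 y ∈ Q100 ∨
    ∃ g ∈ P100, ∃ x ∈ Q100, toPerm 7 100 y = g * x * g⁻¹ := by
  have h := fusWit_ok
  simp only [fusWitOK, Bool.and_eq_true, Bool.or_eq_true, List.all_eq_true, List.any_eq_true,
    Nat.beq_eq] at h
  rcases h.2 y hy with hQ | ⟨t, ht, he⟩
  · left
    have hv := fusInc_ok
    simp only [fusIncOK, Bool.and_eq_true, List.all_eq_true] at hv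
    exact cert_mem q_cert (hv.1.1.2 y hy).1 hQ
  · right
    obtain ⟨⟨⟨⟨⟨⟨hg, hx⟩, hy'⟩, hgP⟩, hxQ⟩, hc⟩, -⟩ := h.1 t ht
    refine ⟨toPerm 7 100 t.1, cert_mem cert_ok hg hgP, toPerm 7 100 t.2.1,
      cert_mem q_cert hx hxQ, eq_mul_inv_of_mul_eq ?_⟩
    rw [eltBeq_eq he]
    exact (rep_eq_code (rep_mul (rep_toPerm hg) (rep_toPerm hx))
      (rep_mul (rep_toPerm hy') (rep_toPerm hg)) hc).symm

theorem c2Gen_facts {c : Elt} (hc : c ∈ c2Gens) :
    toPerm 7 100 c ∈ C100 ∧ toPerm 7 100 c ^ 4 = 1 := by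
  have h := fusInc_ok
  simp only [fusIncOK, Bool.and_eq_true, List.all_eq_true, Nat.beq_eq] at h
  obtain ⟨⟨hv, hs⟩, hb⟩ := h.2 c hc
  have hC := cert_mem c_cert hv hs
  refine ⟨hC, eq_of_base (pow_mem (C100_le_P100 hC) 4) (one_mem _) fun b hbm => ?_⟩
  have hr := rep_toPerm hv
  rw [Equiv.Perm.one_apply, base_val hbm]
  refine Eq.trans ?_ (hb b hbm)
  simp only [applyCodes, List.foldr_cons, List.foldr_nil, pow_succ, pow_zero, one_mul,
    Equiv.Perm.mul_apply]
  conv_rhs => rw [← base_val hbm]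
  simp only [(hr _).1]

theorem C100_eq_closure : genGroup 7 100 c2Gens = C100 := by
  refine Subgroup.eq_of_le_of_card_ge ?_ ?_
  · refine (Subgroup.closure_le _).2 fun σ hσ => ?_
    obtain ⟨q, hq, rfl⟩ := List.mem_map.1 hσ
    exact (c2Gen_facts hq).1
  · rw [card_C100, cert_card c2_cert, c2_order]

theorem tauP_ne_one : tauP ≠ 1 := by
  intro e
  have e0 : get 7 tauE.1 0 = 0 := by
    rw [show (0 : ℕ) = ((0 : Fin 100) : ℕ) from rfl, (tau_rep 0).1, e]; rfl
  have e1 : get 7 tauE.1 5 = 5 := by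
    rw [show (5 : ℕ) = ((5 : Fin 100) : ℕ) from rfl, (tau_rep 5).1, e]; rfl
  exact tau_moves ⟨e0, e1⟩

theorem centre_enum {levels : List CLevel} {gens : List Elt} {H K : Subgroup (Equiv.Perm (Fin 100))}
    (hH : H ≤ P100) (hKg : ∀ q ∈ gens, validElt 7 100 q = true ∧ toPerm 7 100 q ∈ K)
    {x : Equiv.Perm (Fin 100)} (hx : x ∈ H)
    (hcs : ∃ cs ∈ allProds levels, ∀ i : Fin 100, applyCodes 7 cs i = (x i : ℕ))
    (hok : ((allProds levels).all fun cs =>
      j2Base.all (fun b => Nat.beq (applyCodes 7 cs b) b) ||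
        j2Base.all (fun b => Nat.beq (applyCodes 7 cs b) (get 7 tauE.1 b)) ||
        gens.any fun q => j2Base.any fun b =>
          !Nat.beq (applyCodes 7 cs (get 7 q.1 b)) (get 7 q.1 (applyCodes 7 cs b))) = true)
    (hc : ∀ y ∈ K, x * y = y * x) : x = 1 ∨ x = tauP := by
  obtain ⟨cs, hcs, happ⟩ := hcs
  simp only [List.all_eq_true, Bool.or_eq_true, Nat.beq_eq, List.any_eq_true, Bool.not_eq_true'] at hok
  have hP := hH hx
  have htP := C100_le_P100 tau_valid.2.2
  rcases hok cs hcs with (h1 | h1) | ⟨q, hq, b, hb, hne⟩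
  · left
    refine eq_of_base hP (one_mem _) fun b hb => ?_
    rw [← happ, Equiv.Perm.one_apply, base_val hb]
    exact h1 b hb
  · right
    refine eq_of_base hP htP fun b hb => ?_
    rw [← happ, ← (tau_rep _).1, base_val hb]
    exact h1 b hb
  · exfalso
    obtain ⟨hv, hqK⟩ := hKg q hq
    have hr := rep_toPerm hv
    have e := congrArg (fun z : Equiv.Perm (Fin 100) => ((z (Fin.ofNat 100 b) : Fin 100) : ℕ))
      (hc _ hqK)
    simp only [Equiv.Perm.mul_apply] at e
    rw [← happ, ← (hr _).1, ← (hr _).1, ← happ, base_val hb] at e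
    rw [e] at hne
    simp at hne

theorem S100_centre {x : Equiv.Perm (Fin 100)} (hx : x ∈ S100)
    (hc : ∀ y ∈ S100, x * y = y * x) : x = 1 ∨ x = tauP := by
  refine centre_enum S100_le_P100 (fun q hq => ?_) hx
    (exists_codes (cert_allRep s_cert) x ((cert_prodSet s_cert x).1 hx)) sCentre_ok hc
  have h := fusInc_ok
  simp only [fusIncOK, Bool.and_eq_true, List.all_eq_true] at h
  exact ⟨(h.1.1.2 q hq).1, Subgroup.subset_closure (List.mem_map.2 ⟨q, hq, rfl⟩)⟩

theorem Q100_centralizer {x : Equiv.Perm (Fin 100)} (hx : x ∈ P100)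
    (hc : ∀ y ∈ Q100, x * y = y * x) : x ∈ Q100 := by
  have hC := centralizer_eq x hx (hc _ tau_valid.2.1)
  have h : x = 1 ∨ x = tauP := by
    refine centre_enum C100_le_P100 (fun q hq => ?_) hC
      (exists_codes (cert_allRep c_cert) x ((cert_prodSet c_cert x).1 hC)) qCent_ok hc
    have h := fusInc_ok
    simp only [fusIncOK, Bool.and_eq_true, List.all_eq_true] at h
    exact ⟨(h.1.2 q hq).1, Subgroup.subset_closure (List.mem_map.2 ⟨q, hq, rfl⟩)⟩
  rcases h with rfl | rfl
  · exact one_mem _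
  · exact tau_valid.2.1

/-- The fusion system on the pullback of the distinguished Sylow subgroup is simple. -/
theorem fus_simple {G : Type*} [Group G] [Finite G] (f : G →* Equiv.Perm (Fin 100))
    (hinj : Function.Injective f) (hrange : f.range = P100) (S : Sylow 2 G)
    (hS : ∀ x, x ∈ (S : Subgroup G) ↔ f x ∈ S100) :
    (groupFusionSystem (S : Subgroup G)).IsSimple 2 := by
  haveI : Fact (Nat.Prime 2) := ⟨Nat.prime_two⟩
  have hex : ∀ {x}, x ∈ P100 → ∃ g, f g = x := fun {x} hx => by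
    rw [← hrange] at hx
    exact hx
  have himg : ∀ g, f g ∈ P100 := fun g => hrange ▸ ⟨g, rfl⟩
  obtain ⟨z, hz⟩ := hex (C100_le_P100 tau_valid.2.2)
  have hz1 : z ≠ 1 := fun h => tauP_ne_one (by rw [← hz, h, map_one])
  have hzS : z ∈ (S : Subgroup G) := (hS z).2 (hz ▸ Q100_le_S100 tau_valid.2.1)
  refine group_isSimple_of_generated S (fun h => ?_) (fun T hT => ?_) ?_
  · rw [h, Subgroup.mem_bot] at hzS
    exact hz1 hzS
  · obtain ⟨hTS, hcl⟩ := (group_stronglyClosed_iff S).1 hT
    rcases eq_or_ne T ⊥ with hbot | hbot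
    · exact Or.inl hbot
    right
    haveI : Group.IsNilpotent (S : Subgroup G) := S.2.isNilpotent
    haveI : (T.subgroupOf (S : Subgroup G)).Normal := ⟨fun a ha s =>
      hcl s a ha ((S : Subgroup G).mul_mem ((S : Subgroup G).mul_mem s.2 (hTS ha))
        ((S : Subgroup G).inv_mem s.2))⟩
    have hne : T.subgroupOf (S : Subgroup G) ≠ ⊥ := by
      rw [Ne, Subgroup.subgroupOf_eq_bot]
      exact fun h => hbot (disjoint_self.1 (h.mono_right hTS))
    obtain ⟨⟨w, hwT, hwc⟩, hw1⟩ :=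
      Subgroup.ne_bot_iff_exists_ne_one.1 (SolvStruct.inf_center_ne_bot hne)
    have hzT : z ∈ T := by
      have hcomm : ∀ y ∈ S100, f (w : G) * y = y * f (w : G) := by
        intro y hy
        obtain ⟨g, rfl⟩ := hex (S100_le_P100 hy)
        rw [← map_mul, ← map_mul]
        exact congrArg f (congrArg Subtype.val (Subgroup.mem_center_iff.1 hwc ⟨g, (hS g).2 hy⟩)).symm
      rcases S100_centre ((hS _).1 w.2) hcomm with h | h
      · exact absurd (Subtype.ext (Subtype.ext (hinj (h.trans (map_one f).symm)))) hw1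
      · have e : (w : G) = z := hinj (h.trans hz.symm)
        exact e ▸ hwT
    have hQT : ∀ x, f x ∈ Q100 → x ∈ T := by
      have hle : Q100 ≤ T.map f := by
        rw [← Q100_eq_closure]
        refine (Subgroup.closure_le _).2 fun σ hσ => ?_
        obtain ⟨q, hq, rfl⟩ := List.mem_map.1 hσ
        obtain ⟨g, hg, he⟩ := qaGen_conj hq
        obtain ⟨g, rfl⟩ := hex hg
        have hqQ : toPerm 7 100 q ∈ Q100 :=
          Q100_eq_closure ▸ Subgroup.subset_closure (List.mem_map.2 ⟨q, hq, rfl⟩)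
        have e : f (g * z * g⁻¹) = toPerm 7 100 q := by rw [map_mul, map_mul, map_inv, hz, he]
        exact ⟨_, hcl g z hzT ((hS _).2 (e ▸ Q100_le_S100 hqQ)), e⟩
      intro x hx
      obtain ⟨y, hy, he⟩ := hle hx
      exact hinj he ▸ hy
    refine le_antisymm hTS fun x hx => ?_
    have hle : S100 ≤ T.map f := by
      refine (Subgroup.closure_le _).2 fun σ hσ => ?_
      obtain ⟨q, hq, rfl⟩ := List.mem_map.1 hσ
      have hqS : toPerm 7 100 q ∈ S100 := Subgroup.subset_closure (List.mem_map.2 ⟨q, hq, rfl⟩)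
      rcases sGen_witness hq with hQ | ⟨g, hg, y, hy, he⟩
      · obtain ⟨x, hx⟩ := hex (S100_le_P100 hqS)
        exact ⟨x, hQT x (hx.symm ▸ hQ), hx⟩
      · obtain ⟨g, rfl⟩ := hex hg
        obtain ⟨x, rfl⟩ := hex (Q100_le_C100.trans C100_le_P100 hy)
        have e : f (g * x * g⁻¹) = toPerm 7 100 q := by rw [map_mul, map_mul, map_inv, he]
        exact ⟨_, hcl g x (hQT x hy) ((hS _).2 (e ▸ hqS)), e⟩
    obtain ⟨y, hy, he⟩ := hle ((hS x).1 hx)
    exact hinj he ▸ hy
  · intro g hg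
    set R : Subgroup G := Q100.comap f
    have hRS : R ≤ (S : Subgroup G) := fun x hx => (hS x).2 (Q100_le_S100 hx)
    have hnR : ∀ c, f c ∈ C100 → c ∈ Subgroup.normalizer (R : Set G) := fun c hc =>
      Subgroup.mem_normalizer_iff.2 fun x => by
        constructor
        · intro hx
          show f (c * x * c⁻¹) ∈ Q100
          rw [map_mul, map_mul, map_inv]
          exact Q100_conj hc hx
        · intro hx
          show f x ∈ Q100
          have h := Q100_conj (inv_mem hc) (show f (c * x * c⁻¹) ∈ Q100 from hx)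
          rw [inv_inv, map_mul, map_mul, map_inv] at h
          rwa [show (f c)⁻¹ * (f c * f x * (f c)⁻¹) * f c = f x by group] at h
    refine Subgroup.subset_closure ⟨hg, Or.inr (Or.inr ⟨R, ?_, ⟨hRS, fun Q' hQ' => ?_⟩, ?_⟩)⟩
    · exact group_fullyNormalized_of_le_normalizer S hRS fun x hx =>
        hnR x (S100_le_C100 ((hS x).1 hx))
    · obtain ⟨-, -, g', rfl⟩ := (group_isConj_iff S).1 hQ'
      intro y hy
      refine ⟨g'⁻¹ * y * g', ?_, by simp [mul_assoc]⟩
      show f (g'⁻¹ * y * g') ∈ Q100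
      refine Q100_centralizer (himg _) fun q hq => ?_
      obtain ⟨x, rfl⟩ := hex (Q100_le_C100.trans C100_le_P100 hq)
      rw [← map_mul, ← map_mul]
      congr 1
      have h1 : g' * x * g'⁻¹ * y = y * (g' * x * g'⁻¹) :=
        Subgroup.mem_centralizer_iff.1 hy.2 _ ⟨x, hq, rfl⟩
      calc g'⁻¹ * y * g' * x = g'⁻¹ * (y * (g' * x * g'⁻¹)) * g' := by group
        _ = g'⁻¹ * (g' * x * g'⁻¹ * y) * g' := by rw [h1]
        _ = x * (g'⁻¹ * y * g') := by group
    · have hgz : f g * tauP = tauP * f g := by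
        have hmem : g * z * g⁻¹ ∈ (S : Subgroup G) := (Subgroup.mem_normalizer_iff.1 hg z).1 hzS
        have hcomm : ∀ y ∈ S100, f (g * z * g⁻¹) * y = y * f (g * z * g⁻¹) := by
          intro y hy
          obtain ⟨s, rfl⟩ := hex (S100_le_P100 hy)
          have hs : g⁻¹ * s * g ∈ (S : Subgroup G) :=
            (Subgroup.mem_normalizer_iff''.1 hg s).1 ((hS s).2 hy)
          have hc := C100_comm (S100_le_C100 ((hS _).1 hs))
          rw [← hz, ← map_mul, ← map_mul] at hc
          rw [← map_mul, ← map_mul]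
          congr 1
          calc g * z * g⁻¹ * s = g * (z * (g⁻¹ * s * g)) * g⁻¹ := by group
            _ = g * (g⁻¹ * s * g * z) * g⁻¹ := by rw [hinj hc]
            _ = s * (g * z * g⁻¹) := by group
        rcases S100_centre ((hS _).1 hmem) hcomm with h | h
        · refine absurd ?_ hz1
          have := hinj (h.trans (map_one f).symm)
          calc z = g⁻¹ * (g * z * g⁻¹) * g := by group
            _ = 1 := by rw [this]; group
        · rw [← hz, ← map_mul, ← map_mul]
          congr 1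
          exact mul_inv_eq_iff_eq_mul.1 (hinj (h.trans hz.symm))
      have hle : C100 ≤ (Subgroup.closure
          {g : G | g ∈ Subgroup.normalizer (R : Set G) ∧ ∃ k : ℕ, orderOf g = 2 ^ k}).map f := by
        rw [← C100_eq_closure]
        refine (Subgroup.closure_le _).2 fun σ hσ => ?_
        obtain ⟨c, hc, rfl⟩ := List.mem_map.1 hσ
        obtain ⟨hcC, hc4⟩ := c2Gen_facts hc
        obtain ⟨x, hx⟩ := hex (C100_le_P100 hcC)
        have hd : orderOf x ∣ 2 ^ 2 :=
          orderOf_dvd_of_pow_eq_one (hinj (by rw [map_pow, hx, map_one]; exact hc4))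
        obtain ⟨k, -, hk⟩ := (Nat.dvd_prime_pow Nat.prime_two).1 hd
        exact ⟨x, Subgroup.subset_closure ⟨hnR x (hx.symm ▸ hcC), k, hk⟩, hx⟩
      obtain ⟨y, hy, he⟩ := hle (centralizer_eq _ (himg g) hgz)
      exact hinj he ▸ hy

end Cfsg.Agent.J2
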