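import Cfsg.Agent.Lib.J2.Data
import Cfsg.Agent.Lib.J2.CertData

/-! Kernel checks for the action of the icosian reflection group on its lines and on 100 sets. -/

set_option autoImplicit false

namespace Cfsg.Agent.J2

open Cfsg.Agent.PermCert

/-- The representative of line `i`, as data. -/
def lineAt (i : ℕ) : V := lineList.getD i ⟨Q.zero, Q.zero, Q.zero⟩

/-- Every listed line is a minimal vector whose products with the lattice are even. -/
def linesOK : Bool :=
  lineList.all fun r => r.inL && decide (r.ip r = ⟨(8, 0), (0, 0), (0, 0), (0, 0)⟩) && evenIp r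

/-- A generating reflection maps representative `i` to the listed multiple of a representative. -/
def genRowOK (k : ℕ) : Bool :=
  let g := lineAt (genIdx.getD k 0)
  let e := (gens315.getD k (0, 0)).1
  let us := genScalar.getD k []
  allBelow (fun i =>
    let v := lineAt i
    let u := us.getD i 0
    (v.ip g).evenB && (v.ip g).half.inI && Nat.blt u 120 &&
      decide (V.refl g v = V.lmul (Q.unit u) (lineAt (get 9 e i)))) 315

/-- The orbit list is a breadth-first tree covering all lines. -/
def orbitOK : Bool :=
  let full := (0, 0, 0) :: orbitList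
  allBelow (fun p =>
    let t := orbitList.getD p (0, 0, 0)
    Nat.ble t.2.1 p && Nat.blt t.2.2 4 &&
      Nat.beq (get 9 (gens315.getD t.2.2 (0, 0)).1 (full.getD t.2.1 (0, 0, 0)).1) t.1) orbitList.length &&
  allBelow (fun i => full.any fun t => Nat.beq t.1 i) 315

/-- The reflection in the first line does not negate any other representative. -/
def baseOK : Bool :=
  let r := lineAt 0
  allBelow (fun j => Nat.beq j 0 ||
    ((lineAt j).ip r).evenB && ((lineAt j).ip r).half.inI &&
      !decide (V.refl r (lineAt j) =
        ⟨(lineAt j).x.neg, (lineAt j).y.neg, (lineAt j).z.neg⟩)) 315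

/-- Membership of a line in a set. -/
def inSet (a i : ℕ) : Bool := (setList.getD a 0).testBit i

/-- A generator respects the sets. -/
def compatOK (k : ℕ) : Bool :=
  let e := (gens315.getD k (0, 0)).1
  let f := (j2Gens.getD k (0, 0)).1
  allBelow (fun a => allBelow (fun i =>
    inSet a i == inSet (get 7 f a) (get 9 e i)) 315) 100

/-- The sets separate the lines. -/
def separateOK : Bool :=
  allBelow (fun i =>
    let m := setList.foldl (fun acc s => if s.testBit i then acc &&& s else acc) (2 ^ 315 - 1)
    Nat.beq m (1 <<< i)) 315

/-- The sets are distinct. -/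
def distinctOK : Bool := distinctKeys setList && Nat.beq setList.length 100

/-- The axes are represented by multiples of twice the coordinate vectors. -/
def axesOK : Bool :=
  allBelow (fun t =>
    let l := lineAt (axes.getD t 0)
    let two : Q := ⟨(4, 0), (0, 0), (0, 0), (0, 0)⟩
    let e : V := if t = 0 then ⟨two, Q.zero, Q.zero⟩ else
      if t = 1 then ⟨Q.zero, two, Q.zero⟩ else ⟨Q.zero, Q.zero, two⟩
    Nat.blt (axes.getD t 0) 315 && (List.range 120).any fun u => decide (V.lmul (Q.unit u) l = e)) 3

/-- Only `±1` commutes with the second coordinates of three special lines. -/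
def scalarOK : Bool :=
  let negOne := Q.one.neg
  decide ((lineAt 10).x = negOne) && decide ((lineAt 10).y = negOne) && decide ((lineAt 18).x = negOne) &&
    decide ((lineAt 26).x = negOne) && !decide ((lineAt 10).z = Q.zero) &&
    decide (Q.unit 0 = Q.one) && decide (Q.unit 3 = negOne) &&
    allBelow (fun a => Nat.beq a 0 || Nat.beq a 3 ||
      !decide ((lineAt 18).y.raw (Q.unit a) = (Q.unit a).raw (lineAt 18).y) ||
      !decide ((lineAt 26).y.raw (Q.unit a) = (Q.unit a).raw (lineAt 26).y)) 120

/-- The numbers representing the sets are below `2 ^ 315`. -/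
def boundOK : Bool := setList.all fun s => Nat.blt s (2 ^ 315)

end Cfsg.Agent.J2
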