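import Cfsg.Agent.Lib.J2.S8Orders
import Mathlib.GroupTheory.SemidirectProduct
import Mathlib.GroupTheory.Perm.Sign
import Mathlib.GroupTheory.SpecificGroups.Alternating
import Mathlib.Data.ZMod.Basic
import Mathlib.Tactic

/-! Extensions of powers of the heart of the permutation module by the alternating group on 8 points
have the element orders of the symmetric group on 8 points. -/

set_option autoImplicit false
set_option maxRecDepth 20000

namespace Cfsg.Agent.J2.Heart

/-- The normal form of the heart: functions with even weight vanishing at the last point. -/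
def W : AddSubgroup (Fin 8 → ZMod 2) where
  carrier := {f | f 7 = 0 ∧ ∑ i, f i = 0}
  zero_mem' := by simp
  add_mem' {f g} hf hg := by simp [hf.1, hg.1, Finset.sum_add_distrib, hf.2, hg.2]
  neg_mem' {f} hf := by simp [hf.1, Finset.sum_neg_distrib, hf.2]

instance : DecidablePred (· ∈ W) := fun f =>
  decidable_of_iff (f 7 = 0 ∧ ∑ i, f i = 0) Iff.rfl

/-- The action of a permutation on the heart. -/
def act (σ : Equiv.Perm (Fin 8)) (f : W) : W :=
  ⟨fun i => f.1 (σ.symm i) - f.1 (σ.symm 7), by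
    refine ⟨sub_self _, ?_⟩
    rw [Finset.sum_sub_distrib, Equiv.sum_comp σ.symm f.1, f.2.2, Finset.sum_const,
      Finset.card_univ, Fintype.card_fin, zero_sub, neg_eq_zero, nsmul_eq_mul,
      show ((8 : ℕ) : ZMod 2) = 0 from rfl, zero_mul]⟩

theorem act_one (f : W) : act 1 f = f := by
  apply Subtype.ext
  funext i
  show f.1 i - f.1 7 = f.1 i
  rw [f.2.1, sub_zero]

theorem act_mul (σ τ : Equiv.Perm (Fin 8)) (f : W) : act (σ * τ) f = act σ (act τ f) := by
  apply Subtype.ext
  funext i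
  show f.1 (τ.symm (σ.symm i)) - f.1 (τ.symm (σ.symm 7)) =
    (f.1 (τ.symm (σ.symm i)) - f.1 (τ.symm 7)) - (f.1 (τ.symm (σ.symm 7)) - f.1 (τ.symm 7))
  abel

theorem act_add (σ : Equiv.Perm (Fin 8)) (f g : W) : act σ (f + g) = act σ f + act σ g := by
  apply Subtype.ext
  funext i
  show (f.1 + g.1) (σ.symm i) - (f.1 + g.1) (σ.symm 7) = _
  simp [act]
  abel

/-- Powers of the heart. -/
abbrev V (k : ℕ) : Type := Fin k → W

/-- The action on a power of the heart. -/
def phi (k : ℕ) : alternatingGroup (Fin 8) →* MulAut (Multiplicative (V k)) where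
  toFun σ :=
    { toFun := fun v => Multiplicative.ofAdd fun j => act σ.1 (v.toAdd j)
      invFun := fun v => Multiplicative.ofAdd fun j => act σ.1⁻¹ (v.toAdd j)
      left_inv := fun v => by
        simp only [toAdd_ofAdd, ← act_mul, inv_mul_cancel, act_one]; rfl
      right_inv := fun v => by
        simp only [toAdd_ofAdd, ← act_mul, mul_inv_cancel, act_one]; rfl
      map_mul' := fun v w => by
        simp only [toAdd_mul, Pi.add_apply, act_add]; rfl }
  map_one' := by
    refine MulEquiv.ext fun v => ?_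
    show Multiplicative.ofAdd (fun j => act 1 (v.toAdd j)) = v
    simp only [act_one]; rfl
  map_mul' σ τ := by
    refine MulEquiv.ext fun v => ?_
    show Multiplicative.ofAdd (fun j => act (σ.1 * τ.1) (v.toAdd j)) = _
    simp only [act_mul]; rfl

/-- The extension. -/
abbrev H (k : ℕ) : Type :=
  SemidirectProduct (Multiplicative (V k)) (alternatingGroup (Fin 8)) (phi k)

/-- Types of permutations as lists. -/
def typeList : ℕ → ℕ → List (List ℕ)
  | 0, _ => [[]]
  | f + 1, n => [] :: (List.range' 2 (n - 1)).flatMap fun k => (typeList f (n - k)).map (k :: ·)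

theorem type_mem : ∀ (s : Multiset ℕ) (f n : ℕ), (∀ x ∈ s, 2 ≤ x) → s.card ≤ f → s.sum ≤ n →
    ∃ l ∈ typeList f n, (l : Multiset ℕ) = s := by
  intro s
  induction s using Multiset.induction_on with
  | empty => intro f n _ _ _; exact ⟨[], by cases f <;> simp [typeList], rfl⟩
  | cons a t ih =>
    intro f n h2 hf hn
    cases f with
    | zero => simp at hf
    | succ f =>
      rw [Multiset.sum_cons] at hn
      rw [Multiset.card_cons] at hf
      have ha := h2 a (Multiset.mem_cons_self a t)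
      obtain ⟨l, hl, e⟩ := ih f (n - a) (fun x hx => h2 x (Multiset.mem_cons_of_mem hx))
        (by omega) (by omega)
      exact ⟨a :: l, List.mem_cons_of_mem _ (List.mem_flatMap.2 ⟨a, List.mem_range'_1.2
        ⟨ha, by omega⟩, List.mem_map.2 ⟨l, hl, rfl⟩⟩), by rw [← e]; rfl⟩

/-- lcm of a list. -/
def llcm (l : List ℕ) : ℕ := l.foldr Nat.lcm 1

theorem lcm_coe : ∀ l : List ℕ, (l : Multiset ℕ).lcm = llcm l := by
  intro l
  induction l with
  | nil => rfl
  | cons a l ih =>
    rw [← Multiset.cons_coe, Multiset.lcm_cons, ih]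
    rfl

theorem type_even_ok : (typeList 4 8).all (fun l =>
    Nat.beq ((l.sum + l.length) % 2) 1 ||
      ([1, 2, 3, 4, 5, 6, 7, 15].any (fun x => Nat.beq x (llcm l)) &&
        (!Nat.beq (llcm l) 7 || l == [7]) &&
        (!Nat.beq (llcm l) 15 || l == [5, 3] || l == [3, 5]))) = true := by decide +kernel

theorem even_spec (σ : alternatingGroup (Fin 8)) :
    orderOf σ ∈ [1, 2, 3, 4, 5, 6, 7, 15] ∧
      (orderOf σ = 7 → σ.1.cycleType = {7}) ∧ (orderOf σ = 15 → σ.1.cycleType = {5, 3}) := by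
  have hs : σ.1.cycleType.sum ≤ 8 := by
    rw [Equiv.Perm.sum_cycleType]
    exact (Finset.card_le_univ _).trans (by simp)
  have h2 : ∀ x ∈ σ.1.cycleType, 2 ≤ x := fun x hx => Equiv.Perm.two_le_of_mem_cycleType hx
  have hc : σ.1.cycleType.card ≤ 4 := by
    have := Multiset.card_nsmul_le_sum h2
    rw [smul_eq_mul] at this
    omega
  obtain ⟨l, hl, e⟩ := type_mem _ 4 8 h2 hc hs
  have hsign : Equiv.Perm.sign σ.1 = 1 := Equiv.Perm.mem_alternatingGroup.1 σ.2
  rw [Equiv.Perm.sign_of_cycleType, ← e, Multiset.sum_coe, Multiset.coe_card] at hsign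
  have hpar : (l.sum + l.length) % 2 = 0 := by
    rcases Nat.even_or_odd (l.sum + l.length) with h | h
    · exact Nat.even_iff.1 h
    · rw [h.neg_one_pow] at hsign
      exact absurd hsign (by decide)
  have h := List.all_eq_true.1 type_even_ok l hl
  simp only [Bool.or_eq_true, Bool.and_eq_true, Nat.beq_eq, List.any_eq_true, Bool.not_eq_true',
    beq_iff_eq, hpar, zero_ne_one, false_or] at h
  have ho : orderOf σ = llcm l := by
    rw [← Subgroup.orderOf_coe, ← Equiv.Perm.lcm_cycleType, ← e, lcm_coe]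
  obtain ⟨⟨⟨x, hx, ex⟩, h7⟩, h15⟩ := h
  refine ⟨by rw [ho, ← ex]; exact hx, fun h => ?_, fun h => ?_⟩
  · rcases h7 with h7 | h7
    · rw [← ho, h] at h7; simp at h7
    · rw [← e, h7]; rfl
  · rcases h15 with (h15 | h15) | h15
    · rw [← ho, h] at h15; simp at h15
    · rw [← e, h15]; rfl
    · rw [← e, h15]; decide

/-- Representatives of the two fixed-point-free classes. -/
def c7 : Equiv.Perm (Fin 8) := List.formPerm [0, 1, 2, 3, 4, 5, 6]

/-- Representatives of the two fixed-point-free classes. -/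
def c15 : Equiv.Perm (Fin 8) := List.formPerm [0, 1, 2, 3, 4] * List.formPerm [5, 6, 7]

theorem fpf_rep : ∀ c ∈ [c7, c15], ∀ f : Fin 8 → ZMod 2, f 7 = 0 → ∑ i, f i = 0 →
    (∀ i, f (c.symm i) - f (c.symm 7) = f i) → f = 0 := by
  intro c hc f hf hsum h
  have key : ∀ x : ZMod 2, x + x = 0 := by decide
  simp only [Fin.sum_univ_eight, hf, add_zero] at hsum
  have fin : f 0 = 0 → f 1 = 0 → f 2 = 0 → f 3 = 0 → f 4 = 0 → f 5 = 0 → f 6 = 0 → f = 0 := by
    intros
    funext i
    fin_cases i <;> assumption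
  rcases List.mem_pair.1 hc with rfl | rfl
  · have : f 1 = f 0 ∧ f 2 = f 0 ∧ f 3 = f 0 ∧ f 4 = f 0 ∧ f 5 = f 0 ∧ f 6 = f 0 := by
      have e0 : c7.symm 0 = 6 := by decide +kernel
      have e1 : c7.symm 1 = 0 := by decide +kernel
      have e2 : c7.symm 2 = 1 := by decide +kernel
      have e3 : c7.symm 3 = 2 := by decide +kernel
      have e4 : c7.symm 4 = 3 := by decide +kernel
      have e5 : c7.symm 5 = 4 := by decide +kernel
      have e6 : c7.symm 6 = 5 := by decide +kernel
      have e7 : c7.symm 7 = 7 := by decide +kernel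
      have h0 := h 0
      have h1 := h 1
      have h2 := h 2
      have h3 := h 3
      have h4 := h 4
      have h5 := h 5
      have h6 := h 6
      have h7 := h 7
      simp only [e0, e1, e2, e3, e4, e5, e6, e7] at h0 h1 h2 h3 h4 h5 h6 h7
      simp only [hf, sub_zero] at h0 h1 h2 h3 h4 h5 h6
      exact ⟨h1.symm, h2.symm.trans h1.symm, h3.symm.trans (h2.symm.trans h1.symm),
        h4.symm.trans (h3.symm.trans (h2.symm.trans h1.symm)),
        h5.symm.trans (h4.symm.trans (h3.symm.trans (h2.symm.trans h1.symm))), h0⟩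
    obtain ⟨a1, a2, a3, a4, a5, a6⟩ := this
    rw [a1, a2, a3, a4, a5, a6] at hsum
    have h0 : f 0 = 0 := by linear_combination hsum - 3 * key (f 0)
    exact fin h0 (a1.trans h0) (a2.trans h0) (a3.trans h0) (a4.trans h0) (a5.trans h0) (a6.trans h0)
  · have : f 6 = 0 ∧ f 5 = 0 ∧ f 1 = f 0 ∧ f 2 = f 0 ∧ f 3 = f 0 ∧ f 4 = f 0 := by
      have e0 : c15.symm 0 = 4 := by decide +kernel
      have e1 : c15.symm 1 = 0 := by decide +kernel
      have e2 : c15.symm 2 = 1 := by decide +kernel
      have e3 : c15.symm 3 = 2 := by decide +kernel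
      have e4 : c15.symm 4 = 3 := by decide +kernel
      have e5 : c15.symm 5 = 7 := by decide +kernel
      have e6 : c15.symm 6 = 5 := by decide +kernel
      have e7 : c15.symm 7 = 6 := by decide +kernel
      have h0 := h 0
      have h1 := h 1
      have h2 := h 2
      have h3 := h 3
      have h4 := h 4
      have h5 := h 5
      have h6 := h 6
      have h7 := h 7
      simp only [e0, e1, e2, e3, e4, e5, e6, e7] at h0 h1 h2 h3 h4 h5 h6 h7
      have a5 : f 5 = 0 := by linear_combination h6 + key (f 6)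
      have a6 : f 6 = 0 := by linear_combination -h5 + hf - a5
      simp only [a6, sub_zero] at h0 h1 h2 h3
      exact ⟨a6, a5, h1.symm, h2.symm.trans h1.symm, h3.symm.trans (h2.symm.trans h1.symm), h0⟩
    obtain ⟨a6, a5, a1, a2, a3, a4⟩ := this
    rw [a1, a2, a3, a4, a5, a6] at hsum
    have h0 : f 0 = 0 := by linear_combination hsum - 2 * key (f 0)
    exact fin h0 (a1.trans h0) (a2.trans h0) (a3.trans h0) (a4.trans h0) a5 a6

theorem type_reps : c7.cycleType = {7} ∧ c15.cycleType = {5, 3} := by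
  constructor <;> decide +kernel

theorem fpf {σ : alternatingGroup (Fin 8)} (h : orderOf σ = 7 ∨ orderOf σ = 15) {f : W}
    (hf : act σ.1 f = f) : f = 0 := by
  obtain ⟨-, h7, h15⟩ := even_spec σ
  obtain ⟨c, hc, hcc⟩ : ∃ c ∈ [c7, c15], IsConj c σ.1 := by
    rcases h with h | h
    · exact ⟨c7, by simp, Equiv.Perm.isConj_iff_cycleType_eq.2 (by rw [type_reps.1, h7 h])⟩
    · exact ⟨c15, by simp, Equiv.Perm.isConj_iff_cycleType_eq.2 (by rw [type_reps.2, h15 h])⟩
  obtain ⟨π, hπ⟩ := isConj_iff.1 hcc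
  have hg : act c (act π⁻¹ f) = act π⁻¹ f := by
    rw [← act_mul, show c * π⁻¹ = π⁻¹ * σ.1 by rw [← hπ]; group, act_mul, hf]
  have h0 : act π⁻¹ f = 0 :=
    Subtype.ext (fpf_rep c hc _ (act π⁻¹ f).2.1 (act π⁻¹ f).2.2
      fun i => congrFun (congrArg Subtype.val hg) i)
  have := congrArg (act π) h0
  rw [← act_mul, mul_inv_cancel, act_one] at this
  rw [this]
  apply Subtype.ext
  funext i
  simp [act]

theorem two_pow_eq_one {k : ℕ} (v : Multiplicative (V k)) : v ^ 2 = 1 := by
  rw [pow_two]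
  apply Multiplicative.toAdd.injective
  rw [toAdd_mul, toAdd_one]
  funext j
  apply Subtype.ext
  funext i
  exact CharTwo.add_self_eq_zero _

theorem mul_two_self (z : ZMod 2) : z + z = 0 := CharTwo.add_self_eq_zero z

theorem orderOf_mem {k : ℕ} (g : H k) :
    orderOf g ∈ [1, 2, 3, 4, 5, 6, 7, 8, 10, 12, 15] := by
  set n := orderOf g.right with hn
  have hmem := (even_spec g.right).1
  rw [← hn] at hmem
  have hr : (g ^ n).right = 1 := by
    rw [show (g ^ n).right = g.right ^ n from map_pow SemidirectProduct.rightHom g n, hn,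
      pow_orderOf_eq_one]
  have hgn : g ^ n = SemidirectProduct.inl (g ^ n).left := by
    apply SemidirectProduct.ext
    · rfl
    · rw [hr]; rfl
  have h1 : n ∣ orderOf g := by
    rw [hn]; exact orderOf_map_dvd (SemidirectProduct.rightHom) g
  have h2 : orderOf g ∣ 2 * n := by
    apply orderOf_dvd_of_pow_eq_one
    rw [mul_comm, pow_mul, hgn, ← map_pow, two_pow_eq_one, map_one]
  have h3 : n = 7 ∨ n = 15 → orderOf g ∣ n := by
    intro hcase
    apply orderOf_dvd_of_pow_eq_one
    have hcomm : g * g ^ n = g ^ n * g := by rw [← pow_succ', ← pow_succ]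
    have hl := congrArg SemidirectProduct.left hcomm
    simp only [SemidirectProduct.mul_left, hr, map_one, MulAut.one_apply] at hl
    rw [mul_comm (g ^ n).left] at hl
    have hfix := mul_left_cancel hl
    rw [hgn, show (g ^ n).left = 1 from ?_, map_one]
    apply Multiplicative.toAdd.injective
    rw [toAdd_one]
    funext j
    exact fpf (by rw [← hn]; exact hcase)
      (congrFun (congrArg Multiplicative.toAdd hfix) j)
  obtain ⟨q, hq⟩ := h1
  have hq2 : q ∣ 2 := by
    have : n * q ∣ n * 2 := by rw [← hq, mul_comm n 2]; exact h2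
    refine Nat.dvd_of_mul_dvd_mul_left ?_ this
    have : ∀ m ∈ [1, 2, 3, 4, 5, 6, 7, 15], 0 < m := by decide
    exact this n hmem
  rw [hq]
  rcases (Nat.dvd_prime Nat.prime_two).1 hq2 with rfl | rfl
  · have : ∀ m ∈ [1, 2, 3, 4, 5, 6, 7, 15], m * 1 ∈ [1, 2, 3, 4, 5, 6, 7, 8, 10, 12, 15] := by decide
    exact this n hmem
  · have hne : n ≠ 7 ∧ n ≠ 15 := by
      constructor <;> intro e
      · have := h3 (Or.inl e); rw [hq, e] at this; norm_num at this
      · have := h3 (Or.inr e); rw [hq, e] at this; norm_num at this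
    have : ∀ m ∈ [1, 2, 3, 4, 5, 6, 7, 15], m ≠ 7 → m ≠ 15 →
        m * 2 ∈ [1, 2, 3, 4, 5, 6, 7, 8, 10, 12, 15] := by decide
    exact this n hmem hne.1 hne.2

/-- A heart vector. -/
def w1 : W := ⟨![0, 0, 0, 0, 0, 1, 1, 0], by decide⟩

/-- Elements of the extension with the orders to be realised. -/
def wit : List (ℕ × Equiv.Perm (Fin 8) × W) :=
  [(1, 1, 0), (2, List.formPerm [0, 1] * List.formPerm [2, 3], 0), (3, List.formPerm [0, 1, 2], 0),
    (4, List.formPerm [0, 1, 2, 3] * List.formPerm [4, 5], 0),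
    (5, List.formPerm [0, 1, 2, 3, 4], 0),
    (6, List.formPerm [0, 1, 2, 3, 4, 5] * List.formPerm [6, 7], 0),
    (7, c7, 0), (15, c15, 0),
    (8, List.formPerm [0, 1, 2, 3] * List.formPerm [4, 5], ⟨![1, 0, 0, 0, 0, 0, 1, 0], by decide⟩),
    (10, List.formPerm [0, 1, 2, 3, 4], w1),
    (12, List.formPerm [0, 1, 2] * List.formPerm [3, 4] * List.formPerm [5, 6],
      ⟨![1, 0, 0, 1, 0, 0, 0, 0], by decide⟩)]

theorem wit_sign : ∀ t ∈ wit, Equiv.Perm.sign t.2.1 = 1 := by decide +kernel

/-- The `m`-th power of `(f, σ)` in the heart part. -/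
def normPow (σ : Equiv.Perm (Fin 8)) (f : W) : ℕ → W
  | 0 => 0
  | m + 1 => f + act σ (normPow σ f m)

theorem pow_left {k : ℕ} (σ : alternatingGroup (Fin 8)) (f : W) : ∀ m : ℕ,
    ((⟨Multiplicative.ofAdd fun _ => f, σ⟩ : H k) ^ m).left =
      Multiplicative.ofAdd fun _ => normPow σ.1 f m := by
  intro m
  induction m with
  | zero => rfl
  | succ m ih =>
    rw [pow_succ', SemidirectProduct.mul_left, ih]
    rfl

theorem pow_right {k : ℕ} (σ : alternatingGroup (Fin 8)) (f : W) (m : ℕ) :
    ((⟨Multiplicative.ofAdd fun _ => f, σ⟩ : H k) ^ m).right = σ ^ m :=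
  map_pow SemidirectProduct.rightHom _ m

theorem wit_ok : ∀ t ∈ wit, (t.2.1 ^ t.1 = 1 ∧ (normPow t.2.1 t.2.2 t.1).1 = 0) ∧
    ∀ d ∈ List.range t.1, 0 < d → t.2.1 ^ d ≠ 1 ∨ (normPow t.2.1 t.2.2 d).1 ≠ 0 := by
  decide +kernel

theorem range_orderOf {k : ℕ} (hk : 0 < k) :
    Set.range (orderOf : H k → ℕ) = {m | m ∈ [1, 2, 3, 4, 5, 6, 7, 8, 10, 12, 15]} := by
  ext m
  constructor
  · rintro ⟨g, rfl⟩; exact orderOf_mem g
  · intro hm
    have hmap : ∀ m ∈ [1, 2, 3, 4, 5, 6, 7, 8, 10, 12, 15], m ∈ wit.map (fun t => t.1) := by decide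
    obtain ⟨t, ht, rfl⟩ := List.mem_map.1 (hmap m hm)
    obtain ⟨⟨h1, h1'⟩, h2⟩ := wit_ok t ht
    have hpos : 0 < t.1 := by
      have : ∀ m ∈ [1, 2, 3, 4, 5, 6, 7, 8, 10, 12, 15], 0 < m := by decide
      exact this _ hm
    let σ : alternatingGroup (Fin 8) := ⟨t.2.1, Equiv.Perm.mem_alternatingGroup.2 (wit_sign t ht)⟩
    refine ⟨⟨Multiplicative.ofAdd fun _ => t.2.2, σ⟩, (orderOf_eq_iff hpos).2 ⟨?_, fun d hd hd0 e => ?_⟩⟩
    · apply SemidirectProduct.ext
      · rw [pow_left, show normPow σ.1 t.2.2 t.1 = 0 from Subtype.ext h1']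
        rfl
      · rw [pow_right]
        exact Subtype.ext h1
    · rcases h2 d (List.mem_range.2 hd) hd0 with h | h
      · apply h
        have := congrArg SemidirectProduct.right e
        rw [pow_right] at this
        exact congrArg Subtype.val this
      · apply h
        have := congrArg SemidirectProduct.left e
        rw [pow_left] at this
        exact congrArg Subtype.val (congrFun (congrArg Multiplicative.toAdd this) ⟨0, hk⟩)

end Cfsg.Agent.J2.Heart
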