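import Cfsg.Agent.Lib.J2.InvDefs

/-! Kernel checks for the centraliser of a reflection. -/

set_option autoImplicit false

namespace Cfsg.Agent.J2

open Cfsg.Agent.PermCert

theorem c_cert : checkCert 7 100 cGens cDerived cLevels = true := by decide +kernel

theorem c_order : certOrder cLevels = 1920 := by decide +kernel

theorem q_cert : checkCert 7 100 qGens qDerived qLevels = true := by decide +kernel

theorem q_order : certOrder qLevels = 32 := by decide +kernel

theorem a5_cert : checkCert 3 5 a5Gens a5Derived a5Levels = true := by decide +kernel

theorem a5_order : certOrder a5Levels = 60 := by decide +kernel

theorem cent_ok : centOK = true := by decide +kernel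

theorem squares_ok : squaresOK = true := by decide +kernel

theorem five_ok : fiveOK = true := by decide +kernel

end Cfsg.Agent.J2
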