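import Cfsg.Agent.Lib.J2.OutCert
import Cfsg.Agent.Lib.J2.Fusion
import Cfsg.Agent.Lib.J2.Rank3

/-! The automorphism group of the permutation model of J₂: inner automorphisms and one outer class. -/

set_option autoImplicit false
set_option maxRecDepth 20000
set_option maxHeartbeats 1000000

namespace Cfsg.Agent.J2

open Cfsg Cfsg.Agent.PermCert

/-- A code gives the forward values of a permutation. -/
def Fwd (e : ℕ × Equiv.Perm (Fin 100)) : Prop := ∀ i : Fin 100, get 7 e.1 i = (e.2 i : ℕ)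

theorem applyCodes_prod : ∀ (L : List (ℕ × Equiv.Perm (Fin 100))), (∀ e ∈ L, Fwd e) →
    ∀ i : Fin 100, applyCodes 7 (L.map Prod.fst) i = ((L.map Prod.snd).prod i : ℕ) := by
  intro L
  induction L with
  | nil => intro _ i; simp [applyCodes]
  | cons e L ih =>
    intro h i
    show get 7 e.1 (applyCodes 7 (L.map Prod.fst) i) = _
    rw [ih (fun a ha => h a (List.mem_cons_of_mem _ ha)) i, h e List.mem_cons_self,
      List.map_cons, List.prod_cons, Equiv.Perm.mul_apply]

theorem fixesBase_iff (L : List (ℕ × Equiv.Perm (Fin 100))) (h : ∀ e ∈ L, Fwd e)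
    (hP : (L.map Prod.snd).prod ∈ P100) :
    fixesBase (L.map Prod.fst) = true ↔ (L.map Prod.snd).prod = 1 := by
  simp only [fixesBase, List.all_eq_true, Nat.beq_eq]
  constructor
  · intro hb
    refine eq_of_base hP (one_mem _) fun b hbm => ?_
    rw [← applyCodes_prod L h, Equiv.Perm.one_apply, base_val hbm]
    exact hb b hbm
  · intro h1 b hbm
    have := applyCodes_prod L h (Fin.ofNat 100 b)
    rwa [h1, Equiv.Perm.one_apply, base_val hbm] at this

theorem agreesBase_spec (L : List (ℕ × Equiv.Perm (Fin 100))) {c : ℕ} {σ : Equiv.Perm (Fin 100)}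
    (h : ∀ e ∈ L, Fwd e) (hc : Fwd (c, σ)) (hP : (L.map Prod.snd).prod ∈ P100) (hσ : σ ∈ P100)
    (hb : agreesBase (L.map Prod.fst) c = true) : (L.map Prod.snd).prod = σ := by
  simp only [agreesBase, List.all_eq_true, Nat.beq_eq] at hb
  refine eq_of_base hP hσ fun b hbm => ?_
  rw [← applyCodes_prod L h, ← hc (Fin.ofNat 100 b), base_val hbm]
  exact hb b hbm

theorem rep_fwd {e : Elt} {σ : Equiv.Perm (Fin 100)} (h : Rep 7 e σ) : Fwd (e.1, σ) := fun i => (h i).1

theorem rep_bwd {e : Elt} {σ : Equiv.Perm (Fin 100)} (h : Rep 7 e σ) : Fwd (e.2, σ⁻¹) := fun i => (h i).2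

/-- A word in two letters. -/
def word {α : Type*} (x r : α) (l : List ℕ) (n : ℕ) : List α :=
  (List.replicate n (l.flatMap fun a => List.replicate a x ++ [r])).flatten

theorem map_word {α β : Type*} (h : α → β) (x r : α) (l : List ℕ) (n : ℕ) :
    (word x r l n).map h = word (h x) (h r) l n := by
  simp [word, List.map_flatten, List.flatMap, Function.comp_def]

theorem mem_word {α : Type*} {x r a : α} {l : List ℕ} {n : ℕ} (h : a ∈ word x r l n) : a = x ∨ a = r := by
  simp only [word, List.mem_flatten, List.mem_replicate, exists_and_right] at h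
  obtain ⟨m, ⟨-, rfl⟩, hm⟩ := h
  simp only [List.mem_flatMap, List.mem_append, List.mem_replicate, List.mem_singleton] at hm
  obtain ⟨c, -, ⟨-, h⟩ | h⟩ := hm
  · exact Or.inl h
  · exact Or.inr h

/-! ### The elements -/

/-- The element of order seven. -/
def outX : Equiv.Perm (Fin 100) := toPerm 7 100 xE
/-- The element conjugating it to its cube. -/
def outN : Equiv.Perm (Fin 100) := toPerm 7 100 nE
/-- The element of order four. -/
def outW : Equiv.Perm (Fin 100) := toPerm 7 100 wE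
/-- The outer involution. -/
def outS : Equiv.Perm (Fin 100) := toPerm 7 100 sigE
/-- The second generator. -/
def outT : Equiv.Perm (Fin 100) := toPerm 7 100 (clsE tIdx)
/-- Its image under the outer involution. -/
def outR : Equiv.Perm (Fin 100) := toPerm 7 100 (clsE rIdx)

theorem class_rep {p : ℕ} (hp : p < 315) : ∃ y ∈ P100, Rep 7 (clsE p) y ∧
    ∃ g ∈ P100, y = g * tauP * g⁻¹ := by
  obtain ⟨g, hg, hr⟩ := class_elts p hp
  exact ⟨_, mul_mem (mul_mem hg (C100_le_P100 tau_valid.2.2)) (inv_mem hg), hr, g, hg, rfl⟩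

theorem x_facts : Rep 7 xE outX ∧ outX ∈ P100 ∧ Rep 7 nE outN ∧ outN ∈ P100 ∧
    Rep 7 wE outW ∧ outW ∈ P100 ∧ Rep 7 sigE outS ∧ Rep 7 (clsE tIdx) outT ∧ outT ∈ P100 ∧
    Rep 7 (clsE rIdx) outR ∧ outR ∈ P100 := by
  have h := outElt_ok
  simp only [outEltOK, Bool.and_eq_true] at h
  obtain ⟨⟨⟨⟨⟨⟨⟨⟨⟨⟨⟨⟨⟨⟨⟨⟨⟨⟨⟨⟨hx, hxs⟩, hn⟩, hns⟩, hw⟩, hws⟩, hsig⟩, -⟩, -⟩, -⟩, -⟩, -⟩, -⟩, -⟩, -⟩, -⟩,
    ht⟩, hr⟩, -⟩, -⟩, -⟩ := h
  obtain ⟨y, hy, hry, -⟩ := class_rep (show tIdx < 315 by decide)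
  obtain ⟨y', hy', hry', -⟩ := class_rep (show rIdx < 315 by decide)
  refine ⟨rep_toPerm hx, cert_mem cert_ok hx hxs, rep_toPerm hn, cert_mem cert_ok hn hns,
    rep_toPerm hw, cert_mem cert_ok hw hws, rep_toPerm hsig, rep_toPerm ht, ?_, rep_toPerm hr, ?_⟩
  · rw [outT, rep_unique (rep_toPerm ht) hry]; exact hy
  · rw [outR, rep_unique (rep_toPerm hr) hry']; exact hy'

theorem outX_rel : outX ^ 7 = 1 ∧ outX ≠ 1 ∧ outN * outX * outN⁻¹ = outX ^ 3 := by
  obtain ⟨hx, hxP, hn, -⟩ := x_facts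
  have h := outElt_ok
  simp only [outEltOK, Bool.and_eq_true, Bool.not_eq_true', Nat.beq_eq] at h
  obtain ⟨⟨⟨⟨⟨⟨⟨⟨⟨⟨⟨⟨⟨⟨-, hnx⟩, h7⟩, h1⟩, -⟩, -⟩, -⟩, -⟩, -⟩, -⟩, -⟩, -⟩, -⟩, -⟩, -⟩ := h
  refine ⟨?_, fun e => ?_, mul_inv_eq_iff_eq_mul.2 ?_⟩
  · have := (fixesBase_iff (List.replicate 7 (xE.1, outX))
      (fun e he => (List.eq_of_mem_replicate he) ▸ rep_fwd hx)
      (by rw [List.map_replicate, List.prod_replicate]; exact pow_mem hxP 7)).1
      (by rw [List.map_replicate]; exact h7)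
    rwa [List.map_replicate, List.prod_replicate] at this
  · have := (fixesBase_iff [(xE.1, outX)] (by simpa using rep_fwd hx) (by simpa using hxP)).2
      (by simpa using e)
    rw [List.map_cons, List.map_nil, h1] at this
    exact absurd this (by simp)
  · rw [pow_three]
    exact rep_eq_code (rep_mul hn hx) (rep_mul (rep_mul hx (rep_mul hx hx)) hn) hnx

theorem orderOf_outX : orderOf outX = 7 :=
  haveI : Fact (Nat.Prime 7) := ⟨by norm_num⟩
  orderOf_eq_prime outX_rel.1 outX_rel.2.1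

theorem outW_sq : outW * outW = tauP := by
  obtain ⟨-, -, -, -, hw, hwP, -⟩ := x_facts
  have h := outElt_ok
  simp only [outEltOK, Bool.and_eq_true] at h
  have := agreesBase_spec [(wE.1, outW), (wE.1, outW)] (c := tauE.1) (σ := tauP)
    (by simpa using rep_fwd hw) (rep_fwd tau_rep) (by simpa using mul_mem hwP hwP)
    (C100_le_P100 tau_valid.2.2) h.1.1.1.1.1.1.1.1.1.1.2
  simpa using this

theorem outS_rel : outS * outS = 1 ∧ outS ≠ 1 ∧ outS * outX = outX * outS ∧
    outS * outT = outR * outS := by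
  obtain ⟨hx, -, -, -, -, -, hs, ht, -, hr, -⟩ := x_facts
  have h := outElt_ok
  simp only [outEltOK, Bool.and_eq_true, Bool.not_eq_true', Nat.beq_eq] at h
  obtain ⟨⟨⟨⟨⟨⟨⟨⟨⟨-, hss⟩, hs0⟩, hsx⟩, hst⟩, -⟩, -⟩, -⟩, -⟩, -⟩ := h
  refine ⟨rep_eq_code (rep_mul hs hs) (rep_one (by norm_num)) hss, fun e => ?_,
    rep_eq_code (rep_mul hs hx) (rep_mul hx hs) hsx, rep_eq_code (rep_mul hs ht) (rep_mul hr hs) hst⟩
  rw [show (0 : ℕ) = ((0 : Fin 100) : ℕ) from rfl, (hs 0).1, e] at hs0
  simp at hs0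

theorem class_closed {u : Equiv.Perm (Fin 100)} (hu : u ∈ P100) :
    ∃ p < 315, Rep 7 (clsE p) (u * tauP * u⁻¹) := by
  let M : Submonoid (Equiv.Perm (Fin 100)) :=
    { carrier := {u | ∀ p < 315, ∀ y, Rep 7 (clsE p) y → ∃ q < 315, Rep 7 (clsE q) (u * y * u⁻¹)}
      one_mem' := fun p hp y hy => ⟨p, hp, by simpa using hy⟩
      mul_mem' := fun {a b} ha hb p hp y hy => by
        obtain ⟨q, hq, hq'⟩ := hb p hp y hy
        obtain ⟨r, hr, hr'⟩ := ha q hq _ hq'
        exact ⟨r, hr, by rwa [show a * b * y * (a * b)⁻¹ = a * (b * y * b⁻¹) * a⁻¹ by group]⟩ }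
  have hgen : {σ | σ ∈ j2Gens.map (toPerm 7 100)} ⊆ (M : Set (Equiv.Perm (Fin 100))) := by
    intro σ hσ p hp y hy
    obtain ⟨g, hg, rfl⟩ := List.mem_map.1 hσ
    obtain ⟨k, hk, rfl⟩ := List.mem_iff_getElem.1 hg
    have h := clos_ok
    simp only [closOK, Bool.and_eq_true, Nat.beq_eq] at h
    have hpk := allBelow_spec _ _ (allBelow_spec _ _ h.1 p hp) k (h.2 ▸ hk)
    simp only [Bool.and_eq_true, Nat.blt_eq] at hpk
    obtain ⟨hj, hag⟩ := hpk
    rw [List.getD_eq_getElem _ _ hk] at hag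
    obtain ⟨y0, hy0, hry0, -⟩ := class_rep hp
    obtain ⟨z, hzP, hrz, -⟩ := class_rep hj
    have hgv : validElt 7 100 j2Gens[k] = true := by
      have hcv := cert_ok
      simp only [checkCert, Bool.and_eq_true, List.all_eq_true] at hcv
      exact hcv.1.1.1.1.2 _ (List.getElem_mem hk)
    have hrg := rep_toPerm hgv
    have hgP : toPerm 7 100 j2Gens[k] ∈ P100 :=
      Subgroup.subset_closure (List.mem_map.2 ⟨_, List.getElem_mem hk, rfl⟩)
    have hyP : y ∈ P100 := rep_unique hy hry0 ▸ hy0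
    refine ⟨_, hj, ?_⟩
    have := agreesBase_spec [(j2Gens[k].1, toPerm 7 100 j2Gens[k]), ((clsE p).1, y),
      (j2Gens[k].2, (toPerm 7 100 j2Gens[k])⁻¹)] (σ := z)
      (by simp [rep_fwd hrg, rep_fwd hy, rep_bwd hrg]) (rep_fwd hrz)
      (by simpa using mul_mem hgP (mul_mem hyP (inv_mem hgP))) hzP hag
    simp only [List.map_cons, List.map_nil, List.prod_cons, List.prod_nil, mul_one] at this
    rw [mul_assoc, this]
    exact hrz
  have hu' : u ∈ (Submonoid.closure {σ | σ ∈ j2Gens.map (toPerm 7 100)} : Set (Equiv.Perm (Fin 100))) := by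
    rw [← closure_carrier]; exact hu
  have h0 : clsE 0 = tauE := by
    have h := class_ok
    simp only [classOK, Bool.and_eq_true] at h
    have hc := allBelow_spec _ _ h.2 0 (by norm_num)
    simp only [if_true, Bool.and_eq_true, Nat.beq_eq] at hc
    exact Prod.ext hc.1 hc.2
  exact Submonoid.closure_le.2 hgen hu' 0 (by norm_num) _ (h0 ▸ tau_rep)

theorem sq_class {s : Equiv.Perm (Fin 100)} (hs : s ∈ S100) (h4 : s * s * (s * s) = 1)
    (h2 : s * s ≠ 1) : ∃ g ∈ P100, s * s = g * tauP * g⁻¹ := by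
  obtain ⟨cs, hcs, happ⟩ := exists_codes (cert_allRep s_cert) s ((cert_prodSet s_cert s).1 hs)
  have hP := S100_le_P100 hs
  have two : ∀ i : Fin 100, applyCodes 7 (cs ++ cs) i = ((s * s) i : ℕ) := by
    intro i
    rw [applyCodes, List.foldr_append]
    show applyCodes 7 cs (applyCodes 7 cs i) = _
    rw [happ, happ]
    rfl
  have four : ∀ i : Fin 100, applyCodes 7 (cs ++ cs ++ cs ++ cs) i = ((s * s * (s * s)) i : ℕ) := by
    intro i
    rw [show cs ++ cs ++ cs ++ cs = (cs ++ cs) ++ (cs ++ cs) from List.append_assoc _ _ _,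
      applyCodes, List.foldr_append]
    show applyCodes 7 (cs ++ cs) (applyCodes 7 (cs ++ cs) i) = _
    rw [two, two]
    rfl
  have h := sqClass_ok
  simp only [sqClassOK, List.all_eq_true, Bool.or_eq_true, Bool.not_eq_true', List.any_eq_true] at h
  rcases h cs hcs with (h1 | h1) | ⟨u, hu, h1⟩
  · refine absurd (eq_of_base (mul_mem hP hP) (one_mem _) fun b hb => ?_) h2
    simp only [fixesBase, List.all_eq_true, Nat.beq_eq] at h1
    rw [← two, Equiv.Perm.one_apply, base_val hb]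
    exact h1 b hb
  · exfalso
    have : fixesBase (cs ++ cs ++ cs ++ cs) = true := by
      simp only [fixesBase, List.all_eq_true, Nat.beq_eq]
      intro b hb
      have := four (Fin.ofNat 100 b)
      rwa [h4, Equiv.Perm.one_apply, base_val hb] at this
    rw [h1] at this
    exact Bool.noConfusion this
  · obtain ⟨p, hp, rfl⟩ := List.mem_iff_getElem.1 hu
    have hlen : classList.length = 315 := by
      have h := class_ok
      simp only [classOK, Bool.and_eq_true, Nat.beq_eq] at h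
      exact h.1.1
    obtain ⟨y, hy, hry, g, hg, rfl⟩ := class_rep (hlen ▸ hp : p < 315)
    refine ⟨g, hg, eq_of_base (mul_mem hP hP) hy fun b hb => ?_⟩
    simp only [agreesBase, List.all_eq_true, Nat.beq_eq] at h1
    rw [← two, ← (hry _).1, clsE, List.getD_eq_getElem _ _ hp, base_val hb]
    exact h1 b hb

theorem xt_eq : genGroup 7 100 xtGens = P100 := by
  refine Subgroup.eq_of_le_of_card_ge ?_ ?_
  · refine (Subgroup.closure_le _).2 fun σ hσ => ?_
    obtain ⟨g, hg, rfl⟩ := List.mem_map.1 hσ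
    have h := outElt_ok
    simp only [outEltOK, Bool.and_eq_true, List.all_eq_true, Bool.or_eq_true] at h
    rcases h.1.1.2 g hg with he | he <;> rw [eltBeq_eq he]
    · exact x_facts.2.1
    · exact x_facts.2.2.2.2.2.2.2.2.1
  · rw [card_P100, cert_card xt_cert, xt_order]

theorem P100_le_of_gens {K : Subgroup (Equiv.Perm (Fin 100))} (hx : outX ∈ K) (ht : outT ∈ K) :
    P100 ≤ K := by
  rw [← xt_eq]
  refine (Subgroup.closure_le _).2 fun σ hσ => ?_
  obtain ⟨g, hg, rfl⟩ := List.mem_map.1 hσ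
  have h := outElt_ok
  simp only [outEltOK, Bool.and_eq_true, List.all_eq_true, Bool.or_eq_true] at h
  rcases h.1.1.2 g hg with he | he <;> rw [eltBeq_eq he]
  · exact hx
  · exact ht

theorem centralizer_trivial {h : Equiv.Perm (Fin 100)} (hc : ∀ g ∈ P100, h * g = g * h) : h = 1 := by
  have h0 : h 0 = 0 := by
    by_contra hne
    have hk := outElt_ok
    simp only [outEltOK, Bool.and_eq_true, List.all_eq_true] at hk
    have hi := allBelow_spec _ _ hk.2 _ (h 0).2
    simp only [Bool.or_eq_true, decide_eq_true_eq, List.any_eq_true, Bool.not_eq_true'] at hi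
    rcases hi with hi | ⟨g, hg, hgi⟩
    · exact hne (Fin.ext hi)
    · have hr := rep_toPerm (hk.1.2 g hg)
      obtain ⟨hP, hg0⟩ := (mem_H100 _).1 (Subgroup.subset_closure (List.mem_map.2 ⟨g, hg, rfl⟩))
      have e := congrArg (fun z : Equiv.Perm (Fin 100) => z 0) (hc _ hP)
      simp only [Equiv.Perm.mul_apply, hg0] at e
      rw [(hr _).1, ← e] at hgi
      simp at hgi
  refine Equiv.ext fun x => ?_
  obtain ⟨g, hg, rfl⟩ := transitive x
  have e := congrArg (fun z : Equiv.Perm (Fin 100) => z 0) (hc g hg)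
  simp only [Equiv.Perm.mul_apply, h0] at e
  exact e

theorem outS_notMem : outS ∉ P100 := by
  intro hS
  obtain ⟨h2, h1, hsx, -⟩ := outS_rel
  have ho : orderOf outS = 2 :=
    haveI : Fact (Nat.Prime 2) := ⟨Nat.prime_two⟩
    orderOf_eq_prime (by rw [pow_two]; exact h2) h1
  have h14 : orderOf (outS * outX) = 14 := by
    rw [Commute.orderOf_mul_eq_mul_orderOf_of_coprime hsx (by rw [ho, orderOf_outX]; decide), ho,
      orderOf_outX]
  have := orderOf_mem _ (mul_mem hS x_facts.2.1)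
  rw [h14] at this
  simp [j2Orders] at this

/-! ### Automorphisms -/

theorem outS_inv : outS⁻¹ = outS := inv_eq_of_mul_eq_one_right outS_rel.1

theorem outS_conj {a : Equiv.Perm (Fin 100)} (ha : a ∈ P100) : outS * a * outS ∈ P100 := by
  have h : P100 ≤ P100.comap (MulAut.conj outS).toMonoidHom := by
    refine P100_le_of_gens ?_ ?_
    · show outS * outX * outS⁻¹ ∈ P100
      rw [outS_rel.2.2.1, mul_inv_cancel_right]
      exact x_facts.2.1
    · show outS * outT * outS⁻¹ ∈ P100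
      rw [outS_rel.2.2.2, mul_inv_cancel_right]
      exact x_facts.2.2.2.2.2.2.2.2.2.2
  have := h ha
  rwa [Subgroup.mem_comap, show (MulAut.conj outS).toMonoidHom a = outS * a * outS⁻¹ from rfl,
    outS_inv] at this

/-- The outer automorphism. -/
def sigAut : MulAut P100 where
  toFun a := ⟨outS * a * outS, outS_conj a.2⟩
  invFun a := ⟨outS * a * outS, outS_conj a.2⟩
  left_inv a := Subtype.ext (by
    show outS * (outS * a * outS) * outS = a
    simp [← mul_assoc, outS_rel.1, mul_assoc _ outS outS])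
  right_inv a := Subtype.ext (by
    show outS * (outS * a * outS) * outS = a
    simp [← mul_assoc, outS_rel.1, mul_assoc _ outS outS])
  map_mul' a b := Subtype.ext (by
    show outS * (a * b : Equiv.Perm (Fin 100)) * outS = outS * a * outS * (outS * b * outS)
    simp [← mul_assoc, mul_assoc _ outS outS, outS_rel.1])

/-- The first generator in the group. -/
def gX : P100 := ⟨outX, x_facts.2.1⟩

/-- The second generator in the group. -/
def gT : P100 := ⟨outT, x_facts.2.2.2.2.2.2.2.2.1⟩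

theorem sigAut_gens : sigAut gX = gX ∧ ((sigAut gT : P100) : Equiv.Perm (Fin 100)) = outR := by
  constructor
  · refine Subtype.ext ?_
    show outS * outX * outS = outX
    rw [outS_rel.2.2.1, mul_assoc, outS_rel.1, mul_one]
  · show outS * outT * outS = outR
    rw [outS_rel.2.2.2, mul_assoc, outS_rel.1, mul_one]

theorem sigAut_sq : sigAut * sigAut = 1 := MulEquiv.ext fun a => sigAut.left_inv a

theorem sigAut_notMem : sigAut ∉ Inn P100 := by
  rintro ⟨g, hg⟩
  have h : (g : Equiv.Perm (Fin 100))⁻¹ * outS = 1 := by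
    refine centralizer_trivial fun a ha => ?_
    have e0 := DFunLike.congr_fun hg (⟨a, ha⟩ : P100)
    have e : outS * a * outS = (g : Equiv.Perm (Fin 100)) * a * (g : Equiv.Perm (Fin 100))⁻¹ :=
      (congrArg Subtype.val e0).symm
    calc _ = (g : Equiv.Perm (Fin 100))⁻¹ * (outS * a * outS) * outS := by
          simp [mul_assoc, outS_rel.1]
      _ = a * ((g : Equiv.Perm (Fin 100))⁻¹ * outS) := by rw [e]; group
  rw [inv_mul_eq_one] at h
  exact outS_notMem (h ▸ g.2)

theorem aut_ext {φ ψ : MulAut P100} (hx : φ gX = ψ gX) (ht : φ gT = ψ gT) : φ = ψ := by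
  refine MulEquiv.ext fun a => ?_
  have h := P100_le_of_gens (K := (φ.toMonoidHom.eqLocus ψ.toMonoidHom).map P100.subtype)
    ⟨gX, hx, rfl⟩ ⟨gT, ht, rfl⟩ a.2
  obtain ⟨b, hb, he⟩ := h
  exact Subtype.ext he ▸ hb

theorem gX_pow_conj {j : ℕ} (hj : j % 7 ≠ 0) : ∃ g : P100, gX ^ j = g * gX * g⁻¹ := by
  let nn : P100 := ⟨outN, x_facts.2.2.2.1⟩
  have hn : nn * gX * nn⁻¹ = gX ^ 3 := Subtype.ext outX_rel.2.2
  have hit : ∀ i : ℕ, nn ^ i * gX * (nn ^ i)⁻¹ = gX ^ (3 ^ i) := by
    intro i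
    induction i with
    | zero => simp
    | succ i ih =>
      rw [show nn ^ (i + 1) * gX * (nn ^ (i + 1))⁻¹ = nn * (nn ^ i * gX * (nn ^ i)⁻¹) * nn⁻¹ by
        rw [pow_succ']; group, ih, ← conj_pow, hn, ← pow_mul, pow_succ']
  obtain ⟨i, hi⟩ : ∃ i < 6, 3 ^ i % 7 = j % 7 := by
    have : ∀ m < 7, m ≠ 0 → ∃ i < 6, 3 ^ i % 7 = m := by decide
    exact this _ (Nat.mod_lt _ (by norm_num)) hj
  refine ⟨nn ^ i, ?_⟩
  rw [hit i]
  refine pow_eq_pow_iff_modEq.mpr ?_
  rw [show orderOf gX = 7 from (Subgroup.orderOf_coe gX).symm.trans orderOf_outX]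
  exact hi.2.symm

theorem image_gX (φ : MulAut P100) : ∃ g : P100, φ gX = g * gX * g⁻¹ := by
  haveI : Fact (Nat.Prime 7) := ⟨by norm_num⟩
  have hX : orderOf gX = 7 := (Subgroup.orderOf_coe gX).symm.trans orderOf_outX
  have ho : orderOf (φ gX) = 7 := by rw [MulEquiv.orderOf_eq, hX]
  have hu : IsPGroup 7 (Subgroup.zpowers (φ gX)) :=
    IsPGroup.of_card (n := 1) (by rw [Nat.card_zpowers, ho, pow_one])
  obtain ⟨P, hP⟩ := hu.exists_le_sylow
  let Q : Sylow 7 P100 := Sylow.ofCard (Subgroup.zpowers gX) (by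
    rw [Nat.card_zpowers, hX, card_P100, show (604800 : ℕ) = 7 ^ 1 * 86400 by norm_num,
      Nat.factorization_mul (by norm_num) (by norm_num), Finsupp.add_apply,
      Nat.Prime.factorization_pow (by norm_num : Nat.Prime 7), Finsupp.single_eq_same,
      Nat.factorization_eq_zero_of_not_dvd (by norm_num : ¬ 7 ∣ 86400)]
    norm_num)
  obtain ⟨g, hg⟩ := MulAction.exists_smul_eq P100 Q P
  have hu' : φ gX ∈ (P : Subgroup P100) := hP (Subgroup.mem_zpowers _)
  rw [← hg, Sylow.coe_subgroup_smul, Subgroup.mem_pointwise_smul_iff_inv_smul_mem] at hu'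
  simp only [← map_inv, MulAut.smul_def, MulAut.conj_apply, inv_inv] at hu'
  have hm : g⁻¹ * φ gX * g ∈ Subgroup.zpowers gX := hu'
  rw [← mem_powers_iff_mem_zpowers, Submonoid.mem_powers_iff] at hm
  obtain ⟨j, hj⟩ := hm
  have e : φ gX = g * gX ^ j * g⁻¹ := by rw [hj]; group
  have hj0 : j % 7 ≠ 0 := by
    intro h
    have : gX ^ j = 1 := orderOf_dvd_iff_pow_eq_one.1 (by rw [hX]; exact Nat.dvd_of_mod_eq_zero h)
    rw [this, mul_one, mul_inv_cancel] at e
    rw [e, orderOf_one] at ho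
    norm_num at ho
  obtain ⟨k, hk⟩ := gX_pow_conj hj0
  exact ⟨g * k, by rw [e, hk]; group⟩

theorem image_gT (φ : MulAut P100) : ∃ k < 315, Rep 7 (clsE k) ((φ gT : P100) : Equiv.Perm (Fin 100)) := by
  haveI : Fact (Nat.Prime 2) := ⟨Nat.prime_two⟩
  obtain ⟨y, hy, hry, g, hg, rfl⟩ := class_rep (show tIdx < 315 by decide)
  let w : P100 := ⟨outW, x_facts.2.2.2.2.2.1⟩
  let g' : P100 := ⟨g, hg⟩
  have hT : gT = g' * (w * w) * g'⁻¹ := Subtype.ext (by
    show outT = g * (outW * outW) * g⁻¹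
    rw [outW_sq]
    exact rep_unique x_facts.2.2.2.2.2.2.2.1 hry)
  have htau2 : tauP * tauP = 1 := (Q_elem tau_valid.2.1).1.resolve_right fun h =>
    tauP_ne_one (mul_left_cancel (h.trans (mul_one tauP).symm))
  have hw4 : w * w * (w * w) = 1 := Subtype.ext (by
    show outW * outW * (outW * outW) = 1
    rw [outW_sq, htau2])
  have hw2 : w * w ≠ 1 := fun e => tauP_ne_one (outW_sq ▸ congrArg Subtype.val e)
  have hpg : IsPGroup 2 (Subgroup.zpowers (φ w)) := by
    have hd : orderOf (φ w) ∣ 2 ^ 2 := orderOf_dvd_of_pow_eq_one (by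
      rw [← map_pow, show w ^ (2 ^ 2) = w * w * (w * w) by simp [pow_succ, mul_assoc], hw4, map_one])
    obtain ⟨j, -, hj⟩ := (Nat.dvd_prime_pow Nat.prime_two).1 hd
    exact IsPGroup.of_card (n := j) (by rw [Nat.card_zpowers, hj])
  obtain ⟨P, hP⟩ := hpg.exists_le_sylow
  let Q : Sylow 2 P100 := Sylow.ofCard (S100.subgroupOf P100) (by
    rw [Nat.card_congr (Subgroup.subgroupOfEquivOfLe S100_le_P100).toEquiv, card_S100, card_P100,
      show (604800 : ℕ) = 2 ^ 7 * 4725 by norm_num,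
      Nat.factorization_mul (by norm_num) (by norm_num), Finsupp.add_apply,
      Nat.Prime.factorization_pow Nat.prime_two, Finsupp.single_eq_same,
      Nat.factorization_eq_zero_of_not_dvd (by norm_num : ¬ 2 ∣ 4725)]
    norm_num)
  obtain ⟨u, hu⟩ := MulAction.exists_smul_eq P100 Q P
  have hu' : φ w ∈ (P : Subgroup P100) := hP (Subgroup.mem_zpowers _)
  rw [← hu, Sylow.coe_subgroup_smul, Subgroup.mem_pointwise_smul_iff_inv_smul_mem] at hu'
  simp only [← map_inv, MulAut.smul_def, MulAut.conj_apply, inv_inv] at hu'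
  set s : P100 := u⁻¹ * φ w * u with hs
  have hss : s * s = u⁻¹ * φ (w * w) * u := by rw [hs, map_mul]; group
  have hmem : (s : Equiv.Perm (Fin 100)) ∈ S100 := hu'
  have h2 : s * s ≠ 1 := fun e => hw2 ((MulEquiv.map_eq_one_iff φ).1 (by
    rw [show φ (w * w) = u * (s * s) * u⁻¹ by rw [hss]; group, e, mul_one, mul_inv_cancel]))
  have h4 : s * s * (s * s) = 1 := by
    rw [show s * s * (s * s) = u⁻¹ * (φ (w * w) * φ (w * w)) * u by rw [hss]; group, ← map_mul,
      hw4, map_one]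
    group
  obtain ⟨h, hh, hsq⟩ := sq_class hmem (congrArg Subtype.val h4) (fun e => h2 (Subtype.ext e))
  obtain ⟨k, hk, hrk⟩ := class_closed
    (mul_mem (mul_mem (φ g').2 u.2) hh : ((φ g' : P100) : Equiv.Perm (Fin 100)) * u * h ∈ P100)
  refine ⟨k, hk, ?_⟩
  have e : φ gT = φ g' * (u * (s * s) * u⁻¹) * (φ g')⁻¹ := by
    rw [hT, map_mul, map_mul, map_inv, show φ (w * w) = u * (s * s) * u⁻¹ by rw [hss]; group]
  rw [e]
  simp only [Subgroup.coe_mul, InvMemClass.coe_inv, hsq]
  convert hrk using 1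
  group

theorem aut_cases (φ : MulAut P100) :
    φ ∈ Inn P100 ∨ ∃ g : P100, φ = MulAut.conj g * sigAut := by
  obtain ⟨g, hg⟩ := image_gX φ
  let φ₁ : MulAut P100 := (MulAut.conj g)⁻¹ * φ
  have h1 : φ₁ gX = gX := by
    show (MulAut.conj g)⁻¹ (φ gX) = gX
    rw [hg, ← map_inv, MulAut.conj_apply]
    group
  obtain ⟨k, hk, hrk⟩ := image_gT φ₁
  obtain ⟨hx, hxP, -, -, -, -, -, ht, htP, hr, hrP⟩ := x_facts
  have hck := allBelow_spec _ _ outWit_ok k hk
  simp only [outWitOK] at hck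
  set r : P100 := φ₁ gT with hrdef
  set c := (outWit.getD k (15, [], 0)).1
  have conjCase : ∀ (m : ℕ) (e : Elt) (z : P100), Rep 7 e (z : Equiv.Perm (Fin 100)) →
      agreesBase (List.replicate m xE.1 ++ [e.1] ++ List.replicate m xE.2) (clsE k).1 = true →
      r = gX ^ m * z * (gX ^ m)⁻¹ := by
    intro m e z hz hag
    have := agreesBase_spec (List.replicate m (xE.1, outX) ++ [(e.1, (z : Equiv.Perm (Fin 100)))] ++
      List.replicate m (xE.2, outX⁻¹)) (c := (clsE k).1) (σ := r) (by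
        intro p hp
        simp only [List.mem_append, List.mem_replicate, List.mem_singleton] at hp
        rcases hp with (⟨-, rfl⟩ | rfl) | ⟨-, rfl⟩
        exacts [rep_fwd hx, rep_fwd hz, rep_bwd hx]) (rep_fwd hrk)
      (by simpa using mul_mem (pow_mem hxP m) (mul_mem z.2 (inv_mem (pow_mem hxP m))))
      r.2 (by simpa using hag)
    refine Subtype.ext ?_
    simp only [List.map_append, List.map_replicate, List.map_cons, List.map_nil, List.prod_append,
      List.prod_replicate, List.prod_cons, List.prod_nil, mul_one] at this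
    rw [← this]
    simp [gX]
  have finish : ∀ (m : ℕ) (ψ : MulAut P100), ψ gX = gX → r = gX ^ m * ψ gT * (gX ^ m)⁻¹ →
      φ = MulAut.conj (g * gX ^ m) * ψ := by
    intro m ψ hψx hψt
    have h2 : φ₁ = MulAut.conj (gX ^ m) * ψ := by
      refine aut_ext ?_ ?_
      · show φ₁ gX = gX ^ m * ψ gX * (gX ^ m)⁻¹
        rw [h1, hψx, ← pow_succ, pow_succ', mul_inv_cancel_right]
      · exact hψt
    rw [map_mul, mul_assoc, ← h2]
    simp [φ₁]
  by_cases hc7 : c < 7
  · rw [if_pos hc7] at hck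
    exact Or.inl ⟨_, (finish c 1 rfl (conjCase c _ gT ht hck)).trans (mul_one _) |>.symm⟩
  rw [if_neg hc7] at hck
  by_cases hc14 : c < 14
  · rw [if_pos hc14] at hck
    exact Or.inr ⟨_, finish (c - 7) sigAut sigAut_gens.1
      (conjCase _ _ (sigAut gT) (sigAut_gens.2.symm ▸ hr) hck)⟩
  rw [if_neg hc14] at hck
  exfalso
  set l := (outWit.getD k (15, [], 0)).2.1
  set n := (outWit.getD k (15, [], 0)).2.2
  set A := (word gX gT l n).prod
  set B := (word gX r l n).prod
  have hAB : φ₁ A = B := by rw [map_list_prod, map_word, h1]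
  have key : ∀ (e : Elt) (z : P100), Rep 7 e (z : Equiv.Perm (Fin 100)) →
      (fixesBase (wordCodes e.1 l n) = true ↔ (word gX z l n).prod = 1) := by
    intro e z hz
    have hprod : ((word (xE.1, outX) (e.1, (z : Equiv.Perm (Fin 100))) l n).map Prod.snd).prod =
        (((word gX z l n).prod : P100) : Equiv.Perm (Fin 100)) := by
      rw [SubmonoidClass.coe_list_prod, map_word, map_word]
      rfl
    have := fixesBase_iff (word (xE.1, outX) (e.1, (z : Equiv.Perm (Fin 100))) l n)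
      (fun p hp => by rcases mem_word hp with rfl | rfl; exacts [rep_fwd hx, rep_fwd hz])
      (hprod ▸ Subtype.prop _)
    rw [hprod, map_word] at this
    exact this.trans OneMemClass.coe_eq_one
  have h := Bool.eq_iff_iff.2 ((key _ r hrk).trans
    ((show B = 1 ↔ A = 1 by rw [← hAB]; exact MulEquiv.map_eq_one_iff φ₁).trans (key _ gT ht).symm))
  rw [h] at hck
  simp at hck

theorem card_out : Nat.card (Out P100) = 2 := by
  show Nat.card (MulAut P100 ⧸ Inn P100) = 2
  rw [← Subgroup.index_eq_card, Subgroup.index_eq_two_iff]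
  refine ⟨sigAut, fun b => ?_⟩
  rcases aut_cases b with hb | ⟨g, rfl⟩
  · exact Or.inr ⟨hb, fun h => sigAut_notMem (by simpa using (Inn P100).mul_mem ((Inn P100).inv_mem hb) h)⟩
  · have hg : MulAut.conj g ∈ Inn P100 := ⟨g, rfl⟩
    refine Or.inl ⟨by rw [mul_assoc, sigAut_sq, mul_one]; exact hg, fun h => sigAut_notMem ?_⟩
    simpa using (Inn P100).mul_mem ((Inn P100).inv_mem hg) h

end Cfsg.Agent.J2
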