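import Cfsg.Agent.Lib.J2.OutDefs

/-! Kernel checks for the outer automorphism group of J₂. -/

set_option autoImplicit false

namespace Cfsg.Agent.J2

open Cfsg.Agent.PermCert

theorem xt_cert : checkCert 7 100 xtGens xtDerived xtLevels = true := by decide +kernel

theorem xt_order : certOrder xtLevels = 604800 := by decide +kernel

theorem outElt_ok : outEltOK = true := by decide +kernel

theorem clos_ok : closOK = true := by decide +kernel

theorem sqClass_ok : sqClassOK = true := by decide +kernel

theorem outWit_ok : outWitOK = true := by decide +kernel

end Cfsg.Agent.J2
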