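import Cfsg.Agent.Lib.J2.OutData
import Cfsg.Agent.Lib.J2.FusDefs

/-! Definitions of the checks for the outer automorphism group of J₂. -/

set_option autoImplicit false

namespace Cfsg.Agent.J2

open Cfsg.Agent.PermCert

/-- An element of the class list. -/
def clsE (p : ℕ) : Elt := (classList.getD p ((0, 0), 0, 0)).1

/-- A list of codes fixes the base. -/
def fixesBase (cs : List ℕ) : Bool := j2Base.all fun b => Nat.beq (applyCodes 7 cs b) b

/-- A list of codes agrees with one code on the base. -/
def agreesBase (cs : List ℕ) (c : ℕ) : Bool := j2Base.all fun b => Nat.beq (applyCodes 7 cs b) (get 7 c b)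

/-- The codes of a word. -/
def wordCodes (r : ℕ) (l : List ℕ) (n : ℕ) : List ℕ :=
  (List.replicate n (l.flatMap fun a => List.replicate a xE.1 ++ [r])).flatten

/-- The elements used. -/
def outEltOK : Bool :=
  validElt 7 100 xE && sift 7 100 j2Levels xE.1 && validElt 7 100 nE && sift 7 100 j2Levels nE.1 &&
  validElt 7 100 wE && sift 7 100 j2Levels wE.1 &&
  validElt 7 100 sigE &&
  Nat.beq (comp 7 100 nE.1 xE.1) (comp 7 100 (comp 7 100 xE.1 (comp 7 100 xE.1 xE.1)) nE.1) &&
  fixesBase (List.replicate 7 xE.1) && !fixesBase [xE.1] &&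
  agreesBase [wE.1, wE.1] tauE.1 && !fixesBase [(clsE tIdx).1] &&
  Nat.beq (comp 7 100 sigE.1 sigE.1) (idCode 7 100) && !Nat.beq (get 7 sigE.1 0) 0 &&
  Nat.beq (comp 7 100 sigE.1 xE.1) (comp 7 100 xE.1 sigE.1) &&
  Nat.beq (comp 7 100 sigE.1 (clsE tIdx).1) (comp 7 100 (clsE rIdx).1 sigE.1) &&
  validElt 7 100 (clsE tIdx) && validElt 7 100 (clsE rIdx) &&
  xtGens.all (fun g => eltBeq g xE || eltBeq g (clsE tIdx)) &&
  hGens.all (fun g => validElt 7 100 g) &&
  allBelow (fun i => i = 0 || hGens.any fun g => !Nat.beq (get 7 g.1 i) i) 100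

/-- The class is closed under conjugation by the generators. -/
def closOK : Bool :=
  allBelow (fun p => allBelow (fun k =>
    let j := closIdx.getD (4 * p + k) 0
    let g := j2Gens.getD k (0, 0)
    Nat.blt j 315 && agreesBase [g.1, (clsE p).1, g.2] (clsE j).1) 4) 315 && Nat.beq j2Gens.length 4

/-- Squares in the Sylow subgroup are trivial or in the class. -/
def sqClassOK : Bool :=
  (allProds sLevels).all fun cs => fixesBase (cs ++ cs) || !fixesBase (cs ++ cs ++ cs ++ cs) ||
    classList.any fun u => agreesBase (cs ++ cs) u.1.1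

/-- Each class element is a conjugate of one of the two images or is distinguished by a word. -/
def outWitOK : Bool :=
  allBelow (fun k =>
    let r := (clsE k).1
    let w := outWit.getD k (15, [], 0)
    if w.1 < 7 then
      agreesBase (List.replicate w.1 xE.1 ++ [(clsE tIdx).1] ++ List.replicate w.1 xE.2) r
    else if w.1 < 14 then
      agreesBase (List.replicate (w.1 - 7) xE.1 ++ [(clsE rIdx).1] ++ List.replicate (w.1 - 7) xE.2) r
    else fixesBase (wordCodes r w.2.1 w.2.2) != fixesBase (wordCodes (clsE tIdx).1 w.2.1 w.2.2)) 315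

end Cfsg.Agent.J2
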