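import Cfsg.Prelude.Def_Spor_J2
import Mathlib.NumberTheory.Real.Irrational
import Mathlib.Tactic

/-! Icosians with integer coordinates: the coordinates of twice the quaternion over `ℤ[τ]`. -/

set_option autoImplicit false

noncomputable section

namespace Cfsg.Agent.J2

open Cfsg.Spor Quaternion

/-- An element `a + b τ` of `ℤ[τ]`. -/
abbrev Sc : Type := ℤ × ℤ

/-- Product in `ℤ[τ]`. -/
def smul' (x y : Sc) : Sc := (x.1 * y.1 + x.2 * y.2, x.1 * y.2 + x.2 * y.1 + x.2 * y.2)

/-- Negation in `ℤ[τ]`. -/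
def sneg (x : Sc) : Sc := (-x.1, -x.2)

/-- Sum in `ℤ[τ]`. -/
def sadd (x y : Sc) : Sc := (x.1 + y.1, x.2 + y.2)

/-- The real number `a + b τ`. -/
def sval (x : Sc) : ℝ := x.1 + x.2 * tau

/-- The real number `a + b σ`. -/
def sconj (x : Sc) : ℝ := x.1 + x.2 * sig

theorem tau_sq : tau * tau = tau + 1 := by
  unfold tau
  nlinarith [Real.mul_self_sqrt (show (0:ℝ) ≤ 5 by norm_num)]

theorem sig_sq : sig * sig = sig + 1 := by
  unfold sig
  nlinarith [Real.mul_self_sqrt (show (0:ℝ) ≤ 5 by norm_num)]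

theorem sig_eq : sig = 1 - tau := by unfold sig tau; ring

theorem sval_smul' (x y : Sc) : sval (smul' x y) = sval x * sval y := by
  simp only [sval, smul', Int.cast_add, Int.cast_mul]
  linear_combination (-(x.2 : ℝ) * y.2) * tau_sq

theorem sconj_smul' (x y : Sc) : sconj (smul' x y) = sconj x * sconj y := by
  simp only [sconj, smul', Int.cast_add, Int.cast_mul]
  linear_combination (-(x.2 : ℝ) * y.2) * sig_sq

theorem sval_sneg (x : Sc) : sval (sneg x) = -sval x := by
  simp [sval, sneg]; ring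

theorem sval_sadd (x y : Sc) : sval (sadd x y) = sval x + sval y := by
  simp [sval, sadd]; ring

theorem irrational_tau : Irrational tau := by
  have h : Irrational (Real.sqrt 5) := (Nat.prime_five).irrational_sqrt
  exact ((irrational_natCast_add_iff (n := 1)).2 h).div_natCast (show (2:ℕ) ≠ 0 by norm_num) |> fun h2 => by
    simpa [tau] using h2

theorem sval_injective : Function.Injective sval := by
  intro x y h
  simp only [sval] at h
  by_cases hb : x.2 = y.2
  · rw [hb] at h
    exact Prod.ext (by exact_mod_cast (add_right_cancel h)) hb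
  · exfalso
    have hne : ((x.2 - y.2 : ℤ) : ℝ) ≠ 0 := by exact_mod_cast sub_ne_zero.2 hb
    refine irrational_tau ⟨(((y.1 - x.1 : ℤ) : ℚ) / ((x.2 - y.2 : ℤ) : ℚ)), ?_⟩
    push_cast at hne ⊢
    rw [div_eq_iff hne]
    linear_combination -h

/-- A quaternion given by twice its coordinates. -/
structure Q where
  /-- twice the real part -/
  a : Sc
  /-- twice the `i` part -/
  b : Sc
  /-- twice the `j` part -/
  c : Sc
  /-- twice the `k` part -/
  d : Sc
deriving DecidableEq

namespace Q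

/-- Apply a function to all eight integers. -/
def mapZ (f : ℤ → ℤ) (q : Q) : Q :=
  ⟨(f q.a.1, f q.a.2), (f q.b.1, f q.b.2), (f q.c.1, f q.c.2), (f q.d.1, f q.d.2)⟩

/-- All eight integers satisfy `f`. -/
def allZ (f : ℤ → Bool) (q : Q) : Bool :=
  f q.a.1 && f q.a.2 && f q.b.1 && f q.b.2 && f q.c.1 && f q.c.2 && f q.d.1 && f q.d.2

/-- Sum. -/
def add (p q : Q) : Q := ⟨sadd p.a q.a, sadd p.b q.b, sadd p.c q.c, sadd p.d q.d⟩

/-- Negation. -/
def neg (p : Q) : Q := mapZ (fun z => -z) p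

/-- Difference. -/
def sub (p q : Q) : Q := add p (neg q)

/-- Conjugate. -/
def star (p : Q) : Q := ⟨p.a, sneg p.b, sneg p.c, sneg p.d⟩

/-- Four times the product. -/
def raw (p q : Q) : Q :=
  ⟨sadd (sadd (smul' p.a q.a) (sneg (smul' p.b q.b))) (sadd (sneg (smul' p.c q.c)) (sneg (smul' p.d q.d))),
   sadd (sadd (smul' p.a q.b) (smul' p.b q.a)) (sadd (smul' p.c q.d) (sneg (smul' p.d q.c))),
   sadd (sadd (smul' p.a q.c) (sneg (smul' p.b q.d))) (sadd (smul' p.c q.a) (smul' p.d q.b)),
   sadd (sadd (smul' p.a q.d) (smul' p.b q.c)) (sadd (sneg (smul' p.c q.b)) (smul' p.d q.a))⟩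

/-- Half. -/
def half (p : Q) : Q := mapZ (fun z => z / 2) p

/-- Double. -/
def dbl (p : Q) : Q := mapZ (fun z => 2 * z) p

/-- All integers even. -/
def evenB (p : Q) : Bool := allZ (fun z => z % 2 == 0) p

/-- Product, correct on icosians. -/
def mul (p q : Q) : Q := half (raw p q)

/-- Index of the residue modulo 2 of an integer. -/
def bit (z : ℤ) : ℕ := (z % 2).toNat

/-- Residues modulo 2 as a number below 256. -/
def res (p : Q) : ℕ :=
  bit p.a.1 + 2 * bit p.a.2 + 4 * bit p.b.1 + 8 * bit p.b.2 + 16 * bit p.c.1 + 32 * bit p.c.2 +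
    64 * bit p.d.1 + 128 * bit p.d.2

/-- The zero quaternion. -/
def zero : Q := ⟨(0, 0), (0, 0), (0, 0), (0, 0)⟩

/-- The quaternion 1. -/
def one : Q := ⟨(2, 0), (0, 0), (0, 0), (0, 0)⟩

end Q

/-- The quaternion represented by twice its coordinates. -/
def toH (p : Q) : ℍ[ℝ] := ⟨sval p.a / 2, sval p.b / 2, sval p.c / 2, sval p.d / 2⟩

@[simp] theorem toH_re (p : Q) : (toH p).re = sval p.a / 2 := rfl
@[simp] theorem toH_imI (p : Q) : (toH p).imI = sval p.b / 2 := rfl
@[simp] theorem toH_imJ (p : Q) : (toH p).imJ = sval p.c / 2 := rfl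
@[simp] theorem toH_imK (p : Q) : (toH p).imK = sval p.d / 2 := rfl

theorem toH_injective : Function.Injective toH := by
  intro p q h
  have h1 := congrArg QuaternionAlgebra.re h
  have h2 := congrArg QuaternionAlgebra.imI h
  have h3 := congrArg QuaternionAlgebra.imJ h
  have h4 := congrArg QuaternionAlgebra.imK h
  simp only [toH] at h1 h2 h3 h4
  obtain ⟨a, b, c, d⟩ := p
  obtain ⟨a', b', c', d'⟩ := q
  simp only [div_left_inj' (two_ne_zero' ℝ)] at h1 h2 h3 h4
  simp [sval_injective h1, sval_injective h2, sval_injective h3, sval_injective h4]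

theorem toH_add (p q : Q) : toH (p.add q) = toH p + toH q := by
  ext <;> simp [Q.add, sval_sadd] <;> ring

theorem toH_neg (p : Q) : toH p.neg = -toH p := by
  ext <;> simp [Q.neg, Q.mapZ, sval] <;> ring

theorem toH_sub (p q : Q) : toH (p.sub q) = toH p - toH q := by
  rw [Q.sub, toH_add, toH_neg, sub_eq_add_neg]

theorem toH_zero : toH Q.zero = 0 := by
  ext <;> simp [Q.zero, sval]

theorem toH_one : toH Q.one = 1 := by
  ext <;> simp [Q.one, sval]

theorem toH_star (p : Q) : toH p.star = star (toH p) := by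
  ext <;> simp [Q.star, sval_sneg] <;> ring

theorem toH_dbl (p : Q) : toH p.dbl = toH p + toH p := by
  ext <;> simp [Q.dbl, Q.mapZ, sval] <;> ring

theorem toH_raw (p q : Q) : toH (p.raw q) = toH p * toH q + toH p * toH q := by
  ext <;> simp [Q.raw, sval_sadd, sval_sneg, sval_smul'] <;> ring

theorem toH_half (p : Q) (h : p.evenB = true) : toH p.half + toH p.half = toH p := by
  rw [← toH_dbl]
  congr 1
  obtain ⟨⟨a1, a2⟩, ⟨b1, b2⟩, ⟨c1, c2⟩, ⟨d1, d2⟩⟩ := p
  simp only [Q.evenB, Q.allZ, Bool.and_eq_true, beq_iff_eq] at h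
  simp only [Q.dbl, Q.half, Q.mapZ, Q.mk.injEq, Prod.mk.injEq]
  omega

end Cfsg.Agent.J2
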