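import Cfsg.Agent.Lib.J2.Ring

/-! Vectors of the icosian Leech lattice, reflections and the automorphisms they generate. -/

set_option autoImplicit false
set_option linter.unusedSimpArgs false

noncomputable section

namespace Cfsg.Agent.J2

open Cfsg.Spor Quaternion

/-- A triple of quaternions with integer coordinates. -/
structure V where
  /-- first coordinate -/
  x : Q
  /-- second coordinate -/
  y : Q
  /-- third coordinate -/
  z : Q
deriving DecidableEq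

namespace V

/-- All coordinates are icosians. -/
def inI (v : V) : Bool := v.x.inI && v.y.inI && v.z.inI

/-- Membership in the icosian Leech lattice. -/
def inL (v : V) : Bool :=
  v.inI && inIdeal (v.x.sub v.y) Q.h && inIdeal (v.y.sub v.z) Q.h &&
    inIdeal ((v.x.add v.y).add v.z) Q.h.star

/-- The Hermitian product. -/
def ip (v r : V) : Q :=
  ((v.x.mul r.x.star).add (v.y.mul r.y.star)).add (v.z.mul r.z.star)

/-- Left multiplication by a quaternion. -/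
def lmul (s : Q) (v : V) : V := ⟨s.mul v.x, s.mul v.y, s.mul v.z⟩

/-- The reflection in `r`. -/
def refl (r v : V) : V :=
  let s := (ip v r).half
  ⟨v.x.sub (s.mul r.x), v.y.sub (s.mul r.y), v.z.sub (s.mul r.z)⟩

end V

/-- The vector represented by integer coordinates. -/
def toV (v : V) : Fin 3 → ℍ[ℝ] := ![toH v.x, toH v.y, toH v.z]

@[simp] theorem toV_zero (v : V) : toV v 0 = toH v.x := rfl
@[simp] theorem toV_one (v : V) : toV v 1 = toH v.y := rfl
@[simp] theorem toV_two (v : V) : toV v 2 = toH v.z := rfl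

theorem toV_injective : Function.Injective toV := by
  intro v w h
  have h0 := toH_injective (congrFun h 0)
  have h1 := toH_injective (congrFun h 1)
  have h2 := toH_injective (congrFun h 2)
  cases v; cases w
  simp_all

theorem inI_sub {p q : Q} (hp : p.inI = true) (hq : q.inI = true) : (p.sub q).inI = true :=
  inI_add hp (inI_neg hq)

theorem V.inI_iff (v : V) :
    v.inI = true ↔ v.x.inI = true ∧ v.y.inI = true ∧ v.z.inI = true := by
  simp [V.inI, and_assoc]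

theorem forall3 {P : Fin 3 → Prop} : (∀ t, P t) ↔ P 0 ∧ P 1 ∧ P 2 :=
  ⟨fun h => ⟨h 0, h 1, h 2⟩, fun ⟨a, b, c⟩ t => by fin_cases t <;> assumption⟩

theorem inL_iff (v : V) : v.inL = true ↔ toV v ∈ icoLeech := by
  simp only [V.inL, Bool.and_eq_true, V.inI_iff, icoLeech, Set.mem_ofPred_eq, forall3,
    toV_zero, toV_one, toV_two, ← inI_iff_mem]
  constructor
  · rintro ⟨⟨⟨⟨hx, hy, hz⟩, h1⟩, h2⟩, h3⟩
    rw [inIdeal_h (inI_sub hx hy), toH_sub] at h1
    rw [inIdeal_h (inI_sub hy hz), toH_sub] at h2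
    rw [inIdeal_hbar (inI_add (inI_add hx hy) hz), toH_add, toH_add] at h3
    exact ⟨⟨hx, hy, hz⟩, h1, h2, h3⟩
  · rintro ⟨⟨hx, hy, hz⟩, h1, h2, h3⟩
    refine ⟨⟨⟨⟨hx, hy, hz⟩, ?_⟩, ?_⟩, ?_⟩
    · rwa [inIdeal_h (inI_sub hx hy), toH_sub]
    · rwa [inIdeal_h (inI_sub hy hz), toH_sub]
    · rwa [inIdeal_hbar (inI_add (inI_add hx hy) hz), toH_add, toH_add]

theorem exists_toV {v : Fin 3 → ℍ[ℝ]} (hv : ∀ t, v t ∈ icosians) :
    ∃ w : V, w.inI = true ∧ toV w = v := by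
  obtain ⟨a, ha, ea⟩ := (mem_icosians_iff _).1 (hv 0)
  obtain ⟨b, hb, eb⟩ := (mem_icosians_iff _).1 (hv 1)
  obtain ⟨c, hc, ec⟩ := (mem_icosians_iff _).1 (hv 2)
  refine ⟨⟨a, b, c⟩, by simp [V.inI_iff, ha, hb, hc], ?_⟩
  funext t
  fin_cases t <;> simp [toV, ea, eb, ec]

theorem toH_ip {v r : V} (hv : v.inI = true) (hr : r.inI = true) :
    toH (v.ip r) = qip (toV v) (toV r) := by
  rw [V.inI_iff] at hv hr
  simp [V.ip, toH_add, qip, Fin.sum_univ_three, toH_mul hv.1 (inI_star hr.1),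
    toH_mul hv.2.1 (inI_star hr.2.1), toH_mul hv.2.2 (inI_star hr.2.2), toH_star]

theorem inI_ip {v r : V} (hv : v.inI = true) (hr : r.inI = true) : (v.ip r).inI = true := by
  rw [V.inI_iff] at hv hr
  exact inI_add (inI_add (inI_mul hv.1 (inI_star hr.1)) (inI_mul hv.2.1 (inI_star hr.2.1)))
    (inI_mul hv.2.2 (inI_star hr.2.2))

/-! ### Algebra of `qip` and `qrefl` -/

theorem qip_add_left (x y r : Fin 3 → ℍ[ℝ]) : qip (x + y) r = qip x r + qip y r := by
  simp [qip, add_mul, Finset.sum_add_distrib]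

theorem qip_sub_left (x y r : Fin 3 → ℍ[ℝ]) : qip (x - y) r = qip x r - qip y r := by
  simp [qip, sub_mul, Finset.sum_sub_distrib]

theorem qip_smul_left (a : ℍ[ℝ]) (x r : Fin 3 → ℍ[ℝ]) :
    qip (fun t => a * x t) r = a * qip x r := by
  simp [qip, Finset.mul_sum, mul_assoc]

theorem qip_smul_right (a : ℍ[ℝ]) (x r : Fin 3 → ℍ[ℝ]) :
    qip x (fun t => a * r t) = qip x r * star a := by
  simp [qip, Finset.sum_mul, mul_assoc]

theorem qip_sub_right (x y r : Fin 3 → ℍ[ℝ]) : qip r (x - y) = qip r x - qip r y := by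
  simp [qip, mul_sub, Finset.sum_sub_distrib]

theorem star_qip (x r : Fin 3 → ℍ[ℝ]) : star (qip x r) = qip r x := by
  simp [qip, star_sum]

theorem qrefl_eq (r x : Fin 3 → ℍ[ℝ]) :
    qrefl r x = x - (fun t => ((1 / 2 : ℝ) • qip x r) * r t) := rfl

theorem qrefl_add (r x y : Fin 3 → ℍ[ℝ]) : qrefl r (x + y) = qrefl r x + qrefl r y := by
  funext t
  simp [qrefl, qip_add_left, smul_add, add_mul]; abel

theorem qrefl_smul (a : ℍ[ℝ]) (r x : Fin 3 → ℍ[ℝ]) :
    qrefl r (fun t => a * x t) = fun t => a * qrefl r x t := by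
  funext t
  simp [qrefl, qip_smul_left, mul_sub, mul_assoc, mul_smul_comm, smul_mul_assoc]

theorem four_eq : (4 : ℍ[ℝ]) = (4 : ℝ) • (1 : ℍ[ℝ]) := by
  ext <;> simp [show (4 : ℍ[ℝ]) = ((4 : ℝ) : ℍ[ℝ]) from by norm_cast]

theorem qip_qrefl {r : Fin 3 → ℍ[ℝ]} (hr : qip r r = 4) (x y : Fin 3 → ℍ[ℝ]) :
    qip (qrefl r x) (qrefl r y) = qip x y := by
  rw [qrefl_eq, qrefl_eq, qip_sub_left, qip_sub_right, qip_sub_right, qip_smul_left, qip_smul_left,
    qip_smul_right, qip_smul_right, hr, Quaternion.star_smul, star_qip, four_eq]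
  simp only [smul_mul_assoc, mul_smul_comm, one_mul, smul_smul]
  module

theorem qrefl_invol {r : Fin 3 → ℍ[ℝ]} (hr : qip r r = 4) (x : Fin 3 → ℍ[ℝ]) :
    qrefl r (qrefl r x) = x := by
  have h : qip (qrefl r x) r = -qip x r := by
    rw [qrefl_eq, qip_sub_left, qip_smul_left, hr, four_eq, mul_smul_comm, mul_one, smul_smul]
    module
  funext t
  show qrefl r x t - ((1 / 2 : ℝ) • qip (qrefl r x) r) * r t = x t
  rw [h]
  simp [qrefl]

theorem qrefl_self {r : Fin 3 → ℍ[ℝ]} (hr : qip r r = 4) : qrefl r r = -r := by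
  funext t
  simp only [qrefl, hr, four_eq, smul_smul, Pi.neg_apply, smul_mul_assoc, one_mul]
  module

theorem qrefl_scalar (u : ℍ[ℝ]) (hu : star u * u = 1) (r x : Fin 3 → ℍ[ℝ]) :
    qrefl (fun t => u * r t) x = qrefl r x := by
  funext t
  simp only [qrefl, qip_smul_right, smul_mul_assoc, mul_assoc]
  rw [← mul_assoc (star u), hu, one_mul]

/-! ### The lattice -/

theorem leech_sub {x y : Fin 3 → ℍ[ℝ]} (hx : x ∈ icoLeech) (hy : y ∈ icoLeech) :
    x - y ∈ icoLeech := by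
  obtain ⟨h1, ⟨a, ha, e1⟩, ⟨b, hb, e2⟩, ⟨c, hc, e3⟩⟩ := hx
  obtain ⟨k1, ⟨a', ha', f1⟩, ⟨b', hb', f2⟩, ⟨c', hc', f3⟩⟩ := hy
  refine ⟨fun t => sub_mem (h1 t) (k1 t), ⟨a - a', sub_mem ha ha', ?_⟩,
    ⟨b - b', sub_mem hb hb', ?_⟩, ⟨c - c', sub_mem hc hc', ?_⟩⟩
  · rw [sub_mul, ← e1, ← f1]; simp only [Pi.sub_apply]; abel
  · rw [sub_mul, ← e2, ← f2]; simp only [Pi.sub_apply]; abel
  · rw [sub_mul, ← e3, ← f3]; simp only [Pi.sub_apply]; abel

theorem leech_smul {a : ℍ[ℝ]} (ha : a ∈ icosians) {x : Fin 3 → ℍ[ℝ]} (hx : x ∈ icoLeech) :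
    (fun t => a * x t) ∈ icoLeech := by
  obtain ⟨h1, ⟨b, hb, e1⟩, ⟨c, hc, e2⟩, ⟨d, hd, e3⟩⟩ := hx
  refine ⟨fun t => mul_mem ha (h1 t), ⟨a * b, mul_mem ha hb, ?_⟩, ⟨a * c, mul_mem ha hc, ?_⟩,
    ⟨a * d, mul_mem ha hd, ?_⟩⟩
  · rw [mul_assoc, ← e1, mul_sub]
  · rw [mul_assoc, ← e2, mul_sub]
  · rw [mul_assoc, ← e3, mul_add, mul_add]

/-- Three generators of the lattice as a left module. -/
def latGen : List V :=
  [⟨Q.zero, Q.h.neg, Q.h.neg⟩, ⟨Q.h.neg, Q.h.neg, Q.zero⟩, ⟨Q.h.star, Q.h.star, Q.h.star⟩]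

/-- The products of `r` with the lattice lie in twice the icosians. -/
def evenIp (r : V) : Bool := latGen.all fun g => (g.ip r).evenB && (g.ip r).half.inI

theorem leech_decomp {x : Fin 3 → ℍ[ℝ]} (hx : x ∈ icoLeech) :
    ∃ a ∈ icosians, ∃ b ∈ icosians, ∃ c ∈ icosians,
      x 0 = b * -icoH + c * star icoH ∧
      x 1 = a * -icoH + b * -icoH + c * star icoH ∧
      x 2 = a * -icoH + c * star icoH := by
  obtain ⟨hI, ⟨a, ha, e1⟩, ⟨b, hb, e2⟩, ⟨d, hd, e3⟩⟩ := hx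
  refine ⟨a, ha, -b, neg_mem hb, d - x 1 * icoH, sub_mem hd (mul_mem (hI 1) ?_), ?_⟩
  · rw [← toH_h]; exact (inI_iff_mem _).1 h_inI
  · have e4 : x 1 * icoH * star icoH = x 1 + x 1 := by
      rw [mul_assoc, icoH_mul.1, mul_two]
    simp only [sub_mul, e4, ← e3, mul_neg, neg_mul, neg_neg, ← e1, ← e2]
    refine ⟨by abel, by abel, by abel⟩

theorem qip_even {r : V} (hr : r.inI = true) (h : evenIp r = true) {x : Fin 3 → ℍ[ℝ]}
    (hx : x ∈ icoLeech) : (1 / 2 : ℝ) • qip x (toV r) ∈ icosians := by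
  have hg : ∀ g ∈ latGen, (1 / 2 : ℝ) • qip (toV g) (toV r) ∈ icosians := by
    intro g hg
    have hgI : g.inI = true := by
      have : latGen.all V.inI = true := by decide +kernel
      exact List.all_eq_true.1 this g hg
    have := List.all_eq_true.1 h g hg
    rw [Bool.and_eq_true] at this
    rw [← toH_ip hgI hr, ← toH_half _ this.1, smul_add, ← add_smul]
    norm_num
    exact (inI_iff_mem _).1 this.2
  obtain ⟨a, ha, b, hb, c, hc, h0, h1, h2⟩ := leech_decomp hx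
  have hx' : x = (fun t => a * toV latGen[0] t) + (fun t => b * toV latGen[1] t) +
      (fun t => c * toV latGen[2] t) := by
    funext t
    fin_cases t <;> simp [h0, h1, h2, latGen, toH_neg, toH_star, toH_h, toH_zero]
  rw [hx', qip_add_left, qip_add_left, qip_smul_left, qip_smul_left, qip_smul_left, smul_add,
    smul_add, ← mul_smul_comm, ← mul_smul_comm, ← mul_smul_comm]
  exact add_mem (add_mem (mul_mem ha (hg _ (List.getElem_mem (by simp [latGen]))))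
    (mul_mem hb (hg _ (List.getElem_mem (by simp [latGen])))))
    (mul_mem hc (hg _ (List.getElem_mem (by simp [latGen]))))

theorem qrefl_mem {r : V} (hr : r.inL = true) (he : evenIp r = true) {x : Fin 3 → ℍ[ℝ]}
    (hx : x ∈ icoLeech) : qrefl (toV r) x ∈ icoLeech := by
  have hI : r.inI = true := by simp only [V.inL, Bool.and_eq_true] at hr; exact hr.1.1.1
  exact leech_sub hx (leech_smul (qip_even hI he hx) ((inL_iff r).1 hr))

theorem exists_refl {r : V} (hr : r.inL = true) (he : evenIp r = true)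
    (hn : qip (toV r) (toV r) = 4) :
    ∃ f : Equiv.Perm icoLeech,
      ∀ x : icoLeech, ((f x : icoLeech) : Fin 3 → ℍ[ℝ]) = qrefl (toV r) (x : Fin 3 → ℍ[ℝ]) := by
  let φ : icoLeech → icoLeech := fun x => ⟨qrefl (toV r) x, qrefl_mem hr he x.2⟩
  have hinv : Function.Involutive φ := fun x => Subtype.ext (qrefl_invol hn _)
  exact ⟨hinv.toPerm, fun x => rfl⟩

theorem toV_refl {r v : V} (hr : r.inI = true) (hv : v.inI = true) (he : (v.ip r).evenB = true)
    (hi : (v.ip r).half.inI = true) : toV (V.refl r v) = qrefl (toV r) (toV v) := by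
  have hs : toH (v.ip r).half = (1 / 2 : ℝ) • qip (toV v) (toV r) := by
    rw [← toH_ip hv hr, ← toH_half _ he, smul_add, ← add_smul]; norm_num
  rw [V.inI_iff] at hr
  funext t
  fin_cases t <;> simp [V.refl, qrefl, toH_sub, toH_mul hi hr.1, toH_mul hi hr.2.1,
    toH_mul hi hr.2.2, hs]

/-! ### Automorphisms of the lattice -/

theorem perm_apply_inv {α : Type*} (g : Equiv.Perm α) (x : α) : g (g⁻¹ x) = x := g.apply_symm_apply x

theorem perm_inv_apply {α : Type*} (g : Equiv.Perm α) (x : α) : g⁻¹ (g x) = x := g.symm_apply_apply x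

/-- Left-linear isometry of the lattice. -/
structure IsAut (g : Equiv.Perm icoLeech) : Prop where
  map_add : ∀ x y z : icoLeech, (z : Fin 3 → ℍ[ℝ]) = x + y →
    (g z : Fin 3 → ℍ[ℝ]) = (g x : Fin 3 → ℍ[ℝ]) + (g y : Fin 3 → ℍ[ℝ])
  map_smul : ∀ a ∈ icosians, ∀ x z : icoLeech, (z : Fin 3 → ℍ[ℝ]) = (fun t => a * (x : Fin 3 → ℍ[ℝ]) t) →
    (g z : Fin 3 → ℍ[ℝ]) = fun t => a * (g x : Fin 3 → ℍ[ℝ]) t
  map_qip : ∀ x y : icoLeech, qip (g x : Fin 3 → ℍ[ℝ]) (g y) = qip (x : Fin 3 → ℍ[ℝ]) y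

theorem IsAut.map_sub {g : Equiv.Perm icoLeech} (hg : IsAut g) {x y z : icoLeech}
    (h : (z : Fin 3 → ℍ[ℝ]) = x - y) :
    (g z : Fin 3 → ℍ[ℝ]) = (g x : Fin 3 → ℍ[ℝ]) - (g y : Fin 3 → ℍ[ℝ]) := by
  rw [eq_sub_iff_add_eq]
  exact (hg.map_add z y x (by rw [h]; abel)).symm

theorem isAut_refl {f : Equiv.Perm icoLeech} (hf : IsIcoReflection f) : IsAut f := by
  obtain ⟨r, hr, h⟩ := hf
  refine ⟨fun x y z e => ?_, fun a _ x z e => ?_, fun x y => ?_⟩
  · rw [h, h, h, e, qrefl_add]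
  · rw [h, h, e, qrefl_smul]
  · rw [h, h, qip_qrefl hr]

theorem isAut_of_mem {g : Equiv.Perm icoLeech} (hg : g ∈ twoJ2) : IsAut g := by
  induction hg using Subgroup.closure_induction with
  | mem f hf => exact isAut_refl hf
  | one => exact ⟨fun _ _ _ e => e, fun _ _ _ _ e => e, fun _ _ => rfl⟩
  | mul a b _ _ ha hb =>
    refine ⟨fun x y z e => ha.map_add _ _ _ (hb.map_add x y z e),
      fun c hc x z e => ha.map_smul c hc _ _ (hb.map_smul c hc x z e),
      fun x y => (ha.map_qip _ _).trans (hb.map_qip x y)⟩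
  | inv a _ ha =>
    refine ⟨fun x y z e => ?_, fun c hc x z e => ?_, fun x y => ?_⟩
    · have hm : (a⁻¹ x : Fin 3 → ℍ[ℝ]) + (a⁻¹ y : Fin 3 → ℍ[ℝ]) ∈ icoLeech := by
        have h0 := leech_sub (a⁻¹ x).2 (leech_sub (leech_sub (a⁻¹ y).2 (a⁻¹ y).2) (a⁻¹ y).2)
        convert h0 using 1
        abel
      have : a ⟨_, hm⟩ = z := by
        apply Subtype.ext
        rw [ha.map_add (a⁻¹ x) (a⁻¹ y) ⟨_, hm⟩ rfl, perm_apply_inv,
          perm_apply_inv, e]
      rw [← this, perm_inv_apply]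
    · have : a ⟨_, leech_smul hc (a⁻¹ x).2⟩ = z := by
        apply Subtype.ext
        rw [ha.map_smul c hc (a⁻¹ x) ⟨_, leech_smul hc (a⁻¹ x).2⟩ rfl,
          perm_apply_inv, e]
      rw [← this, perm_inv_apply]
    · rw [← ha.map_qip, perm_apply_inv, perm_apply_inv]

theorem conj_refl {g f : Equiv.Perm icoLeech} (hg : IsAut g) {r : icoLeech}
    (hr : qip (r : Fin 3 → ℍ[ℝ]) r = 4)
    (hf : ∀ x : icoLeech, (f x : Fin 3 → ℍ[ℝ]) = qrefl (r : Fin 3 → ℍ[ℝ]) x)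
    (he : ∀ x : icoLeech, (1 / 2 : ℝ) • qip (x : Fin 3 → ℍ[ℝ]) r ∈ icosians) :
    ∀ x : icoLeech, ((g * f * g⁻¹) x : Fin 3 → ℍ[ℝ]) =
      qrefl (g r : Fin 3 → ℍ[ℝ]) (x : Fin 3 → ℍ[ℝ]) := by
  intro x
  obtain ⟨y, rfl⟩ := g.surjective x
  simp only [Equiv.Perm.mul_apply, perm_inv_apply]
  have h1 := hg.map_sub (z := f y) (x := y)
    (y := ⟨_, leech_smul (he y) r.2⟩) (by rw [hf]; rfl)
  rw [h1, hg.map_smul _ (he y) r ⟨_, leech_smul (he y) r.2⟩ rfl, qrefl_eq, hg.map_qip]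

end Cfsg.Agent.J2
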