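import Cfsg.Agent.Lib.J2.UnitData

/-! Membership in the icosian ring and in the ideals `I h`, `I h̄`. -/

set_option autoImplicit false

noncomputable section

namespace Cfsg.Agent.J2

open Cfsg.Spor Quaternion

namespace Q

/-- The four parity conditions cutting out the icosians. -/
def inI (p : Q) : Bool :=
  (p.c.1 + p.b.2 + p.b.1 + p.a.2) % 2 == 0 && (p.c.2 + p.b.1 + p.a.2 + p.a.1) % 2 == 0 &&
    (p.d.1 + p.b.2 + p.a.2 + p.a.1) % 2 == 0 && (p.d.2 + p.b.2 + p.b.1 + p.a.1) % 2 == 0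

theorem inI_iff (p : Q) : p.inI = true ↔
    2 ∣ (p.c.1 + p.b.2 + p.b.1 + p.a.2) ∧ 2 ∣ (p.c.2 + p.b.1 + p.a.2 + p.a.1) ∧
    2 ∣ (p.d.1 + p.b.2 + p.a.2 + p.a.1) ∧ 2 ∣ (p.d.2 + p.b.2 + p.b.1 + p.a.1) := by
  simp only [inI, Bool.and_eq_true, beq_iff_eq, Int.dvd_iff_emod_eq_zero, and_assoc]

theorem evenB_iff (p : Q) : p.evenB = true ↔ 2 ∣ p.a.1 ∧ 2 ∣ p.a.2 ∧ 2 ∣ p.b.1 ∧ 2 ∣ p.b.2 ∧
    2 ∣ p.c.1 ∧ 2 ∣ p.c.2 ∧ 2 ∣ p.d.1 ∧ 2 ∣ p.d.2 := by
  simp only [evenB, allZ, Bool.and_eq_true, beq_iff_eq, Int.dvd_iff_emod_eq_zero, and_assoc]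

/-- The generator `i`. -/
def gI : Q := ⟨(0, 0), (2, 0), (0, 0), (0, 0)⟩

/-- The generator `ω`. -/
def gW : Q := ⟨(1, 0), (1, -1), (0, 0), (0, 1)⟩

/-- The icosian `h`. -/
def h : Q := ⟨(1, -2), (1, 0), (1, 0), (1, 0)⟩

/-- A basis of the icosian ring, each vector as a sum of (at most two) units. -/
def basis : List (ℕ × Option ℕ) :=
  [(9, some 86), (5, some 29), (5, some 77), (2, some 20), (115, none), (5, some 13), (119, none),
    (2, some 9)]

/-- The basis vectors. -/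
def basisVec : List Q :=
  [⟨(0,0),(0,1),(1,0),(1,1)⟩, ⟨(0,0),(1,0),(1,1),(0,1)⟩, ⟨(0,1),(0,0),(1,1),(1,0)⟩,
    ⟨(1,0),(0,0),(0,1),(1,1)⟩, ⟨(0,0),(0,0),(2,0),(0,0)⟩, ⟨(0,0),(0,0),(0,2),(0,0)⟩,
    ⟨(0,0),(0,0),(0,0),(2,0)⟩, ⟨(0,0),(0,0),(0,0),(0,2)⟩]

/-- Integer coordinates with respect to the basis. -/
def coef (p : Q) : List ℤ :=
  [p.b.2, p.b.1, p.a.2, p.a.1, (p.c.1 - p.b.2 - p.b.1 - p.a.2) / 2,
    (p.c.2 - p.b.1 - p.a.2 - p.a.1) / 2, (p.d.1 - p.b.2 - p.a.2 - p.a.1) / 2,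
    (p.d.2 - p.b.2 - p.b.1 - p.a.1) / 2]

/-- The unit with a given index. -/
def unit (k : ℕ) : Q := unitList.getD k one

/-- The basis vector as a sum of units. -/
def basisSum (t : ℕ × Option ℕ) : Q :=
  match t.2 with
  | none => unit t.1
  | some j => add (unit t.1) (unit j)

end Q

theorem toH_gI : toH Q.gI = qI := by
  ext <;> simp [Q.gI, qI, sval]

theorem toH_gW : toH Q.gW = ⟨1 / 2, sig / 2, 0, tau / 2⟩ := by
  ext <;> simp [Q.gW, sval, sig_eq] <;> ring

theorem toH_h : toH Q.h = icoH := by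
  ext <;> simp [Q.h, icoH, sval, tau] <;> ring

/-- The tree of units is correct. -/
theorem unitTree_ok :
    (List.range unitTree.length).all (fun k =>
      let t := unitTree.getD k (Q.one, 0, false)
      let g := if t.2.2 then Q.gW else Q.gI
      Nat.ble t.2.1 k && decide (Q.raw (Q.unit t.2.1) g = Q.dbl t.1)) = true := by
  decide +kernel

theorem unit_mem : ∀ k, toH (Q.unit k) ∈ icosians := by
  intro k
  induction k using Nat.strong_induction_on with
  | _ k ih =>
    rcases k with _ | k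
    · simp only [Q.unit, unitList, List.getD_cons_zero, toH_one]
      exact one_mem _
    · by_cases hk : k < unitTree.length
      · have h := List.all_eq_true.1 unitTree_ok k (List.mem_range.2 hk)
        simp only [Bool.and_eq_true, Nat.ble_eq, decide_eq_true_eq] at h
        set t := unitTree.getD k (Q.one, 0, false) with ht
        have hu : Q.unit (k + 1) = t.1 := by
          rw [Q.unit, unitList, List.getD_cons_succ, List.getD_eq_getElem _ _ (by simpa using hk),
            List.getElem_map, ht, List.getD_eq_getElem _ _ hk]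
        have hg : toH (if t.2.2 then Q.gW else Q.gI) ∈ icosians := by
          split
          · rw [toH_gW]; exact Subring.subset_closure (Or.inr rfl)
          · rw [toH_gI]; exact Subring.subset_closure (Or.inl rfl)
        have e := congrArg toH h.2
        rw [toH_raw, toH_dbl] at e
        have e2 : toH (Q.unit t.2.1) * toH (if t.2.2 then Q.gW else Q.gI) = toH t.1 := by
          have := congrArg (fun z : ℍ[ℝ] => (1 / 2 : ℝ) • z) e
          simp only [smul_add, ← add_smul] at this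
          norm_num at this
          exact this
        rw [hu, ← e2]
        exact mul_mem (ih _ (by omega)) hg
      · rw [Q.unit, unitList, List.getD_cons_succ,
          List.getD_eq_default _ _ (by simpa using Nat.le_of_not_lt hk), toH_one]
        exact one_mem _

theorem basis_ok : Q.basis.map Q.basisSum = Q.basisVec := by decide +kernel

theorem basisVec_mem : ∀ v ∈ Q.basisVec, toH v ∈ icosians := by
  intro v hv
  rw [← basis_ok] at hv
  obtain ⟨⟨a, b⟩, -, rfl⟩ := List.mem_map.1 hv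
  cases b with
  | none => exact unit_mem a
  | some j => simp only [Q.basisSum, toH_add]; exact add_mem (unit_mem a) (unit_mem j)

/-- Combination with integer coefficients. -/
def comb : List ℤ → List Q → ℍ[ℝ]
  | k :: ks, v :: vs => k • toH v + comb ks vs
  | _, _ => 0

theorem comb_mem : ∀ (ks : List ℤ) (vs : List Q), (∀ v ∈ vs, toH v ∈ icosians) →
    comb ks vs ∈ icosians := by
  intro ks
  induction ks with
  | nil => intro vs _; exact zero_mem _
  | cons k ks ih =>
    intro vs h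
    cases vs with
    | nil => exact zero_mem _
    | cons v vs =>
      exact add_mem (zsmul_mem (h v (by simp)) k) (ih vs fun w hw => h w (by simp [hw]))

theorem comb_coef (p : Q) (hp : p.inI = true) : comb p.coef Q.basisVec = toH p := by
  rw [Q.inI_iff] at hp
  obtain ⟨⟨e, he⟩, ⟨f, hf⟩, ⟨g, hg⟩, ⟨m, hm⟩⟩ := hp
  have he' : (p.c.1 - p.b.2 - p.b.1 - p.a.2) / 2 = e - p.b.2 - p.b.1 - p.a.2 := by omega
  have hf' : (p.c.2 - p.b.1 - p.a.2 - p.a.1) / 2 = f - p.b.1 - p.a.2 - p.a.1 := by omega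
  have hg' : (p.d.1 - p.b.2 - p.a.2 - p.a.1) / 2 = g - p.b.2 - p.a.2 - p.a.1 := by omega
  have hm' : (p.d.2 - p.b.2 - p.b.1 - p.a.1) / 2 = m - p.b.2 - p.b.1 - p.a.1 := by omega
  simp only [Q.coef, Q.basisVec, comb, he', hf', hg', hm']
  have he2 : (p.c.1 : ℝ) = 2 * e - p.b.2 - p.b.1 - p.a.2 := by
    exact_mod_cast (show p.c.1 = 2 * e - p.b.2 - p.b.1 - p.a.2 by omega)
  have hf2 : (p.c.2 : ℝ) = 2 * f - p.b.1 - p.a.2 - p.a.1 := by
    exact_mod_cast (show p.c.2 = 2 * f - p.b.1 - p.a.2 - p.a.1 by omega)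
  have hg2 : (p.d.1 : ℝ) = 2 * g - p.b.2 - p.a.2 - p.a.1 := by
    exact_mod_cast (show p.d.1 = 2 * g - p.b.2 - p.a.2 - p.a.1 by omega)
  have hm2 : (p.d.2 : ℝ) = 2 * m - p.b.2 - p.b.1 - p.a.1 := by
    exact_mod_cast (show p.d.2 = 2 * m - p.b.2 - p.b.1 - p.a.1 by omega)
  ext <;> simp [sval, he2, hf2, hg2, hm2] <;> ring

theorem toH_mem_of_inI (p : Q) (hp : p.inI = true) : toH p ∈ icosians := by
  rw [← comb_coef p hp]
  exact comb_mem _ _ basisVec_mem

theorem inI_add {p q : Q} (hp : p.inI = true) (hq : q.inI = true) : (p.add q).inI = true := by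
  simp only [Q.inI_iff, Q.add, sadd] at hp hq ⊢
  omega

theorem inI_neg {p : Q} (hp : p.inI = true) : p.neg.inI = true := by
  simp only [Q.inI_iff, Q.neg, Q.mapZ] at hp ⊢
  omega

theorem inI_star {p : Q} (hp : p.inI = true) : p.star.inI = true := by
  simp only [Q.inI_iff, Q.star, sneg] at hp ⊢
  omega

theorem inI_mul_gI {p : Q} (hp : p.inI = true) :
    (p.raw Q.gI).evenB = true ∧ (p.mul Q.gI).inI = true := by
  simp only [Q.inI_iff, Q.evenB_iff, Q.mul, Q.half, Q.mapZ, Q.raw, Q.gI, sadd, sneg, smul'] at hp ⊢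
  omega

theorem inI_mul_gW {p : Q} (hp : p.inI = true) :
    (p.raw Q.gW).evenB = true ∧ (p.mul Q.gW).inI = true := by
  simp only [Q.inI_iff, Q.evenB_iff, Q.mul, Q.half, Q.mapZ, Q.raw, Q.gW, sadd, sneg, smul'] at hp ⊢
  omega

theorem toH_mul_of_even {p q : Q} (h : (p.raw q).evenB = true) :
    toH (p.mul q) = toH p * toH q := by
  have e := toH_half _ h
  rw [toH_raw] at e
  have := congrArg (fun z : ℍ[ℝ] => (1 / 2 : ℝ) • z) e
  simp only [smul_add, ← add_smul] at this
  norm_num at this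
  exact this

/-- The icosians described by integer coordinates. -/
theorem mem_icosians_iff (x : ℍ[ℝ]) : x ∈ icosians ↔ ∃ p : Q, p.inI = true ∧ toH p = x := by
  refine ⟨?_, fun ⟨p, hp, e⟩ => e ▸ toH_mem_of_inI p hp⟩
  let M : AddSubgroup ℍ[ℝ] :=
    { carrier := {x | ∃ p : Q, p.inI = true ∧ toH p = x}
      zero_mem' := ⟨Q.zero, by decide, toH_zero⟩
      add_mem' := by
        rintro _ _ ⟨p, hp, rfl⟩ ⟨q, hq, rfl⟩
        exact ⟨p.add q, inI_add hp hq, toH_add p q⟩
      neg_mem' := by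
        rintro _ ⟨p, hp, rfl⟩
        exact ⟨p.neg, inI_neg hp, toH_neg p⟩ }
  let S : Subring ℍ[ℝ] :=
    { carrier := {y | ∀ x ∈ M, x * y ∈ M}
      one_mem' := fun x hx => by rwa [mul_one]
      mul_mem' := fun {a b} ha hb x hx => by rw [← mul_assoc]; exact hb _ (ha x hx)
      zero_mem' := fun x _ => by rw [mul_zero]; exact zero_mem M
      add_mem' := fun {a b} ha hb x hx => by rw [mul_add]; exact add_mem (ha x hx) (hb x hx)
      neg_mem' := fun {a} ha x hx => by rw [mul_neg]; exact neg_mem (ha x hx) }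
  have hS : icosians ≤ S := by
    refine Subring.closure_le.2 ?_
    intro y hy x hx
    obtain ⟨p, hp, rfl⟩ := hx
    rcases hy with rfl | rfl
    · exact ⟨_, (inI_mul_gI hp).2, by rw [toH_mul_of_even (inI_mul_gI hp).1, toH_gI]⟩
    · exact ⟨_, (inI_mul_gW hp).2, by rw [toH_mul_of_even (inI_mul_gW hp).1, toH_gW]⟩
  intro hx
  have h := hS hx 1 ⟨Q.one, by decide, toH_one⟩
  rw [one_mul] at h
  exact h

theorem inI_iff_mem (p : Q) : p.inI = true ↔ toH p ∈ icosians :=
  ⟨toH_mem_of_inI p, fun h => by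
    obtain ⟨q, hq, e⟩ := (mem_icosians_iff _).1 h
    exact toH_injective e ▸ hq⟩

theorem raw_even {p q : Q} (hp : p.inI = true) (hq : q.inI = true) : (p.raw q).evenB = true := by
  obtain ⟨r, -, e⟩ := (mem_icosians_iff _).1
    (mul_mem ((inI_iff_mem p).1 hp) ((inI_iff_mem q).1 hq))
  have : p.raw q = r.dbl := toH_injective (by rw [toH_raw, toH_dbl, e])
  rw [this, Q.evenB_iff]
  simp [Q.dbl, Q.mapZ]

theorem toH_mul {p q : Q} (hp : p.inI = true) (hq : q.inI = true) :
    toH (p.mul q) = toH p * toH q := toH_mul_of_even (raw_even hp hq)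

theorem inI_mul {p q : Q} (hp : p.inI = true) (hq : q.inI = true) : (p.mul q).inI = true := by
  rw [inI_iff_mem, toH_mul hp hq]
  exact mul_mem ((inI_iff_mem p).1 hp) ((inI_iff_mem q).1 hq)

/-- Membership in the left ideal generated by an icosian of norm 2. -/
def inIdeal (p hh : Q) : Bool := (p.mul hh.star).evenB && (p.mul hh.star).half.inI

theorem inIdeal_iff {hh : Q} (hhI : hh.inI = true) (hn : toH hh * star (toH hh) = 2)
    (hn' : star (toH hh) * toH hh = 2) {p : Q} (hp : p.inI = true) :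
    inIdeal p hh = true ↔ toH p ∈ leftIdeal (toH hh) := by
  simp only [inIdeal, Bool.and_eq_true]
  have hm := toH_mul hp (inI_star hhI)
  rw [toH_star] at hm
  have h2 : ∀ z : ℍ[ℝ], z * 2 = z + z := fun z => mul_two z
  constructor
  · rintro ⟨he, hi⟩
    refine ⟨_, (inI_iff_mem _).1 hi, ?_⟩
    have e := toH_half _ he
    rw [hm] at e
    have := congrArg (fun z => z * toH hh) e
    simp only [add_mul, mul_assoc, hn', h2] at this
    have := congrArg (fun z : ℍ[ℝ] => (1 / 2 : ℝ) • z) this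
    simp only [smul_add, ← add_smul] at this
    norm_num at this
    exact this.symm
  · rintro ⟨a, ha, e⟩
    obtain ⟨r, hr, rfl⟩ := (mem_icosians_iff _).1 ha
    have hd : p.mul hh.star = r.dbl := toH_injective (by
      rw [hm, e, toH_dbl, mul_assoc, hn, h2])
    have hh' : r.dbl.half = r := by
      obtain ⟨⟨a1, a2⟩, ⟨b1, b2⟩, ⟨c1, c2⟩, ⟨d1, d2⟩⟩ := r
      simp [Q.dbl, Q.half, Q.mapZ]
    rw [hd, hh', hr]
    refine ⟨?_, rfl⟩
    rw [Q.evenB_iff]
    simp [Q.dbl, Q.mapZ]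

theorem icoH_re : icoH.re = -(Real.sqrt 5) / 2 := rfl
theorem icoH_imI : icoH.imI = 1 / 2 := rfl
theorem icoH_imJ : icoH.imJ = 1 / 2 := rfl
theorem icoH_imK : icoH.imK = 1 / 2 := rfl

theorem icoH_mul : icoH * star icoH = 2 ∧ star icoH * icoH = 2 := by
  have h5 := Real.mul_self_sqrt (show (0:ℝ) ≤ 5 by norm_num)
  constructor <;> ext <;>
    simp [icoH_re, icoH_imI, icoH_imJ, icoH_imK,
      show (2 : ℍ[ℝ]) = ((2 : ℝ) : ℍ[ℝ]) from by norm_cast] <;> nlinarith

theorem h_inI : Q.h.inI = true := by decide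

theorem inIdeal_h {p : Q} (hp : p.inI = true) :
    inIdeal p Q.h = true ↔ toH p ∈ leftIdeal icoH := by
  rw [inIdeal_iff h_inI (by rw [toH_h]; exact icoH_mul.1) (by rw [toH_h]; exact icoH_mul.2) hp,
    toH_h]

theorem inIdeal_hbar {p : Q} (hp : p.inI = true) :
    inIdeal p Q.h.star = true ↔ toH p ∈ leftIdeal (star icoH) := by
  rw [inIdeal_iff (inI_star h_inI) (by rw [toH_star, toH_h, star_star]; exact icoH_mul.2)
    (by rw [toH_star, toH_h, star_star]; exact icoH_mul.1) hp, toH_star, toH_h]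

end Cfsg.Agent.J2
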