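import Mathlib.GroupTheory.Perm.Cycle.Type
import Mathlib.GroupTheory.Perm.List

/-! The element orders of the symmetric group on 8 points. -/

set_option autoImplicit false

namespace Cfsg.Agent.J2

/-- The lcms of multisets of numbers at least 2 with sum at most `n` (up to `f` parts). -/
def lcmList : ℕ → ℕ → List ℕ
  | 0, _ => [1]
  | f + 1, n => 1 :: (List.range' 2 (n - 1)).flatMap fun k => (lcmList f (n - k)).map (Nat.lcm k)

theorem lcm_mem : ∀ (s : Multiset ℕ) (f n : ℕ), (∀ x ∈ s, 2 ≤ x) → s.card ≤ f → s.sum ≤ n →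
    s.lcm ∈ lcmList f n := by
  intro s
  induction s using Multiset.induction_on with
  | empty => intro f n _ _ _; cases f <;> simp [lcmList]
  | cons a t ih =>
    intro f n h2 hf hn
    cases f with
    | zero => simp at hf
    | succ f =>
      rw [Multiset.sum_cons] at hn
      rw [Multiset.card_cons] at hf
      have ha := h2 a (Multiset.mem_cons_self a t)
      rw [Multiset.lcm_cons]
      refine List.mem_cons_of_mem _ (List.mem_flatMap.2 ⟨a, List.mem_range'_1.2 ⟨ha, by omega⟩,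
        List.mem_map.2 ⟨t.lcm, ih f (n - a) (fun x hx => h2 x (Multiset.mem_cons_of_mem hx))
          (by omega) (by omega), rfl⟩⟩)

theorem lcmList_ok : (lcmList 4 8).all (fun m =>
    [1, 2, 3, 4, 5, 6, 7, 8, 10, 12, 15].any fun x => Nat.beq x m) = true := by decide +kernel

theorem orderOf_S8_mem (σ : Equiv.Perm (Fin 8)) :
    orderOf σ ∈ [1, 2, 3, 4, 5, 6, 7, 8, 10, 12, 15] := by
  have hs : σ.cycleType.sum ≤ 8 := by
    rw [Equiv.Perm.sum_cycleType]
    exact (Finset.card_le_univ _).trans (by simp)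
  have h2 : ∀ x ∈ σ.cycleType, 2 ≤ x := fun x hx => Equiv.Perm.two_le_of_mem_cycleType hx
  have hc : σ.cycleType.card ≤ 4 := by
    have := Multiset.card_nsmul_le_sum h2
    rw [smul_eq_mul] at this
    omega
  have h := List.all_eq_true.1 lcmList_ok _ (lcm_mem _ 4 8 h2 hc hs)
  simp only [List.any_eq_true, Nat.beq_eq] at h
  obtain ⟨x, hx, e⟩ := h
  rw [← Equiv.Perm.lcm_cycleType, ← e]
  exact hx

/-- Witnesses for the element orders. -/
def s8Wit : List (ℕ × Equiv.Perm (Fin 8)) :=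
  [(1, 1), (2, List.formPerm [0, 1]), (3, List.formPerm [0, 1, 2]), (4, List.formPerm [0, 1, 2, 3]),
    (5, List.formPerm [0, 1, 2, 3, 4]), (6, List.formPerm [0, 1, 2, 3, 4, 5]),
    (7, List.formPerm [0, 1, 2, 3, 4, 5, 6]), (8, List.formPerm [0, 1, 2, 3, 4, 5, 6, 7]),
    (10, List.formPerm [0, 1, 2, 3, 4] * List.formPerm [5, 6]),
    (12, List.formPerm [0, 1, 2, 3] * List.formPerm [4, 5, 6]),
    (15, List.formPerm [0, 1, 2, 3, 4] * List.formPerm [5, 6, 7])]

theorem s8Wit_ok : ∀ t ∈ s8Wit, t.2 ^ t.1 = 1 ∧ ∀ d ∈ List.range t.1, 0 < d → t.2 ^ d ≠ 1 := by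
  decide +kernel

theorem range_orderOf_S8 :
    Set.range (orderOf : Equiv.Perm (Fin 8) → ℕ) = {m | m ∈ [1, 2, 3, 4, 5, 6, 7, 8, 10, 12, 15]} := by
  ext m
  constructor
  · rintro ⟨σ, rfl⟩; exact orderOf_S8_mem σ
  · intro hm
    have hmap : s8Wit.map (fun t => t.1) = [1, 2, 3, 4, 5, 6, 7, 8, 10, 12, 15] := rfl
    rw [← hmap] at hm
    obtain ⟨t, ht, rfl⟩ := List.mem_map.1 hm
    obtain ⟨h1, h2⟩ := s8Wit_ok t ht
    have hpos : 0 < t.1 := by
      simp only [s8Wit, List.mem_cons, List.not_mem_nil, or_false] at ht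
      rcases ht with rfl | rfl | rfl | rfl | rfl | rfl | rfl | rfl | rfl | rfl | rfl <;> norm_num
    exact ⟨t.2, (orderOf_eq_iff hpos).2 ⟨h1, fun d hd hd0 => h2 d (List.mem_range.2 hd) hd0⟩⟩

end Cfsg.Agent.J2
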