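import Cfsg.Agent.Lib.J2.Inv
import Cfsg.Agent.Lib.Components.FStar
import Cfsg.Agent.Lib.Techniques.CharP
import Cfsg.Agent.Lib.HJ.Iso

/-!
The centraliser of a reflection in the Hall–Janko group: generalised Fitting subgroup, a second conjugate inside it.
-/

set_option autoImplicit false
set_option maxRecDepth 10000

namespace Cfsg.Agent.J2

open Cfsg.Agent.PermCert
open scoped commutatorElement

/-- A generator of the centraliser moving a coset of the centre. -/
def movesCosetOK : Bool :=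
  cGens.any fun c => qGens.any fun q =>
    let e := mul 7 100 c (mul 7 100 q (c.2, c.1))
    (List.range 100).any (fun b => !Nat.beq (get 7 e.1 b) (get 7 q.1 b)) &&
      (List.range 100).any fun b => !Nat.beq (get 7 e.1 b) (get 7 (mul 7 100 q tauE).1 b)

/-- A second conjugate inside the subgroup of order 32. -/
def secondOK : Bool :=
  (List.range 315).any fun p => let e := (classList.getD p ((0, 0), 0, 0)).1
    validElt 7 100 e && sift 7 100 qLevels e.1 && (List.range 100).any fun b => !Nat.beq (get 7 e.1 b) (get 7 tauE.1 b)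

theorem type_checks : movesCosetOK = true ∧ secondOK = true := by constructor <;> decide +kernel

theorem ne_of_get {e f : Elt} {σ τ : Equiv.Perm (Fin 100)} (hσ : Rep 7 e σ) (hτ : Rep 7 f τ)
    (h : ((List.range 100).any fun b => !Nat.beq (get 7 e.1 b) (get 7 f.1 b)) = true) : σ ≠ τ := by
  simp only [List.any_eq_true, List.mem_range, Bool.not_eq_true'] at h
  obtain ⟨b, hb, hne⟩ := h
  rintro rfl
  have e1 := (hσ ⟨b, hb⟩).1
  have e2 := (hτ ⟨b, hb⟩).1
  simp only at e1 e2
  rw [e1, e2, Nat.beq_refl] at hne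
  exact absurd hne (by simp)

/-- Another conjugate of the reflection in the subgroup. -/
theorem exists_second : ∃ g ∈ P100, g * tauP * g⁻¹ ∈ Q100 ∧ g * tauP * g⁻¹ ≠ tauP := by
  have h := type_checks.2
  simp only [secondOK, List.any_eq_true, List.mem_range, Bool.and_eq_true] at h
  obtain ⟨p, hp, ⟨hv, hs⟩, hne⟩ := h
  obtain ⟨g, hg, hrep⟩ := class_elts p hp
  refine ⟨g, hg, ?_, ne_of_get hrep tau_rep (by simpa only [List.any_eq_true, List.mem_range] using hne)⟩
  rw [rep_unique hrep (rep_toPerm hv)]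
  exact cert_mem q_cert hv hs

theorem tau_cases {x : Equiv.Perm (Fin 100)} (hx : x ∈ Q100) (h : ∀ y ∈ Q100, x * y = y * x) :
    x = 1 ∨ x = tauP := (Q_elem hx).2 h

/-- Conjugation by an element of the subgroup fixes the cosets of the centre. -/
theorem conj_Q {k q : Equiv.Perm (Fin 100)} (hk : k ∈ Q100) (hq : q ∈ Q100) :
    k * q * k⁻¹ = q ∨ k * q * k⁻¹ = q * tauP := by
  have hc : (⁅(⟨q, hq⟩ : Q100)⁻¹, (⟨k, hk⟩ : Q100)⁆) ∈ Subgroup.center Q100 := by
    rw [← isExtraspecial_Q100.1.2.2, commutator_def]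
    exact Subgroup.commutator_mem_commutator (Subgroup.mem_top _) (Subgroup.mem_top _)
  have e := tau_cases (x := q⁻¹ * k * q * k⁻¹)
    (mul_mem (mul_mem (mul_mem (inv_mem hq) hk) hq) (inv_mem hk)) fun y hy => by
      have := congrArg Subtype.val (Subgroup.mem_center_iff.1 hc ⟨y, hy⟩)
      simp only [commutatorElement_def, Subgroup.coe_mul, InvMemClass.coe_inv, inv_inv] at this
      exact this.symm
  rcases e with h | h
  · left
    calc k * q * k⁻¹ = q * (q⁻¹ * k * q * k⁻¹) := by group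
      _ = q := by rw [h, mul_one]
  · right
    calc k * q * k⁻¹ = q * (q⁻¹ * k * q * k⁻¹) := by group
      _ = q * tauP := by rw [h]

theorem card_alt5 : Nat.card (alternatingGroup (Fin 5)) = 60 := by
  rw [nat_card_alternatingGroup, Nat.card_eq_fintype_card, Fintype.card_fin]
  rfl

/-- A normal subgroup of the centraliser is inside the subgroup of order 32 or covers the quotient. -/
theorem normal_dichotomy (N : Subgroup C100) [N.Normal] :
    N ≤ Q100.subgroupOf C100 ∨ N.map fiveHom = alternatingGroup (Fin 5) := by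
  have hn : ((N.map fiveHom).subgroupOf (alternatingGroup (Fin 5))).Normal := by
    refine ⟨fun a ha g => ?_⟩
    obtain ⟨c, hc⟩ : (g : Equiv.Perm (Fin 5)) ∈ fiveHom.range := by rw [fiveHom_range]; exact g.2
    obtain ⟨n, hn, e⟩ := ha
    refine ⟨c * n * c⁻¹, Subgroup.Normal.conj_mem ‹_› n hn c, ?_⟩
    simp only [map_mul, map_inv, hc, e]
    rfl
  haveI : IsSimpleGroup (alternatingGroup (Fin 5)) := alternatingGroup.isSimpleGroup (by simp)
  rcases hn.eq_bot_or_eq_top with h | h
  · left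
    intro n hn'
    rw [← fiveHom_ker, MonoidHom.mem_ker]
    have hmem : fiveHom n ∈ alternatingGroup (Fin 5) := by rw [← fiveHom_range]; exact ⟨n, rfl⟩
    exact congrArg Subtype.val (Subgroup.eq_bot_iff_forall _ |>.1 h ⟨fiveHom n, hmem⟩ ⟨n, hn', rfl⟩)
  · right
    refine le_antisymm ((Subgroup.map_le_range _ _).trans fiveHom_range.le) fun y hy => ?_
    exact (Subgroup.subgroupOf_eq_top.1 h) hy

theorem centralizer_Q100_le :
    Subgroup.centralizer ((Q100.subgroupOf C100 : Subgroup C100) : Set C100) ≤ Q100.subgroupOf C100 := by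
  haveI hQn : (Q100.subgroupOf C100).Normal := ⟨fun a ha g => Q100_conj g.2 ha⟩
  rcases normal_dichotomy (Subgroup.centralizer ((Q100.subgroupOf C100 : Subgroup C100) : Set C100)) with h | h
  · exact h
  exfalso
  have hmv := type_checks.1
  simp only [movesCosetOK, List.any_eq_true, Bool.and_eq_true] at hmv
  obtain ⟨c, hc, q, hq, hne1, hne2⟩ := hmv
  obtain ⟨hv, -, -, hconj⟩ := cGen_facts c hc
  have hq' : validElt 7 100 q = true := by
    have := cent_ok
    simp only [centOK, Bool.and_eq_true, List.all_eq_true] at this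
    exact (this.2 q hq).1
  have hr := rep_toPerm hv
  have hrq := rep_toPerm hq'
  have hinv : Rep 7 (c.2, c.1) (toPerm 7 100 c)⁻¹ := fun i => by
    rw [inv_inv]; exact ⟨(hr i).2, (hr i).1⟩
  have hrp := rep_mul hr (rep_mul hrq hinv)
  have hcC : toPerm 7 100 c ∈ C100 := Subgroup.subset_closure (List.mem_map.2 ⟨c, hc, rfl⟩)
  have hqQ : toPerm 7 100 q ∈ Q100 := Subgroup.subset_closure (List.mem_map.2 ⟨q, hq, rfl⟩)
  obtain ⟨r, hr', e⟩ : fiveHom ⟨_, hcC⟩ ∈
      (Subgroup.centralizer ((Q100.subgroupOf C100 : Subgroup C100) : Set C100)).map fiveHom :=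
    by rw [h, ← fiveHom_range]; exact ⟨_, rfl⟩
  have hk : r⁻¹ * ⟨_, hcC⟩ ∈ Q100.subgroupOf C100 := by
    rw [← fiveHom_ker, MonoidHom.mem_ker, map_mul, map_inv, e, inv_mul_cancel]
  set k : C100 := r⁻¹ * ⟨_, hcC⟩ with hkdef
  have hrk : toPerm 7 100 c = (r : Equiv.Perm (Fin 100)) * k := by
    rw [hkdef, Subgroup.coe_mul, InvMemClass.coe_inv, mul_inv_cancel_left]
  have key : toPerm 7 100 c * toPerm 7 100 q * (toPerm 7 100 c)⁻¹ = (k : Equiv.Perm (Fin 100)) * toPerm 7 100 q *
      (k : Equiv.Perm (Fin 100))⁻¹ := by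
    have hmem : (k : Equiv.Perm (Fin 100)) * toPerm 7 100 q * (k : Equiv.Perm (Fin 100))⁻¹ ∈ Q100 :=
      mul_mem (mul_mem hk hqQ) (inv_mem hk)
    have := congrArg Subtype.val
      (Subgroup.mem_centralizer_iff.1 hr' ⟨_, Q100_le_C100 hmem⟩ hmem)
    simp only [Subgroup.coe_mul] at this
    rw [hrk, mul_inv_rev, show (r : Equiv.Perm (Fin 100)) * k * toPerm 7 100 q * ((k : Equiv.Perm (Fin 100))⁻¹ *
      (r : Equiv.Perm (Fin 100))⁻¹) = (r : Equiv.Perm (Fin 100)) * ((k : Equiv.Perm (Fin 100)) * toPerm 7 100 q *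
      (k : Equiv.Perm (Fin 100))⁻¹) * (r : Equiv.Perm (Fin 100))⁻¹ by group, ← this, mul_inv_cancel_right]
  rw [mul_assoc] at key
  rcases conj_Q (show (k : Equiv.Perm (Fin 100)) ∈ Q100 from hk) hqQ with h' | h' <;> rw [h'] at key
  · exact ne_of_get hrp hrq (by simpa only [List.any_eq_true] using hne1) key
  · exact ne_of_get hrp (rep_mul hrq tau_rep) (by simpa only [List.any_eq_true] using hne2) key

theorem fstar_C100 : Cfsg.generalizedFittingSubgroup C100 = Q100.subgroupOf C100 := by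
  haveI : Fact (Nat.Prime 2) := ⟨Nat.prime_two⟩
  haveI hQn : (Q100.subgroupOf C100).Normal := ⟨fun a ha g => Q100_conj g.2 ha⟩
  have hQp : IsPGroup 2 (Q100.subgroupOf C100) :=
    IsPGroup.of_card (n := 5) ((Nat.card_congr (Subgroup.subgroupOfEquivOfLe Q100_le_C100).toEquiv).trans card_Q100)
  have hcore : Cfsg.pCore 2 C100 = Q100.subgroupOf C100 := by
    refine le_antisymm ?_ (PBasic.le_pCore hQn hQp)
    haveI : (Cfsg.pCore 2 C100).Normal := Cfsg.pCore_normal 2 C100
    refine (normal_dichotomy (Cfsg.pCore 2 C100)).resolve_right fun h => ?_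
    have hp := (PBasic.pCore_isPGroup 2 C100).map fiveHom
    rw [h] at hp
    obtain ⟨n, hn⟩ := IsPGroup.iff_card.1 hp
    rw [card_alt5] at hn
    have h3 : 3 ∣ 2 ^ n := hn ▸ (by norm_num)
    exact absurd ((Nat.prime_dvd_prime_iff_eq Nat.prime_three Nat.prime_two).1 (Nat.prime_three.dvd_of_dvd_pow h3))
      (by norm_num)
  rw [← hcore]
  refine CharP.generalizedFittingSubgroup_eq ?_
  show Subgroup.centralizer (Cfsg.pCore 2 C100 : Set C100) ≤ Cfsg.pCore 2 C100
  rw [hcore]
  exact centralizer_Q100_le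

end Cfsg.Agent.J2
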