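import Cfsg.Agent.Lib.J2.U33Vec
import Cfsg.Prelude.Def_Classical

/-! The action of SU₃(3) on the 63 non-isotropic points: definitions and finite checks. -/

set_option autoImplicit false
set_option maxRecDepth 20000

namespace Cfsg.Agent.J2

open Matrix

/-- The Hermitian norm of a vector. -/
def h9 (v : Fin 3 → F9) : F9 := v 0 * F9.conj (v 0) + v 1 * F9.conj (v 1) + v 2 * F9.conj (v 2)

/-- The first non-zero coordinate (or zero). -/
def lead9 (v : Fin 3 → F9) : F9 :=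
  if v 0 = 0 then (if v 1 = 0 then v 2 else v 1) else v 0

/-- The normalised multiple of a vector. -/
def nz (v : Fin 3 → F9) : Fin 3 → F9 := ![(lead9 v)⁻¹ * v 0, (lead9 v)⁻¹ * v 1, (lead9 v)⁻¹ * v 2]

/-- The point of a given index. -/
def pt (u : Fin 63) : Fin 3 → F9 := ptList.getD u ![0, 0, 0]

/-- Same coordinates. -/
def veq (v w : Fin 3 → F9) : Bool := v 0 == w 0 && v 1 == w 1 && v 2 == w 2

theorem veq_iff (v w : Fin 3 → F9) : veq v w = true ↔ v = w := by
  simp only [veq, Bool.and_eq_true, beq_iff_eq]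
  exact ⟨fun h => funext fun i => by fin_cases i; exacts [h.1.1, h.1.2, h.2],
    fun h => by simp [h]⟩

/-- The index of a point. -/
def ptIdx (v : Fin 3 → F9) : Fin 63 := Fin.ofNat 63 (ptList.findIdx (fun w => veq w (nz v)))

theorem ptIdx_pt : ∀ u : Fin 63, ptIdx (pt u) = u ∧ h9 (pt u) ≠ 0 ∧ nz (pt u) = pt u := by
  decide +kernel

theorem pt_complete : ∀ a b c : F9, h9 ![a, b, c] ≠ 0 →
    pt (ptIdx ![a, b, c]) = nz ![a, b, c] := by
  decide +kernel

theorem pt_ptIdx {v : Fin 3 → F9} (h : h9 v ≠ 0) : pt (ptIdx v) = nz v := by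
  have e : v = ![v 0, v 1, v 2] := funext fun i => by fin_cases i <;> rfl
  rw [e] at h ⊢
  exact pt_complete _ _ _ h

theorem nz_smul {c : F9} (hc : c ≠ 0) (v : Fin 3 → F9) : nz (c • v) = nz v := by
  have hl : lead9 (c • v) = c * lead9 v := by
    simp only [lead9, Pi.smul_apply, smul_eq_mul, mul_eq_zero, hc, false_or]
    split_ifs <;> rfl
  funext i
  simp only [nz, hl, Pi.smul_apply, smul_eq_mul]
  have key : ∀ z : F9, (lead9 v)⁻¹ * c⁻¹ * (c * z) = (lead9 v)⁻¹ * z := fun z => by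
    rw [mul_assoc, inv_mul_cancel_left₀ hc]
  fin_cases i <;> simp [key]

theorem nz_eq_smul (v : Fin 3 → F9) : nz v = (lead9 v)⁻¹ • v := by
  funext i
  fin_cases i <;> simp [nz]

theorem lead9_ne_zero {v : Fin 3 → F9} (h : h9 v ≠ 0) : lead9 v ≠ 0 := by
  intro e
  apply h
  simp only [lead9] at e
  split_ifs at e with h0 h1 <;> simp_all [h9]

theorem h9_eq (v : Fin 3 → F9) : h9 v = Cfsg.hermForm 3 F9 3 v v := by
  simp [h9, Cfsg.hermForm, Fin.sum_univ_three, F9.conj_eq_pow]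

/-- SU₃ over the field with nine elements. -/
abbrev SU9 : Subgroup (Matrix.SpecialLinearGroup (Fin 3) F9) := Cfsg.SU 3 F9 3

/-- The action on points. -/
def actPt (M : Matrix (Fin 3) (Fin 3) F9) (u : Fin 63) : Fin 63 := ptIdx (M *ᵥ pt u)

theorem h9_mulVec (g : SU9) (v : Fin 3 → F9) :
    h9 ((g.1 : Matrix (Fin 3) (Fin 3) F9) *ᵥ v) = h9 v := by
  rw [h9_eq, h9_eq]
  exact g.2 v v

theorem actPt_mul (g h : SU9) (u : Fin 63) :
    actPt ((g * h : SU9).1 : Matrix (Fin 3) (Fin 3) F9) u =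
      actPt (g.1 : Matrix (Fin 3) (Fin 3) F9) (actPt (h.1 : Matrix (Fin 3) (Fin 3) F9) u) := by
  have hne : h9 ((h.1 : Matrix (Fin 3) (Fin 3) F9) *ᵥ pt u) ≠ 0 := by
    rw [h9_mulVec]; exact (ptIdx_pt u).2.1
  simp only [actPt]
  rw [pt_ptIdx hne, nz_eq_smul, Matrix.mulVec_smul]
  unfold ptIdx
  rw [nz_smul (inv_ne_zero (lead9_ne_zero hne)), Matrix.mulVec_mulVec]
  rfl

theorem actPt_one (u : Fin 63) : actPt ((1 : SU9).1 : Matrix (Fin 3) (Fin 3) F9) u = u := by
  show ptIdx ((1 : Matrix (Fin 3) (Fin 3) F9) *ᵥ pt u) = u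
  rw [Matrix.one_mulVec, (ptIdx_pt u).1]

instance : MulAction SU9 (Fin 63) where
  smul g u := actPt (g.1 : Matrix (Fin 3) (Fin 3) F9) u
  one_smul := actPt_one
  mul_smul := actPt_mul

theorem smul_eq (g : SU9) (u : Fin 63) : g • u = actPt (g.1 : Matrix (Fin 3) (Fin 3) F9) u := rfl

end Cfsg.Agent.J2
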