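import Cfsg.Agent.Lib.J2.F9

/-! The non-isotropic points and two generators of SU₃(3). -/

namespace Cfsg.Agent.J2

/-- The 63 non-isotropic points. -/
def ptList : List (Fin 3 → F9) :=
  [![⟨0, 0⟩, ⟨0, 0⟩, ⟨1, 0⟩],
    ![⟨0, 0⟩, ⟨1, 0⟩, ⟨0, 0⟩],
    ![⟨0, 0⟩, ⟨1, 0⟩, ⟨1, 0⟩],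
    ![⟨0, 0⟩, ⟨1, 0⟩, ⟨2, 0⟩],
    ![⟨0, 0⟩, ⟨1, 0⟩, ⟨0, 1⟩],
    ![⟨0, 0⟩, ⟨1, 0⟩, ⟨0, 2⟩],
    ![⟨1, 0⟩, ⟨0, 0⟩, ⟨0, 0⟩],
    ![⟨1, 0⟩, ⟨0, 0⟩, ⟨1, 0⟩],
    ![⟨1, 0⟩, ⟨0, 0⟩, ⟨2, 0⟩],
    ![⟨1, 0⟩, ⟨0, 0⟩, ⟨0, 1⟩],
    ![⟨1, 0⟩, ⟨0, 0⟩, ⟨0, 2⟩],
    ![⟨1, 0⟩, ⟨1, 0⟩, ⟨0, 0⟩],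
    ![⟨1, 0⟩, ⟨1, 0⟩, ⟨1, 1⟩],
    ![⟨1, 0⟩, ⟨1, 0⟩, ⟨2, 1⟩],
    ![⟨1, 0⟩, ⟨1, 0⟩, ⟨1, 2⟩],
    ![⟨1, 0⟩, ⟨1, 0⟩, ⟨2, 2⟩],
    ![⟨1, 0⟩, ⟨2, 0⟩, ⟨0, 0⟩],
    ![⟨1, 0⟩, ⟨2, 0⟩, ⟨1, 1⟩],
    ![⟨1, 0⟩, ⟨2, 0⟩, ⟨2, 1⟩],
    ![⟨1, 0⟩, ⟨2, 0⟩, ⟨1, 2⟩],
    ![⟨1, 0⟩, ⟨2, 0⟩, ⟨2, 2⟩],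
    ![⟨1, 0⟩, ⟨0, 1⟩, ⟨0, 0⟩],
    ![⟨1, 0⟩, ⟨0, 1⟩, ⟨1, 1⟩],
    ![⟨1, 0⟩, ⟨0, 1⟩, ⟨2, 1⟩],
    ![⟨1, 0⟩, ⟨0, 1⟩, ⟨1, 2⟩],
    ![⟨1, 0⟩, ⟨0, 1⟩, ⟨2, 2⟩],
    ![⟨1, 0⟩, ⟨1, 1⟩, ⟨1, 0⟩],
    ![⟨1, 0⟩, ⟨1, 1⟩, ⟨2, 0⟩],
    ![⟨1, 0⟩, ⟨1, 1⟩, ⟨0, 1⟩],
    ![⟨1, 0⟩, ⟨1, 1⟩, ⟨1, 1⟩],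
    ![⟨1, 0⟩, ⟨1, 1⟩, ⟨2, 1⟩],
    ![⟨1, 0⟩, ⟨1, 1⟩, ⟨0, 2⟩],
    ![⟨1, 0⟩, ⟨1, 1⟩, ⟨1, 2⟩],
    ![⟨1, 0⟩, ⟨1, 1⟩, ⟨2, 2⟩],
    ![⟨1, 0⟩, ⟨2, 1⟩, ⟨1, 0⟩],
    ![⟨1, 0⟩, ⟨2, 1⟩, ⟨2, 0⟩],
    ![⟨1, 0⟩, ⟨2, 1⟩, ⟨0, 1⟩],
    ![⟨1, 0⟩, ⟨2, 1⟩, ⟨1, 1⟩],
    ![⟨1, 0⟩, ⟨2, 1⟩, ⟨2, 1⟩],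
    ![⟨1, 0⟩, ⟨2, 1⟩, ⟨0, 2⟩],
    ![⟨1, 0⟩, ⟨2, 1⟩, ⟨1, 2⟩],
    ![⟨1, 0⟩, ⟨2, 1⟩, ⟨2, 2⟩],
    ![⟨1, 0⟩, ⟨0, 2⟩, ⟨0, 0⟩],
    ![⟨1, 0⟩, ⟨0, 2⟩, ⟨1, 1⟩],
    ![⟨1, 0⟩, ⟨0, 2⟩, ⟨2, 1⟩],
    ![⟨1, 0⟩, ⟨0, 2⟩, ⟨1, 2⟩],
    ![⟨1, 0⟩, ⟨0, 2⟩, ⟨2, 2⟩],
    ![⟨1, 0⟩, ⟨1, 2⟩, ⟨1, 0⟩],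
    ![⟨1, 0⟩, ⟨1, 2⟩, ⟨2, 0⟩],
    ![⟨1, 0⟩, ⟨1, 2⟩, ⟨0, 1⟩],
    ![⟨1, 0⟩, ⟨1, 2⟩, ⟨1, 1⟩],
    ![⟨1, 0⟩, ⟨1, 2⟩, ⟨2, 1⟩],
    ![⟨1, 0⟩, ⟨1, 2⟩, ⟨0, 2⟩],
    ![⟨1, 0⟩, ⟨1, 2⟩, ⟨1, 2⟩],
    ![⟨1, 0⟩, ⟨1, 2⟩, ⟨2, 2⟩],
    ![⟨1, 0⟩, ⟨2, 2⟩, ⟨1, 0⟩],
    ![⟨1, 0⟩, ⟨2, 2⟩, ⟨2, 0⟩],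
    ![⟨1, 0⟩, ⟨2, 2⟩, ⟨0, 1⟩],
    ![⟨1, 0⟩, ⟨2, 2⟩, ⟨1, 1⟩],
    ![⟨1, 0⟩, ⟨2, 2⟩, ⟨2, 1⟩],
    ![⟨1, 0⟩, ⟨2, 2⟩, ⟨0, 2⟩],
    ![⟨1, 0⟩, ⟨2, 2⟩, ⟨1, 2⟩],
    ![⟨1, 0⟩, ⟨2, 2⟩, ⟨2, 2⟩]]

/-- A generator. -/
def matA : Matrix (Fin 3) (Fin 3) F9 :=
  !![⟨2, 0⟩, ⟨0, 2⟩, ⟨2, 1⟩; ⟨0, 1⟩, ⟨2, 2⟩, ⟨1, 0⟩; ⟨1, 1⟩, ⟨0, 1⟩, ⟨0, 2⟩]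

/-- A generator. -/
def matB : Matrix (Fin 3) (Fin 3) F9 :=
  !![⟨2, 0⟩, ⟨1, 0⟩, ⟨1, 2⟩; ⟨2, 1⟩, ⟨1, 0⟩, ⟨1, 0⟩; ⟨0, 2⟩, ⟨1, 1⟩, ⟨0, 1⟩]

end Cfsg.Agent.J2
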