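import Cfsg.Agent.Lib.J2.Quat

/-! The 120 units of the icosian ring, as a breadth-first tree over the two generators. -/

namespace Cfsg.Agent.J2

/-- The units with (parent, generator). -/
def unitTree : List (Q × ℕ × Bool) :=
  [(⟨(0, 0), (2, 0), (0, 0), (0, 0)⟩, 0, false),
    (⟨(1, 0), (1, -1), (0, 0), (0, 1)⟩, 0, true),
    (⟨(-2, 0), (0, 0), (0, 0), (0, 0)⟩, 1, false),
    (⟨(-1, 1), (1, 0), (0, -1), (0, 0)⟩, 1, true),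
    (⟨(-1, 1), (1, 0), (0, 1), (0, 0)⟩, 2, false),
    (⟨(-1, 0), (1, -1), (0, 0), (0, 1)⟩, 2, true),
    (⟨(0, 0), (-2, 0), (0, 0), (0, 0)⟩, 3, false),
    (⟨(-1, 0), (-1, 1), (0, 0), (0, -1)⟩, 3, true),
    (⟨(-1, 0), (-1, 1), (0, 0), (0, 1)⟩, 4, false),
    (⟨(-1, 1), (-1, 0), (0, -1), (0, 0)⟩, 4, true),
    (⟨(-1, 1), (0, 1), (0, 0), (1, 0)⟩, 5, true),
    (⟨(-1, 1), (-1, 0), (0, 1), (0, 0)⟩, 6, false),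
    (⟨(1, -1), (-1, 0), (0, 1), (0, 0)⟩, 7, true),
    (⟨(1, -1), (-1, 0), (0, -1), (0, 0)⟩, 8, false),
    (⟨(1, 0), (-1, 1), (0, 0), (0, -1)⟩, 8, true),
    (⟨(0, -1), (-1, 1), (-1, 0), (0, 0)⟩, 9, true),
    (⟨(1, 0), (-1, 1), (0, 0), (0, 1)⟩, 10, false),
    (⟨(0, -1), (-1, 1), (1, 0), (0, 0)⟩, 11, false),
    (⟨(0, 0), (-1, 1), (0, -1), (1, 0)⟩, 11, true),
    (⟨(0, 0), (-1, 1), (0, 1), (1, 0)⟩, 12, true),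
    (⟨(1, 0), (1, -1), (0, 0), (0, -1)⟩, 13, false),
    (⟨(1, -1), (1, 0), (0, 1), (0, 0)⟩, 13, true),
    (⟨(1, -1), (0, -1), (0, 0), (-1, 0)⟩, 14, true),
    (⟨(1, -1), (1, 0), (0, -1), (0, 0)⟩, 15, false),
    (⟨(1, -1), (0, -1), (0, 0), (1, 0)⟩, 16, false),
    (⟨(1, -1), (0, 0), (-1, 0), (0, -1)⟩, 16, true),
    (⟨(1, -1), (0, 0), (-1, 0), (0, 1)⟩, 17, true),
    (⟨(1, -1), (0, 1), (0, 0), (-1, 0)⟩, 18, true),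
    (⟨(1, -1), (0, 0), (1, 0), (0, 1)⟩, 19, false),
    (⟨(1, -1), (0, 0), (1, 0), (0, -1)⟩, 20, false),
    (⟨(1, -1), (0, 1), (0, 0), (1, 0)⟩, 20, true),
    (⟨(0, 1), (1, -1), (1, 0), (0, 0)⟩, 21, true),
    (⟨(-1, 0), (1, -1), (0, 0), (0, -1)⟩, 22, false),
    (⟨(0, 1), (1, -1), (-1, 0), (0, 0)⟩, 23, false),
    (⟨(0, 0), (1, -1), (0, 1), (-1, 0)⟩, 23, true),
    (⟨(0, 0), (1, -1), (0, -1), (-1, 0)⟩, 24, true),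
    (⟨(0, -1), (1, -1), (1, 0), (0, 0)⟩, 25, true),
    (⟨(0, 0), (1, -1), (0, -1), (1, 0)⟩, 26, false),
    (⟨(0, 0), (1, -1), (0, 1), (1, 0)⟩, 27, false),
    (⟨(0, -1), (1, -1), (-1, 0), (0, 0)⟩, 27, true),
    (⟨(1, 0), (1, 0), (-1, 0), (-1, 0)⟩, 28, true),
    (⟨(0, -1), (1, 0), (0, 0), (-1, 1)⟩, 29, true),
    (⟨(1, 0), (1, 0), (1, 0), (-1, 0)⟩, 30, true),
    (⟨(-1, 1), (0, 1), (0, 0), (-1, 0)⟩, 32, false),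
    (⟨(-1, 1), (0, 0), (1, 0), (0, 1)⟩, 32, true),
    (⟨(-1, 1), (0, 0), (1, 0), (0, -1)⟩, 33, true),
    (⟨(-1, 1), (0, -1), (0, 0), (1, 0)⟩, 34, true),
    (⟨(-1, 1), (0, 0), (-1, 0), (0, -1)⟩, 35, false),
    (⟨(-1, 1), (0, 0), (-1, 0), (0, 1)⟩, 36, false),
    (⟨(-1, 1), (0, -1), (0, 0), (-1, 0)⟩, 36, true),
    (⟨(-1, 0), (1, 0), (1, 0), (-1, 0)⟩, 37, true),
    (⟨(-1, 0), (0, -1), (1, -1), (0, 0)⟩, 38, true),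
    (⟨(-1, 0), (1, 0), (1, 0), (1, 0)⟩, 39, true),
    (⟨(-1, 0), (1, 0), (-1, 0), (1, 0)⟩, 41, false),
    (⟨(-1, 0), (0, -1), (-1, 1), (0, 0)⟩, 42, false),
    (⟨(-1, 0), (1, 0), (-1, 0), (-1, 0)⟩, 42, true),
    (⟨(0, 1), (1, 0), (0, 0), (-1, 1)⟩, 43, true),
    (⟨(0, 1), (-1, 1), (-1, 0), (0, 0)⟩, 44, true),
    (⟨(0, 0), (-1, 1), (0, 1), (-1, 0)⟩, 45, false),
    (⟨(0, 0), (-1, 1), (0, -1), (-1, 0)⟩, 46, false),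
    (⟨(0, 1), (-1, 1), (1, 0), (0, 0)⟩, 46, true),
    (⟨(-1, 0), (-1, 0), (1, 0), (1, 0)⟩, 47, true),
    (⟨(0, 1), (-1, 0), (0, 0), (1, -1)⟩, 48, true),
    (⟨(-1, 0), (-1, 0), (-1, 0), (1, 0)⟩, 49, true),
    (⟨(-1, 0), (-1, 0), (-1, 0), (-1, 0)⟩, 51, false),
    (⟨(0, 1), (-1, 0), (0, 0), (-1, 1)⟩, 52, false),
    (⟨(-1, 0), (-1, 0), (1, 0), (-1, 0)⟩, 52, true),
    (⟨(-1, 0), (0, 1), (1, -1), (0, 0)⟩, 53, true),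
    (⟨(-1, 0), (0, 0), (0, -1), (1, -1)⟩, 54, true),
    (⟨(-1, 0), (0, 0), (0, 1), (1, -1)⟩, 55, true),
    (⟨(-1, 0), (0, 1), (-1, 1), (0, 0)⟩, 57, false),
    (⟨(1, 0), (-1, 0), (-1, 0), (1, 0)⟩, 58, true),
    (⟨(1, 0), (0, 1), (-1, 1), (0, 0)⟩, 59, true),
    (⟨(1, 0), (-1, 0), (-1, 0), (-1, 0)⟩, 60, true),
    (⟨(1, 0), (-1, 0), (1, 0), (-1, 0)⟩, 62, false),
    (⟨(1, 0), (0, 1), (1, -1), (0, 0)⟩, 63, false),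
    (⟨(1, 0), (-1, 0), (1, 0), (1, 0)⟩, 63, true),
    (⟨(0, -1), (-1, 0), (0, 0), (1, -1)⟩, 64, true),
    (⟨(0, 0), (-1, 0), (-1, 1), (0, -1)⟩, 65, true),
    (⟨(0, 0), (-1, 0), (-1, 1), (0, 1)⟩, 66, true),
    (⟨(0, -1), (-1, 0), (0, 0), (-1, 1)⟩, 68, false),
    (⟨(0, 0), (-1, 0), (1, -1), (0, 1)⟩, 69, false),
    (⟨(0, 0), (-1, 0), (1, -1), (0, -1)⟩, 69, true),
    (⟨(0, 0), (0, 1), (1, 0), (1, -1)⟩, 70, true),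
    (⟨(0, 0), (0, 1), (-1, 0), (1, -1)⟩, 71, true),
    (⟨(1, 0), (1, 0), (1, 0), (1, 0)⟩, 72, false),
    (⟨(0, -1), (1, 0), (0, 0), (1, -1)⟩, 73, false),
    (⟨(1, 0), (1, 0), (-1, 0), (1, 0)⟩, 73, true),
    (⟨(1, 0), (0, -1), (-1, 1), (0, 0)⟩, 74, true),
    (⟨(1, 0), (0, 0), (0, 1), (-1, 1)⟩, 75, true),
    (⟨(1, 0), (0, 0), (0, -1), (-1, 1)⟩, 76, true),
    (⟨(1, 0), (0, -1), (1, -1), (0, 0)⟩, 78, false),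
    (⟨(1, 0), (0, 0), (0, -1), (1, -1)⟩, 79, false),
    (⟨(1, 0), (0, 0), (0, 1), (1, -1)⟩, 79, true),
    (⟨(0, -1), (0, 0), (-1, 1), (1, 0)⟩, 80, true),
    (⟨(0, -1), (0, 0), (-1, 1), (-1, 0)⟩, 81, true),
    (⟨(0, -1), (0, 0), (1, -1), (-1, 0)⟩, 84, false),
    (⟨(0, -1), (0, 0), (1, -1), (1, 0)⟩, 85, false),
    (⟨(0, 0), (1, 0), (1, -1), (0, 1)⟩, 86, true),
    (⟨(0, 0), (1, 0), (1, -1), (0, -1)⟩, 87, true),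
    (⟨(0, 1), (1, 0), (0, 0), (1, -1)⟩, 89, false),
    (⟨(0, 0), (1, 0), (-1, 1), (0, -1)⟩, 90, false),
    (⟨(0, 0), (1, 0), (-1, 1), (0, 1)⟩, 90, true),
    (⟨(0, 0), (0, -1), (-1, 0), (-1, 1)⟩, 91, true),
    (⟨(0, 0), (0, -1), (1, 0), (-1, 1)⟩, 92, true),
    (⟨(0, 0), (0, -1), (1, 0), (1, -1)⟩, 95, false),
    (⟨(0, 0), (0, -1), (-1, 0), (1, -1)⟩, 96, false),
    (⟨(0, 0), (0, 0), (0, 0), (-2, 0)⟩, 97, true),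
    (⟨(-1, 0), (0, 0), (0, 1), (-1, 1)⟩, 99, false),
    (⟨(-1, 0), (0, 0), (0, -1), (-1, 1)⟩, 99, true),
    (⟨(0, 1), (0, 0), (1, -1), (-1, 0)⟩, 100, true),
    (⟨(0, 1), (0, 0), (1, -1), (1, 0)⟩, 101, true),
    (⟨(0, 1), (0, 0), (-1, 1), (1, 0)⟩, 104, false),
    (⟨(0, 1), (0, 0), (-1, 1), (-1, 0)⟩, 105, false),
    (⟨(0, 0), (0, 0), (2, 0), (0, 0)⟩, 106, true),
    (⟨(0, 0), (0, 0), (-2, 0), (0, 0)⟩, 108, false),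
    (⟨(0, 0), (0, 1), (-1, 0), (-1, 1)⟩, 111, false),
    (⟨(0, 0), (0, 1), (1, 0), (-1, 1)⟩, 112, false),
    (⟨(0, 0), (0, 0), (0, 0), (2, 0)⟩, 113, true)]

/-- The units. -/
def unitList : List Q := Q.one :: unitTree.map (fun t => t.1)

end Cfsg.Agent.J2
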